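import Cfsg.Agent.FS.N.Sw.Seg_m3
import Cfsg.Agent.FS.N.Sw.Fa
import Cfsg.Agent.FS.N.G.Zc_m3
import Cfsg.Agent.FS.N.Sw.D.D53_m3
import Cfsg.Agent.FS.N.Sw.D.D56_mg_m3
import Cfsg.Agent.FS.Sw.D7c_m3
import Cfsg.Agent.FS.B.Tv_m3
import Cfsg.Agent.H805.PU.Push
import Cfsg.Agent.FS.Gen.K6_m3
import Cfsg.Agent.FS.Asm.Fin
import Cfsg.Agent.FS.N.Sw.D.D36_m3
import Cfsg.Agent.FastGrp
import Cfsg.Agent.Prune
set_option linter.all false

section
prune_inst 0x7ffcfefbaff8bddfffff7e7ffffddffe39d4dfffffdffb4bffedfbffffff237f7be5fbaf1de4d8ffced7e0be30b87813f97eceffef6bdc7ffffd5ff45ffbee1fe5ffbfad71d7bc341ffc6ffffbf37fffffffffffffffffffffffffffffffffffffffffffffff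

-- part: FS/N/Sw/D/D54_mg
section
set_option linter.all false

-- part: FS/N/Sw/D/D54
section
/-! The filter on the pairs for the order 512, part 54 (generated; helper52, project FS) -/

set_option autoImplicit false
set_option maxRecDepth 100000
set_option Elab.async false

namespace Cfsg.Agent.FS.N.Sw

open G

theorem d9_572 : Dn 8 S9 b8_572 := Fa.dn (
Fa.e 61 0 9 0x570ba5e2fd60b25a2dd50aa562bd40a25229d309a4e27d20924a25d108a4623d00824221cf07a3e1fce0723a1dcd06a361bcc0623219cb05a2e17ca0522a15c904a2613c80422211c7639198c4562911884361909844160901 0x200000401000800000a01000e01 [(3,⟨144,0x9c00015a0000300001180000100001040001030001010001000001,0x194290a010180200c02⟩),(0,⟨143,0x9800015800002c0001100001080001040000020001010000000001,0x1982c0b020080200802⟩)] (by decide +kernel) <|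
Fa.e 60 0 37 0x570ba5e2fd60b25a2dd50aa562bd40a25229d309a4e27d20924a25d108a4623d00824221cf07a3e1fce0723a1dcd06a361bcc0623219cb05a2e17ca0522a15c904a2613c80422211c7639198c4562911884361909844160901 0x208000401000a01000c08000e01001008001201001608001801002408002601002c01003008003408003e00004001004408 [(30,⟨142,0x8c0001270000540001080001180000040000020001010000000001,0x1941e11830100200802⟩)] (by decide +kernel) <|
Fa.e 59 0 75 0x570ba5e2fd60b25a2dd50aa562bd40a25229d309a4e27d20924a25d108a4623d00824221cf07a3e1fce0723a1dcd06a361bcc0623219cb05a2e17ca0522a15c904a2613c80422211c3e1d0d8642e15098441e0d058240e0501 0x401000a01001001001401001a01002001002e01003601003c01004201004801004e01005601007601007c01008401 [] (by decide +kernel) <|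
Fa.e 58 56 73 0x5309a4e27d20924a25d108a4623d00824221cf47d3c1fce475381dcd46d341bcc4653019cb45f2c174a45728154944f24134844720114783f1c0ec6837180cc582f140ac48271008c3e1d0d8642e15098441e0d058240e0501 0x9209009c0800a20800b20900c40900ca0800d60100ec08 [] (by decide +kernel) <|
Fa.e 58 0 56 0x5309a4e27d20924a25d108a4623d00824221cf47d3c1fce475381dcd46d341bcc4653019cb45f2c174a45728154944f24134844720114783f1c0ec6837180cc582f140ac48271008c3e1d0d8642e15098441e0d058240e0501 0x208000e08002409002c08003c08003e08004e08006609007008 [] (by decide +kernel) <|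
Fa.e 56 0 3 0x47e3d1d8e46e35198c45e2d158a44e25118843e1d0d8642e15098441e0d058240e0501 0x201000401000601 [] (by decide +kernel) <|
Fa.e 44 0 13 0x4f679399c4d66931984b659299449649219047639198c4562911884361909844160901 0x0 [] (by decide +kernel) <|
Fa.e 43 0 4 0x4f679399c4d66931984b659299449649219047639198c4562911884361909844160901 0x0 [] (by decide +kernel) <|
Fa.e 42 0 24 0x47e3d1d8e46e35198c45e2d158a44e25118843e1d0d8642e15098441e0d058240e0501 0x0 [] (by decide +kernel) <|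
Fa.e 24 0 49 0x4b85f2c16ca8572814c984f2412c88472010c783f1c0ec6837180cc582f140ac48271008c3e1d0d8642e15098441e0d058240e0501 0x204000401000804000a01000c08000e01001001001404001601001801001a04001e08002408002601002801002c00002e01003001003404003601003801003a04003c04004804004a01004e04005001005200005608005801005a01005e04 [(40,⟨123,0xc200004000001e00012500000e0001060001020000010000000001,0x1c02005c500c0300802⟩),(21,⟨124,0xc200004000001e00002500010e0000060000020000010000000001,0x1c02005c500c0300802⟩)] (by decide +kernel) <|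
Fa.e 20 0 32 0x47e3d1d8e46e35198c45e2d158a44e25118843e1d0d8642e15098441e0d058240e0501 0x401000c01001201001801001e01002c01003201003c01 [] (by decide +kernel) <|
Fa.e 18 0 56 0x4f87f3c1ece877381ccd86f341acc8673018cb85f2c16ca8572814c984f2412c88472010c7e3d1d8e46e35198c45e2d158a44e25118843e1d0d8642e15098441e0d058240e0501 0x200000401000604000a00000c01001000001201001404001601001a01001c01001e04002801002a01002c04003001003201004201004401004604004c04004e01005201005801005c04005e01006204006a01 [(7,⟨48,0x10800013a000023000006000002400000400000080004080000000001,0x1841294412190200404⟩),(4,⟨49,0x18a00003f000021000005800023a00000600008080000080000000001,0x1a710924281b0280404⟩),(0,⟨47,0x18c000038000020000002800002000000600000080004080000000001,0x1a51016410110280404⟩)] (by decide +kernel) <|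
Fa.e 17 0 26 0x4fe7d3d9e4ee75399c4de6d359a4ce6531984be5d2d964ae55299449e4d259248e45219047e3d1d8e46e35198c45e2d158a44e25118843e1d0d8642e15098441e0d058240e0501 0x200000601000801000c08001001001401001800002000002601003001 [(15,⟨26,0x1e40001a100004d000013d0000080000002000040400000400004000001,0x14a4882052320081004⟩),(11,⟨25,0x16c0001b300004e80000280000088000002000000400000400004000001,0x17e57030681c0081004⟩),(0,⟨27,0x1b00001af000005000010c00004b0000102000000400010400004000001,0x14e4406042110081004⟩)] (by decide +kernel) <|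
Fa.e 16 0 116 0x5f0fa7e3fde0f27a3dd90ca6633d80c26231d50aa562bd40a25229d108a4623d00824221cf87f3c1ecd86f341aca8572814c88472010c6837180cc48271008c28170804c080701 0x0 [] (by decide +kernel) <|
Fa.e 15 0 108 0x5f0fa7e3fde0f27a3ddd0ea763bdc0e27239cf87f3c1ecd86f341aca8572814c88472010c6837180cc48271008c281709844080701 0x0 [] (by decide +kernel) <|
Fa.e 14 0 112 0x5b0da6e37da0d26a35d90ca6633d80c26231d70ba5e2fd60b25a2dd50aa562bd40a25229d309a4e27d20924a25d108a4623d00824221cf87f3c1ecd86f341aca8572814c88472010c6837180cc48271008c281709844080701 0x0 [] (by decide +kernel) <|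
Fa.e 13 0 133 0x570ba5e2fd60b25a2dd50aa562bd40a25229d309a4e27d20924a25d108a4623d00824221ce877381ccc8673018ca8572814c88472010c6837198c4482711884281709844080701 0x0 [] (by decide +kernel) <|
Fa.e 12 0 44 0x4e877399c4c86731984a857299448847219046837198c4482711884281709844080701 0x0 [] (by decide +kernel) <|
Fa.e 11 0 51 0x5f0fa7e3fde0f27a3ddd0ea763bdc0e27239db0da6e37da0d26a35d90ca6633d80c26231d70ba5e2fd60b25a2dd50aa562bd40a25229d309a4e27d20924a25d108a4623d00824221ce877399c4c86731984a857299448847219046837198c4482711884281709844080701 0x0 [] (by decide +kernel) <|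
Fa.e 10 0 120 0x5e0f27a3ddd0ea763bdb0da6e37d80c26231d70ba5e2fd50aa562bd20924a25d00824221cf87f3c1ece877381cc984f2412c88472010c381f0c06c28170804c180f0402c080701 0x202000601000800000c01001601001a01001c01002201002401002601002800002a01003201003401003a01003c01004001004201004c01004e01005001005601005802005a01005e01006001006201006401006601006c01007201007801007e01008001008401008601008c01009001009401009601009800009a01009c01009e0100a20200a40100a60100aa0100ac0100ae0100b00100b20100b60100ba0100bc0100be0100c00100c20100c40100c60100c80100ce0100d40100d60100d80100da0100de0100e00100e40100e60100ea0100ec0100ee0100f001 [(75,⟨113,0x8300016900003900001900010c0000050001020001010001010000,0x3833e0c4380d0280801⟩),(19,⟨112,0x8b00017800013b00011900000c0001050001030000010001010000,0x38eb10c8380c8280a01⟩),(3,⟨111,0x800001410000080000300001200001040000020000010001010000,0x3802042030200200801⟩)] (by decide +kernel) <|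
Fa.e 9 0 70 0x5f0fa7e3fdd0ea763bdb0da6e37d90ca6633d70ba5e2fd50aa562bd20924a25d00824221c381f0c06c281709844180f0402c080701 0x202000c01000e01001001001202001c01001e01002001002601002a01003201003601003a02004401005201005601005c01006401006a01006e01007601 [] (by decide +kernel) <|
Fa.e 8 0 118 0x5f0fa7e3fdd0ea763bda0d26a35d80c26231d60b25a2dd40a25229d20924a25d00824221cb85f2c16ca8572814c984f2412c88472010c783f1c0ec6837180cc582f140ac48271008c381f0c06c281709844180f0402c080701 0x200000a00000e01001201001401001602001e00002001002401002801002a01002c01003201003801003a01004201004c01005001005e01006403006801006e01007001007401007801007c01008a02008e0100980100a40100a80100ac0100b00100c40100cc0100d401 [(14,⟨110,0xa700004100011a00012c0000210001050001030000010001010000,0x38e208247d1c0280a01⟩),(4,⟨109,0x850000410000110001280001200001040000030001010001010000,0x384a042042180200c01⟩),(0,⟨108,0x880000430000200001110001090000040000030000010001010000,0x388a108022088200a01⟩)]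 (by decide +kernel) <|
Fa.e 7 0 109 0x5f0fa7e3fdd0ea763bdb0da6e37d90ca6633d60b25a2dd40a25229d20924a25d00824221c783f1c0ec6837198c4582f140ac482711884381f0c06c281709844180f0402c080701 0x202000601000801001202001401001601001e01002001002201002601002a01002c01002e01003201003401003601003c01004001004201004601004801004e01005401005801005a01005c01006201006401006601006a01007201007401007601007801007a01007c01007e01008001008201008601008801008a01008c01008e02009001009201009401009801009a01009c01009e0100a00100a20100a40100a60100aa0100ac0100ae0100b00100b80100be0100c20100c40100ca0100cc0100ce0100d00200d20100d40100d80100da01 [] (by decide +kernel) <|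
Fa.e 6 0 87 0x5e0f27a3ddc0e27239da0d26a35d80c26231d60b25a2dd40a25229d20924a25d00824221cf87f3c1ece877399c4d86f341acc86731984b85f2c16ca85729944984f2412c884721904783f1c0ec6837198c4582f140ac482711884381f0c06c281709844180f0402c080701 0x200000401000800000a01000e01001001001801001c01001e00002001002200002800002e01003201005001006600006a01007000007401007c00008001008801008c01009c0100a40100a80000ac01 [(83,⟨121,0x1b800017a00000c000008000002000000700008100004040000000001,0x1d43904010280380802⟩),(61,⟨122,0x17200007300009c00000c000004000000400008180000040002000001,0x1a12902030300200c02⟩),(55,⟨120,0x1b800017a00000c000008000002000000700000100004040000000001,0x1d43904010280380802⟩),(50,⟨106,0x10000006400001400000e000003000000400000100000040002020000,0x3802e06060380200801⟩),(19,⟨107,0x12800015300000600000c000002000000400000100004040002020000,0x38c2546010240200801⟩),(16,⟨105,0x17200007300009c00000c000004000000400000180000040002020000,0x3a0a902030300200a01⟩),(14,⟨118,0x17200017300009c00000c000004000000400008180004040002000001,0x1a12902030300200c02⟩),(3,⟨119,0x17200007300001c00000c000004000000400008180000040002000001,0x1a12902030300200c02⟩),(0,⟨117,0x17200007300009c00000c000004000000400008180004040002000001,0x1a12902030300200c02⟩)]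 (by decide +kernel) <|
Fa.e 5 0 116 0x5f0fa7e3fde0f27a3dd90ca6633d80c26231d50aa562bd40a25229d108a4623d00824221cf07b3a1dcd06b3219cb85f2814c984f2010c783f180cc582f1008c381f0804c1e0d01 0x402000c00001801001c01002201002801003e03004e03005201005603005a01006203006a01007e0300860200900100940100ae0100b20100bc0100ca03 [(5,⟨110,0xc40001400001110001090000200000070000020001000001010000,0x2c62002041108300801⟩)] (by decide +kernel) <|
Fa.e 4 0 116 0x5f0fa7e3fde0f27a3dd90ca6633d80c26231d50aa562bd40a25229d108a4623d00824221cf07b3a1dcd06b3219cb85f2814c984f2010c783f180cc582f1008c381f0804c1e0d01 0x802001000001401002001002403002601003e03004201004a01005603005c01006601006e01007201007603007a0300820100960100a00100a40100ce0100d003 [(7,⟨111,0xc500014000001000010d0001210001070000020001000001010000,0x2c6a002240160300801⟩)] (by decide +kernel) <|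
Fa.e 3 0 106 0x5f0fa7e3fde0f27a3ddd0ea763bdc0e27239cf07b3a1dcd06b3219cb85f2814c984f2010c783f180cc582f1008c381f0804c1e0d01 0x802001000001401002001002403002601004201004a01005602005e02006402006e01007201007602007a02008201009401009c01009e0100c20100c402 [(7,⟨113,0xe600014300011800010c0001210000060001020000000001010000,0x2ce210226c160340801⟩)] (by decide +kernel) <|
Fa.e 2 0 106 0x5b0da6e37da0d26a35d90ca6633d80c26231d70ba5e2fd60b25a2dd50aa562bd40a25229d309a4e27d20924a25d108a4623d00824221cf07b3a1dcd06b3219cb85f2814c984f2010c783f180cc582f1008c381f0804c1e0d01 0x802001000001401002001002403002601004201004a01005e01006401006e01007201007602007a02008201009401009c01009e0100c20100c402 [(7,⟨112,0xc500014300001100010d0001200000070000030001000001010000,0x2c42142041168340a01⟩)] (by decide +kernel) <|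
Fa.e 1 0 106 0x5f0fa7e3fde0f27a3ddd0ea763bdc0e27239cf07b3a1dcd06b3219cb85f2814c984f2010c783f180cc582f1008c3e1d098441e0d01 0x402000c02001801001c02002202002801003e03004603004e03005201005603005a01006202006a01007e03008802008c01008e0100a60100aa0100b20100be03 [] (by decide +kernel) <|
Fa.e 0 0 106 0x5b0da6e37da0d26a35d90ca6633d80c26231d70ba5e2fd60b25a2dd50aa562bd40a25229d309a4e27d20924a25d108a4623d00824221cf07b3a1dcd06b3219cb85f2814c984f2010c783f180cc582f1008c3e1d098441e0d01 0x400000c00001801001c01002201002801003e03004603004e03005201005603005a01006203006a01007e03008802008c01008e0100a60100aa0100b20100be03 [(5,⟨109,0xc50001420001100001080001210001070000030001000001010000,0x2c4a102240100340a01⟩),(1,⟨108,0xc00000490001180000280000080000070001030001000001010000,0x2c8a446050080340a01⟩)] (by decide +kernel) <|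
Fa.c0) (by decide +kernel)

theorem d9_573 : Dn 8 S9 b8_573 := Fa.dn (
Fa.e 63 0 80 0x5e8f67c3ede0f27e3fdc8e6743adc0e2763bda8d66c36da0d26e37d88c66432d80c26633d68b65e2fd60b25c2ed48a6562bd40a2542ad28964e27d20924c26d08864623d00824422ce477381d4c46730194a457281548447201146e35198c44e25118842e15098440e0501 0x202000401000c02000e01001601001801001a01001c01002201002401002601002a01002e01003002003402003a03003e01004201004403004800005000008e00 [(70,⟨247,0x950000540000230000180000110001040000020001010000000001,0x18d2608c12190200802⟩),(39,⟨248,0x8100005b00012b00001a0000110001040001020001010000000001,0x181288e0121b0200802⟩),(35,⟨245,0x9000013300014d0000190001110000020001050000000001010000,0x2889d53011180141001⟩)] (by decide +kernel) <|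
Fa.e 62 0 134 0x661329a4da713a9e4fe41229249a512a964be21128a45a311a8e47e01028241a110a8643de8f67c3ede0f27e3fdc8e6743adc0e2763bda8d66c36da0d26e37d88c66432d80c26633d68b65e2fd60b25c2ed48a6562bd40a2542ad28964e27d20924c26d08864623d00824422ce477381d4c46730194a457281548447201146e35198c44e25118842e15098440e0501 0x200000601000c03000e01002a01003002004800005000008e0000a20000ae0000d20000e00100e601 [(104,⟨241,0x102000047000010000042800002400010500008100000040002000001,0x1812388014120280802⟩),(86,⟨242,0x102000047000010000042c00002400010500008100000040002000001,0x1812388014130280802⟩),(80,⟨240,0x102000047000010000042800002400010500008100000040002000001,0x1812388014120280802⟩),(70,⟨245,0x11200005d000094800004000023200000500000100000040000000001,0x198260e020190280802⟩),(39,⟨246,0x120000041000099800042800002200010400000100004040000000001,0x189208a812120200802⟩),(35,⟨244,0x11200005d000094800004000023200000500000100000040000000001,0x198260e020190280802⟩),(0,⟨243,0x11e00017e000099800044000001200000600008100004040000000001,0x18d378cc20090300802⟩)]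 (by decide +kernel) <|
Fa.e 61 0 75 0x621128a45a311a8e47e01028241a110a8643decf97a3ede4fd783fdcce9723adc4ed703bdacdb6a365a4df683758ccb6232584cf603356cbd5a2fd64b9582ed4cad522bd44a9502ad2c9f4a275249b482650c8f42235048b40224f47d3c1fce475381dcd46d341bcc4653019cb45f2c174a45728154944f24134844720114783f1c0ec6837180cc582f140ac48271008c3e1d0d8642e15098441e0d058240e0501 0x600002600003000004e00 [(38,⟨155,0x468000172000002200004ac00000400001070000202000000800000000001,0x18d3c06c44080380404⟩),(23,⟨156,0x40000015c0000038000048400008600001050000202000040800000000001,0x18030048500e0300404⟩),(18,⟨154,0x468000172000002200004ac00000400001070000202000000800000000001,0x18d3c06c44080380404⟩),(2,⟨157,0x46800002a00000de00004540000040000002000020c000000400008000001,0x18f339302e080301002⟩)] (by decide +kernel) <|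
Fa.e 48 0 37 0x568b7582cd48a75028d28974824d08874020ce877381ccc8673018ca8572814c88472010c6e35198c44e25118842e15098440e0501 0x204000401000a01000c04000e01001004001201001604001801002404002601002c01003004003404003e04004001004404 [] (by decide +kernel) <|
Fa.e 46 0 13 0x4ee75399c4ce6531984ae55299448e45219046e35198c44e25118842e15098440e0501 0x401000a01000e01001801 [] (by decide +kernel) <|
Fa.e 45 0 37 0x5e8f7783cdc8e77038da8d76834d88c76030d68b7582cd48a75028d28974824d08874020cee75399c4ce6531984ae55299448e45219046e35198c44e25118842e15098440e0501 0x205000c05002405002a05002e04 [] (by decide +kernel) <|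
Fa.e 34 0 6 0x570ba5e2fd60b25a2dd50aa562bd40a25229d309a4e27d20924a25d108a4623d00824221cf07a3e1fce0723a1dcd06a361bcc0623219cb05a2e17ca0522a15c904a2613c80422211c3e1d0d8642e15098441e0d058240e0501 0x200000600000800 [(3,⟨146,0xa100015500002d00011e0000080001040000010000020001000001,0x1ac2d0b83a080200404⟩),(2,⟨147,0x850000420000230000110001080001040001030000020001000001,0x1872088826080200406⟩),(0,⟨145,0xf000005800003f0000100001080001060000030000020000000001,0x1f52c8f820080280406⟩)] (by decide +kernel) <|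
Fa.c0) (by decide +kernel)

theorem d9_574 : Dn 8 S9 b8_574 := Fa.dn (
Fa.e 56 0 9 0x661329a4da713a9e4fe41229249a512a964be21128a45a311a8e47e01028241a110a8643ce479381ecc469301aca4592816c84492012c7639198c4562911884361909844160901 0x201000801 [] (by decide +kernel) <|
Fa.e 54 0 27 0x661329a4da713a9e4fe41229249a512a964be21128a45a311a8e47e01028241a110a8643ce47b381e4c46b301a4a45b28164844b201247639198c4562911884361909844160901 0x0 [] (by decide +kernel) <|
Fa.e 53 277 303 0x661329a4da713a9e4fde0f27e3fdc8e6743ada8d66c36d88c66432d68b65e2fd40a2542ad20924c26d00824422cf07a3e1fce0723a1dc783f1c0ec48271008c28170804c080701 0x24a0202620202d60202e60303ea03040003040a03040e03041c03042403043a03043e02044802045402 [] (by decide +kernel) <|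
Fa.e 53 0 277 0x661329a4da713a9e4fde0f27e3fdc8e6743ada8d66c36d88c66432d68b65e2fd40a2542ad20924c26d00824422cf07a3e1fce0723a1dc783f1c0ec48271008c28170804c080701 0x17403017e0301820301860301920301ae03 [] (by decide +kernel) <|
Fa.e 52 378 202 0x641229249a512a964be21128a45a311a8e47e01028241a110a8643de0f27e3fdc8e6743ada8d66c36d88c66432d68b65e2fd40a2542ad20924c26d00824422cf07a3e1fce0723a1dc783f1c0ec48271008c28170804c080701 0x3860203c40303da0303e80303f003040002040602041a02042603046803047e02 [] (by decide +kernel) <|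
Fa.e 52 180 198 0x641229249a512a964be21128a45a311a8e47e01028241a110a8643de0f27e3fdc8e6743ada8d66c36d88c66432d68b65e2fd40a2542ad20924c26d00824422cf07a3e1fce0723a1dc783f1c0ec48271008c28170804c080701 0x24202025a0202cc02 [] (by decide +kernel) <|
Fa.e 52 0 180 0x641229249a512a964be21128a45a311a8e47e01028241a110a8643de0f27e3fdc8e6743ada8d66c36d88c66432d68b65e2fd40a2542ad20924c26d00824422cf07a3e1fce0723a1dc783f1c0ec48271008c28170804c080701 0x603004603004e03005603009c03013e03 [] (by decide +kernel) <|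
Fa.e 51 387 193 0x661329a4da713a9e4fde8f67c3edc0e2763bda0d26e37d80c26633d68b65e2fd40a2542ad20924c26d00824422cd06a361bcc0623219cb05a2e17ca0522a15c904a2613c80422211c783f1c0ec48271008c28170804c080701 0x39a02039e0303a40203a80303fc03042002 [] (by decide +kernel) <|
Fa.e 51 190 197 0x661329a4da713a9e4fde8f67c3edc0e2763bda0d26e37d80c26633d68b65e2fd40a2542ad20924c26d00824422cd06a361bcc0623219cb05a2e17ca0522a15c904a2613c80422211c783f1c0ec48271008c28170804c080701 0x17e0301820301860301920301ae0301ba0201be0301c40201d803 [] (by decide +kernel) <|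
Fa.e 51 0 190 0x661329a4da713a9e4fde8f67c3edc0e2763bda0d26e37d80c26633d68b65e2fd40a2542ad20924c26d00824422cd06a361bcc0623219cb05a2e17ca0522a15c904a2613c80422211c783f1c0ec48271008c28170804c080701 0x17403 [] (by decide +kernel) <|
Fa.e 50 392 188 0x641229249a512a964be21128a45a311a8e47e01028241a110a8643de8f67c3edc0e2763bda0d26e37d80c26633d68b65e2fd40a2542ad20924c26d00824422cd06a361bcc0623219cb05a2e17ca0522a15c904a2613c80422211c783f1c0ec48271008c28170804c080701 0x34a02039a0203a00203d60303ec0203f402046202 [] (by decide +kernel) <|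
Fa.e 50 187 205 0x641229249a512a964be21128a45a311a8e47e01028241a110a8643de8f67c3edc0e2763bda0d26e37d80c26633d68b65e2fd40a2542ad20924c26d00824422cd06a361bcc0623219cb05a2e17ca0522a15c904a2613c80422211c783f1c0ec48271008c28170804c080701 0x1ba0201c002022a02 [] (by decide +kernel) <|
Fa.e 50 0 187 0x641229249a512a964be21128a45a311a8e47e01028241a110a8643de8f67c3edc0e2763bda0d26e37d80c26633d68b65e2fd40a2542ad20924c26d00824422cd06a361bcc0623219cb05a2e17ca0522a15c904a2613c80422211c783f1c0ec48271008c28170804c080701 0x603004603004e03005603009c03013e03 [] (by decide +kernel) <|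
Fa.e 49 1225 239 0x641229249a512a964be01028241a110a8643de8f67c3edc8e6743ada0d26e37d80c26633d60b25c2ed40a2542ad20924c26d00824422cb05a2e17ca0522a15c904a2613c80422211c6837180cc48271008c28170804c080701 0x99e0209ae0309c2030a86030afa020b0e02 [] (by decide +kernel) <|
Fa.e 49 962 263 0x641229249a512a964be01028241a110a8643de8f67c3edc8e6743ada0d26e37d80c26633d60b25c2ed40a2542ad20924c26d00824422cb05a2e17ca0522a15c904a2613c80422211c6837180cc48271008c28170804c080701 0x8860308ae0208ce03098a02 [] (by decide +kernel) <|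
Fa.e 49 689 273 0x641229249a512a964be01028241a110a8643de8f67c3edc8e6743ada0d26e37d80c26633d60b25c2ed40a2542ad20924c26d00824422cb05a2e17ca0522a15c904a2613c80422211c6837180cc48271008c28170804c080701 0x72a03074603 [] (by decide +kernel) <|
Fa.e 49 451 238 0x641229249a512a964be01028241a110a8643de8f67c3edc8e6743ada0d26e37d80c26633d60b25c2ed40a2542ad20924c26d00824422cb05a2e17ca0522a15c904a2613c80422211c6837180cc48271008c28170804c080701 0x42a03044603045602047202 [] (by decide +kernel) <|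
Fa.e 49 209 242 0x641229249a512a964be01028241a110a8643de8f67c3edc8e6743ada0d26e37d80c26633d60b25c2ed40a2542ad20924c26d00824422cb05a2e17ca0522a15c904a2613c80422211c6837180cc48271008c28170804c080701 0x1c20301f201020e03021403027601 [] (by decide +kernel) <|
Fa.e 49 0 209 0x641229249a512a964be01028241a110a8643de8f67c3edc8e6743ada0d26e37d80c26633d60b25c2ed40a2542ad20924c26d00824422cb05a2e17ca0522a15c904a2613c80422211c6837180cc48271008c28170804c080701 0x1603001e01006a03006e0300720300760300ba0100c20100fa02013002013c03019803 [] (by decide +kernel) <|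
Fa.e 48 698 218 0x621128a45a311a8e47e01028241a110a8643de8f67c3edc8e6743ada0d26e37d80c26633d60b25c2ed40a2542ad20924c26d00824422cb05a2e17ca0522a15c904a2613c80422211c6837180cc48271008c281709844080701 0x5d80205de0206220206940206d20206f002 [] (by decide +kernel) <|
Fa.e 48 430 268 0x621128a45a311a8e47e01028241a110a8643de8f67c3edc8e6743ada0d26e37d80c26633d60b25c2ed40a2542ad20924c26d00824422cb05a2e17ca0522a15c904a2613c80422211c6837180cc48271008c281709844080701 0x48c0304b803055a02057202 [] (by decide +kernel) <|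
Fa.e 48 207 223 0x621128a45a311a8e47e01028241a110a8643de8f67c3edc8e6743ada0d26e37d80c26633d60b25c2ed40a2542ad20924c26d00824422cb05a2e17ca0522a15c904a2613c80422211c6837180cc48271008c281709844080701 0x2b60302c403032003 [] (by decide +kernel) <|
Fa.e 48 0 207 0x621128a45a311a8e47e01028241a110a8643de8f67c3edc8e6743ada0d26e37d80c26633d60b25c2ed40a2542ad20924c26d00824422cb05a2e17ca0522a15c904a2613c80422211c6837180cc48271008c281709844080701 0xa03000e03001e03002202005c02006e0200960300b00300c80300ce0300d40300f201010403015c03016201017003018803 [] (by decide +kernel) <|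
Fa.e 47 443 230 0x5e8f67c3edc8e6743ada0d26e37d80c26633d60b25c2ed40a2542ad20924c26d00824422cb05a2e17ca0522a15c904a2613c80422211c6837180cc48271008c281709844080701 0x3f003049c0204a20204ac0304c403 [] (by decide +kernel) <|
Fa.e 47 205 238 0x5e8f67c3edc8e6743ada0d26e37d80c26633d60b25c2ed40a2542ad20924c26d00824422cb05a2e17ca0522a15c904a2613c80422211c6837180cc48271008c281709844080701 0x19c0301a603021603022a03023802029202 [] (by decide +kernel) <|
Fa.e 47 0 205 0x5e8f67c3edc8e6743ada0d26e37d80c26633d60b25c2ed40a2542ad20924c26d00824422cb05a2e17ca0522a15c904a2613c80422211c6837180cc48271008c281709844080701 0xa03000e03001a02005403005a0300640200860200ba0200c002016c03017603017803017a03 [] (by decide +kernel) <|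
Fa.e 46 531 162 0x661329a4da713a9e4fe41229249a512a964be21128a45a311a8e47e01028241a110a8643de8f67c3edc8e6743ada0d26e37d80c26633d60b25c2ed40a2542ad20924c26d00824422cb05a2e17ca0522a15c904a2613c80422211c6837180cc48271008c281709844080701 0x4460204b00204b60204ba03054c02 [] (by decide +kernel) <|
Fa.e 46 334 197 0x661329a4da713a9e4fe41229249a512a964be21128a45a311a8e47e01028241a110a8643de8f67c3edc8e6743ada0d26e37d80c26633d60b25c2ed40a2542ad20924c26d00824422cb05a2e17ca0522a15c904a2613c80422211c6837180cc48271008c281709844080701 0x3a603040402 [] (by decide +kernel) <|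
Fa.e 46 163 171 0x661329a4da713a9e4fe41229249a512a964be21128a45a311a8e47e01028241a110a8643de8f67c3edc8e6743ada0d26e37d80c26633d60b25c2ed40a2542ad20924c26d00824422cb05a2e17ca0522a15c904a2613c80422211c6837180cc48271008c281709844080701 0x21a03022c03023802 [] (by decide +kernel) <|
Fa.e 46 0 163 0x661329a4da713a9e4fe41229249a512a964be21128a45a311a8e47e01028241a110a8643de8f67c3edc8e6743ada0d26e37d80c26633d60b25c2ed40a2542ad20924c26d00824422cb05a2e17ca0522a15c904a2613c80422211c6837180cc48271008c281709844080701 0xa03000e03001a03004e03005403005a0300640300f403013003 [] (by decide +kernel) <|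
Fa.e 45 438 279 0x621128a45a311a8e47e01028241a110a8643de8f67c3edc8e6743ada8d66c36d88c66432d60b25c2ed40a2542ad20924c26d00824422c6837180cc48271008c281709844080701 0x3ca0303e603 [] (by decide +kernel) <|
Fa.e 45 202 236 0x621128a45a311a8e47e01028241a110a8643de8f67c3edc8e6743ada8d66c36d88c66432d60b25c2ed40a2542ad20924c26d00824422c6837180cc48271008c281709844080701 0x2e80302f003031c03 [] (by decide +kernel) <|
Fa.e 45 0 202 0x621128a45a311a8e47e01028241a110a8643de8f67c3edc8e6743ada8d66c36d88c66432d60b25c2ed40a2542ad20924c26d00824422c6837180cc48271008c281709844080701 0x603000a03000e02001203001603001a02001e02002e02003a02005402006202006802008e0200980200b20200b60200ca0300d00300da03012e03 [] (by decide +kernel) <|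
Fa.e 44 546 189 0x621128a45a311a8e47e01028241a110a8643de0f27e3fdc0e2763bda0d26e37d80c26633d60b25c2ed40a2542ad20924c26d00824422cf07a3e1fce0723a1dcd06a361bcc0623219cb05a2e17ca0522a15c904a2613c80422211c6837180cc48271008c281709844080701 0x53800 [(667,⟨269,0x860001440001770000180000080000050000060000000001010000,0x282a21f830080241801⟩)] (by decide +kernel) <|
Fa.e 44 339 207 0x621128a45a311a8e47e01028241a110a8643de0f27e3fdc0e2763bda0d26e37d80c26633d60b25c2ed40a2542ad20924c26d00824422cf07a3e1fce0723a1dcd06a361bcc0623219cb05a2e17ca0522a15c904a2613c80422211c6837180cc48271008c281709844080701 0x36a00042a00043e00 [(542,⟨270,0x840000590001300000100000090000040000020000010000000001,0x1852c0c020090200802⟩),(532,⟨268,0x860001440001770000180000080000050000060000000001010000,0x282a21f830080241801⟩),(436,⟨248,0x9700006e0001510000100000080000070000050000010001010000,0x395185f220080141a01⟩)] (by decide +kernel) <|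
Fa.e 44 161 178 0x621128a45a311a8e47e01028241a110a8643de0f27e3fdc0e2763bda0d26e37d80c26633d60b25c2ed40a2542ad20924c26d00824422cf07a3e1fce0723a1dcd06a361bcc0623219cb05a2e17ca0522a15c904a2613c80422211c6837180cc48271008c281709844080701 0x1ea0001fe00 [(254,⟨253,0x8100017e0001480000180000110000070000040001010001010000,0x3811c5b211188101801⟩),(244,⟨246,0x840001780001490000100000080000060000050000010001010000,0x382145c420080141801⟩)] (by decide +kernel) <|
Fa.e 44 0 161 0x621128a45a311a8e47e01028241a110a8643de0f27e3fdc0e2763bda0d26e37d80c26633d60b25c2ed40a2542ad20924c26d00824422cf07a3e1fce0723a1dcd06a361bcc0623219cb05a2e17ca0522a15c904a2613c80422211c6837180cc48271008c281709844080701 0xa03001a0300620300b20300ca0300d003012e03 [] (by decide +kernel) <|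
Fa.e 43 0 254 0x5e8f67c3edc8e6743ada8d66c36d88c66432d60b25c2ed40a2542ad20924c26d00824422c6837198c4482711884281709844080701 0x603000803000c03001003001402001802002402002c02003c03004002004402005202005602005803008803008a02008c03009402009c02009e0300a803012003012a03016a02 [] (by decide +kernel) <|
Fa.e 42 123 148 0x661329a4da713a9e4fe41229249a512a964be21128a45a311a8e47e01028241a110a8643de8f67c3edc8e6743ada8d66c36d88c66432d60b25c2ed40a2542ad20924c26d00824422c6837198c4482711884281709844080701 0x11a03012203016403 [] (by decide +kernel) <|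
Fa.e 42 0 123 0x661329a4da713a9e4fe41229249a512a964be21128a45a311a8e47e01028241a110a8643de8f67c3edc8e6743ada8d66c36d88c66432d60b25c2ed40a2542ad20924c26d00824422c6837198c4482711884281709844080701 0x203000603000802000c03001003001403001803003c02004002004403005203005802006003007e03 [] (by decide +kernel) <|
Fa.e 41 119 142 0x5e0f27e3fdc0e2763bda0d26e37d80c26633d60b25c2ed40a2542ad20924c26d00824422cf07a3e1fce0723a1dcd06a361bcc0623219cb05a2e17ca0522a15c904a2613c80422211c6837198c4482711884281709844080701 0x17c00018c00 [(197,⟨269,0x9d00007700002a0001190001110001060001030000010001000001,0x1963b8ec12180380c02⟩),(189,⟨267,0x800001580000600000100000190000040000070000000001010000,0x280245a220188201801⟩)] (by decide +kernel) <|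
Fa.e 41 0 119 0x5e0f27e3fdc0e2763bda0d26e37d80c26633d60b25c2ed40a2542ad20924c26d00824422cf07a3e1fce0723a1dcd06a361bcc0623219cb05a2e17ca0522a15c904a2613c80422211c6837198c4482711884281709844080701 0x802001403004002008803008a03008c03009e0300a80300ac0000bc00 [(93,⟨252,0x910001790000550000180000110000070001050000010001010000,0x388151ea11188141c01⟩),(85,⟨245,0x8f0000700000400000100000190000060001040000010001010000,0x39c901c020188101c01⟩)] (by decide +kernel) <|
Fa.e 40 141 155 0x661329a4da713a9e4fe41229249a512a964be21128a45a311a8e47e01028241a110a8643de0f27e3fdc0e2763bda0d26e37d80c26633d60b25c2ed40a2542ad20924c26d00824422cf07a3e1fce0723a1dcd06a361bcc0623219cb05a2e17ca0522a15c904a2613c80422211c6837198c4482711884281709844080701 0x1740001a80001b600022e00 [(278,⟨267,0x8600005d00012a0000090000190000050000030000010000000001,0x187260c830110280c02⟩),(218,⟨268,0x840000780000380000190001110001070000030001010001000001,0x187300c412180300c02⟩),(211,⟨266,0x8600005d00012a0000090000190000050000030000010000000001,0x187260c830110280c02⟩),(185,⟨247,0x8f0000700000400000100000190000060001040000010001010000,0x39c901c020188101c01⟩)]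 (by decide +kernel) <|
Fa.e 40 0 141 0x661329a4da713a9e4fe41229249a512a964be21128a45a311a8e47e01028241a110a8643de0f27e3fdc0e2763bda0d26e37d80c26633d60b25c2ed40a2542ad20924c26d00824422cf07a3e1fce0723a1dcd06a361bcc0623219cb05a2e17ca0522a15c904a2613c80422211c6837198c4482711884281709844080701 0x200000803000c00001400004002006000007e0000ac0000ba00 [(92,⟨251,0x970001400000660001180000110001040000070000010000010001,0x38a2018811188201802⟩),(85,⟨244,0x8f0000700000400000100000190000060001040000010001010000,0x39c901c020188101c01⟩),(62,⟨249,0x8e00017500013a0000110000090000070000030000010001010000,0x38cb64ea21088300a01⟩),(47,⟨250,0x840000590001250000110000190000050001020001010001010000,0x3842409221180280801⟩),(9,⟨255,0x820001540001230001190000110000040001020000010001010000,0x3822608c11180200801⟩),(5,⟨254,0x8f00014000012100000b0000110000040000030000010001010000,0x394a008211120200a01⟩),(0,⟨243,0x8600015d00012a0001090000190000050000030000010001010000,0x386a60c830108240a01⟩)]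 (by decide +kernel) <|
Fa.e 39 0 144 0x661329a4da713a9e4fe41229249a512a964be21128a45a311a8e47de8f67c3edc8e6743ada8d66c36d80c26633d68b65e2fd48a6562bd28964e27d00824422cf07a3e1fcd06a361bcb05a2e17c80422211c180f0402c080701 0xb20300be0300c603 [] (by decide +kernel) <|
Fa.e 38 0 144 0x605068543601048443de8f67c3edc8e6743ada8d66c36d80c26633d68b65e2fd48a6562bd28964e27d00824422cf07a3e1fcd06a361bcb05a2e17c80422211c180f0402c080701 0x2203002e03003603 [] (by decide +kernel) <|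
Fa.e 37 149 147 0x661329a4da713a9e4fde8f67c3edc0e2763bda0d26e37d80c26633d68b65e2fd40a2542ad20924c26d00824422cf07a3e1fcc0623219ca0522a15c80422211c582f140ac48271008c381f0c06c28170804c180f0402c080701 0x12e0301b20301bc03 [] (by decide +kernel) <|
Fa.e 37 0 149 0x661329a4da713a9e4fde8f67c3edc0e2763bda0d26e37d80c26633d68b65e2fd40a2542ad20924c26d00824422cf07a3e1fcc0623219ca0522a15c80422211c582f140ac48271008c381f0c06c28170804c180f0402c080701 0x0 [] (by decide +kernel) <|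
Fa.e 36 139 157 0x641229249a512a964be21128a45a311a8e47e05068543601048443de8f67c3edc0e2763bda0d26e37d80c26633d68b65e2fd40a2542ad20924c26d00824422cf07a3e1fcc0623219ca0522a15c80422211c582f140ac48271008c381f0c06c28170804c180f0402c080701 0x0 [] (by decide +kernel) <|
Fa.e 36 0 139 0x641229249a512a964be21128a45a311a8e47e05068543601048443de8f67c3edc0e2763bda0d26e37d80c26633d68b65e2fd40a2542ad20924c26d00824422cf07a3e1fcc0623219ca0522a15c80422211c582f140ac48271008c381f0c06c28170804c180f0402c080701 0x603008a03009403 [] (by decide +kernel) <|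
Fa.e 35 358 206 0x661329a4da713a9e4fe01028241a110a8643de8f67c3edc8e6743ada0d26e37d80c26633d68b65e2fd48a6562bd20924c26d00824422cf07a3e1fcd06a361bca0522a15c80422211c381f0c06c28170804c180f0402c080701 0x2ce0102e601 [] (by decide +kernel) <|
Fa.e 35 166 192 0x661329a4da713a9e4fe01028241a110a8643de8f67c3edc8e6743ada0d26e37d80c26633d68b65e2fd48a6562bd20924c26d00824422cf07a3e1fcd06a361bca0522a15c80422211c381f0c06c28170804c180f0402c080701 0x14e0102a40302a601 [] (by decide +kernel) <|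
Fa.e 35 0 166 0x661329a4da713a9e4fe01028241a110a8643de8f67c3edc8e6743ada0d26e37d80c26633d68b65e2fd48a6562bd20924c26d00824422cf07a3e1fcd06a361bca0522a15c80422211c381f0c06c28170804c180f0402c080701 0x340300420100520100dc0300e20300ea01014401 [] (by decide +kernel) <|
Fa.e 34 0 264 0x5e8f67c3edc8e6743ada0d26e37d80c26633d68b65e2fd48a6562bd20924c26d00824422cf07a3e1fcd06a361bca0522a15c80422211c381f0c06c281709844180f0402c080701 0x2e0200540301ba0301bc0301c20101c601020203020401 [] (by decide +kernel) <|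
Fa.e 33 116 148 0x661329a4da713a9e4fe41229249a512a964be21128a45a311a8e47e01028241a110a8643de8f67c3edc8e6743ada0d26e37d80c26633d68b65e2fd48a6562bd20924c26d00824422cf07a3e1fcd06a361bca0522a15c80422211c381f0c06c281709844180f0402c080701 0x17c03018001 [] (by decide +kernel) <|
Fa.e 33 0 116 0x661329a4da713a9e4fe41229249a512a964be21128a45a311a8e47e01028241a110a8643de8f67c3edc8e6743ada0d26e37d80c26633d68b65e2fd48a6562bd20924c26d00824422cf07a3e1fcd06a361bca0522a15c80422211c381f0c06c281709844180f0402c080701 0x4e03005403006201006a01 [] (by decide +kernel) <|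
Fa.e 32 154 196 0x625168d47621148c47e05068543601048443de8f67c3edc8e6743ada0d26e37d80c26633d68b65e2fd48a6562bd20924c26d00824422cf07a3e1fcd06a361bca0522a15c80422211c381f0c06c281709844180f0402c080701 0x19603019e0101c003 [] (by decide +kernel) <|
Fa.e 32 0 154 0x625168d47621148c47e05068543601048443de8f67c3edc8e6743ada0d26e37d80c26633d68b65e2fd48a6562bd20924c26d00824422cf07a3e1fcd06a361bca0522a15c80422211c381f0c06c281709844180f0402c080701 0x2a03003603004801005c0300b60300be01 [] (by decide +kernel) <|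
Fa.e 31 219 131 0x621128a45a311a8e47e01028241a110a8643de0f27e3fdc0e2763bda0d26e37d80c26633d60b25c2ed40a2542ad20924c26d00824422ce0723a1dcc0623219ca0522a15c80422211c783f1c0ec6837180cc582f140ac48271008c381f0c06c281709844180f0402c080701 0x0 [] (by decide +kernel) <|
Fa.e 31 102 117 0x621128a45a311a8e47e01028241a110a8643de0f27e3fdc0e2763bda0d26e37d80c26633d60b25c2ed40a2542ad20924c26d00824422ce0723a1dcc0623219ca0522a15c80422211c783f1c0ec6837180cc582f140ac48271008c381f0c06c281709844180f0402c080701 0x1a003 [] (by decide +kernel) <|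
Fa.e 31 0 102 0x621128a45a311a8e47e01028241a110a8643de0f27e3fdc0e2763bda0d26e37d80c26633d60b25c2ed40a2542ad20924c26d00824422ce0723a1dcc0623219ca0522a15c80422211c783f1c0ec6837180cc582f140ac48271008c381f0c06c281709844180f0402c080701 0x8000008203 [(63,⟨255,0x8e00017700003b0001160001080000060000020000000001010000,0x28c374fa28080300801⟩)] (by decide +kernel) <|
Fa.e 30 0 126 0x5e0f27e3fdc0e2763bda0d26e37d80c26633d60b25c2ed40a2542ad20924c26d00824422ce0723a1dcc0623219ca0522a15c80422211c783f1c0ec6837198c4582f140ac482711884381f0c06c281709844180f0402c080701 0xca0300ce0300f00300f803 [] (by decide +kernel) <|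
Fa.e 29 92 95 0x665369d4f661349c4fe4526954b64124944be25168d47621148c47e05068543601048443de0f27e3fdc0e2763bda0d26e37d80c26633d60b25c2ed40a2542ad20924c26d00824422ce0723a1dcc0623219ca0522a15c80422211c783f1c0ec6837198c4582f140ac482711884381f0c06c281709844180f0402c080701 0xbc0000fe00010200010400010601010801010a00012600013a00014000014a00015200016200 [(176,⟨265,0x10e00007f0000aa000042000002000000700008280000040002000001,0x184159d810100181802⟩),(168,⟨264,0x1320001690000a8000006000002000000700008200000040000000001,0x191141c410180101c02⟩),(164,⟨263,0x11e0000230000ae000044000001000000300000280000040000000001,0x18f1d91020080181402⟩),(159,⟨259,0x11e00002300002e000004000001000000300000280000040000000001,0x18f1d91020080181402⟩),(156,⟨258,0x11e00002300002e000004000001000000300000280000040000000001,0x18f1d91020080181402⟩),(146,⟨257,0x11e00002300002e000004000001000000300000280000040000000001,0x18f1d91020080181402⟩),(132,⟨261,0x11a0001380000a4800002000002000000300008200000040002000001,0x1931896010100101402⟩),(129,⟨260,0x1000000330000a2000006000002000000200008200000040000000001,0x1801113410180101002⟩),(128,⟨262,0x132000040000010000044400001200000400000100000040000000001,0x1992008022090200802⟩),(126,⟨256,0x11e00002300002e000004000001000000300000280000040000000001,0x18f1d91020080181402⟩),(93,⟨249,0x12400017e00001d800006000002000000600008100000000002020000,0x28a330ca10180300801⟩)]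 (by decide +kernel) <|
Fa.e 29 0 92 0x665369d4f661349c4fe4526954b64124944be25168d47621148c47e05068543601048443de0f27e3fdc0e2763bda0d26e37d80c26633d60b25c2ed40a2542ad20924c26d00824422ce0723a1dcc0623219ca0522a15c80422211c783f1c0ec6837198c4582f140ac482711884381f0c06c281709844180f0402c080701 0x200000c0000a400 [(81,⟨250,0x130000154000011800004000003000000400008100000000002020000,0x2882a08a20180200801⟩),(5,⟨254,0x120000150000098800002000002000000400000100000000002020000,0x288240a210100200801⟩),(0,⟨243,0x12400017e00001d800006000002000000600008100000000002020000,0x28a330ca10180300801⟩)] (by decide +kernel) <|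
Fa.e 28 389 211 0x661329a4da713a9e4fde8f67c3ede0f27e3fd48a6562bd40a2542ad28964e27d20924c26d08864623d00824422cf07a3e1fcc0623219ca0522a15c80422211c783f1c0ec48271008c28170804c0e0501 0x0 [] (by decide +kernel) <|
Fa.e 28 180 209 0x661329a4da713a9e4fde8f67c3ede0f27e3fd48a6562bd40a2542ad28964e27d20924c26d08864623d00824422cf07a3e1fcc0623219ca0522a15c80422211c783f1c0ec48271008c28170804c0e0501 0x0 [] (by decide +kernel) <|
Fa.e 28 0 180 0x661329a4da713a9e4fde8f67c3ede0f27e3fd48a6562bd40a2542ad28964e27d20924c26d08864623d00824422cf07a3e1fcc0623219ca0522a15c80422211c783f1c0ec48271008c28170804c0e0501 0x202000601000803000c01000e01001001001801001a01001e01002e02003401003603003c01003e01004201004601004801004e01005001005201005401005603005a01005e01006201006602006c01007601007e01008a01009202009801009c01009e0300b40100b80100ba0300c20100c60100ca0100cc0300ce0100d40100dc0300e20100e60100e801 [] (by decide +kernel) <|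
Fa.e 27 390 210 0x641229249a512a964be21128a45a311a8e47e01028241a110a8643de8f67c3ede0f27e3fd48a6562bd40a2542ad28964e27d20924c26d08864623d00824422cf07a3e1fcc0623219ca0522a15c80422211c783f1c0ec48271008c28170804c0e0501 0x0 [] (by decide +kernel) <|
Fa.e 27 182 208 0x641229249a512a964be21128a45a311a8e47e01028241a110a8643de8f67c3ede0f27e3fd48a6562bd40a2542ad28964e27d20924c26d08864623d00824422cf07a3e1fcc0623219ca0522a15c80422211c783f1c0ec48271008c28170804c0e0501 0x0 [] (by decide +kernel) <|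
Fa.e 27 0 182 0x641229249a512a964be21128a45a311a8e47e01028241a110a8643de8f67c3ede0f27e3fd48a6562bd40a2542ad28964e27d20924c26d08864623d00824422cf07a3e1fcc0623219ca0522a15c80422211c783f1c0ec48271008c28170804c0e0501 0x202000603000a01000c01000e01001001002e02003201003603003c01005a01006403006602006e01009202009601009c01009e03 [] (by decide +kernel) <|
Fa.e 26 160 200 0x661329a4da713a9e4fde8f67c3ede0f27e3fd68b65e2fd60b25c2ecf07a3e1fcc0623219ca0522a15c844720114783f1c0ec48271008c28170804c0e0501 0x15203015a03016e02020203022203028202029a02 [] (by decide +kernel) <|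
Fa.e 26 0 160 0x661329a4da713a9e4fde8f67c3ede0f27e3fd68b65e2fd60b25c2ecf07a3e1fcc0623219ca0522a15c844720114783f1c0ec48271008c28170804c0e0501 0x202000603000803000c03000e03001003001802001a01001e01002e02003401003603003c01003e01004201004602004801004e01005001005201005401005603005a01005e01006201006602006c01007601007e01008a01009202009801009c01009e0300b40100b80100ba0300c20100c60100ca0200cc0300ce0200d40100dc0300e20100e60100e80100f20200fc02013e02 [] (by decide +kernel) <|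
Fa.e 25 162 198 0x641229249a512a964be21128a45a311a8e47e01028241a110a8643de8f67c3ede0f27e3fd68b65e2fd60b25c2ecf07a3e1fcc0623219ca0522a15c844720114783f1c0ec48271008c28170804c0e0501 0x15203015a03016e03020203022203028202029a03 [] (by decide +kernel) <|
Fa.e 25 0 162 0x641229249a512a964be21128a45a311a8e47e01028241a110a8643de8f67c3ede0f27e3fd68b65e2fd60b25c2ecf07a3e1fcc0623219ca0522a15c844720114783f1c0ec48271008c28170804c0e0501 0x202000603000a03000c03000e03001003002e02003201003603003c01005a01006403006602006e01009202009601009c01009e0300f20200fc02013e02 [] (by decide +kernel) <|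
Fa.e 24 164 196 0x661329a4da713a9e4fdc8e6743adc0e2763bda8d66c36da0d26e37d88c66432d80c26633d48a6562bd40a2542ad28964e27d20924c26d08864623d00824422cf07a3e1fcc0623219ca0522a15c844720114783f1c0ec48271008c28170804c0e0501 0x28202 [] (by decide +kernel) <|
Fa.e 24 0 164 0x661329a4da713a9e4fdc8e6743adc0e2763bda8d66c36da0d26e37d88c66432d80c26633d48a6562bd40a2542ad28964e27d20924c26d08864623d00824422cf07a3e1fcc0623219ca0522a15c844720114783f1c0ec48271008c28170804c0e0501 0x202000601000803000c01000e01001001001801001a01001e01002e02003401003603003c01003e01004201004601004801004e01005001005201005401005603005a01005e01006201006602006c01007601007e01008a01009202009801009c01009e0300b40100b80100ba0300c20100c60100ca0100cc0300ce0100d40100dc0300e20100e60100e80100f20200fc02013e02 [] (by decide +kernel) <|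
Fa.e 23 165 195 0x641229249a512a964be21128a45a311a8e47e01028241a110a8643dc8e6743adc0e2763bda8d66c36da0d26e37d88c66432d80c26633d48a6562bd40a2542ad28964e27d20924c26d08864623d00824422cf07a3e1fcc0623219ca0522a15c844720114783f1c0ec48271008c28170804c0e0501 0x28202 [] (by decide +kernel) <|
Fa.e 23 0 165 0x641229249a512a964be21128a45a311a8e47e01028241a110a8643dc8e6743adc0e2763bda8d66c36da0d26e37d88c66432d80c26633d48a6562bd40a2542ad28964e27d20924c26d08864623d00824422cf07a3e1fcc0623219ca0522a15c844720114783f1c0ec48271008c28170804c0e0501 0x202000603000a01000c01000e01001001002e02003201003603003c01005a01006403006602006e01009202009601009c01009e0300f20200fc02013e02 [] (by decide +kernel) <|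
Fa.e 22 426 238 0x641229249a512a964be01028241a110a8643de8f67c3ede0f27e3fd88c66432d80c26633d48a6562bd40a2542ad08864623d00824422cf07a3e1fcd06a361bca0522a15c80422211c6837180cc48271008c28170804c0e0501 0x0 [] (by decide +kernel) <|
Fa.e 22 191 235 0x641229249a512a964be01028241a110a8643de8f67c3ede0f27e3fd88c66432d80c26633d48a6562bd40a2542ad08864623d00824422cf07a3e1fcd06a361bca0522a15c80422211c6837180cc48271008c28170804c0e0501 0x0 [] (by decide +kernel) <|
Fa.e 22 0 191 0x641229249a512a964be01028241a110a8643de8f67c3ede0f27e3fd88c66432d80c26633d48a6562bd40a2542ad08864623d00824422cf07a3e1fcd06a361bca0522a15c80422211c6837180cc48271008c28170804c0e0501 0x202000603000a02001003001203001603003602003803003e03004003007202007a03007e03008403008603008c03008e03009202009603 [] (by decide +kernel) <|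
Fa.e 21 154 198 0x621128a45a311a8e47e01028241a110a8643de8f67c3ede0f27e3fd88c66432d80c26633d48a6562bd40a2542ad08864623d00824422cf07a3e1fcd06a361bca0522a15c80422211c6837180cc48271008c28170804c0e0501 0x0 [] (by decide +kernel) <|
Fa.e 21 0 154 0x621128a45a311a8e47e01028241a110a8643de8f67c3ede0f27e3fd88c66432d80c26633d48a6562bd40a2542ad08864623d00824422cf07a3e1fcd06a361bca0522a15c80422211c6837180cc48271008c28170804c0e0501 0xe02001001001202001401001602001801001a02001c01002601002801002a01002c01002e03003001003602003c01003e02004203004801004e01005c01006201006401006603006a02007602008002009c0300b202 [] (by decide +kernel) <|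
Fa.e 20 0 263 0x5e8f67c3ede0f27e3fd88c66432d80c26633d48a6562bd40a2542ad08864623d00824422cf07a3e1fcd06a361bca0522a15c80422211c6837180cc48271008c28170804c0e0501 0x202000603000a02001003001203001603001a02002002002202002602002c02002e03003603003803004a03005003005402005603005a02005c03007602007802007e02008203008403 [] (by decide +kernel) <|
Fa.e 19 122 141 0x661329a4da713a9e4fe41229249a512a964be21128a45a311a8e47e01028241a110a8643de8f67c3ede0f27e3fd88c66432d80c26633d48a6562bd40a2542ad08864623d00824422cf07a3e1fcd06a361bca0522a15c80422211c6837180cc48271008c28170804c0e0501 0x0 [] (by decide +kernel) <|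
Fa.e 19 0 122 0x661329a4da713a9e4fe41229249a512a964be21128a45a311a8e47e01028241a110a8643de8f67c3ede0f27e3fd88c66432d80c26633d48a6562bd40a2542ad08864623d00824422cf07a3e1fcd06a361bca0522a15c80422211c6837180cc48271008c28170804c0e0501 0x202000a02002e03003803005603 [] (by decide +kernel) <|
Fa.e 18 253 299 0x641229249a512a964be01028241a110a8643de8f67c3ede0f27e3fdc8e6743adc0e2763bcf07a3e1fcd06a361bca0522a15c80422211c6837180cc48271008c28170804c0e0501 0x0 [] (by decide +kernel) <|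
Fa.e 18 0 253 0x641229249a512a964be01028241a110a8643de8f67c3ede0f27e3fdc8e6743adc0e2763bcf07a3e1fcd06a361bca0522a15c80422211c6837180cc48271008c28170804c0e0501 0x202000603000a02001003001203001603003602003803003e03004003007203007a03007e03008403008603008c03008e03009203009603 [] (by decide +kernel) <|
Fa.e 17 366 186 0x641229249a512a964be01028241a110a8643da8d66c36da0d26e37d88c66432d80c26633d68b65e2fd60b25c2ed48a6562bd40a2542ad28964e27d20924c26d08864623d00824422cf07a3e1fcd06a361bca0522a15c80422211c6837180cc48271008c28170804c0e0501 0x0 [] (by decide +kernel) <|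
Fa.e 17 167 199 0x641229249a512a964be01028241a110a8643da8d66c36da0d26e37d88c66432d80c26633d68b65e2fd60b25c2ed48a6562bd40a2542ad28964e27d20924c26d08864623d00824422cf07a3e1fcd06a361bca0522a15c80422211c6837180cc48271008c28170804c0e0501 0x0 [] (by decide +kernel) <|
Fa.e 17 0 167 0x641229249a512a964be01028241a110a8643da8d66c36da0d26e37d88c66432d80c26633d68b65e2fd60b25c2ed48a6562bd40a2542ad28964e27d20924c26d08864623d00824422cf07a3e1fcd06a361bca0522a15c80422211c6837180cc48271008c28170804c0e0501 0x202000602000a02001002001202001602003602003803003e02004002007a02007e02008403008603008c02008e02009602 [] (by decide +kernel) <|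
Fa.e 16 296 192 0x641229249a512a964be01028241a110a8643da8d66c36da0d26e37d88c66432d80c26633d28964e27d20924c26d08864623d00824422ce0723a1dcc0623219ca4552815c8447201146837180cc48271008c28170804c0e0501 0x32202032c02035003035802 [] (by decide +kernel) <|
Fa.e 16 138 158 0x641229249a512a964be01028241a110a8643da8d66c36da0d26e37d88c66432d80c26633d28964e27d20924c26d08864623d00824422ce0723a1dcc0623219ca4552815c8447201146837180cc48271008c28170804c0e0501 0x1a20201ac0201f00201f802020c03021402024403024c03 [] (by decide +kernel) <|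
Fa.e 16 0 138 0x641229249a512a964be01028241a110a8643da8d66c36da0d26e37d88c66432d80c26633d28964e27d20924c26d08864623d00824422ce0723a1dcc0623219ca4552815c8447201146837180cc48271008c28170804c0e0501 0x203000603000803000a02000c03000e03001003001202001603001803003a02004002004603004a03006603007603008a0300b60300be0300c00300c20300c80300e60200ea03 [] (by decide +kernel) <|
Fa.e 15 165 207 0x621128a45a311a8e47e01028241a110a8643de8f67c3ede0f27e3fdc8e6743adc0e2763bcf07a3e1fcd06a361bca0522a15c80422211c6837180cc48271008c2e15098440e0501 0x0 [] (by decide +kernel) <|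
Fa.e 15 0 165 0x621128a45a311a8e47e01028241a110a8643de8f67c3ede0f27e3fdc8e6743adc0e2763bcf07a3e1fcd06a361bca0522a15c80422211c6837180cc48271008c2e15098440e0501 0x603000a03000e02001001001202001401001602001801001a02001c01002601002801002a01002c01002e03003001003602003a03003c01003e02004203004801004e01005803005c01006201006401006603006a02007602008002009c0300b202 [] (by decide +kernel) <|
Fa.e 14 172 200 0x621128a45a311a8e47e01028241a110a8643da8d66c36da0d26e37d88c66432d80c26633d68b65e2fd60b25c2ed48a6562bd40a2542ad28964e27d20924c26d08864623d00824422cf07a3e1fcd06a361bca0522a15c80422211c6837180cc48271008c2e15098440e0501 0x0 [] (by decide +kernel) <|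
Fa.e 14 0 172 0x621128a45a311a8e47e01028241a110a8643da8d66c36da0d26e37d88c66432d80c26633d68b65e2fd60b25c2ed48a6562bd40a2542ad28964e27d20924c26d08864623d00824422cf07a3e1fcd06a361bca0522a15c80422211c6837180cc48271008c2e15098440e0501 0xe02001001001202001401001602001801001a01001c01002601002801002a01002c01002e03003001003602003a02003c01003e02004203004801004e01005c01006201006401006600006a02007602008002009c0300b202 [(50,⟨255,0x8f00005000003e0000180000090000040000020000010000000001,0x18f2c8dc32090200802⟩)] (by decide +kernel) <|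
Fa.e 13 0 276 0x5e8f67c3ede0f27e3fdc8e6743adc0e2763bcf07a3e1fcd06a361bca0522a15c80422211c6837180cc48271008c2e15098440e0501 0x202000603000a02001003001203001603001a02002002002202002602002c02002e03003203003603003803004a03005003005402005603005a02005c03007602007802007e02008203008403 [] (by decide +kernel) <|
Fa.e 12 126 150 0x661329a4da713a9e4fe41229249a512a964be21128a45a311a8e47e01028241a110a8643de8f67c3ede0f27e3fdc8e6743adc0e2763bcf07a3e1fcd06a361bca0522a15c80422211c6837180cc48271008c2e15098440e0501 0x0 [] (by decide +kernel) <|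
Fa.e 12 0 126 0x661329a4da713a9e4fe41229249a512a964be21128a45a311a8e47e01028241a110a8643de8f67c3ede0f27e3fdc8e6743adc0e2763bcf07a3e1fcd06a361bca0522a15c80422211c6837180cc48271008c2e15098440e0501 0x202000603000a02001602002e03003203003602003803005603 [] (by decide +kernel) <|
Fa.e 11 125 151 0x5a8d66c36da0d26e37d88c66432d80c26633d68b65e2fd60b25c2ed48a6562bd40a2542ad28964e27d20924c26d08864623d00824422cf07a3e1fcd06a361bca0522a15c80422211c6837180cc48271008c2e15098440e0501 0x0 [] (by decide +kernel) <|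
Fa.e 11 0 125 0x5a8d66c36da0d26e37d88c66432d80c26633d68b65e2fd60b25c2ed48a6562bd40a2542ad28964e27d20924c26d08864623d00824422cf07a3e1fcd06a361bca0522a15c80422211c6837180cc48271008c2e15098440e0501 0x202000602000a02001002001202001602001a03002003002203002603002c03002e02003203003602003802004a02005002005403005602005a03005c03007603007803007e03008203008403 [] (by decide +kernel) <|
Fa.e 10 127 149 0x661329a4da713a9e4fe41229249a512a964be21128a45a311a8e47e01028241a110a8643da8d66c36da0d26e37d88c66432d80c26633d68b65e2fd60b25c2ed48a6562bd40a2542ad28964e27d20924c26d08864623d00824422cf07a3e1fcd06a361bca0522a15c80422211c6837180cc48271008c2e15098440e0501 0x0 [] (by decide +kernel) <|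
Fa.e 10 0 127 0x661329a4da713a9e4fe41229249a512a964be21128a45a311a8e47e01028241a110a8643da8d66c36da0d26e37d88c66432d80c26633d68b65e2fd60b25c2ed48a6562bd40a2542ad28964e27d20924c26d08864623d00824422cf07a3e1fcd06a361bca0522a15c80422211c6837180cc48271008c2e15098440e0501 0x202000a02002e02003202003803005603 [] (by decide +kernel) <|
Fa.e 9 150 190 0x621128a45a311a8e47e01028241a110a8643da8d66c36da0d26e37d88c66432d80c26633d28964e27d20924c26d08864623d00824422ce0723a1dcc0623219ca457281548447201146837180cc48271008c2e15098440e0501 0x16002017003017802018c02022202024602024c03025a02 [] (by decide +kernel) <|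
Fa.e 9 0 150 0x621128a45a311a8e47e01028241a110a8643da8d66c36da0d26e37d88c66432d80c26633d28964e27d20924c26d08864623d00824422ce0723a1dcc0623219ca457281548447201146837180cc48271008c2e15098440e0501 0x203000603000a02000e03001203001602001803001c03002003003203003e02005003005c03006002006603007603007c03009e0200b603011202011c02 [] (by decide +kernel) <|
Fa.e 8 103 139 0x5a8d66c36da0d26e37d88c66432d80c26633d28964e27d20924c26d08864623d00824422ce0723a1dcc0623219ca457281548447201146837180cc48271008c2e15098440e0501 0x10202011203011a03012a0301b20201c002 [] (by decide +kernel) <|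
Fa.e 8 0 103 0x5a8d66c36da0d26e37d88c66432d80c26633d28964e27d20924c26d08864623d00824422ce0723a1dcc0623219ca457281548447201146837180cc48271008c2e15098440e0501 0x202000403000603001203001402001a03001e01002001002201002401002601002801002a02002e01003001003201003401003801003a01003e01004201004601004a01004c01004e01005403005601006002006201006401006801006a01006e02007001007401007602007a03007c01008001008201008401008c01009402009801009a02009c0100a20300a60300ac0100ae0100b00300b20100b60300bc0100be0300c20200cc02 [] (by decide +kernel) <|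
Fa.e 7 108 134 0x661329a4da713a9e4fe41229249a512a964be21128a45a311a8e47e01028241a110a8643da8d66c36da0d26e37d88c66432d80c26633d28964e27d20924c26d08864623d00824422ce0723a1dcc0623219ca457281548447201146837180cc48271008c2e15098440e0501 0x10202011203011a03012a0301b20201c003 [] (by decide +kernel) <|
Fa.e 7 0 108 0x661329a4da713a9e4fe41229249a512a964be21128a45a311a8e47e01028241a110a8643da8d66c36da0d26e37d88c66432d80c26633d28964e27d20924c26d08864623d00824422ce0723a1dcc0623219ca457281548447201146837180cc48271008c2e15098440e0501 0x200000602000801000e01001001001202001401003e01004201005402006001006201006e02008c01009a0100c20200cc02 [(0,⟨254,0x8b0000670001220000110000090000070000020000010000000001,0x18a3388822090380802⟩)] (by decide +kernel) <|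
Fa.e 6 142 172 0x621128a45a311a8e47e01028241a110a8643d68b65e2fd60b25c2ed48a6562bd40a2542ad28964e27d20924c26d08864623d00824422ce0723a1dcc0623219ca0522a15c80422211c6837180cc48271008c2e15098440e0501 0x0 [] (by decide +kernel) <|
Fa.e 6 0 142 0x621128a45a311a8e47e01028241a110a8643d68b65e2fd60b25c2ed48a6562bd40a2542ad28964e27d20924c26d08864623d00824422ce0723a1dcc0623219ca0522a15c80422211c6837180cc48271008c2e15098440e0501 0x203000603000a02000e03001403001602001803003602004202004803005003005202005803006603006c03 [] (by decide +kernel) <|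
Fa.e 5 0 205 0x621128a45a311a8e47e01028241a110a8643ce475381dcc4653019ca457281548447201146837180cc48271008c2e15098440e0501 0x203000603000803000a02000c02000e03001203001403001603001803002a02003602003c03004203004803004a02005003005202005602005803005a02006603006c03008202008403008603008a03008c03009c0300a40300a80300aa0300ac0200b20200b40300c20200cc0200ce0300d403010402010603010c03010e03011403012003014402014602014802015002015603016e02017003017403017e03019402019602 [] (by decide +kernel) <|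
Fa.e 4 85 120 0x621128a45a311a8e47e01028241a110a8643de8f67c3ede0f27e3fdc8e6743adc0e2763bda8d66c36da0d26e37d88c66432d80c26633d68b65e2fd60b25c2ed48a6562bd40a2542ad28964e27d20924c26d08864623d00824422ce475381dcc4653019ca457281548447201146837180cc48271008c2e15098440e0501 0xc20000cc00010400015000016e00 [(182,⟨252,0x8900015200002900011b0001090000050001020000010000000001,0x1882c0a034090280802⟩),(167,⟨248,0x840001290000500000190000090001020000040000000001010000,0x2829c12030088101001⟩),(129,⟨251,0x8900015200002900011b0001090000050001020000010000000001,0x1882c0a034090280802⟩),(101,⟨253,0x8600005000013000011100000b0000040000030001010000000001,0x186288c4220a0200c02⟩),(96,⟨246,0x840001290000500000190000090001020000040000000001010000,0x2829c12030088101001⟩)] (by decide +kernel) <|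
Fa.e 4 0 85 0x621128a45a311a8e47e01028241a110a8643de8f67c3ede0f27e3fdc8e6743adc0e2763bda8d66c36da0d26e37d88c66432d80c26633d68b65e2fd60b25c2ed48a6562bd40a2542ad28964e27d20924c26d08864623d00824422ce475381dcc4653019ca457281548447201146837180cc48271008c2e15098440e0501 0x203000601000a02000e03001401001803003602004803005003005202005802006602006c03 [] (by decide +kernel) <|
Fa.e 3 0 125 0x568b65e2fd60b25c2ed48a6562bd40a2542ad28964e27d20924c26d08864623d00824422ce0723a1dcc0623219ca0522a15c80422211c6e35198c44e25118842e15098440e0501 0x202000403000802000c03000e02001002001601001801001a01001c01002201002401002601002802002a01002e01003002003402003a03003c02003e03004201004403 [] (by decide +kernel) <|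
Fa.e 2 0 125 0x661329a4da713a9e4fe41229249a512a964be21128a45a311a8e47e01028241a110a8643d68b65e2fd60b25c2ed48a6562bd40a2542ad28964e27d20924c26d08864623d00824422ce0723a1dcc0623219ca0522a15c80422211c6e35198c44e25118842e15098440e0501 0x200000601000802000c02000e01001002002802002a01003002 [(0,⟨250,0x9e00004500012b0001180000090000040001020001010000000001,0x197220a832090200802⟩)] (by decide +kernel) <|
Fa.e 1 0 80 0x4e477381d4c46730194a457281548447201146e35198c44e25118842e15098440e0501 0x202000403000603000803000a02000c03000e02001003001203001601001801001a01001c01001e02002201002401002601002803002a01002c02002e01003002003402003a03003c02003e03004002004201004403004802005002005203005803007203008603008802008e02009202009e02 [] (by decide +kernel) <|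
Fa.e 0 0 80 0x661329a4da713a9e4fe41229249a512a964be21128a45a311a8e47e01028241a110a8643ce477381d4c46730194a457281548447201146e35198c44e25118842e15098440e0501 0x200000603000803000a02000c03000e01001003001202001e03002803002a01002c02003002003a03003c02004003004802005002005203005803007203008602008802008e02009202009e03 [(0,⟨249,0x830000410000380000080000110000040001020000010000000001,0x183208e412100200802⟩)] (by decide +kernel) <|
Fa.c0) (by decide +kernel)

end Cfsg.Agent.FS.N.Sw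
end

-- part: FS/N/Sw/D/D61
section
/-! The filter on the pairs for the order 512, part 61 (generated; helper52, project FS) -/

set_option autoImplicit false
set_option maxRecDepth 100000
set_option Elab.async false

namespace Cfsg.Agent.FS.N.Sw

open G

theorem d9_619 : Dn 8 S9 b8_619 := Fa.dn (
Fa.e 63 0 48 0x5a0d26a359b0da6e37d80c26231990ca6633d28964e27d08864623c703a1e0fc60321a0dc502a160bc40221209c361909844160901 0x0 [] (by decide +kernel) <|
Fa.e 62 0 48 0x560b25a2d970ba5e2fd40a25229950aa562bd249b48265048b40224703a1e0fc60321a0dc502a160bc40221209c361909844160901 0x400000a02000e00001202001800001e02002200002602 [(16,⟨1113,0x408004c000520047800040000400006000000080800,0x280a60a23c080200a01⟩),(11,⟨1109,0x448004c0005e0007c00040010400204000000080800,0x288a60b83c080200801⟩),(6,⟨1111,0x408004c000520047800040000400006000000080800,0x280a60a23c080200a01⟩),(1,⟨1105,0x448004c0005e0007c00040010400204000000080800,0x288a60b83c080200801⟩)]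 (by decide +kernel) <|
Fa.e 61 0 48 0x5a0d26a359b0da6e37d80c26231990ca6633d28964e27d08864623c703a1e0fc60321a0dc502a160bc40221209c361909844160901 0x202000801001601001c01 [] (by decide +kernel) <|
Fa.e 60 0 48 0x560b25a2d970ba5e2fd40a25229950aa562bd249b48265048b40224703a1e0fc60321a0dc502a160bc40221209c361909844160901 0x200000400000801000a02000e00001202001601001800001c01001e02002200002602 [(16,⟨1112,0x4680048000520044000840000400004000000080800,0x28ca40a220080200801⟩),(11,⟨1108,0x44800440025c0004400840010400206000000080800,0x288a20b821080200a01⟩),(6,⟨1110,0x4680048000520044000840000400004000000080800,0x28ca40a220080200801⟩),(1,⟨1104,0x44800440025c0004400840010400206000000080800,0x288a20b821080200a01⟩),(0,⟨1093,0x4680044002420004000840010400004000000080800,0x28ca208220080200801⟩)] (by decide +kernel) <|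
Fa.e 59 0 84 0x560b25a2d970ba5e2fd40a25229950aa562bd20924c26d00824422cb05a2e17ca0522a15c904a2613c80422211c703a1e0fc60321a0dc502a160bc40221209c361909844160901 0x200000801001601001c01 [(0,⟨1092,0x4280040002420004800840010400206000000080800,0x284a008224080200a01⟩)] (by decide +kernel) <|
Fa.e 58 0 32 0x528964e27d08864623cb05a2e17ca0522a15c904a2613c80422211c703a1e0fc60321a0dc502a160bc40221209c361909844160901 0x0 [] (by decide +kernel) <|
Fa.e 57 0 42 0x5a0d26a359b0da6e37d80c26231990ca6633d60b25a2d970ba5e2fd40a25229950aa562bd249b48265048b40224b05a2e17ca0522a15c904a2613c80422211c703a1e0fc60321a0dc502a160bc40221209c361909844160901 0x400000a00001602004200004a01 [(32,⟨1122,0xc500044001220011e0000c00104000020010100000001,0x1c12208c360c0200802⟩),(4,⟨1107,0x8a000450011d000230010900104001020000000101000,0x28a2244858088200801⟩),(1,⟨1103,0x80001440002c000100010800004000020000000101000,0x280220b020080200801⟩)] (by decide +kernel)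 <|
Fa.e 56 0 32 0x528964e27d08864623cb05a2e17ca0522a15c904a2613c80422211c703a1e0fc60321a0dc502a160bc40221209c361909844160901 0x202000801001401 [] (by decide +kernel) <|
Fa.e 55 0 65 0x5a0d26a359b0da6e37d80c26231990ca6633d60b25a2d970ba5e2fd40a25229950aa562bd249b48265048b40224b05a2e17ca0522a15c904a2613c80422211c703a1e0fc60321a0dc502a160bc40221209c361909844160901 0x200000400000801000a00001401001602004200004600004810004c18004e00005200006801006a01006e01007001007a01007c01 [(40,⟨1121,0x880014c0001e0002a0000800004000030010100100001,0x188260685c080200c02⟩),(38,⟨1119,0x880014c0001e0002a0000800004000030010100100001,0x188260685c080200c02⟩),(34,⟨1120,0x880014c0001e0002a0000800004000030010100100001,0x188260685c080200c02⟩),(32,⟨1118,0x880014c0001e0002a0000800004000030010100100001,0x188260685c080200c02⟩),(4,⟨1106,0x81001480001c000230010800004000020000000101000,0x280a404858080200801⟩),(1,⟨1102,0x8d0004400020000100010800004000020000000101000,0x28ca208020080200801⟩),(0,⟨1091,0x8d0004400120001100000800104000020000000101000,0x28ca208020080200801⟩)]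 (by decide +kernel) <|
Fa.e 54 0 98 0x5a0d26a359b0da6e37d80c26231990ca6633d60b25a2d970ba5e2fd40a25229950aa562bc904a2613c80422211c502a160bc40221209c180f0402c0e0501 0x0 [] (by decide +kernel) <|
Fa.e 53 0 104 0x528964e27d20924c26d08864623d00824422c904a2613c80422211c502a160bc40221209c180f0402c0e0501 0x0 [] (by decide +kernel) <|
Fa.e 52 0 156 0x5a0d26a359b0da6e37d80c26231990ca6633c904a2613c80422211c502a160bc442710094180f0402c0e0501 0xc20200c40200ca0300cc0200d20200d40200da0200dc0200e20200e40200ea0200ec0200f20200f60300fa0300fe02010202010602 [] (by decide +kernel) <|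
Fa.e 51 0 156 0x560b25a2d970ba5e2fd40a25229950aa562bd28964e27d20924c26d08864623d00824422c904a2613c80422211c502a160bc442710094180f0402c0e0501 0xc20200d20200da0200ea0200f20200fe02 [] (by decide +kernel) <|
Fa.e 50 0 104 0x4904a2613c844720114502a160bc442710094180f0402c0e0501 0x7a02007c02007e02008002008202008402008602008802008a02008c02008e0200900200960200a00200a20300a40200a603 [] (by decide +kernel) <|
Fa.e 49 0 122 0x5a0d26a359b0da6e37d80c26231990ca6633d60b25a2d970ba5e2fd40a25229950aa562bd28964e27d20924c26d08864623d00824422c904a2613c844720114502a160bc442710094180f0402c0e0501 0x9202009602009a02009e0200a20200a602 [] (by decide +kernel) <|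
Fa.e 48 0 124 0x5a0d26a359b0da6e37d60b25a2d970ba5e2fd08864623d00824422c381f0c06c28170804c180f0402c0e0501 0x202000601000802000a01000c01001001001201001401001801001c01001e01002002002201002401002601002801002a01002c01002e01003001003201003401003c01003e01004601004801004a02004e01005002005201005401005801005a01005c01006001006401006601006802006a01006c01006e01007001007201007401007601007801007a01007c01008401008601008e01009001 [] (by decide +kernel) <|
Fa.e 47 0 208 0x5a0d26a359b0da6e37d40a25229950aa562bd08864623d00824422c703a1e0fc60321a0dc502a160bc442710094381f0c06c28170804c180f0402c0e0501 0x200000601000801000a02000c01000e01001201001401001601001a01001e01002001002200002401002601002801002a04002c01002e01003001003201003401003601003801003a01003c01003e01004001004601004801004c01004e01005201005401005a01006001006401006601006801006c01006e01007001007201007401007801007a01007c01008001008202008601008801008a04008c01008e01009201009401009601009a01009e0100a00100a20200a40100a60100a80100aa0200ac0100ae0100b00100b20100b40100b60100b80100ba0100bc0100be0100c00100c60100c80100cc0100ce0100d20100d40100da0100e00100e40100e60100e80100ec0100ee0100f00100f20100f40100f80100fa0100fc01010001010202011202011a02012a02013202014a02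 [(16,⟨1090,0x4500040000540004800040000500204000040080800,0x38a200a824080280801⟩),(0,⟨1089,0x4380045000440004800048010500204000040080800,0x3862208824090280801⟩)] (by decide +kernel) <|
Fa.e 46 0 214 0x580c26231990ca6633d40a25229950aa562bd08864623d00824422cb05a2e17ca0522a15c904a2613c844720114703a1e0fc60321a0dc502a160bc442710094381f0c06c28170804c180f0402c0e0501 0x200000600000800002a00002e00003401003801004804005401005a01006001006801007001007202007602007c01008001009004009c0100a20100a80100b00100b80100ba00010a02010e02011202011602011a02011e02014a01014c01014e01015001015401015801015a01018a01019201019801019a0101a00101a60101ac01 [(92,⟨1117,0x870014500122000120000900005000020000100100001,0x1862208824090280802⟩),(22,⟨1088,0x880014600018000200000800004001020000100101000,0x3882304050080200801⟩),(20,⟨1087,0x870004500022000120000900105001020000100101000,0x3862208824090280801⟩),(3,⟨1116,0x8e0004200012000200000900105001020000100000001,0x18e2104044090280802⟩),(2,⟨1115,0x8e0004200012000200000900105001020000100000001,0x18e2104044090280802⟩),(0,⟨1114,0x870014500122000120000900105001020000100100001,0x1862208824090280802⟩)]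 (by decide +kernel) <|
Fa.e 45 0 66 0x5a0d26a359b0da6e37d80c26231990ca6633d60b25a2d970ba5e2fd40a25229950aa562bcb05a2e17c80422211c703a1e0fc40221209c3e1d0d8640e0501 0x404000803000c03001003001803002003002403 [] (by decide +kernel) <|
Fa.e 44 0 66 0x528964e27d20924c26d08864623d00824422cb05a2e17c80422211c703a1e0fc40221209c3e1d0d8640e0501 0x404000803000c03001003001803002003002403 [] (by decide +kernel) <|
Fa.e 43 0 100 0x5a0d26a359b0da6e37d80c26231990ca6633d60b25a2d970ba5e2fd40a25229950aa562bcb05a2e17c80422211c703a1e0fc40221209c3e1d0d8640e0501 0x403000804000c03001003001403001807001c03002001002403002803002c03003003003403003801003c03004001 [] (by decide +kernel) <|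
Fa.e 42 0 100 0x528964e27d20924c26d08864623d00824422cb05a2e17c80422211c703a1e0fc40221209c3e1d0d8640e0501 0x403000802000c03001003001403001803001c03002001002403002803002c03003003003403003801003c03004001 [] (by decide +kernel) <|
Fa.e 41 0 66 0x5a0d26a359b0da6e37d80c26231990ca6633d60b25a2d970ba5e2fd40a25229950aa562bcb05a2e17c80422211c703a1e0fc40221209c3e1d0d8640e0501 0x403000803000c03001003001402001803001c01002003002403002801 [] (by decide +kernel) <|
Fa.e 40 0 66 0x528964e27d20924c26d08864623d00824422cb05a2e17c80422211c703a1e0fc40221209c3e1d0d8640e0501 0x403000803000c03001003001402001803001c01002003002403002801 [] (by decide +kernel) <|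
Fa.e 39 0 100 0x5a0d26a359b0da6e37d80c26231990ca6633cb05a2e17c80422211c703a1e0fc40221209c3e1d0d8640e0501 0x403000802000c03001003001403001803001c03002001002403002803002c03003003003403003801003c03004001 [] (by decide +kernel) <|
Fa.e 38 0 100 0x560b25a2d970ba5e2fd40a25229950aa562bd28964e27d20924c26d08864623d00824422cb05a2e17c80422211c703a1e0fc40221209c3e1d0d8640e0501 0x403000804000c03001003001403001807001c03002001002403002803002c03003003003403003801003c03004001 [] (by decide +kernel) <|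
Fa.e 37 0 100 0x5a0d26a359b0da6e37d80c26231990ca6633cb05a2e17c80422211c703a1e0fc40221209c3e1d0d8640e0501 0x403000803000c03001003001403001802001c03002001002403002803002c03003003003403003801003c03004001 [] (by decide +kernel) <|
Fa.e 36 0 100 0x560b25a2d970ba5e2fd40a25229950aa562bd28964e27d20924c26d08864623d00824422cb05a2e17c80422211c703a1e0fc40221209c3e1d0d8640e0501 0x403000803000c03001003001403001802001c03002001002403002803002c03003003003403003801003c03004001 [] (by decide +kernel) <|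
Fa.e 35 0 66 0x4b05a2e17c80422211c703a1e0fc40221209c3e1d0d8640e0501 0x403000803000c03001003001402001803001c01002003002403002801 [] (by decide +kernel) <|
Fa.e 34 0 66 0x5a0d26a359b0da6e37d80c26231990ca6633d60b25a2d970ba5e2fd40a25229950aa562bd28964e27d20924c26d08864623d00824422cb05a2e17c80422211c703a1e0fc40221209c3e1d0d8640e0501 0x403000803000c03001003001402001803001c01002003002403002801 [] (by decide +kernel) <|
Fa.e 33 0 100 0x5a0d26a359b0da6e37d80c26231990ca6633cb05a2e17c80422211c743f1c0f44427100943e1d0d8640e0501 0x402000803000c03001003001403001c03002403002803002c03003003003403003c03006218006803006e02007418007a02007e02008202008602008a02008e19009219009603009a02009e0200a20200a60200ac0200b40200bc0200c402 [] (by decide +kernel) <|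
Fa.e 32 0 100 0x560b25a2d970ba5e2fd40a25229950aa562bd28964e27d20924c26d08864623d00824422cb05a2e17c80422211c743f1c0f44427100943e1d0d8640e0501 0x400000803000c03001003001403001c03002403002803002c03003003003403003c03006202006e02007a00008200008a0200921b009a0200a202 [(64,⟨1113,0x4180148002440044c00840010400004000040000001,0x1832488826080200802⟩),(60,⟨1112,0x4280140000440007400848000500004004040000001,0x185200883a090280802⟩),(1,⟨1088,0x6280042002460004800068000400004000000080800,0x2c6a108a240c0200801⟩)] (by decide +kernel) <|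
Fa.e 31 0 100 0x5a0d26a359b0da6e37d80c26231990ca6633cb05a2e17c80422211c743f1c0f44427100943e1d0d8640e0501 0x403000803000c03001003001402001803001c03002001002403002803002c03003003003403003801003c03004001006218006819006e19007418007a18007e02008219008602008a18008e19009219009618009a18009e0200a21900a60200ac0200b40200bc0200c402 [] (by decide +kernel) <|
Fa.e 30 0 100 0x560b25a2d970ba5e2fd40a25229950aa562bd28964e27d20924c26d08864623d00824422cb05a2e17c80422211c743f1c0f44427100943e1d0d8640e0501 0x403000803000c03001003001400001807001c03002001002403002803002c03003003003403003801003c03004001006202006e02007a00008200008a1a00921b009a1a00a21b [(64,⟨1111,0x4180148002440044c00840010400004000040000001,0x1832488826080200802⟩),(60,⟨1110,0x4680148000580047400840000400004000040000001,0x18d248b03a080200802⟩),(9,⟨1089,0x6780041002520004800068010500004000000080800,0x2caa04b2240c8240801⟩)] (by decide +kernel) <|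
Fa.e 29 0 100 0x4b05a2e17c80422211c743f1c0f44427100943e1d0d8640e0501 0x403000803000c03001003001402001803001c03002001002403002803002c03003003003403003801003c03004001006218006819006e19007418007a18007e02008219008602008a18008e19009219009618009a18009e1900a21900a61800ac0200b40200bc0200c402 [] (by decide +kernel) <|
Fa.e 28 0 100 0x5a0d26a359b0da6e37d80c26231990ca6633d60b25a2d970ba5e2fd40a25229950aa562bd28964e27d20924c26d08864623d00824422cb05a2e17c80422211c743f1c0f44427100943e1d0d8640e0501 0x403000803000c03001003001400001803001c03002001002403002803002c03003003003403003801003c03004001006200006e00007a00008200008a02009202009a1a00a21b [(64,⟨1109,0x4180148002440044c00840010400004000040000001,0x1832488826080200802⟩),(60,⟨1108,0x4480149000440047c00848000500004000040000001,0x189248883e090280802⟩),(54,⟨1107,0x4180148002440044c00840010400004000040000001,0x1832488826080200802⟩),(48,⟨1106,0x4480149000440047c00848000500004000040000001,0x189248883e090280802⟩),(9,⟨1090,0x6100041002560044800068010500204000000080800,0x2c2a04ba240c8240801⟩)]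 (by decide +kernel) <|
Fa.e 27 0 66 0x4b45f2c174844720114743f1c0f44427100943e1d0d8640e0501 0x402000803000c03001003001803002003002403003e18004202004402004818004a02004e18005018005402005802005e02006202006403006602006819007002007402007802007c02 [] (by decide +kernel) <|
Fa.e 26 0 111 0x5a0d26a359b0da6e37d80c26231990ca6633d60b25a2d970ba5e2fd40a25229950aa562bd28964e27d20924c26d08864623d00824422cb45f2c174844720114743f1c0f44427100943e1d0d8640e0501 0x200000600000802000c1a000e00001200001402001802003200003800004404006001006601007200008401008c0000900200940200980200a00200a80400ac02 [(69,⟨1087,0xca0014700123001120000d00105000020000000101001,0x2c8a348a240c8240801⟩),(56,⟨1101,0x830014800122000120010800104001020000100000001,0x1832488824080200802⟩),(27,⟨1100,0x8f00043000100002d0000800004000020000100000001,0x18f2187440080200802⟩),(24,⟨1099,0x830014800022000120010800104001020000100000001,0x1832488824080200802⟩),(8,⟨1105,0x810014400012001210010800004000020000100000001,0x1812284444080200802⟩),(6,⟨1103,0x830014800122001130010800104000020000100000001,0x1832488826080200802⟩),(2,⟨1104,0x810014400012001210010800004000020000100000001,0x1812284444080200802⟩),(0,⟨1102,0x810014400012001210010800004000020000100000001,0x1812284444080200802⟩)]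 (by decide +kernel) <|
Fa.e 25 0 224 0x580c26231990ca6633d40a25229950aa562bd08864623d00824422ca0522a15c80422211c60321a0dc40221209c28170804c0e0501 0x12201012601012a01012e01014201014601014a01015a01015e01016a01017601017e0101960101ae01 [] (by decide +kernel) <|
Fa.e 24 0 384 0x580c26231990ca6633d40a25229950aa562bd08864623d00824422ca0522a15c80422211c60321a0dc44271009428170804c0e0501 0x20300220300420300620300820300a20300c20300e203020202020601020a01020e01021202022202022601022a01022e01023202024202024601024a01024e01025202026202026601026a01026e01027202028202028601028e0102920202a20302aa0102b20202c20302c60102ce0102d20302e20302ea0102f202 [] (by decide +kernel) <|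
Fa.e 23 0 224 0x580c26231990ca6633d40a25229950aa562bd08864623d00824422ca0522a15c84472011460321a0dc44271009428170804c0e0501 0x200000600000a00000e00001203001603001a03001e03012200012600012a00012e00013202013602013a02013e02014201014601014a01015a01015e01016a01017200017600017a00017e00018202018602018a03018e0201960101ae01 [(190,⟨1098,0x4000045000220048800840000400204000040000001,0x1802204842080200802⟩),(188,⟨1096,0x4000045000220048800840000400204000040000001,0x1802204842080200802⟩),(186,⟨1097,0x4000045000220048800840000400204000040000001,0x1802204842080200802⟩),(184,⟨1095,0x4000045000220048800840000400204000040000001,0x1802204842080200802⟩),(150,⟨1094,0x4000145000220048800840000400004000040000001,0x1802204842080200802⟩),(148,⟨1092,0x4000145000220048800840000400004000040000001,0x1802204842080200802⟩),(146,⟨1093,0x4000145000220048800840000400004000040000001,0x1802204842080200802⟩),(144,⟨1091,0x4000145000220048800840000400004000040000001,0x1802204842080200802⟩),(6,⟨1090,0x4480146000220008800040000500204000040000001,0x1892304842080280802⟩),(4,⟨1088,0x4480146000220008800040000500204000040000001,0x1892304842080280802⟩),(2,⟨1089,0x4480146000220008800040000500204000040000001,0x1892304842080280802⟩),(0,⟨1087,0x4300144002460004800048000500004000040000001,0x1862208c24090280802⟩)]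 (by decide +kernel) <|
Fa.e 22 0 32 0x44826160bc4022140ac180f05824080701 0x0 [] (by decide +kernel) <|
Fa.e 21 0 32 0x5e0f27a3d9f0fa7e3fdc0e272399d0ea763bd20924a259309a4e27d008242219108a4623c4826160bc4022140ac180f05824080701 0x0 [] (by decide +kernel) <|
Fa.e 20 0 48 0x520924a259309a4e27d008242219108a4623c4826160bc4022140ac180f05824080701 0x0 [] (by decide +kernel) <|
Fa.e 19 0 120 0x520924a259309a4e27d008242219108a4623c4826160bc442b100a4180f05824080701 0x0 [] (by decide +kernel) <|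
Fa.e 18 0 92 0x44826160bc442b100a4180f05824080701 0x0 [] (by decide +kernel) <|
Fa.e 17 0 92 0x5e0f27a3d9f0fa7e3fdc0e272399d0ea763bd20924a259309a4e27d008242219108a4623c4826160bc442b100a4180f05824080701 0x0 [] (by decide +kernel) <|
Fa.e 16 0 72 0x5e0f27a3d9f0fa7e3fd008242219108a4623c68361e0fc4022140ac381f0a05c160901 0x1003002003003003004003004608004a03005008005a08005e03006408007003008003008a0b008e0b [] (by decide +kernel) <|
Fa.e 15 0 112 0x5c0e272399d0ea763bd008242219108a4623c68361e0fc442b100a4381f0a05c160901 0x1001001403002001003403003801004001004801005001005801005c0100600b006401007001007801007c0a00a00100b40100bc0100c40100c80800cc0100d409 [] (by decide +kernel) <|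
Fa.e 14 0 112 0x5c0e272399d0ea763bd008242219108a4623c68361e0fc442b100a4381f0a05c160901 0x1008001403002008003403003801004001004801005001005801005c0b00600b006401007001007801007c0a00a00800b40100bc0100c40100c80800cc0100d409 [] (by decide +kernel) <|
Fa.e 13 0 40 0x5c0e272399d0ea763bd008242219108a4623c381f0c06c28170804c180f05824080701 0xc0100100100140100180100240a00260a002c0100300100360a00380a004001004401004a0b00500b [] (by decide +kernel) <|
Fa.e 12 0 112 0x5e0f27a3d9f0fa7e3fd008242219108a4623c381f0c06c28170804c180f05824080701 0xc01001001001c01002001003401003801003c01004001004401004801004c01005001005401005801005c01006001006401006601006c0100700100740100780100a00100a60100b40100b60100bc0100be0100c40100c60100cc0100ce01 [] (by decide +kernel) <|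
Fa.e 11 0 40 0x5e0f27a3d9f0fa7e3fd008242219108a4623c68361e0fc60321c0ec4826160bc4022140ac381f0c06c28170804c180f05824080701 0x409000801000c01001001001401001801001c09002001002c01003001003a0800400100420100460a [] (by decide +kernel) <|
Fa.e 10 0 192 0x5c0e272399d0ea763bd008242219108a4623c68361e0fc6439180ec4826160bc442b100a4381f0c06c28170804c180f05824080701 0x208000408000801000a08001008001208001801001a09001c01002008002208002801002c08002e08003009003401003609003a08004008004401004608004c01004e08005401005801005c01006001006401006801006c01007001007401007801007c01008001008201008a0100ac0100b80100ca0100cc0100d00100d20100d40100d80100dc0100e00100e40100e80100ec0100f00100f40100f80100fc01010001010601012201012401012801012c01013001013208013601013a09013e08014208014601014a09014e08015208015601015a09015e08016201016609016a08016e09017201017609017a01017e08 [] (by decide +kernel) <|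
Fa.e 9 0 28 0x460321c0ec4022140ac361909844160901 0x203000601000a03000e01001203001601001a03001e02 [] (by decide +kernel) <|
Fa.e 8 0 28 0x5e0f27a3d9f0fa7e3fdc0e272399d0ea763bd20924a259309a4e27d008242219108a4623c60321c0ec4022140ac361909844160901 0x203000601000a03000e01001203001601001a03001e02 [] (by decide +kernel) <|
Fa.e 7 0 48 0x520924a259309a4e27d008242219108a4623c60321c0ec4022140ac361909844160901 0x203000608000a03000e01001203001608001a03001e03002203002609002a03002e01003203003609003a03003e03 [] (by decide +kernel) <|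
Fa.e 6 0 30 0x520924a259309a4e27d008242219108a4623c60321c0ec4022140ac361909844160901 0x203000a0b001203001a03002203 [] (by decide +kernel) <|
Fa.e 5 0 30 0x520924a259309a4e27d008242219108a4623c60321c0ec4022140ac361909844160901 0x203000a08001203001a03002203 [] (by decide +kernel) <|
Fa.e 4 0 25 0x460321c0ec4022140ac361909844160901 0x20b000a0800120b001a0a00220a [] (by decide +kernel) <|
Fa.e 3 0 25 0x5e0f27a3d9f0fa7e3fdc0e272399d0ea763bd20924a259309a4e27d008242219108a4623c60321c0ec4022140ac361909844160901 0x208000a0b001208001a09002209 [] (by decide +kernel) <|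
Fa.e 2 0 25 0x460321c0ec4022140ac361909844160901 0x20b000a0900120b001a0a00220a [] (by decide +kernel) <|
Fa.e 1 0 25 0x5e0f27a3d9f0fa7e3fdc0e272399d0ea763bd20924a259309a4e27d008242219108a4623c60321c0ec4022140ac361909844160901 0x208000a0a001208001a09002209 [] (by decide +kernel) <|
Fa.e 0 0 30 0x520924a259309a4e27d008242219108a4623c643b180e4442b100a4361909844160901 0x203000a08001203001a03002203 [] (by decide +kernel) <|
Fa.c0) (by decide +kernel)

theorem d9_620 : Dn 8 S9 b8_620 := Fa.dn (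
Fa.e 63 0 30 0x43e1d0b854160901 0x40b000809000c0b00100b001409001808001c0800200b002409002808 [] (by decide +kernel) <|
Fa.e 62 0 30 0x5309a4e27d20924a25d108a4623d00824221c3e1d0b854160901 0x40800080a000c0b00100800140a00180b001c0b00200800240a00280b [] (by decide +kernel) <|
Fa.e 61 0 30 0x43e1d0b854160901 0x40b00080a000c0b00100b00140a00180b001c0b00200b00240a00280b [] (by decide +kernel) <|
Fa.e 60 0 30 0x5309a4e27d20924a25d108a4623d00824221c3e1d0b854160901 0x40800080a000c0b00100800140a00180b001c0b00200800240a00280b [] (by decide +kernel) <|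
Fa.e 59 0 15 0x43e1d0b854160901 0x40800080a000c0300100a00140b [] (by decide +kernel) <|
Fa.e 58 0 33 0x5309a4e27d20924a25d108a4623d00824221c3e1d0b854160901 0x208000608000808000c08000e09001c08002008002608002a0b002e0800320b00360a [] (by decide +kernel) <|
Fa.e 57 0 144 0x5108a4623d00824221c301b0804c160901 0x0 [] (by decide +kernel) <|
Fa.e 56 0 60 0x5108a4623d00824221c301b0804c160901 0x0 [] (by decide +kernel) <|
Fa.e 55 0 56 0x488462613c80422412c4826160bc4022140ac180f05824080701 0x0 [] (by decide +kernel) <|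
Fa.e 54 0 60 0x5e0f27a3d9f0fa7e3fdc0e272399d0ea763bc88462613c80422412c4826160bc4022140ac180f05824080701 0x0 [] (by decide +kernel) <|
Fa.e 53 0 96 0x5e0f27a3d9f0fa7e3fdc0e272399d0ea763bc88462613c80422412c4826160bc4429100ac180f05824080701 0x0 [] (by decide +kernel) <|
Fa.e 52 0 96 0x488462613c80422412c4826160bc442b100a4180f05824080701 0x0 [] (by decide +kernel) <|
Fa.e 51 0 60 0x488462613c84492012c4826160bc4429100ac180f05824080701 0x0 [] (by decide +kernel) <|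
Fa.e 50 0 72 0x5e0f27a3d9f0fa7e3fdc0e272399d0ea763bc88462613c844b201244826160bc442b100a4180f05824080701 0x0 [] (by decide +kernel) <|
Fa.e 49 0 72 0x5c0e272399d0ea763bc381f0c06c28170804c180f05824080701 0x202000601000802000c01000e02001001001201001602001801001a01001e01002001002201002601002801002a01002e01003201003401003601003a01003c01003e02004001004201004401004602004801004a01004c01004e01005001005201005401005601005801005a01005c01005e01006001006201006401006601006801007401007601007c01007e01008801008a01008e01009001 [] (by decide +kernel) <|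
Fa.e 48 0 128 0x5e0f27a3d9f0fa7e3fc68361e0fc60321c0ec4826160bc442b100a4381f0c06c28170804c180f05824080701 0x208000601000801000a0b000e0100100100120a001401001601001a0b001c01001e01002201002401002601002a01002c01002e01003201003601003801003a01003e01004001004208004401004601004801004a0b004c01004e01005001005202005401005601005801005a0b005c01005e01006001006201006401006601006801006a01006c01006e01007001007201007401007601007801007a01007c01007e01008001008601008801008e01009001009401009601009c01009e0100a20100a40100aa0100ac0100b20100b80100ba0100c00100c40100c60100c80100cc0100ce0100d00100d40100d60100d80100dc0100de0100e00100e20100e40100e80100ea0100ec0100f00100f20100f40100f80100fa0100fc01010001 [] (by decide +kernel) <|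
Fa.e 47 0 132 0x5c0e272399d0ea763bca8562e17ca0522c16c88462613c844b2012468361e0fc60321c0ec4826160bc442b100a4381f0c06c28170804c180f05824080701 0x208000e08001e09002a08002e0b003208003801003a0b004001004401004801006608006e09007a01008201008801008e0100940100980100a00100a80100b60100b80100ba0800d20100f201 [] (by decide +kernel) <|
Fa.e 46 0 30 0x4a8562e17c80422412c68361e0fc4022140ac3e1d0b854160901 0x40a00080300100a001403002203002e0a003203 [] (by decide +kernel) <|
Fa.e 45 0 30 0x5e0f27a3d9f0fa7e3fdc0e272399d0ea763bca8562e17c80422412c68361e0fc4022140ac3e1d0b854160901 0x40800080300100b001403002203002e03003203 [] (by decide +kernel) <|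
Fa.e 44 0 48 0x4a8562e17c80422412c68361e0fc4022140ac3e1d0b854160901 0x403000808001003001403001c03002003002803002c01003403003803004003004403004c03005001005803005c01 [] (by decide +kernel) <|
Fa.e 43 0 48 0x5e0f27a3d9f0fa7e3fdc0e272399d0ea763bca8562e17c80422412c68361e0fc4022140ac3e1d0b854160901 0x40300080a001003001403001c03002003002803002c01003403003803004003004403004c03005001005803005c01 [] (by decide +kernel) <|
Fa.e 42 0 30 0x4a8562e17c80422412c68361e0fc4022140ac3e1d0b854160901 0x403000803001003001403001c02002203002601002e03003203003a01 [] (by decide +kernel) <|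
Fa.e 41 0 30 0x5e0f27a3d9f0fa7e3fdc0e272399d0ea763bca8562e17c80422412c68361e0fc4022140ac3e1d0b854160901 0x403000803001003001403001c02002203002601002e03003203003a01 [] (by decide +kernel) <|
Fa.e 40 0 48 0x5e0f27a3d9f0fa7e3fdc0e272399d0ea763bca8562e17c80422412c68361e0fc4022140ac3e1d0b854160901 0x403000808001003001403001c03002003002803002c01003403003803004003004403004c03005001005803005c01 [] (by decide +kernel) <|
Fa.e 39 0 48 0x4a8562e17c80422412c68361e0fc4022140ac3e1d0b854160901 0x403000802001003001403001c03002003002803002c01003403003803004003004403004c03005001005803005c01 [] (by decide +kernel) <|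
Fa.e 38 0 48 0x5e0f27a3d9f0fa7e3fdc0e272399d0ea763bca8562e17c80422412c68361e0fc4022140ac3e1d0b854160901 0x403000803001003001403001c03002002002803002c01003403003803004003004403004c03005001005803005c01 [] (by decide +kernel) <|
Fa.e 37 0 48 0x4a8562e17c80422412c68361e0fc4022140ac3e1d0b854160901 0x403000803001003001403001c03002002002803002c01003403003803004003004403004c03005001005803005c01 [] (by decide +kernel) <|
Fa.e 36 0 30 0x4a8562e17c80422412c68361e0fc4022140ac3e1d0b854160901 0x403000803001003001403001c02002203002601002e03003203003a01 [] (by decide +kernel) <|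
Fa.e 35 0 30 0x5e0f27a3d9f0fa7e3fdc0e272399d0ea763bca8562e17c80422412c68361e0fc4022140ac3e1d0b854160901 0x403000803001003001403001c02002203002601002e03003203003a01 [] (by decide +kernel) <|
Fa.e 34 0 48 0x5e0f27a3d9f0fa7e3fdc0e272399d0ea763bca8562e17c80422412c6c3d1a0fc4429100ac3e1d0b854160901 0x408000803001009001403001c03002803003409003803004003004403004c03005803 [] (by decide +kernel) <|
Fa.e 33 0 48 0x4a8562e17c80422412c6c3f1a0f4442b100a43e1d0b854160901 0x408000803001008001403001c03002803003408003803004008004403004c03005803 [] (by decide +kernel) <|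
Fa.e 32 0 48 0x5e0f27a3d9f0fa7e3fdc0e272399d0ea763bca8562e17c80422412c6c3d1a0fc4429100ac3e1d0b854160901 0x403000803001003001403001c08002003002803002c01003403003803004003004403004c03005001005803005c01 [] (by decide +kernel) <|
Fa.e 31 0 48 0x4a8562e17c80422412c6c3f1a0f4442b100a43e1d0b854160901 0x403000803001003001403001c08002003002803002c01003403003803004003004403004c03005001005803005c01 [] (by decide +kernel) <|
Fa.e 30 0 48 0x4a8562e17c80422412c6c3d1a0fc4429100ac3e1d0b854160901 0x403000803001003001403001c08002009002803002c01003403003803004003004403004c03005001005803005c01 [] (by decide +kernel) <|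
Fa.e 29 0 48 0x5e0f27a3d9f0fa7e3fdc0e272399d0ea763bca8562e17c80422412c6c3f1a0f4442b100a43e1d0b854160901 0x403000803001003001403001c0800200b002803002c01003403003803004003004403004c03005001005803005c01 [] (by decide +kernel) <|
Fa.e 28 0 30 0x4ac5d2a17c84492012c6c3d1a0fc4429100ac3e1d0b854160901 0x408000803001009001403002203002e03003203 [] (by decide +kernel) <|
Fa.e 27 0 62 0x5e0f27a3d9f0fa7e3fdc0e272399d0ea763bcac5f2a174844b201246c3f1a0f4442b100a43e1d0b854160901 0x4208004602004e08005202006002006c08007002 [] (by decide +kernel) <|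
Fa.e 26 0 144 0x5c0e272399d0ea763bca0522c16c80422412c60321c0ec4022140ac301b0804c160901 0x0 [] (by decide +kernel) <|
Fa.e 25 0 256 0x5c0e272399d0ea763bca0522c16c80422412c60321c0ec442b100a4301b0804c160901 0xa0a004a03008a0a00ca03010a03014a03018a0301ca03 [] (by decide +kernel) <|
Fa.e 24 0 144 0x5c0e272399d0ea763bca0522c16c844b2012460321c0ec442b100a4301b0804c160901 0xa08000e08001a08001e08002a03002e03003a03003e03 [] (by decide +kernel) <|
Fa.e 23 0 168 0x560b25a2d970ba5e2fd40a25229950aa562bd20924c26d00824422c904a2613c80422211c502a160bc40221209c381f0a05c100b01 0xc40300dc0300f403010403010c03011c03012203012403012603012803012a03012c03 [] (by decide +kernel) <|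
Fa.e 22 0 108 0x528964e27d08864623c904a2613c80422211c502a160bc40221209c381f0a05c100b01 0xba0300bc0300be0300c00300c20300c403 [] (by decide +kernel) <|
Fa.e 21 0 108 0x5a0d26a359b0da6e37d80c26231990ca6633d60b25a2d970ba5e2fd40a25229950aa562bd20924c26d00824422c904a2613c80422211c502a160bc40221209c381f0a05c100b01 0x7c03008003008403008803008c03009003 [] (by decide +kernel) <|
Fa.e 20 0 94 0x5a0d26a359b0da6e37d60b25a2d970ba5e2fd28964e27d00824422c301b0804c100b01 0x202000a02001601001e01002202002a01003201003a01004201004a01 [] (by decide +kernel) <|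
Fa.e 19 0 144 0x5a0d26a359b0da6e37d40a25229950aa562bd28964e27d00824422c703a1e0fc60321a0dc502a160bc40221209c301b0804c100b01 0x200000a02001602001e02002602002e00003202003a02004601004e01005201005a01006201006a01007601007e0100c20300d20300da0300ea0300f20300fe03 [(22,⟨1098,0x43000450005a0045000040010500204000040080800,0x386220b029080280801⟩),(0,⟨1097,0x4480045000420044800840000400206000040080800,0x388a248424080200a01⟩)] (by decide +kernel) <|
Fa.e 18 0 94 0x580c26231990ca6633d40a25229950aa562bd28964e27d00824422cb05a2e17ca0522a15c904a2613c80422211c703a1e0fc60321a0dc502a160bc40221209c301b0804c100b01 0x200000a00001601001e01002202002a01003201003a01004201004a01007a03007e03008203008603008a03008e03 [(4,⟨1096,0x4480141002320048800840000500204000040080800,0x3892084c52080280801⟩),(0,⟨1095,0x4400040000440044800840000500204000040080800,0x3882008c26080280801⟩)] (by decide +kernel) <|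
Fa.e 17 0 240 0x560b25a2d970ba5e2fd40a25229950aa562bd20924c26d00824422cb05a2e17c80422211c703a1e0fc40221209c36190a05c180f01 0x403001a1b002c03004200004a02005403006a03007c03009200009a0200a21a00a41a00a61a00a81a00aa1a00ac0300ae1a00b01a012400012c02013802014001014401014c01015801016001 [(145,⟨1096,0x6400145000460004400068000500206000000080800,0x2c8a248a210c8240a01⟩),(72,⟨1108,0x468004c0004e0047c00040000400004000040080800,0x38ca609a3c080200801⟩),(32,⟨1105,0x468004c0004e0047c00040000400004000040080800,0x38ca609a3c080200801⟩)] (by decide +kernel) <|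
Fa.e 16 0 240 0x560b25a2d970ba5e2fd40a25229950aa562bd20924c26d00824422cb05a2e17c80422211c703a1e0fc40221209c36190a05c180f01 0x403001a1b002c03004200004a02005403006a03007c03009200009a0200a20300a41800a61800a80300aa1800ac0300ae0300b018012802013002013400013c01014801015001015403015c01 [(153,⟨1097,0x6280140002560044c00068000400004000000080800,0x2c4a00ba240c0200801⟩),(72,⟨1109,0x468004c0004e0047c00040000400004000040080800,0x38ca609a3c080200801⟩),(32,⟨1104,0x468004c0004e0047c00040000400004000040080800,0x38ca609a3c080200801⟩)] (by decide +kernel) <|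
Fa.e 15 0 142 0x528964e27d08864623cb05a2e17c80422211c703a1e0fc40221209c36190a05c180f01 0x3a02004202005c02005e0300601a00621a00640300661a006803006a03006c1a00ac0200b40200bc0100c801 [] (by decide +kernel) <|
Fa.e 14 0 142 0x5a0d26a359b0da6e37d80c26231990ca6633d60b25a2d970ba5e2fd40a25229950aa562bd20924c26d00824422cb05a2e17c80422211c703a1e0fc40221209c36190a05c180f01 0x400000600000a19000c0300100000120000160300181900460200ac0000b40300bc0100c801 [(85,⟨1098,0x6500144000360008000860000500204000000080800,0x2ca220405d0c0240801⟩),(8,⟨1112,0x4580048000340008c00040010500206000040080800,0x38a2444a55080280a01⟩),(7,⟨1106,0x418004400224000bc00048000400006000040080800,0x382a247844088200a01⟩),(2,⟨1111,0x4580048000340008c00040010500206000040080800,0x38a2444a55080280a01⟩),(1,⟨1103,0x418004400224000bc00048000400006000040080800,0x382a247844088200a01⟩)] (by decide +kernel) <|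
Fa.e 13 0 142 0x528964e27d08864623cb05a2e17c80422211c703a1e0fc40221209c36190a05c180f01 0x3a02004202005c02005e18006018006218006418006618006803006a18006c1800a80200b00200b80200c00100c40100cc01 [] (by decide +kernel) <|
Fa.e 12 0 142 0x5a0d26a359b0da6e37d80c26231990ca6633d60b25a2d970ba5e2fd40a25229950aa562bd20924c26d00824422cb05a2e17c80422211c703a1e0fc40221209c36190a05c180f01 0x400000600000a1b000c1b00100000120000161b00181b00460200a80000b00100b80200c00100c40100cc01 [(83,⟨1095,0x6080144000400004000068010400204000000080800,0x2c422480200c0200801⟩),(8,⟨1113,0x4480049000360008c00048010500206000040080800,0x388a444a55090280a01⟩),(7,⟨1107,0x440004400224000bc00048010500206000040080800,0x3882207a44090280a01⟩),(2,⟨1110,0x4480049000360008c00048010500206000040080800,0x388a444a55090280a01⟩),(1,⟨1102,0x4000048002460004800040000400004000040080800,0x3802448825080200801⟩)] (by decide +kernel) <|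
Fa.e 11 0 108 0x5a0d26a359b0da6e37d40a25229950aa562bd28964e27d00824422c904a2613c80422211c502a160bc40221209c381f0a05c160901 0x0 [] (by decide +kernel) <|
Fa.e 10 0 80 0x580c26231990ca6633d40a25229950aa562bd28964e27d048b40224904a2613c80422211c502a160bc40221209c381f0a05c160901 0x402000c02002002 [] (by decide +kernel) <|
Fa.e 9 0 80 0x580c26231990ca6633d40a25229950aa562bd28964e27d048b40224904a2613c80422211c502a160bc40221209c381f0a05c160901 0x402000c02002002 [] (by decide +kernel) <|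
Fa.e 8 0 260 0x580c26231990ca6633d40a25229950aa562bd28964e27d00824422ca0522a15c80422211c60321a0dc40221209c381f0804c180f01 0x203000402000603000a03000e03001203001402001603001a03001e03002c01003001003401003801004001004201004401004601004a01004c01004e01005001005402 [] (by decide +kernel) <|
Fa.e 7 0 260 0x580c26231990ca6633d40a25229950aa562bd28964e27d00824422ca0522a15c80422211c60321a0dc40221209c381f0804c180f01 0x200000402000600000a00000e00001203001402001603001a03001e03002202002602002a02003c02003e02004802005201005402005602005a01005e02006201006602006a01006c01006e02007001 [(6,⟨1094,0x40800450022a0048c00040000400004000040080800,0x380a204848080200801⟩),(4,⟨1092,0x4680045002340048800048010400006000040080800,0x38ca204855090200a01⟩),(2,⟨1093,0x4400145000380008c00040000500204000040080800,0x3882244858080280801⟩),(0,⟨1091,0x4200045000200008800048010500204000040080800,0x3842244a40090280801⟩)] (by decide +kernel) <|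
Fa.e 6 0 84 0x5a0d26a359b0da6e37d80c26231990ca6633d20924c26d00824422c361909844160901 0x202000801001601001c01 [] (by decide +kernel) <|
Fa.e 5 0 32 0x5a0d26a359b0da6e37d80c26231990ca6633d60b25a2d970ba5e2fd40a25229950aa562bd28964e27d08864623c361909844160901 0x0 [] (by decide +kernel) <|
Fa.e 4 0 32 0x5249b48265048b40224361909844160901 0x402000603000a02000c03000e02001003001202001602001803001a02 [] (by decide +kernel) <|
Fa.e 3 0 32 0x5a0d26a359b0da6e37d80c26231990ca6633d60b25a2d970ba5e2fd40a25229950aa562bd28964e27d08864623c361909844160901 0x202000801001401 [] (by decide +kernel) <|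
Fa.e 2 0 32 0x5249b48265048b40224361909844160901 0x202000402000603000801000a02000c03000e02001003001202001401001602001803001a02 [] (by decide +kernel) <|
Fa.e 1 0 84 0x528964e27d08864623c703a1e0fc60321a0dc502a160bc40221209c361909844160901 0x202000802001602001c02 [] (by decide +kernel) <|
Fa.e 0 0 84 0x5a0d26a359b0da6e37d80c26231990ca6633d60b25a2d970ba5e2fd40a25229950aa562bd20924c26d00824422c703a1e0fc60321a0dc502a160bc40221209c361909844160901 0x200000802001601001c02 [(0,⟨1094,0x4280044000420004c00840010400206000000080800,0x284a208225080200a01⟩)] (by decide +kernel) <|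
Fa.c0) (by decide +kernel)

theorem d9_621 : Dn 8 S9 b8_621 := Fa.dn (
Fa.e 63 0 112 0x550aa562bd40a25229d108a4623d00824221cc062341ac80422412c502b1008c160901 0xe03001003002203002403005203005403005c03005e03006e03007003 [] (by decide +kernel) <|
Fa.e 62 0 88 0x4c469301ac844b20124502b1008c160901 0x202000402001602001802005803006c03009209009408009a09009c08 [] (by decide +kernel) <|
Fa.e 61 0 88 0x5c8e6743adc0e2763bd88c66432d80c26633d50aa562bd40a25229d108a4623d00824221cc469301ac844b20124502b1008c160901 0x20a00040b00160a00180b [] (by decide +kernel) <|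
Fa.e 60 0 68 0x550aa562bd40a25229d108a4623d00824221cc062341ac80422412c562911884160901 0xa0b000e03001003001608001a08002003002203003603004e03 [] (by decide +kernel) <|
Fa.e 59 0 68 0x550aa562bd40a25229d108a4623d00824221cc062341ac80422412c562911884160901 0xa0b000e03001003001608001a08002003002203003603004e03 [] (by decide +kernel) <|
Fa.e 58 0 52 0x4c469301ac84492012c562911884160901 0x202000a03000e03001003001602001c03001e03003208004a03005609005e09 [] (by decide +kernel) <|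
Fa.e 57 0 82 0x5c8e6743adc0e2763bd88c66432d80c26633d50aa562bd40a25229d108a4623d00824221cc469301ac84492012c562911884160901 0xa0b000e0b00100a00160a001c0b001e0a006a0a006c0b00740a00880a008a0b00920a [] (by decide +kernel) <|
Fa.e 56 0 52 0x4c46b301a4844b20124562911884160901 0x402000a03000e03001003001602001c03001e03003208004a03005e09 [] (by decide +kernel) <|
Fa.e 55 0 57 0x5c8e6743adc0e2763bd88c66432d80c26633d50aa562bd40a25229d108a4623d00824221cc46b301a4844b20124562911884160901 0x40b000a0b000e0b00100a00160a001c0b001e0a006a00006c00006e00007000007200 [(56,⟨1133,0x4f00051000620004000868000200202000100080001,0x19d290c8200b0081004⟩),(55,⟨1131,0x4380066000480004000848000700202004100080001,0x18632884200a0081c04⟩),(54,⟨1132,0x43801530006a0004000848000300202004100080001,0x1872b0cc200a0081804⟩),(53,⟨1130,0x4380066000480044000848000700202004100000001,0x18632884200a0081c04⟩),(52,⟨1129,0x4380066000480004000848000700202004100080001,0x18632884200a0081c04⟩)]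 (by decide +kernel) <|
Fa.e 54 0 20 0x5d0ea763bd80c26231d40a25229d00824221cd86f341ac88472010c48271008c080701 0x0 [] (by decide +kernel) <|
Fa.e 53 0 52 0x5d0ea763bd90ca6633d40a25229d00824221cc8673018c88472010c482711884080701 0x0 [] (by decide +kernel) <|
Fa.e 52 0 24 0x5c0e27239d80c26231d40a25229d00824221cc86731984884721904482711884080701 0x0 [] (by decide +kernel) <|
Fa.e 51 0 40 0x5d0ea763bd80c26231d40a25229d00824221cd06b3219c984f2010c582f1008c180f01 0x403001003 [] (by decide +kernel) <|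
Fa.e 50 0 104 0x5c0e27239d80c26231d40a25229d00824221cd86f3018c984f2010c582f11884180f01 0x403000c03001403001c03002403005403006003006803008c0300a003 [] (by decide +kernel) <|
Fa.e 49 0 48 0x5c0e27239d80c26231d40a25229d00824221cd86f31984984f21904582f11884180f01 0xc03001003001803002003004003 [] (by decide +kernel) <|
Fa.e 48 0 12 0x5d0ea763bdc0e27239d90ca6633d80c26231d50aa562bd40a25229c180f05824080701 0x0 [] (by decide +kernel) <|
Fa.e 47 0 12 0x5108a4623d00824221c180f05824080701 0x0 [] (by decide +kernel) <|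
Fa.e 46 0 23 0x5d0ea763bdc0e27239c984f2412c88472010c582f140ac48271008c180f05824080701 0x0 [] (by decide +kernel) <|
Fa.e 45 0 23 0x590ca6633d80c26231d50aa562bd40a25229d108a4623d00824221c984f2412c88472010c582f140ac48271008c180f05824080701 0x0 [] (by decide +kernel) <|
Fa.e 44 0 68 0x5d0ea763bdc0e27239d108a4623d00824221c582f140ac48271008c180f05824080701 0x0 [] (by decide +kernel) <|
Fa.e 43 0 38 0x4582f158a4482711884180f05824080701 0x0 [] (by decide +kernel) <|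
Fa.e 42 0 45 0x5d0ea763bdc0e27239d90ca6633d80c26231d50aa562bd40a25229d108a4623d00824221c582f158a4482711884180f05824080701 0x0 [] (by decide +kernel) <|
Fa.e 41 0 46 0x550aa562bd40a25229d108a4623d00824221c582f158a4482711884180f05824080701 0x0 [] (by decide +kernel) <|
Fa.e 40 0 100 0x550aa562bd40a25229d108a4623d00824221cd86f341acc8673018c984f2412c88472010c582f158a4482711884180f05824080701 0x5e08006408006a08007008007608007e08008008008608008808009209009408009e0900ac0800b20800b80800be0800c608 [] (by decide +kernel) <|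
Fa.e 39 0 43 0x4d86f359a4c86731984984f25924884721904582f158a4482711884180f05824080701 0x208000401000608000809000a01000c08000e01001008001401001609001801001a09001c01001e01002008002201002409002601002801002a01002c01002e08003008 [] (by decide +kernel) <|
Fa.e 38 0 52 0x5d0ea763bdc0e27239d90ca6633d80c26231d50aa562bd40a25229d108a4623d00824221cd86f359a4c86731984984f25924884721904582f158a4482711884180f05824080701 0x200000800000c08001001004e08005c01 [(3,⟨1163,0x840004700114000240000800003001040000100100001,0x1822304844080101402⟩),(0,⟨1162,0x830014700134000140000900103001040000100100001,0x184230c024090101402⟩)] (by decide +kernel) <|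
Fa.e 37 0 70 0x5d0ea763bdc0e27239cd86f3219c904b2010c502b1008c160901 0x2e03004203007a0b007e0b [] (by decide +kernel) <|
Fa.e 36 0 70 0x590ca6633d80c26231d50aa562bd40a25229d108a4623d00824221cd86f3219c904b2010c502b1008c160901 0x208000608000e08001208 [] (by decide +kernel) <|
Fa.e 35 0 130 0x550aa562bd40a25229d108a4623d00824221cd06b3018c904b2010c502b1008c160901 0x208000e03001a08002003003e03004603007a08008003009603009c0300a80300be0300c60300ea03 [] (by decide +kernel) <|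
Fa.e 34 0 80 0x550aa562bd40a25229d108a4623d00824221cd06b3018c904b2010c562911884160901 0x20800080b000e03001408001a08002003002e03004203004803006003007403007c03 [] (by decide +kernel) <|
Fa.e 33 0 80 0x550aa562bd40a25229d108a4623d00824221cd06b3018c904b2010c562911884160901 0x20800080b000e03001408001a08002003002e03004203004803006003007403007c03 [] (by decide +kernel) <|
Fa.e 32 0 63 0x4d06b3018c904b2010c562911884160901 0x803000e03001402001a03002808003c03004203005803006c09007009 [] (by decide +kernel) <|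
Fa.e 31 0 63 0x5d0ea763bdc0e27239d90ca6633d80c26231d50aa562bd40a25229d108a4623d00824221cd06b3018c904b2010c562911884160901 0x20a00080b000e0b00140a001a0b00420b00580b [] (by decide +kernel) <|
Fa.e 30 0 30 0x4d66931984964921904562911884160901 0x803000c03001202001803002208002a03003809 [] (by decide +kernel) <|
Fa.e 29 0 54 0x5d0ea763bdc0e27239d90ca6633d80c26231d50aa562bd40a25229d108a4623d00824221cd66931984964921904562911884160901 0x80b000c0b00120a00180b002a0b003e0000400a004400004800004a0a00560000580a005c0000600000620a [(47,⟨1127,0xa90004100110001200010c00103000010010400000001,0x19a2104040090081804⟩),(45,⟨1128,0x860007600024000350000900103000010010400100001,0x1852b084640a0081804⟩),(42,⟨1126,0x920005200020001300010900103001010010400100001,0x1b43a080600a0081804⟩),(35,⟨1124,0xa90014100010001200010c00103000010000400000001,0x19a2104040090081804⟩),(33,⟨1125,0x860017600124000350010900103000010000400100001,0x1852b084640a0081804⟩),(30,⟨1123,0x920015200120001300010900103001010000400100001,0x1b43a080600a0081804⟩)]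 (by decide +kernel) <|
Fa.e 28 0 58 0x5d4ed743bdc4e57039d94cd6433d84c56031d54af542b544a750295148f44235048740214d86f341acc8673018c984f2412c88472010c5e2d158a44e25118841e0d058240e0501 0xe09001809003809003e09004408006608 [] (by decide +kernel) <|
Fa.e 27 0 56 0x5e0f27a3d9f0fa7e3fdc0e272399d0ea763bda0d26a359b0da6e37d80c26231990ca6633c180f05824080701 0x0 [] (by decide +kernel) <|
Fa.e 26 0 60 0x560b25a2d970ba5e2fd40a25229950aa562bc180f05824080701 0x0 [] (by decide +kernel) <|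
Fa.e 25 0 26 0x4180f05824080701 0x0 [] (by decide +kernel) <|
Fa.e 24 0 33 0x5e0f27a3d9f0fa7e3fdc0e272399d0ea763bda0d26a359b0da6e37d80c26231990ca6633d60b25a2d970ba5e2fd40a25229950aa562bc180f05824080701 0x0 [] (by decide +kernel) <|
Fa.e 23 0 72 0x5e0f27a3d9f0fa7e3fda0d26a359b0da6e37d40a25229950aa562bc381f0c06c28170804c180f05824080701 0x20a00040b00060b00080b000a0a000c0a000e0a00100100120b00140100160a001801001a0b001c01001e01002001002201002401002601002801002a01002c01002e0100300a00320100340b00360100380a003a01003c0a003e0a00400100420b00440100460b004801004a0b004c01004e01005001005201005401005601005801005a01005c01005e01006001006201006401006601006801006a0b006c01006e0b007001007201007401007601007801007a01007c01007e01008001008201008401008601008801008a01008c01008e01009001 [] (by decide +kernel) <|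
Fa.e 22 0 60 0x5c0e272399d0ea763bd80c26231990ca6633d40a25229950aa562bc381f0c06c28170804c180f05824080701 0x208000601000a08000c01001401001608001808001a09001c08001e08002008002201002409002609002808002a01002c09002e09003008003208003408003601003809003a09003c08003e01004008004208004401004608004809004a01004c08004e08005009005208005401005a09006201006401006601007601 [] (by decide +kernel) <|
Fa.e 21 0 48 0x5e0f27a3d9f0fa7e3fdc0e272399d0ea763bda0d26a359b0da6e37d80c26231990ca6633c3e1d0b854160901 0x40a000808000c0900100900140a001808001c0900200900340a003808003c0900400900440a004808004c09005009 [] (by decide +kernel) <|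
Fa.e 20 0 48 0x560b25a2d970ba5e2fd40a25229950aa562bc3e1d0b854160901 0x408000809000c0b001008001408001809001c08002008003408003809003c08004008004408004809004c08005008 [] (by decide +kernel) <|
Fa.e 19 0 30 0x5e0f27a3d9f0fa7e3fdc0e272399d0ea763bda0d26a359b0da6e37d80c26231990ca6633c3e1d0b854160901 0x40a000808000e0900120a001608001a09001e09002e0a003208003809 [] (by decide +kernel) <|
Fa.e 18 0 30 0x560b25a2d970ba5e2fd40a25229950aa562bc3e1d0b854160901 0x408000809000e08001208001609001a08001e08002e08003209003808 [] (by decide +kernel) <|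
Fa.e 17 0 30 0x5e0f27a3d9f0fa7e3fdc0e272399d0ea763bda0d26a359b0da6e37d80c26231990ca6633c3e1d0b854160901 0x40a000808000e0900120a001608001a09001e09002e0a003208003809 [] (by decide +kernel) <|
Fa.e 16 0 30 0x560b25a2d970ba5e2fd40a25229950aa562bc3e1d0b854160901 0x408000809000e0b001208001609001a08001e08002e08003209003808 [] (by decide +kernel) <|
Fa.e 15 0 30 0x43e1d0b854160901 0x40900080b000e0900120900160b001a0a001e0a002e0900320b00380a [] (by decide +kernel) <|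
Fa.e 14 0 30 0x5e0f27a3d9f0fa7e3fdc0e272399d0ea763bda0d26a359b0da6e37d80c26231990ca6633d60b25a2d970ba5e2fd40a25229950aa562bc3e1d0b854160901 0x40800080a000e0b00120800160a001a0b001e0b002e0800320a00380b [] (by decide +kernel) <|
Fa.e 13 0 15 0x43e1d0b854160901 0x40a00080b000e0900120b00160a [] (by decide +kernel) <|
Fa.e 12 0 33 0x5e0f27a3d9f0fa7e3fdc0e272399d0ea763bda0d26a359b0da6e37d80c26231990ca6633d60b25a2d970ba5e2fd40a25229950aa562bc3e1d0b854160901 0x2608002a0b00300800340b00380a [] (by decide +kernel) <|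
Fa.e 11 0 144 0x5c0e272399d0ea763bd80c26231990ca6633d40a25229950aa562bc301b0804c160901 0x0 [] (by decide +kernel) <|
Fa.e 10 0 60 0x5c0e272399d0ea763bd80c26231990ca6633d40a25229950aa562bc301b0804c160901 0x0 [] (by decide +kernel) <|
Fa.e 9 0 56 0x4180f05824080701 0x0 [] (by decide +kernel) <|
Fa.e 8 0 60 0x5309a4e27d20924a25d108a4623d00824221c180f05824080701 0x0 [] (by decide +kernel) <|
Fa.e 7 0 26 0x4180f05824080701 0x0 [] (by decide +kernel) <|
Fa.e 6 0 33 0x5309a4e27d20924a25d108a4623d00824221c180f05824080701 0x0 [] (by decide +kernel) <|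
Fa.e 5 0 72 0x5108a4623d00824221c381f0c06c28170804c180f05824080701 0x208000409000608000808000a01000c08000e01001009001201001409001601001801001a01001c01001e01002008002201002408002601002809002a01002c01002e01003001003201003401003601003801003a01003c01003e01004001004201004401004601004801004a08004c09004e09005008005201005409005601005809005a01005c08005e01006001006201006401006601006808006a01006c09006e01007008007201007401007601007801007a01007c01007e01008001008201008401008601008801008a01008c01008e01009001 [] (by decide +kernel) <|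
Fa.e 4 0 60 0x5108a4623d00824221c381f0c06c28170804c180f05824080701 0x208000408000609000809000a09000c01000e01001001001201001401001608001808001a08001c08001e08002001002209002409002608002801002a09002c08002e01003008003209003408003609003808003a09003c09003e01004008004208004409004601004808004a09004c01004e09005008005208005401005608005801005a01005c01005e01006001006201006401006601006a01006e01007201007601 [] (by decide +kernel) <|
Fa.e 3 0 48 0x43e1d0b854160901 0x40b000809000c0b00100800140b001809001c0800200800240b002809002c0800300800340b003809003c08004008 [] (by decide +kernel) <|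
Fa.e 2 0 48 0x5309a4e27d20924a25d108a4623d00824221c3e1d0b854160901 0x40800080a000c0b00100b00140800180a001c0b00200b00240800280a002c0b00300b00340800380a003c0b00400b [] (by decide +kernel) <|
Fa.e 1 0 30 0x43e1d0b854160901 0x408000809000c0800100b001409001808001c0800200b002409002808 [] (by decide +kernel) <|
Fa.e 0 0 30 0x5309a4e27d20924a25d108a4623d00824221c3e1d0b854160901 0x40800080a000c0b00100800140a00180b001c0b00200800240a00280b [] (by decide +kernel) <|
Fa.c0) (by decide +kernel)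

theorem d9_622 : Dn 8 S9 b8_622 := Fa.dn (
Fa.e 63 0 64 0x5e0f27a3d9f0fa7e3fd40a25229950aa562bd008242219108a4623c88462613c80422412c582f140ac48271008c180f05824080701 0x0 [] (by decide +kernel) <|
Fa.e 62 0 112 0x5a0d26a359b0da6e37d008242219108a4623c582f140ac48271008c180f05824080701 0x0 [] (by decide +kernel) <|
Fa.e 61 77 115 0x5e0f27a3d9f0fa7e3fd008242219108a4623cc866361bcc469301ac88462613c844b20124582f140ac48271008c180f05824080701 0xe20800e40900e60900e80800ea0800ec0900ee0800f00800f20800f40900f60900f80800fa0800fc08011a08011c08011e08012009012209012409013208013409014208014409015609015808016609016a09017208017a09 [] (by decide +kernel) <|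
Fa.e 61 0 77 0x5e0f27a3d9f0fa7e3fd008242219108a4623cc866361bcc469301ac88462613c844b20124582f140ac48271008c180f05824080701 0x0 [] (by decide +kernel) <|
Fa.e 60 0 68 0x540a25229950aa562bd008242219108a4623c582f158a4482711884180f05824080701 0x0 [] (by decide +kernel) <|
Fa.e 59 0 52 0x4582f158a4482711884180f05824080701 0x0 [] (by decide +kernel) <|
Fa.e 58 0 52 0x5e0f27a3d9f0fa7e3fda0d26a359b0da6e37d40a25229950aa562bd008242219108a4623c582f158a4482711884180f05824080701 0x0 [] (by decide +kernel) <|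
Fa.e 57 0 90 0x4c866361bcc469301ac88462613c84492012c582f158a4482711884180f05824080701 0x208000409000601000801000a09000c01000e01001008001201001401001609001c01001e01002208002401002808002a09002c01002e01003001003209003409003608003801003a01003c01004809004a01 [] (by decide +kernel) <|
Fa.e 56 0 90 0x5e0f27a3d9f0fa7e3fda0d26a359b0da6e37d40a25229950aa562bd008242219108a4623cc866361bcc469301ac88462613c84492012c582f158a4482711884180f05824080701 0x6a08006c09007200007808007a01007e08008a08009008009209009a09009c09009e0800a20100b009 [(56,⟨1167,0x4d80146002480005000068000200008000040080001,0x19e23088240b0101002⟩)] (by decide +kernel) <|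
Fa.e 55 0 124 0x540a25229950aa562bd008242219108a4623cc866361bcc46b301a488462613c844b20124582f158a4482711884180f05824080701 0x209000409000a00001009001608001808001a09 [(4,⟨1166,0x4780145000400005000068000300008000040000001,0x18f21880240b0101402⟩)] (by decide +kernel) <|
Fa.e 54 0 144 0x5e0f27a3d9f0fa7e3fcc866361bc80422412c502b1008c160901 0xd20300d409010a03010c09 [] (by decide +kernel) <|
Fa.e 53 0 144 0x5a0d26a359b0da6e37d40a25229950aa562bd008242219108a4623cc866361bc80422412c502b1008c160901 0x20b00040a007a0b007c0a [] (by decide +kernel) <|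
Fa.e 52 0 112 0x5a0d26a359b0da6e37d008242219108a4623cc469301ac80422412c502b1008c160901 0x20300040a001403001e0300200a005a03005c0a006203006403006a03007403009a0300a20900a60300c20300c60900ce09 [] (by decide +kernel) <|
Fa.e 51 0 112 0x5a0d26a359b0da6e37d008242219108a4623cc062341ac844b20124502b1008c160901 0x20300040a00140300200a002803005a03005c0a006203006403006a03006c0a009a0300a20900a60300aa0900c20300c60900ca03 [] (by decide +kernel) <|
Fa.e 50 0 112 0x5a0d26a359b0da6e37d008242219108a4623cc062341ac80422412c502b1008c160901 0x20300040a001e0300200a002603002803005a03005c0a006a03006c0a007203007403009a0300a60300aa0900c20300ca0300ce09 [] (by decide +kernel) <|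
Fa.e 49 0 112 0x5a0d26a359b0da6e37d008242219108a4623cc469301ac844b20124502b1008c160901 0x20300040a00120300140300200a002803005a03005c0a006a03007403009a0300a20a00a60300aa0a00c20300ce0a [] (by decide +kernel) <|
Fa.e 48 0 112 0x540a25229950aa562bd008242219108a4623cc062341ac84492012c502b1008c160901 0x203001003001e03002603005a03006203006403007203007403009a0800a60b [] (by decide +kernel) <|
Fa.e 47 0 88 0x4c062341ac844b20124502b1008c160901 0x40a001203001c0a002403005a03005c03006a03006c0300920300960300a20b [] (by decide +kernel) <|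
Fa.e 46 0 88 0x5e0f27a3d9f0fa7e3fda0d26a359b0da6e37d40a25229950aa562bd008242219108a4623cc062341ac844b20124502b1008c160901 0x403001209001c03002409005408005a08005c09006a08006c09009209009609 [] (by decide +kernel) <|
Fa.e 45 0 68 0x540a25229950aa562bd008242219108a4623cc062341ac80422412c562911884160901 0xa0800100300160300180a001c03001e0a002403002603005003 [] (by decide +kernel) <|
Fa.e 44 0 68 0x540a25229950aa562bd008242219108a4623cc469301ac84492012c562911884160901 0x203000a0800100300160300180a001c03001e0a002403002603005003005c0b00680b [] (by decide +kernel) <|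
Fa.e 43 0 52 0x4c062341ac80422412c562911884160901 0xa0300100300160b001803001a02002003002203004a03005a0b [] (by decide +kernel) <|
Fa.e 42 0 52 0x5e0f27a3d9f0fa7e3fda0d26a359b0da6e37d40a25229950aa562bd008242219108a4623cc062341ac80422412c562911884160901 0xa08001008001a08002008002209004a08 [] (by decide +kernel) <|
Fa.e 41 0 52 0x4c46b301a4844b20124562911884160901 0x40a000a0300100300160b001803001a0a002003002203004a03005603005a03 [] (by decide +kernel) <|
Fa.e 40 0 82 0x5e0f27a3d9f0fa7e3fda0d26a359b0da6e37d40a25229950aa562bd008242219108a4623cc46b301a4844b20124562911884160901 0x4002004608004c08005602005c08005e09008608009209009609 [] (by decide +kernel) <|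
Fa.e 39 0 144 0x5a0d26a359b0da6e37cc866361bc80422412c502b1008c160901 0xd20b00d40300f20300f40a [] (by decide +kernel) <|
Fa.e 38 0 144 0x5e0f27a3d9f0fa7e3fd40a25229950aa562bd008242219108a4623cc866361bc80422412c502b1008c160901 0x208000409004208004409 [] (by decide +kernel) <|
Fa.e 37 0 112 0x5e0f27a3d9f0fa7e3fd008242219108a4623cc469301ac80422412c502b1008c160901 0x208000403001403001e08002003005a08005c03006203006403006a08007403009a0300a20a00a60300c20300c60900ca0300ce09 [] (by decide +kernel) <|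
Fa.e 36 0 112 0x5e0f27a3d9f0fa7e3fd008242219108a4623cc062341ac844b20124502b1008c160901 0x208000403001403002003002803005a08005c03006203006403006a08006c03009a0300a20a00aa0900c20300c60900ca03 [] (by decide +kernel) <|
Fa.e 35 0 112 0x5e0f27a3d9f0fa7e3fd008242219108a4623cc062341ac80422412c502b1008c160901 0x208000403001e08002003002603002803005a08005c03006a08006c03007203007403009a0300a60300aa0900c20300ca0300ce09 [] (by decide +kernel) <|
Fa.e 34 0 112 0x5e0f27a3d9f0fa7e3fd008242219108a4623cc469301ac844b20124502b1008c160901 0x208000403001203001403002003002803005a08005c03006a08007403009a0300a20a00aa0900c20300ca0300ce09 [] (by decide +kernel) <|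
Fa.e 33 0 88 0x4c062341ac84492012c502b1008c160901 0x208001003001a08002203005a03005c03006a03006c0300920300960300a209 [] (by decide +kernel) <|
Fa.e 32 0 88 0x5e0f27a3d9f0fa7e3fda0d26a359b0da6e37d40a25229950aa562bd008242219108a4623cc062341ac84492012c502b1008c160901 0x20300100b001a0300220b00520a005a0b005c0a006a0b006c0a00920b00960b [] (by decide +kernel) <|
Fa.e 31 0 112 0x540a25229950aa562bd008242219108a4623cc062341ac844b20124502b1008c160901 0x403001203002003002803005c03006203006403007203007403009c0a00a80a [] (by decide +kernel) <|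
Fa.e 30 0 52 0x4c062341ac80422412c562911884160901 0xa03001003001609001802001a03002003002203004a03005a09 [] (by decide +kernel) <|
Fa.e 29 0 52 0x5e0f27a3d9f0fa7e3fda0d26a359b0da6e37d40a25229950aa562bd008242219108a4623cc062341ac80422412c562911884160901 0xa0b00100b00180a00200b00220a004a0b [] (by decide +kernel) <|
Fa.e 28 0 52 0x4c469301ac84492012c562911884160901 0x208000a03001003001609001808001a03002003002203004a03005603005a03 [] (by decide +kernel) <|
Fa.e 27 0 82 0x5e0f27a3d9f0fa7e3fda0d26a359b0da6e37d40a25229950aa562bd008242219108a4623cc469301ac84492012c562911884160901 0x203000a0b00100b00180300200b00220a004a0b00560b005a0b [] (by decide +kernel) <|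
Fa.e 26 0 68 0x540a25229950aa562bd008242219108a4623cc062341ac80422412c562911884160901 0xa0b001003001608001803001c08001e03002403002603005003 [] (by decide +kernel) <|
Fa.e 25 0 68 0x540a25229950aa562bd008242219108a4623cc46b301a4844b20124562911884160901 0x403000a0b001003001608001803001c08001e03002403002603005003005e0a006a09 [] (by decide +kernel) <|
Fa.e 24 0 20 0x5c8e6743adc0e2763bd88c66432d80c26633d50aa562bd40a25229c180f05824080701 0x0 [] (by decide +kernel) <|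
Fa.e 23 0 20 0x5108a4623d00824221c180f05824080701 0x0 [] (by decide +kernel) <|
Fa.e 22 0 20 0x550aa562bd40a25229cc866361bcc062341ac88462613c80422412c180f05824080701 0x0 [] (by decide +kernel) <|
Fa.e 21 0 20 0x5c8e6743adc0e2763bd88c66432d80c26633d108a4623d00824221cc866361bcc062341ac88462613c80422412c180f05824080701 0x0 [] (by decide +kernel) <|
Fa.e 20 0 56 0x550aa562bd40a25229d108a4623d00824221c88462613c80422412c180f05824080701 0x0 [] (by decide +kernel) <|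
Fa.e 19 0 50 0x48c4d2213c844b20124180f05824080701 0x0 [] (by decide +kernel) <|
Fa.e 18 0 58 0x5c8e6743adc0e2763bd88c66432d80c26633d50aa562bd40a25229d108a4623d00824221c8c4d2213c844b20124180f05824080701 0x0 [] (by decide +kernel) <|
Fa.e 17 0 56 0x5c8e6743adc0e2763bd108a4623d00824221c88462613c80422412c180f05824080701 0x0 [] (by decide +kernel) <|
Fa.e 16 0 56 0x588c66432d80c26633d108a4623d00824221c8c4d2213c844b20124180f05824080701 0x0 [] (by decide +kernel) <|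
Fa.e 15 0 32 0x5c8e6743adc0e2763bc88462613c80422412c582f140ac48271008c180f05824080701 0x0 [] (by decide +kernel) <|
Fa.e 14 0 32 0x588c66432d80c26633d50aa562bd40a25229d108a4623d00824221c88462613c80422412c582f140ac48271008c180f05824080701 0x0 [] (by decide +kernel) <|
Fa.e 13 0 64 0x5c8e6743adc0e2763bd108a4623d00824221c582f140ac48271008c180f05824080701 0x7201007401007601007801007a01007c01007e01008001 [] (by decide +kernel) <|
Fa.e 12 0 116 0x588c66432d80c26633d108a4623d00824221cc866361bcc062341ac8c4d2213c844b20124582f140ac48271008c180f05824080701 0x7208007409007608008008008208008408008609008e08009009009208009a0800a20800aa0900b20800b60800be0800ca0900d20800da0800e208 [] (by decide +kernel) <|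
Fa.e 11 0 35 0x4582f158a4482711884180f05824080701 0x0 [] (by decide +kernel) <|
Fa.e 10 0 42 0x5c8e6743adc0e2763bd88c66432d80c26633d50aa562bd40a25229d108a4623d00824221c582f158a4482711884180f05824080701 0x0 [] (by decide +kernel) <|
Fa.e 9 0 47 0x550aa562bd40a25229d108a4623d00824221c582f158a4482711884180f05824080701 0x4c01004e01005001005201005401005601005801005a01005c01005e01 [] (by decide +kernel) <|
Fa.e 8 0 81 0x550aa562bd40a25229d108a4623d00824221cc866361bcc062341ac88462613c80422412c582f158a4482711884180f05824080701 0x4c08005008005808005c09006c09007a09008808 [] (by decide +kernel) <|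
Fa.e 7 0 62 0x4cc6d321bcc46b301a48c4d2213c844b20124582f158a4482711884180f05824080701 0x208000408000609000a08000c08000e08001201001401001608001801001a08001c09001e09002001002201002408002609002809002a01002c01002e01003001003201003408003601003801003a09003c08003e08004008 [] (by decide +kernel) <|
Fa.e 6 0 75 0x5c8e6743adc0e2763bd88c66432d80c26633d50aa562bd40a25229d108a4623d00824221ccc6d321bcc46b301a48c4d2213c844b20124582f158a4482711884180f05824080701 0x200000600000801000a08000c01001a08002001007208007c01009001 [(2,⟨1165,0x4200045000480004000040000200208000040000001,0x1822188820080101002⟩),(0,⟨1164,0x5a00050000600004000060000200008000040000001,0x1a2280c0200a0101002⟩)] (by decide +kernel) <|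
Fa.e 5 0 144 0x5c8e6743adc0e2763bcc866361bc80422412c502b1008c160901 0xd20b00d40a00ee0300f003 [] (by decide +kernel) <|
Fa.e 4 0 144 0x588c66432d80c26633d50aa562bd40a25229d108a4623d00824221cc866361bc80422412c502b1008c160901 0x208000409003e08004009 [] (by decide +kernel) <|
Fa.e 3 0 112 0x588c66432d80c26633d108a4623d00824221cc062341ac84492012c502b1008c160901 0x208000409004e03005003005a03005c03006603006803009a03009c03 [] (by decide +kernel) <|
Fa.e 2 0 112 0x588c66432d80c26633d108a4623d00824221cc062341ac844b20124502b1008c160901 0x208000409001809004e03005003005a03005c03006603006803009a03009c03 [] (by decide +kernel) <|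
Fa.e 1 0 112 0x588c66432d80c26633d108a4623d00824221cc062341ac84492012c502b1008c160901 0x208000409004e03005003006603006803006e03007003009a03009c03 [] (by decide +kernel) <|
Fa.e 0 0 112 0x588c66432d80c26633d108a4623d00824221cc062341ac844b20124502b1008c160901 0x208000409001809004e03005003006603006803006e03007003009a03009c03 [] (by decide +kernel) <|
Fa.c0) (by decide +kernel)

theorem d9_623 : Dn 8 S9 b8_623 := Fa.dn (
Fa.e 63 0 144 0x5e0f27a3d9f0fa7e3fd80c26231990ca6633d40a25229950aa562bd108a4623d00824221ce8763e1fc80422412c4429100ac160901 0x0 [] (by decide +kernel) <|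
Fa.e 62 0 60 0x4ec7d3a1fc84492012c4429100ac160901 0x20200060b000a0b000e02003e0900420b00460b004a09 [] (by decide +kernel) <|
Fa.e 61 0 100 0x5e0f27a3d9f0fa7e3fd80c26231990ca6633d40a25229950aa562bd108a4623d00824221cec7d3a1fc84492012c4429100ac160901 0x7a0a00800a00a20a00ae0a [] (by decide +kernel) <|
Fa.e 60 0 144 0x5e0f27a3d9f0fa7e3fd80c26231990ca6633d40a25229950aa562bce0723c1ec80422412c4022140ac160901 0x0 [] (by decide +kernel) <|
Fa.e 59 0 144 0x5108a4623d00824221ce0723c1ec80422412c4022140ac160901 0x0 [] (by decide +kernel) <|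
Fa.e 58 0 60 0x5e0f27a3d9f0fa7e3fd80c26231990ca6633d40a25229950aa562bce0723c1ec80422412c4022140ac160901 0x0 [] (by decide +kernel) <|
Fa.e 57 0 60 0x5108a4623d00824221ce0723c1ec80422412c4022140ac160901 0x0 [] (by decide +kernel) <|
Fa.e 56 0 144 0x5e0f27a3d9f0fa7e3fce0723c1ec80422412c4022140ac160901 0x0 [] (by decide +kernel) <|
Fa.e 55 0 144 0x580c26231990ca6633d40a25229950aa562bd108a4623d00824221ce0723c1ec80422412c4022140ac160901 0x0 [] (by decide +kernel) <|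
Fa.e 54 0 256 0x5e0f27a3d9f0fa7e3fce0723c1ec80422412c442b100a4160901 0x40a00240900440900640a00840a00a40900c40900e40a [] (by decide +kernel) <|
Fa.e 53 0 256 0x580c26231990ca6633d40a25229950aa562bd108a4623d00824221ce0723c1ec80422412c442b100a4160901 0x40300240b00440b00640300840300a40b00c40b00e403 [] (by decide +kernel) <|
Fa.e 52 0 144 0x5e0f27a3d9f0fa7e3fce0723c1ec844b20124442b100a4160901 0x40a000809000c0900100a00140a001809001c0900200a [] (by decide +kernel) <|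
Fa.e 51 0 144 0x580c26231990ca6633d40a25229950aa562bd108a4623d00824221ce0723c1ec844b20124442b100a4160901 0x40300080b000c0b00100300140300180b001c0b002003 [] (by decide +kernel) <|
Fa.e 50 0 32 0x540a25229950aa562bc180f05824080701 0x0 [] (by decide +kernel) <|
Fa.e 49 0 32 0x5e0f27a3d9f0fa7e3fda0d26a359b0da6e37d008242219108a4623c180f05824080701 0x0 [] (by decide +kernel) <|
Fa.e 48 0 32 0x5e0f27a3d9f0fa7e3fda0d26a359b0da6e37d40a25229950aa562bcc866361bcc062341ac88462613c80422412c180f05824080701 0x0 [] (by decide +kernel) <|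
Fa.e 47 0 32 0x5008242219108a4623cc866361bcc062341ac88462613c80422412c180f05824080701 0x0 [] (by decide +kernel) <|
Fa.e 46 0 88 0x488462613c84492012c180f05824080701 0x0 [] (by decide +kernel) <|
Fa.e 45 0 88 0x5e0f27a3d9f0fa7e3fda0d26a359b0da6e37d40a25229950aa562bd008242219108a4623c88462613c84492012c180f05824080701 0x0 [] (by decide +kernel) <|
Fa.e 44 0 112 0x540a25229950aa562bd008242219108a4623c88462613c844b20124180f05824080701 0x0 [] (by decide +kernel) <|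
Fa.e 43 0 112 0x5a0d26a359b0da6e37d008242219108a4623c88462613c84492012c180f05824080701 0x0 [] (by decide +kernel) <|
Fa.e 42 0 112 0x5e0f27a3d9f0fa7e3fd008242219108a4623c88462613c844b20124180f05824080701 0x0 [] (by decide +kernel) <|
Fa.e 41 0 64 0x5a0d26a359b0da6e37c88462613c80422412c4826160bc4022140ac180f05824080701 0x0 [] (by decide +kernel) <|
Fa.e 40 0 64 0x5e0f27a3d9f0fa7e3fd40a25229950aa562bd008242219108a4623c88462613c80422412c4826160bc4022140ac180f05824080701 0x0 [] (by decide +kernel) <|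
Fa.e 39 0 112 0x5a0d26a359b0da6e37d008242219108a4623c4826160bc4022140ac180f05824080701 0x0 [] (by decide +kernel) <|
Fa.e 38 72 120 0x5e0f27a3d9f0fa7e3fd008242219108a4623ccc6d321bcc062341ac88462613c844b201244826160bc4022140ac180f05824080701 0xe20800e60900e80800ea0800ec0900ee0800f40900f60900f80800fa08011c08011e08012409013208013409014208014409015609015808016609016a09017208017a09 [] (by decide +kernel) <|
Fa.e 38 0 72 0x5e0f27a3d9f0fa7e3fd008242219108a4623ccc6d321bcc062341ac88462613c844b201244826160bc4022140ac180f05824080701 0x0 [] (by decide +kernel) <|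
Fa.e 37 0 62 0x540a25229950aa562bd008242219108a4623c4c2d120bc442b100a4180f05824080701 0x0 [] (by decide +kernel) <|
Fa.e 36 0 46 0x44c2d120bc442b100a4180f05824080701 0x0 [] (by decide +kernel) <|
Fa.e 35 0 52 0x5e0f27a3d9f0fa7e3fda0d26a359b0da6e37d40a25229950aa562bd008242219108a4623c4c2d120bc442b100a4180f05824080701 0x0 [] (by decide +kernel) <|
Fa.e 34 0 80 0x4cc6d321bcc062341ac88462613c84492012c4c2d120bc442b100a4180f05824080701 0x208000409000601000809000a01000c01000e08001009001201001401001608001801001c01001e01002008002209002401002601002801002a09002c09002e08003001003201003401004009004201 [] (by decide +kernel) <|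
Fa.e 33 0 90 0x5e0f27a3d9f0fa7e3fda0d26a359b0da6e37d40a25229950aa562bd008242219108a4623ccc6d321bcc062341ac88462613c84492012c4c2d120bc442b100a4180f05824080701 0x6a08006c09007000007608007809007a01007e08008200008601008a08009008009209009a09009c09009e0800a20100b009 [(64,⟨1170,0x6400156002660005400078000600008004040080001,0x1d92b8d0260d0101802⟩),(55,⟨1169,0x6400156000660005400078000600008004040080001,0x1d92b8d0260d0101802⟩)] (by decide +kernel) <|
Fa.e 32 0 114 0x540a25229950aa562bd008242219108a4623cc866361bcc46b301a488462613c844b201244c2d120bc442b100a4180f05824080701 0x209000800000c08000e08001808 [(3,⟨1168,0x4580043000480005000068000200208000040080001,0x18c22888240b0101002⟩)] (by decide +kernel) <|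
Fa.e 31 0 256 0x5a0d26a359b0da6e37cc866361bc80422412c4022140ac160901 0x0 [] (by decide +kernel) <|
Fa.e 30 0 256 0x5e0f27a3d9f0fa7e3fd40a25229950aa562bd008242219108a4623cc866361bc80422412c4022140ac160901 0x0 [] (by decide +kernel) <|
Fa.e 29 0 112 0x5a0d26a359b0da6e37d008242219108a4623cc46b301a480422412c4022140ac160901 0x403001203001403001e08002003002603005a08005c03006203006c0300720300740300a20800a60300aa0800c20300c60800ce08 [] (by decide +kernel) <|
Fa.e 28 0 112 0x5a0d26a359b0da6e37d008242219108a4623cc062341ac84492012c4022140ac160901 0x208001203001e08002603005a08005c03006203006403006a08006c03007203007403009a0300a20b00a60300aa0b00c20300c60800ca0300ce08 [] (by decide +kernel) <|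
Fa.e 27 0 112 0x5e0f27a3d9f0fa7e3fd008242219108a4623cc062341ac80422412c4022140ac160901 0x208000403001203001403001e08002003002603002803005a08005c03006203006403006a08006c03007203007403009a0300a20900a60300aa0a00c20300c60a00ca0300ce09 [] (by decide +kernel) <|
Fa.e 26 0 112 0x5e0f27a3d9f0fa7e3fd008242219108a4623cc469301ac844b201244022140ac160901 0x208000403001403002003002803005a08005c03006403006a08007203007403009a0300a20a00aa0900c20300c60900ca0300ce09 [] (by decide +kernel) <|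
Fa.e 25 0 112 0x5a0d26a359b0da6e37d008242219108a4623cc062341ac80422412c4022140ac160901 0x208000403001203001403001e08002003002603002803005a08005c03006203006403006a08006c03007203007403009a0300a20800a60300aa0b00c20300c60b00ca0300ce08 [] (by decide +kernel) <|
Fa.e 24 0 112 0x5a0d26a359b0da6e37d008242219108a4623cc46b301a484492012c4022140ac160901 0x208000403001203001e08002603005a08005c03006203006c03007203007403009a0300a20b00a60300aa0800c20300c60800ce08 [] (by decide +kernel) <|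
Fa.e 23 0 112 0x5e0f27a3d9f0fa7e3fd008242219108a4623cc469301ac80422412c4022140ac160901 0x208001203001403001e08002003002803005a08005c03006403006a08007203007403009a0300a20900a60300aa0900c20300c60900ca0300ce09 [] (by decide +kernel) <|
Fa.e 22 0 112 0x5e0f27a3d9f0fa7e3fd008242219108a4623cc062341ac844b201244022140ac160901 0x403001403002003002803005a08005c03006203006403006a08006c0300720300740300a20a00aa0a00c20300c60900ca0300ce09 [] (by decide +kernel) <|
Fa.e 21 0 88 0x4c062341ac80422412c4429100ac160901 0x202001003001203001c03002203002403005202005a03005c03006403006a03006c0300920900a209 [] (by decide +kernel) <|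
Fa.e 20 0 88 0x5e0f27a3d9f0fa7e3fda0d26a359b0da6e37d40a25229950aa562bd008242219108a4623cc062341ac80422412c4429100ac160901 0x100b00120a00220b00240a005a0b005c0a006a0b006c0a [] (by decide +kernel) <|
Fa.e 19 0 88 0x4c469301ac84492012c4429100ac160901 0x208001003001a08001c03002203002403005202005c03006208006403006a03006c0300920300960300a20900a603 [] (by decide +kernel) <|
Fa.e 18 0 132 0x5e0f27a3d9f0fa7e3fda0d26a359b0da6e37d40a25229950aa562bd008242219108a4623cc469301ac84492012c4429100ac160901 0x20300100b001a0300220b00240a005c0a006203006a0b006c0a00920b00960b00a60b [] (by decide +kernel) <|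
Fa.e 17 0 112 0x540a25229950aa562bd008242219108a4623cc46b301a480422412c4429100ac160901 0x403001003001203002603006203006c03007203007403009c0900cc09 [] (by decide +kernel) <|
Fa.e 16 0 112 0x540a25229950aa562bd008242219108a4623cc062341ac844b201244429100ac160901 0x403001203002003002803006203006403007203007403009c0a00a80a [] (by decide +kernel) <|
Fa.e 15 0 88 0x4c469301ac80422412c442b100a4160901 0x208001003001203001a02002403005c03006208006a03006c0300920300a603 [] (by decide +kernel) <|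
Fa.e 14 0 88 0x5e0f27a3d9f0fa7e3fda0d26a359b0da6e37d40a25229950aa562bd008242219108a4623cc469301ac80422412c442b100a4160901 0x20300100b00120a001a0a00240a005c0a006203006a0b006c0a00920b00a60b [] (by decide +kernel) <|
Fa.e 13 0 88 0x4c062341ac84492012c442b100a4160901 0x208001003001a08002203005a03005c03006202006a03006c03009203009603 [] (by decide +kernel) <|
Fa.e 12 0 88 0x5e0f27a3d9f0fa7e3fda0d26a359b0da6e37d40a25229950aa562bd008242219108a4623cc062341ac84492012c442b100a4160901 0x20300100b001a0300220b005a0b005c0a00620a006a0b006c0a00920b00960b [] (by decide +kernel) <|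
Fa.e 11 0 112 0x540a25229950aa562bd008242219108a4623cc062341ac80422412c442b100a4160901 0x1003001203001e08002603002803006203006403006a08007203007403 [] (by decide +kernel) <|
Fa.e 10 0 112 0x540a25229950aa562bd008242219108a4623cc46b301a4844b20124442b100a4160901 0x403001203001e08002003002603002803006203006a08006c03007203007403009c0900a80a00cc09 [] (by decide +kernel) <|
Fa.e 9 0 40 0x540a25229950aa562bc180f05824080701 0x0 [] (by decide +kernel) <|
Fa.e 8 0 40 0x5e0f27a3d9f0fa7e3fda0d26a359b0da6e37d008242219108a4623c180f05824080701 0x0 [] (by decide +kernel) <|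
Fa.e 7 0 40 0x5e0f27a3d9f0fa7e3fda0d26a359b0da6e37d40a25229950aa562bcc866361bcc062341ac88462613c80422412c180f05824080701 0x0 [] (by decide +kernel) <|
Fa.e 6 0 40 0x5008242219108a4623cc866361bcc062341ac88462613c80422412c180f05824080701 0x0 [] (by decide +kernel) <|
Fa.e 5 0 88 0x488462613c84492012c180f05824080701 0x0 [] (by decide +kernel) <|
Fa.e 4 0 88 0x5e0f27a3d9f0fa7e3fda0d26a359b0da6e37d40a25229950aa562bd008242219108a4623c88462613c84492012c180f05824080701 0x0 [] (by decide +kernel) <|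
Fa.e 3 0 112 0x540a25229950aa562bd008242219108a4623c88462613c844b20124180f05824080701 0x0 [] (by decide +kernel) <|
Fa.e 2 0 112 0x5a0d26a359b0da6e37d008242219108a4623c88462613c84492012c180f05824080701 0x0 [] (by decide +kernel) <|
Fa.e 1 0 112 0x5e0f27a3d9f0fa7e3fd008242219108a4623c88462613c844b20124180f05824080701 0x0 [] (by decide +kernel) <|
Fa.e 0 0 64 0x5a0d26a359b0da6e37c88462613c80422412c582f140ac48271008c180f05824080701 0x0 [] (by decide +kernel) <|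
Fa.c0) (by decide +kernel)

end Cfsg.Agent.FS.N.Sw
end
end

-- part: FS/N/Sw/D/D48
section
prune_inst 0x30104500742200000818000022001c62b2000002004b4001204000000dc80841a0450e21b270031281f41cf4787ec06813100109423800002a00ba00411e01a0040528e2843cbe0039000040c800000000000000000000000000000000000000000000000
set_option linter.all false

/-! The filter on the pairs for the order 512, part 48 (generated; helper52, project FS) -/

set_option autoImplicit false
set_option maxRecDepth 100000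
set_option Elab.async false

namespace Cfsg.Agent.FS.N.Sw

open G

theorem d9_496 : Dn 8 S9 b8_496 := Fa.dn (
Fa.e 63 0 192 0x641229249a512a964ba61329a4da713a9e4fe01028241a110a8643a21128a45a311a8e47dc0e272399f0fa7e3fc804222118904a2613c180f0402c0e0501 0x0 [] (by decide +kernel) <|
Fa.e 62 0 256 0x605068543a25168c47601048443221148d47dc0e272399f0fa7e3fc804222118904a2613c180f0402c0e0501 0x0 [] (by decide +kernel) <|
Fa.e 61 0 120 0x5c0e272399f0fa7e3fc140f040340e0501 0x0 [] (by decide +kernel) <|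
Fa.e 60 0 120 0x641229249a512a964ba61329a4da713a9e4fe01028241a110a8643a21128a45a311a8e47dc0e272399f0fa7e3fc180f0402c0e0501 0x0 [] (by decide +kernel) <|
Fa.e 59 0 120 0x5d0ea763b9e0f27a3dce0723a1d8f07a3e1fc804222118904a2613c140f040340e0501 0x0 [] (by decide +kernel) <|
Fa.e 58 0 120 0x641229249a512a964ba61329a4da713a9e4fe01028241a110a8643a21128a45a311a8e47dd0ea763b9e0f27a3dce0723a1d8f07a3e1fc804222118904a2613c180f0402c0e0501 0x0 [] (by decide +kernel) <|
Fa.e 57 0 160 0x605068543a25168c47601048443221148d47dc0e272399f0fa7e3fc180f0402c0e0501 0x0 [] (by decide +kernel) <|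
Fa.e 56 0 160 0x605068543a25168c47601048443221148d47dd0ea763b9e0f27a3dce0723a1d8f07a3e1fc804222118904a2613c180f0402c0e0501 0x0 [] (by decide +kernel) <|
Fa.e 55 0 160 0x601028241a110a8643a21128a45a311a8e47dc0e272399f0fa7e3fc502a160bc40221209c180f0402c0e0501 0x0 [] (by decide +kernel) <|
Fa.e 54 0 160 0x601028241a110a8643a21128a45a311a8e47dd0ea763b9e0f27a3dce0723a1d8f07a3e1fc804222118904a2613c502a160bc40221209c180f0402c0e0501 0x0 [] (by decide +kernel) <|
Fa.e 53 0 120 0x5c0e272399f0fa7e3fc502a160bc44251009c140f040340e0501 0x0 [] (by decide +kernel) <|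
Fa.e 52 0 200 0x64526944b265369d4fe4124954ba61349c4f605068543a25168c47601048443221148d47dc0e272399f0fa7e3fc502a160bc44251009c180f0402c0e0501 0xf40500f60400fa04010004010204010804010c04010e04011604011a04011c04011e04012004012404012a05012e05013405013805013a05014004014604014805014a04014c05015204015404015e04016004016205016c04017004017205017404017604017a05018005018405018605018a05018c05 [] (by decide +kernel) <|
Fa.e 51 0 120 0x5d0ea763b9e0f27a3dce0723a1d8f07a3e1fc804222118904a2613c502a160bc44251009c140f040340e0501 0x0 [] (by decide +kernel) <|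
Fa.e 50 0 200 0x64526944b265369d4fe4124954ba61349c4f605068543a25168c47601048443221148d47dd0ea763b9e0f27a3dce0723a1d8f07a3e1fc804222118904a2613c502a160bc48271008c140d0403c0e0501 0xf20400f40100f60100f801010a01010c01010e01011001011804011a05011c05011e01012004012201012e01013005013201013401013a04014001014204014604014c01015004015805015a01015e01016201016601016801016c01017004018205018401018805018a01018c01 [] (by decide +kernel) <|
Fa.e 49 0 256 0x601028241a110a8643a21128a45a311a8e47dc0e272399f0fa7e3fc804222118904a2613c502a160bc40221209c180f0402c0e0501 0x0 [] (by decide +kernel) <|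
Fa.e 48 0 192 0x5c0e272399f0fa7e3fc804222118904a2613c502a160bc48271008c140f040340e0501 0x0 [] (by decide +kernel) <|
Fa.e 47 0 320 0x64526954ba65369c4f64124944b261349d4fe05068543a25168c47601048443221148d47dc0e272399f0fa7e3fc804222118904a2613c502a160bc442710094180f0402c0e0501 0x401000601000801000a04000c01001004001204001401001601001a01001e01002001002204002401002801002c01002e01003004003204003604003801003a01003c01003e01004201004401004801004c01004e05005001005201005601005801005a01005c01005e01006401006605006801006a01006c01007001007201007401007605007a05007e05008001020204020401020601020801020a04020c01020e04021001021401021601021a05022001022204022401022601022805022a04022c01022e01023001023204023805023c01023e04024201024401024601024801024a04024c01024e01025001025201025801025c01025e01026201026401026601026801026a04026c01026e01027001027401027601027a05028001 [] (by decide +kernel) <|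
Fa.e 46 0 128 0x590ca66339a0d26a35d108a46239309a4e27d00824221920924a25c40221209c0e0501 0x0 [] (by decide +kernel) <|
Fa.e 45 0 128 0x580c262319b0da6e37d108a46239309a4e27d00824221920924a25ce0723a1d8f07a3e1fc804222118904a2613c40221209c0e0501 0x201000401000601000801001201001401001601001801008201008401008601008801009201009401009601009801 [] (by decide +kernel) <|
Fa.e 44 0 96 0x590ca66339a0d26a35d108a46239309a4e27d00824221920924a25c40221209c0e0501 0x0 [] (by decide +kernel) <|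
Fa.e 43 0 96 0x590ca66339a0d26a35d108a46239309a4e27d00824221920924a25c40221209c0e0501 0x0 [] (by decide +kernel) <|
Fa.e 42 0 128 0x590ca66339a0d26a35c804222118904a2613c40221209c0e0501 0x0 [] (by decide +kernel) <|
Fa.e 41 0 128 0x580c262319b0da6e37d50aa562b970ba5e2fd40a25229960b25a2dd108a46239309a4e27d00824221920924a25c804222118904a2613c40221209c0e0501 0xa01000c01000e01001001001a01001c01001e01002001008a01008c01008e01009001009a01009c01009e0100a001 [] (by decide +kernel) <|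
Fa.e 40 0 96 0x590ca66339a0d26a35c804222118904a2613c44251009c0e0501 0x60600260600460300660200840200940600a40600b402 [] (by decide +kernel) <|
Fa.e 39 0 96 0x590ca66339a0d26a35c804222118904a2613c4427100940e0501 0x602002603004603006603 [] (by decide +kernel) <|
Fa.e 38 0 128 0x540a25229960b25a2dd108a46239309a4e27c804222118904a2613c40221209c0e0501 0x0 [] (by decide +kernel) <|
Fa.e 37 0 128 0x590ca66339a0d26a35d80c262319b0da6e37d50aa562b970ba5e2fd00824221920924a25c804222118904a2613c40221209c0e0501 0x201000401000e01001001001201001401001e01002001008201008401008e01009001009201009401009e0100a001 [] (by decide +kernel) <|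
Fa.e 36 0 96 0x540a25229960b25a2dd108a46239309a4e27c804222118904a2613c40221209c0e0501 0x0 [] (by decide +kernel) <|
Fa.e 35 0 96 0x540a25229960b25a2dd108a46239309a4e27c804222118904a2613c40221209c0e0501 0x0 [] (by decide +kernel) <|
Fa.e 34 0 96 0x590ca66339a0d26a35d80c262319b0da6e37d50aa562b970ba5e2fd00824221920924a25c804222118904a2613c40221209c0e0501 0x201000401000e01001001001201001401001e01002001008201008801008a01009001 [] (by decide +kernel) <|
Fa.e 33 0 80 0x590ca66339a0d26a35d80c262319b0da6e37d40a25229960b25a2dd108a46239309a4e27c40221209c0e0501 0x0 [] (by decide +kernel) <|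
Fa.e 32 0 80 0x550aa562b970ba5e2fd00824221920924a25c40221209c0e0501 0x0 [] (by decide +kernel) <|
Fa.e 31 0 80 0x540a25229960b25a2dd108a46239309a4e27ce0723a1d8f07a3e1fc804222118904a2613c40221209c0e0501 0x0 [] (by decide +kernel) <|
Fa.e 30 0 80 0x590ca66339a0d26a35d80c262319b0da6e37d50aa562b970ba5e2fd00824221920924a25ce0723a1d8f07a3e1fc804222118904a2613c40221209c0e0501 0x601000801000a01000c01001601001801001a01001c01005601005801005a01005c01006601006801006a01006c01 [] (by decide +kernel) <|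
Fa.e 29 0 60 0x590ca66339a0d26a35d80c262319b0da6e37d40a25229960b25a2dd108a46239309a4e27c40221209c0e0501 0x0 [] (by decide +kernel) <|
Fa.e 28 0 60 0x590ca66339a0d26a35d80c262319b0da6e37d40a25229960b25a2dd108a46239309a4e27c40221209c0e0501 0x0 [] (by decide +kernel) <|
Fa.e 27 0 60 0x550aa562b970ba5e2fd00824221920924a25c40221209c0e0501 0x0 [] (by decide +kernel) <|
Fa.e 26 0 60 0x550aa562b970ba5e2fd00824221920924a25c40221209c0e0501 0x0 [] (by decide +kernel) <|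
Fa.e 25 0 192 0x580c262319b0da6e37d50aa562b970ba5e2fd00824221920924a25c804222118904a2613c180f0402c0e0501 0xa01000c01001a01001c01010601010e01 [] (by decide +kernel) <|
Fa.e 24 0 192 0x580c262319b0da6e37d50aa562b970ba5e2fd00824221920924a25c804222118904a2613c180f0402c0e0501 0xa01000c01001a01001c01010601010e01 [] (by decide +kernel) <|
Fa.e 23 0 256 0x580c262319b0da6e37d50aa562b970ba5e2fd00824221920924a25c804222118904a2613c180f0402c0e0501 0xa01000c01001a01001c01010a01010c01011a01011c01 [] (by decide +kernel) <|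
Fa.e 22 0 120 0x590ca66339a0d26a35d50aa562b970ba5e2fd00824221920924a25c180f0402c0e0501 0x0 [] (by decide +kernel) <|
Fa.e 21 0 120 0x590ca66339a0d26a35d50aa562b970ba5e2fd00824221920924a25c180f0402c0e0501 0x0 [] (by decide +kernel) <|
Fa.e 20 0 120 0x580c262319b0da6e37d50aa562b970ba5e2fd00824221920924a25ce0723a1d8f07a3e1fc804222118904a2613c180f0402c0e0501 0xe01001001001e0100200100a80100b001 [] (by decide +kernel) <|
Fa.e 19 0 120 0x580c262319b0da6e37d50aa562b970ba5e2fd00824221920924a25ce0723a1d8f07a3e1fc804222118904a2613c180f0402c0e0501 0xe01001001001e0100200100a80100b001 [] (by decide +kernel) <|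
Fa.e 18 0 160 0x590ca66339a0d26a35d50aa562b970ba5e2fd00824221920924a25c180f0402c0e0501 0x0 [] (by decide +kernel) <|
Fa.e 17 0 160 0x580c262319b0da6e37d50aa562b970ba5e2fd00824221920924a25ce0723a1d8f07a3e1fc804222118904a2613c180f0402c0e0501 0xe01001001001e0100200100ae0100b00100be0100c001 [] (by decide +kernel) <|
Fa.e 16 0 160 0x590ca66339a0d26a35d40a25229960b25a2dd00824221920924a25c502a160bc40221209c180f0402c0e0501 0x0 [] (by decide +kernel) <|
Fa.e 15 0 160 0x580c262319b0da6e37d40a25229960b25a2dd00824221920924a25ce0723a1d8f07a3e1fc804222118904a2613c502a160bc40221209c180f0402c0e0501 0xa01000c01001a01001c0100aa0100ac0100ba0100bc01 [] (by decide +kernel) <|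
Fa.e 14 0 120 0x590ca66339a0d26a35d40a25229960b25a2dd00824221920924a25c502a160bc442710094180f0402c0e0501 0x0 [] (by decide +kernel) <|
Fa.e 13 0 200 0x590ca66339a0d26a35d40a25229960b25a2dd00824221920924a25c502a160bc44251009c180f0402c0e0501 0xf20500f40100f60400f80100fa0400fe05010205010604010a05010c01010e05011001011404011805011a05011c04011e01012005012201012405012804012a01012c01012e05013005013e04014001014205014604014a05014c01014e05015005015205015401015604015801015a05015e05016201016404016601016805016c04017005017405017601017804017a01017c01018e01 [] (by decide +kernel) <|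
Fa.e 12 0 120 0x580c262319b0da6e37d40a25229960b25a2dd00824221920924a25ce0723a1d8f07a3e1fc804222118904a2613c502a160bc442710094140d0403c0e0501 0xa01000c01001a01001c0100a60100ae01 [] (by decide +kernel) <|
Fa.e 11 0 200 0x580c262319b0da6e37d40a25229960b25a2dd00824221920924a25ce0723a1d8f07a3e1fc804222118904a2613c502a160bc48271008c140d0403c0e0501 0xa01000c01001a01001c0100a60100ae0100f20400f40100f60500fa0400fe05010005010204010605010a05010e05011405011804011a05011c04012004012404012805014204014605014a04014c01014e05015001015204015605015a04015e05016404016805016c04017004017404017805 [] (by decide +kernel) <|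
Fa.e 10 0 256 0x580c262319b0da6e37d40a25229960b25a2dd00824221920924a25c804222118904a2613c502a160bc40221209c180f0402c0e0501 0xe01001001001e01002001010e01011001011e01012001 [] (by decide +kernel) <|
Fa.e 9 0 192 0x580c262319b0da6e37d40a25229960b25a2dd00824221920924a25c804222118904a2613c502a160bc48271008c140d0403c0e0501 0xe01001001001e01002001010801011001 [] (by decide +kernel) <|
Fa.e 8 0 320 0x580c262319b0da6e37d40a25229960b25a2dd00824221920924a25c804222118904a2613c502a160bc442710094180f0402c0e0501 0x401000801000a05000c01000e04001001001205001604002204002605002a04002c01002e05003001003204003605003a05003c01003e04004001004a01004e01005a01005e01006201006401006601006801006a04006e01008e01009001009e0100a001018801019001020205020401020601020801020a01020c05020e04021001022204022601022c05023001023204023601023c04024001026401026804026a01026e01 [] (by decide +kernel) <|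
Fa.e 7 0 128 0x601028241a110a8643a21128a45a311a8e47d90ca66339a0d26a35d108a46239309a4e27d00824221920924a25c40221209c0e0501 0x0 [] (by decide +kernel) <|
Fa.e 6 0 128 0x601028241a110a8643a21128a45a311a8e47d80c262319b0da6e37d108a46239309a4e27d00824221920924a25ce0723a1d8f07a3e1fc804222118904a2613c40221209c0e0501 0x201000401000601000801001201001401001601001801008201008401008601008801009201009401009601009801 [] (by decide +kernel) <|
Fa.e 5 0 96 0x590ca66339a0d26a35d108a46239309a4e27d00824221920924a25c40221209c0e0501 0x0 [] (by decide +kernel) <|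
Fa.e 4 0 96 0x641229249a512a964ba61329a4da713a9e4fe01028241a110a8643a21128a45a311a8e47d90ca66339a0d26a35d108a46239309a4e27d00824221920924a25c40221209c0e0501 0x0 [] (by decide +kernel) <|
Fa.e 3 0 96 0x580c262319b0da6e37d108a46239309a4e27d00824221920924a25ce0723a1d8f07a3e1fc804222118904a2613c40221209c0e0501 0x201000401000601000801001201001401001601001801008201008401008a01008c01 [] (by decide +kernel) <|
Fa.e 2 0 128 0x601028241a110a8643a21128a45a311a8e47d90ca66339a0d26a35c804222118904a2613c40221209c0e0501 0x0 [] (by decide +kernel) <|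
Fa.e 1 0 128 0x601028241a110a8643a21128a45a311a8e47d80c262319b0da6e37d50aa562b970ba5e2fd40a25229960b25a2dd108a46239309a4e27d00824221920924a25c804222118904a2613c40221209c0e0501 0xa01000c01000e01001001001a01001c01001e01002001008a01008c01008e01009001009a01009c01009e0100a001 [] (by decide +kernel) <|
Fa.e 0 0 96 0x590ca66339a0d26a35c804222118904a2613c48271008c0e0501 0x60400260200460500660400840400940200a40400b402 [] (by decide +kernel) <|
Fa.c0) (by decide +kernel)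

theorem d9_497 : Dn 8 S9 b8_497 := Fa.dn (
Fa.e 63 0 160 0x580c262319b0da6e37d50aa562b970ba5e2fd00824221920924a25ce0723a1d8f07a3e1fc804222118904a2613c140f040340e0501 0xe01001001001e0100200100ae0100b00100be0100c001 [] (by decide +kernel) <|
Fa.e 62 0 160 0x601028241a110a8643a21128a45a311a8e47d80c262319b0da6e37d50aa562b970ba5e2fd00824221920924a25ce0723a1d8f07a3e1fc804222118904a2613c140f040340e0501 0xe01001001001e0100200100ae0100b00100be0100c001 [] (by decide +kernel) <|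
Fa.e 61 0 160 0x590ca66339a0d26a35d50aa562b970ba5e2fd00824221920924a25c140f040340e0501 0x0 [] (by decide +kernel) <|
Fa.e 60 0 160 0x609068643a29168c46e01028442a21128e47d90ca66339a0d26a35d50aa562b970ba5e2fd00824221920924a25c140f040340e0501 0x0 [] (by decide +kernel) <|
Fa.e 59 0 160 0x580c262319b0da6e37d50aa562b970ba5e2fd00824221920924a25ce0723a1d8f07a3e1fc804222118904a2613c140f040340e0501 0xe01001001001e0100200100ae0100b00100be0100c001 [] (by decide +kernel) <|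
Fa.e 58 0 160 0x609068643a29168c46e01028442a21128e47d80c262319b0da6e37d50aa562b970ba5e2fd00824221920924a25ce0723a1d8f07a3e1fc804222118904a2613c140f040340e0501 0xe01001001001e0100200100ae0100b00100be0100c001 [] (by decide +kernel) <|
Fa.e 57 0 160 0x590ca66339a0d26a35d40a25229960b25a2dd00824221920924a25c502a160bc44251009c140f040340e0501 0x0 [] (by decide +kernel) <|
Fa.e 56 0 160 0x601028241a110a8643a21128a45a311a8e47d90ca66339a0d26a35d40a25229960b25a2dd00824221920924a25c502a160bc44251009c140f040340e0501 0x0 [] (by decide +kernel) <|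
Fa.e 55 0 160 0x580c262319b0da6e37d40a25229960b25a2dd00824221920924a25ce0723a1d8f07a3e1fc804222118904a2613c502a160bc44251009c140f040340e0501 0xa01000c01001a01001c0100aa0100ac0100ba0100bc01 [] (by decide +kernel) <|
Fa.e 54 0 160 0x601028241a110a8643a21128a45a311a8e47d80c262319b0da6e37d40a25229960b25a2dd00824221920924a25ce0723a1d8f07a3e1fc804222118904a2613c502a160bc48271008c140d0403c0e0501 0xa01000c01001a01001c0100aa0100ac0100ba0100bc01 [] (by decide +kernel) <|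
Fa.e 53 0 160 0x590ca66339a0d26a35d40a25229960b25a2dd00824221920924a25c502a160bc40221209c140f040340e0501 0x0 [] (by decide +kernel) <|
Fa.e 52 0 240 0x609068643a29168c46e01028442a21128e47d90ca66339a0d26a35d40a25229960b25a2dd00824221920924a25c502a160bc40221209c140f040340e0501 0x14401014801014a01014e01015202015601015c01016001016402016a03016e01017201017403017801017a01017c01017e03018002018e02019001019a01019c01019e0101a00301a20101a40101a60101a80101b20101b40201b60101c40101c60101c80101ca0101cc0101de01 [] (by decide +kernel) <|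
Fa.e 51 0 160 0x580c262319b0da6e37d40a25229960b25a2dd00824221920924a25ce0723a1d8f07a3e1fc804222118904a2613c502a160bc40221209c140f040340e0501 0xa01000c01001a01001c0100aa0100ac0100ba0100bc01 [] (by decide +kernel) <|
Fa.e 50 0 240 0x605068543a25168c47601048443221148d47d80c262319b0da6e37d40a25229960b25a2dd00824221920924a25ce0723a1d8f07a3e1fc804222118904a2613c502a160bc40221209c140d0403c0e0501 0xa01000c01001a01001c0100aa0100ac0100ba0100bc01014204014401014e05015005016405016a05019204019c01019e0501a00101b404 [] (by decide +kernel) <|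
Fa.e 49 0 256 0x580c262319b0da6e37d40a25229960b25a2dd00824221920924a25c804222118904a2613c502a160bc40221209c140f040340e0501 0xe01001001001e01002001010e01011001011e01012001 [] (by decide +kernel) <|
Fa.e 48 0 256 0x601028241a110a8643a21128a45a311a8e47d80c262319b0da6e37d40a25229960b25a2dd00824221920924a25c804222118904a2613c502a160bc40221209c140d0403c0e0501 0xe01001001001e01002001010e01011001011e01012001 [] (by decide +kernel) <|
Fa.e 47 0 256 0x580c262319b0da6e37d40a25229960b25a2dd00824221920924a25c804222118904a2613c502a160bc48271008c140f040340e0501 0xe01001001001e01002001010e01011001011e01012001 [] (by decide +kernel) <|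
Fa.e 46 0 384 0x605068543a25168c47601048443221148d47d80c262319b0da6e37d40a25229960b25a2dd00824221920924a25c804222118904a2613c502a160bc442710094180f0402c0e0501 0x401000801000a05000c01000e04001001001205001604002204002605002a04002c01002e05003001003204003605003a05003c01003e04004001004a01004e01005a01005e01006201006401006601006801006a05006e01008e01009001009e0100a001018e01019001019e0101a001028204028401028601028801028a01028c05028e0402900102a20402a60102ac0502b00102b20402b60102bc0402c00102e40102e80402ea0102ee01 [] (by decide +kernel) <|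
Fa.e 45 0 128 0x5d0ea763b9e0f27a3dc40221209c0e0501 0x0 [] (by decide +kernel) <|
Fa.e 44 0 128 0x5c0e272399f0fa7e3fce0723a1d8f07a3e1fc804222118904a2613c40221209c0e0501 0x0 [] (by decide +kernel) <|
Fa.e 43 0 128 0x5d0ea763b9e0f27a3dc804222118904a2613c40221209c0e0501 0x0 [] (by decide +kernel) <|
Fa.e 42 0 128 0x5c0e272399f0fa7e3fc804222118904a2613c40221209c0e0501 0x0 [] (by decide +kernel) <|
Fa.e 41 0 128 0x4804222118904a2613c40221209c0e0501 0x0 [] (by decide +kernel) <|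
Fa.e 40 0 128 0x5d0ea763b9e0f27a3ddc0e272399f0fa7e3fc804222118904a2613c40221209c0e0501 0x0 [] (by decide +kernel) <|
Fa.e 39 0 96 0x4804222118904a2613c40221209c0e0501 0x0 [] (by decide +kernel) <|
Fa.e 38 0 80 0x440221209c0e0501 0x0 [] (by decide +kernel) <|
Fa.e 37 0 80 0x5d0ea763b9e0f27a3ddc0e272399f0fa7e3fc40221209c0e0501 0x0 [] (by decide +kernel) <|
Fa.e 36 0 80 0x5d0ea763b9e0f27a3ddc0e272399f0fa7e3fce0723a1d8f07a3e1fc804222118904a2613c40221209c0e0501 0x0 [] (by decide +kernel) <|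
Fa.e 35 0 80 0x4e0723a1d8f07a3e1fc804222118904a2613c40221209c0e0501 0x0 [] (by decide +kernel) <|
Fa.e 34 0 192 0x5c0e272399f0fa7e3fc804222118904a2613c140d0403c0e0501 0x0 [] (by decide +kernel) <|
Fa.e 33 0 192 0x5c0e272399f0fa7e3fc804222118904a2613c180f0402c0e0501 0x0 [] (by decide +kernel) <|
Fa.e 32 0 256 0x5c0e272399f0fa7e3fc804222118904a2613c180f0402c0e0501 0x0 [] (by decide +kernel) <|
Fa.e 31 0 120 0x5c0e272399f0fa7e3fc140d0403c0e0501 0x0 [] (by decide +kernel) <|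
Fa.e 30 0 120 0x5c0e272399f0fa7e3fc180f0402c0e0501 0x0 [] (by decide +kernel) <|
Fa.e 29 0 120 0x5d0ea763b9e0f27a3dce0723a1d8f07a3e1fc804222118904a2613c140d0403c0e0501 0x0 [] (by decide +kernel) <|
Fa.e 28 0 120 0x5d0ea763b9e0f27a3dce0723a1d8f07a3e1fc804222118904a2613c180f0402c0e0501 0x0 [] (by decide +kernel) <|
Fa.e 27 0 160 0x5c0e272399f0fa7e3fc180f0402c0e0501 0x0 [] (by decide +kernel) <|
Fa.e 26 0 160 0x5d0ea763b9e0f27a3dce0723a1d8f07a3e1fc804222118904a2613c180f0402c0e0501 0x0 [] (by decide +kernel) <|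
Fa.e 25 0 160 0x5c0e272399f0fa7e3fc502a160bc40221209c180f0402c0e0501 0x0 [] (by decide +kernel) <|
Fa.e 24 0 160 0x5d0ea763b9e0f27a3dce0723a1d8f07a3e1fc804222118904a2613c502a160bc40221209c180f0402c0e0501 0x0 [] (by decide +kernel) <|
Fa.e 23 0 120 0x5c0e272399f0fa7e3fc502a160bc442710094140d0403c0e0501 0x0 [] (by decide +kernel) <|
Fa.e 22 0 200 0x5c0e272399f0fa7e3fc502a160bc44251009c180f0402c0e0501 0xf20500f40500f60500fa0500fe04010004010204010605010804010a05010c04010e04011405011604011805011a04011c04011e04012004012405012805012a05012c04012e05013204013405013805013a05013e05014004014205014605014805014a05014c05014e04015204015404015605015a05015e04016004016205016405016805016c05017004017205017405017604017805017a05017c04018005018204018405018605018a05018c05018e05 [] (by decide +kernel) <|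
Fa.e 21 0 120 0x5d0ea763b9e0f27a3dce0723a1d8f07a3e1fc804222118904a2613c502a160bc442710094140d0403c0e0501 0x0 [] (by decide +kernel) <|
Fa.e 20 0 200 0x5d0ea763b9e0f27a3dce0723a1d8f07a3e1fc804222118904a2613c502a160bc48271008c140d0403c0e0501 0xf20400f40100f60400f80100fa0500fe05010205010604010a05010c01010e05011001011405011804011a05011c05011e01012004012201012405012804012a04012c04012e01013005013205013405013a04013e05014001014204014604014a05014c01014e05015004015205015604015805015a05015e05016201016405016601016805016c05017004017405017804017a04017c04018205018405018805018a05018c01018e05 [] (by decide +kernel) <|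
Fa.e 19 0 256 0x5c0e272399f0fa7e3fc804222118904a2613c502a160bc40221209c180f0402c0e0501 0x0 [] (by decide +kernel) <|
Fa.e 18 0 192 0x5c0e272399f0fa7e3fc804222118904a2613c502a160bc48271008c140d0403c0e0501 0x0 [] (by decide +kernel) <|
Fa.e 17 0 320 0x5c0e272399f0fa7e3fc804222118904a2613c502a160bc442710094180f0402c0e0501 0x401000604000801000a04000c01001004001204001401001604001a01001e01002001002204002401002801002c01002e01003004003204003604003801003a01003c01003e01004205004401004801004c01004e05005001005205005604005801005a01005c01005e01006401006605006801006a01006c01007001007205007401007605007a05007e05008001020205020401020601020801020a04020c01020e04021001021401021601021a05022001022204022401022601022805022a04022c01022e01023001023204023805023c01023e04024201024401024601024801024a04024c01024e01025001025201025801025c01025e01026201026401026601026801026a04026c01026e01027001027401027601027a05028001 [] (by decide +kernel) <|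
Fa.e 16 0 128 0x601028241a110a8643a21128a45a311a8e47dd0ea763b9e0f27a3dc40221209c0e0501 0x0 [] (by decide +kernel) <|
Fa.e 15 0 128 0x601028241a110a8643a21128a45a311a8e47dc0e272399f0fa7e3fce0723a1d8f07a3e1fc804222118904a2613c40221209c0e0501 0x0 [] (by decide +kernel) <|
Fa.e 14 0 96 0x5d0ea763b9e0f27a3dc40221209c0e0501 0x0 [] (by decide +kernel) <|
Fa.e 13 0 128 0x601028241a110a8643a21128a45a311a8e47dd0ea763b9e0f27a3dc804222118904a2613c40221209c0e0501 0x0 [] (by decide +kernel) <|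
Fa.e 12 0 128 0x601028241a110a8643a21128a45a311a8e47dc0e272399f0fa7e3fc804222118904a2613c40221209c0e0501 0x0 [] (by decide +kernel) <|
Fa.e 11 0 96 0x5c0e272399f0fa7e3fc804222118904a2613c48271008c0e0501 0x0 [] (by decide +kernel) <|
Fa.e 10 0 128 0x601028241a110a8643a21128a45a311a8e47c804222118904a2613c40221209c0e0501 0x0 [] (by decide +kernel) <|
Fa.e 9 0 128 0x601028241a110a8643a21128a45a311a8e47dd0ea763b9e0f27a3ddc0e272399f0fa7e3fc804222118904a2613c40221209c0e0501 0x0 [] (by decide +kernel) <|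
Fa.e 8 0 96 0x4804222118904a2613c40221209c0e0501 0x0 [] (by decide +kernel) <|
Fa.e 7 0 96 0x641229249a512a964ba61329a4da713a9e4fe01028241a110a8643a21128a45a311a8e47c804222118904a2613c40221209c0e0501 0x0 [] (by decide +kernel) <|
Fa.e 6 0 80 0x601028241a110a8643a21128a45a311a8e47c40221209c0e0501 0x0 [] (by decide +kernel) <|
Fa.e 5 0 80 0x601028241a110a8643a21128a45a311a8e47dd0ea763b9e0f27a3ddc0e272399f0fa7e3fc40221209c0e0501 0x0 [] (by decide +kernel) <|
Fa.e 4 0 80 0x601028241a110a8643a21128a45a311a8e47dd0ea763b9e0f27a3ddc0e272399f0fa7e3fce0723a1d8f07a3e1fc804222118904a2613c40221209c0e0501 0x0 [] (by decide +kernel) <|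
Fa.e 3 0 80 0x601028241a110a8643a21128a45a311a8e47ce0723a1d8f07a3e1fc804222118904a2613c40221209c0e0501 0x0 [] (by decide +kernel) <|
Fa.e 2 0 60 0x440221209c0e0501 0x0 [] (by decide +kernel) <|
Fa.e 1 0 60 0x5d0ea763b9e0f27a3ddc0e272399f0fa7e3fc40221209c0e0501 0x0 [] (by decide +kernel) <|
Fa.e 0 0 192 0x5c0e272399f0fa7e3fc804222118904a2613c140f040340e0501 0x0 [] (by decide +kernel) <|
Fa.c0) (by decide +kernel)

theorem d9_498 : Dn 8 S9 b8_498 := Fa.dn (
Fa.e 63 0 120 0x5c0e272399f0fa7e3fce0723a1d8f07a3e1fc804222118904a2613c48271008c0e0501 0x602002602004405005c0500a40200b40400c20700ce04 [] (by decide +kernel) <|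
Fa.e 62 0 120 0x580c262319b0da6e37d40a25229960b25a2dd00824221920924a25ce0723a1d8f07a3e1fc804222118904a2613c44251009c0e0501 0x604000e01001001001e01002001002603004402005c0600a40500a80100b00100b40300c20200ce06 [] (by decide +kernel) <|
Fa.e 61 0 192 0x580c262319b0da6e37d00824221920924a25cc06232198d06a361bc804222118904a2613c44251009c0e0501 0x0 [] (by decide +kernel) <|
Fa.e 60 0 112 0x540a25229960b25a2dd00824221920924a25cc06232198d06a361bc804222118904a2613c44251009c0e0501 0x0 [] (by decide +kernel) <|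
Fa.e 59 0 84 0x4c06232198d06a361bc804222118904a2613c4e25118840e0501 0x602000a02000e07001207001605001a07001e05002a05003603004003005007005602005802006c07007407007607007802008603009a07 [] (by decide +kernel) <|
Fa.e 58 0 120 0x540a25229960b25a2dcc06232198d06a361bc804222118904a2613c542d140bc0e0501 0x205003a03005207008a0500a20400be0400ca0700e604 [] (by decide +kernel) <|
Fa.e 57 0 120 0x641229249a512a964ba61329a4da713a9e4fe01028241a110a8643a21128a45a311a8e47d40a25229960b25a2dcc06232198d06a361bc804222118904a2613c542d140bc0e0501 0x205003a04005207008a05 [] (by decide +kernel) <|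
Fa.e 56 0 120 0x5c0e272399f0fa7e3fd80c262319b0da6e37d00824221920924a25cc06232198d06a361bc804222118904a2613c542d140bc0e0501 0x205000e01001001001e01002001003a07005203008a0500a20400a80100b00100be0700ca0400e605 [] (by decide +kernel) <|
Fa.e 55 0 160 0x601028241a110a8643a21128a45a311a8e47d40a25229960b25a2dcc06232198d06a361bc804222118904a2613c502a160bc0e0501 0x0 [] (by decide +kernel) <|
Fa.e 54 0 160 0x601028241a110a8643a21128a45a311a8e47dc0e272399f0fa7e3fd80c262319b0da6e37d00824221920924a25cc06232198d06a361bc804222118904a2613c502a160bc0e0501 0xe01001001001e0100200100ae0100b00100be0100c001 [] (by decide +kernel) <|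
Fa.e 53 0 84 0x540a25229960b25a2dd00824221920924a25ce0723a1d8f07a3e1fc804222118904a2613c502a160bc0e0501 0x0 [] (by decide +kernel) <|
Fa.e 52 0 112 0x601028241a110a8643a21128a45a311a8e47d40a25229960b25a2dd00824221920924a25ce0723a1d8f07a3e1fc804222118904a2613c502a160bc0e0501 0x0 [] (by decide +kernel) <|
Fa.e 51 0 160 0x601028241a110a8643a21128a45a311a8e47dc0e272399f0fa7e3fce0723a1d8f07a3e1fc804222118904a2613c4427100940e0501 0x160600360700500700680400b60400d60300f007010804 [] (by decide +kernel) <|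
Fa.e 50 0 160 0x601028241a110a8643a21128a45a311a8e47d80c262319b0da6e37d40a25229960b25a2dd00824221920924a25ce0723a1d8f07a3e1fc804222118904a2613c48271008c0e0501 0xe01001001001604001e0100200100360500500400680700ae0100b00100b60700be0100c00100d60500f005010802 [] (by decide +kernel) <|
Fa.e 49 0 120 0x5c0e272399f0fa7e3fce0723a1d8f07a3e1fc804222118904a2613c4427100940e0501 0x604002606004407005c04 [] (by decide +kernel) <|
Fa.e 48 0 120 0x641229249a512a964ba61329a4da713a9e4fe01028241a110a8643a21128a45a311a8e47dc0e272399f0fa7e3fce0723a1d8f07a3e1fc804222118904a2613c4427100940e0501 0x604002606004407005c04 [] (by decide +kernel) <|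
Fa.e 47 0 120 0x580c262319b0da6e37d40a25229960b25a2dd00824221920924a25ce0723a1d8f07a3e1fc804222118904a2613c4427100940e0501 0x604000e01001001001e01002001002603004402005c0400a80100b001 [] (by decide +kernel) <|
Fa.e 46 0 120 0x641229249a512a964ba61329a4da713a9e4fe01028241a110a8643a21128a45a311a8e47d80c262319b0da6e37d40a25229960b25a2dd00824221920924a25ce0723a1d8f07a3e1fc804222118904a2613c48271008c0e0501 0x604000e01001001001e01002001002605004404005c0200a80100b001 [] (by decide +kernel) <|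
Fa.e 45 0 112 0x601028241a110a8643a21128a45a311a8e47d40a25229960b25a2dd00824221920924a25cc06232198d06a361bc804222118904a2613c48271008c0e0501 0x0 [] (by decide +kernel) <|
Fa.e 44 0 84 0x540a25229960b25a2dd00824221920924a25cc06232198d06a361bc804222118904a2613c4e25118840e0501 0x602000a04000e02001204001603001a03001e07002a05003605004007007403007603007807008603 [] (by decide +kernel) <|
Fa.e 43 0 128 0x4804222118904a2613c40221209c0e0501 0x0 [] (by decide +kernel) <|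
Fa.e 42 0 128 0x601028241a110a8643a21128a45a311a8e47c804222118904a2613c40221209c0e0501 0x0 [] (by decide +kernel) <|
Fa.e 41 0 256 0x5c0e272399f0fa7e3fc804222118904a2613c140f040340e0501 0x0 [] (by decide +kernel) <|
Fa.e 40 0 256 0x601028241a110a8643a21128a45a311a8e47dc0e272399f0fa7e3fc804222118904a2613c180f0402c0e0501 0x0 [] (by decide +kernel) <|
Fa.e 39 0 256 0x5c0e272399f0fa7e3fc804222118904a2613c140f040340e0501 0x0 [] (by decide +kernel) <|
Fa.e 38 0 256 0x605068543a25168c47601048443221148d47dc0e272399f0fa7e3fc804222118904a2613c180f0402c0e0501 0x0 [] (by decide +kernel) <|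
Fa.e 37 0 160 0x5c0e272399f0fa7e3fc140f040340e0501 0x0 [] (by decide +kernel) <|
Fa.e 36 0 160 0x601028241a110a8643a21128a45a311a8e47dc0e272399f0fa7e3fc180f0402c0e0501 0x0 [] (by decide +kernel) <|
Fa.e 35 0 160 0x5d0ea763b9e0f27a3dce0723a1d8f07a3e1fc804222118904a2613c140f040340e0501 0x0 [] (by decide +kernel) <|
Fa.e 34 0 160 0x601028241a110a8643a21128a45a311a8e47dd0ea763b9e0f27a3dce0723a1d8f07a3e1fc804222118904a2613c180f0402c0e0501 0x0 [] (by decide +kernel) <|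
Fa.e 33 0 160 0x5c0e272399f0fa7e3fc140f040340e0501 0x0 [] (by decide +kernel) <|
Fa.e 32 0 160 0x605068543a25168c47601048443221148d47dc0e272399f0fa7e3fc180f0402c0e0501 0x0 [] (by decide +kernel) <|
Fa.e 31 0 160 0x5d0ea763b9e0f27a3dce0723a1d8f07a3e1fc804222118904a2613c140f040340e0501 0x0 [] (by decide +kernel) <|
Fa.e 30 0 160 0x605068543a25168c47601048443221148d47dd0ea763b9e0f27a3dce0723a1d8f07a3e1fc804222118904a2613c180f0402c0e0501 0x0 [] (by decide +kernel) <|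
Fa.e 29 0 160 0x5c0e272399f0fa7e3fc502a160bc44251009c140f040340e0501 0x0 [] (by decide +kernel) <|
Fa.e 28 0 160 0x601028241a110a8643a21128a45a311a8e47dc0e272399f0fa7e3fc502a160bc44251009c180f0402c0e0501 0x0 [] (by decide +kernel) <|
Fa.e 27 0 160 0x5d0ea763b9e0f27a3dce0723a1d8f07a3e1fc804222118904a2613c502a160bc44251009c140f040340e0501 0x0 [] (by decide +kernel) <|
Fa.e 26 0 160 0x601028241a110a8643a21128a45a311a8e47dd0ea763b9e0f27a3dce0723a1d8f07a3e1fc804222118904a2613c502a160bc48271008c140d0403c0e0501 0x0 [] (by decide +kernel) <|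
Fa.e 25 0 160 0x5c0e272399f0fa7e3fc502a160bc40221209c140f040340e0501 0x0 [] (by decide +kernel) <|
Fa.e 24 0 240 0x605068543a25168c47601048443221148d47dc0e272399f0fa7e3fc502a160bc40221209c180f0402c0e0501 0x14405014604014a04015005015204015805015c04015e04016604016a04016c05016e04017004017405017a05017e05018404018805018a05019004019605019805019a05019c0501a20401a40401ae0401b00401b20501bc0501c00401c20501c40501c60401ca0501d00501d40501d60501da0501dc05 [] (by decide +kernel) <|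
Fa.e 23 0 160 0x5d0ea763b9e0f27a3dce0723a1d8f07a3e1fc804222118904a2613c502a160bc40221209c140f040340e0501 0x0 [] (by decide +kernel) <|
Fa.e 22 0 240 0x605068543a25168c47601048443221148d47dd0ea763b9e0f27a3dce0723a1d8f07a3e1fc804222118904a2613c502a160bc40221209c140d0403c0e0501 0x14204014401014601014801015a01015c01015e01016001016804016a05016c05016e01017004017201017e01018005018201018401018a04019001019204019604019c0101a00401a80501aa0101ae0101b20101b60101b80101bc0101c00401d20501d40101d80501da0101dc01 [] (by decide +kernel) <|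
Fa.e 21 0 256 0x5c0e272399f0fa7e3fc804222118904a2613c502a160bc40221209c140f040340e0501 0x0 [] (by decide +kernel) <|
Fa.e 20 0 256 0x601028241a110a8643a21128a45a311a8e47dc0e272399f0fa7e3fc804222118904a2613c502a160bc40221209c140d0403c0e0501 0x0 [] (by decide +kernel) <|
Fa.e 19 0 256 0x5c0e272399f0fa7e3fc804222118904a2613c502a160bc48271008c140f040340e0501 0x0 [] (by decide +kernel) <|
Fa.e 18 0 384 0x605068543a25168c47601048443221148d47dc0e272399f0fa7e3fc804222118904a2613c502a160bc442710094180f0402c0e0501 0x401000604000801000a04000c01001004001204001401001604001a01001e01002001002204002401002801002c01002e01003004003204003604003801003a01003c01003e01004205004401004801004c01004e05005001005205005604005801005a01005c01005e01006401006605006801006a01006c01007001007205007401007605007a05007e04008001028204028401028601028801028a04028c01028e04029001029401029601029a0502a00102a20402a40102a60102a80502aa0402ac0102ae0102b00102b20402b80502bc0102be0402c20102c40102c60102c80102ca0402cc0102ce0102d00102d20102d80102dc0102de0102e20102e40102e60102e80102ea0402ec0102ee0102f00102f40102f60102fa05030001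 [] (by decide +kernel) <|
Fa.e 17 0 128 0x590ca66339a0d26a35d108a46239309a4e27d00824221920924a25c40221209c0e0501 0x0 [] (by decide +kernel) <|
Fa.e 16 0 128 0x601028241a110a8643a21128a45a311a8e47d90ca66339a0d26a35d108a46239309a4e27d00824221920924a25c40221209c0e0501 0x0 [] (by decide +kernel) <|
Fa.e 15 0 128 0x590ca66339a0d26a35c804222118904a2613c48271008c0e0501 0x160400360600560200760400960600b60200d60500f602 [] (by decide +kernel) <|
Fa.e 14 0 128 0x601028241a110a8643a21128a45a311a8e47d90ca66339a0d26a35c804222118904a2613c48271008c0e0501 0x160400360200560600760400960200b60500d60400f606 [] (by decide +kernel) <|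
Fa.e 13 0 128 0x540a25229960b25a2dd108a46239309a4e27c804222118904a2613c40221209c0e0501 0x0 [] (by decide +kernel) <|
Fa.e 12 0 128 0x601028241a110a8643a21128a45a311a8e47d40a25229960b25a2dd108a46239309a4e27c804222118904a2613c40221209c0e0501 0x0 [] (by decide +kernel) <|
Fa.e 11 0 128 0x590ca66339a0d26a35d80c262319b0da6e37d50aa562b970ba5e2fd00824221920924a25c804222118904a2613c40221209c0e0501 0x201000401000e01001001001201001401001e01002001008201008401008e01009001009201009401009e0100a001 [] (by decide +kernel) <|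
Fa.e 10 0 128 0x601028241a110a8643a21128a45a311a8e47d90ca66339a0d26a35d80c262319b0da6e37d50aa562b970ba5e2fd00824221920924a25c804222118904a2613c40221209c0e0501 0x201000401000e01001001001201001401001e01002001008201008401008e01009001009201009401009e0100a001 [] (by decide +kernel) <|
Fa.e 9 0 80 0x590ca66339a0d26a35d80c262319b0da6e37d40a25229960b25a2dd108a46239309a4e27c40221209c0e0501 0x0 [] (by decide +kernel) <|
Fa.e 8 0 80 0x601028241a110a8643a21128a45a311a8e47d90ca66339a0d26a35d80c262319b0da6e37d40a25229960b25a2dd108a46239309a4e27c40221209c0e0501 0x0 [] (by decide +kernel) <|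
Fa.e 7 0 80 0x550aa562b970ba5e2fd00824221920924a25c40221209c0e0501 0x0 [] (by decide +kernel) <|
Fa.e 6 0 80 0x601028241a110a8643a21128a45a311a8e47d50aa562b970ba5e2fd00824221920924a25c40221209c0e0501 0x0 [] (by decide +kernel) <|
Fa.e 5 0 256 0x580c262319b0da6e37d50aa562b970ba5e2fd00824221920924a25c804222118904a2613c140f040340e0501 0xa01000c01001a01001c01010a01010c01011a01011c01 [] (by decide +kernel) <|
Fa.e 4 0 256 0x601028241a110a8643a21128a45a311a8e47d80c262319b0da6e37d50aa562b970ba5e2fd00824221920924a25c804222118904a2613c140f040340e0501 0xa01000c01001a01001c01010a01010c01011a01011c01 [] (by decide +kernel) <|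
Fa.e 3 0 256 0x580c262319b0da6e37d50aa562b970ba5e2fd00824221920924a25c804222118904a2613c140f040340e0501 0xa01000c01001a01001c01010a01010c01011a01011c01 [] (by decide +kernel) <|
Fa.e 2 0 256 0x609068643a29168c46e01028442a21128e47d80c262319b0da6e37d50aa562b970ba5e2fd00824221920924a25c804222118904a2613c140f040340e0501 0xa01000c01001a01001c01010a01010c01011a01011c01 [] (by decide +kernel) <|
Fa.e 1 0 160 0x590ca66339a0d26a35d50aa562b970ba5e2fd00824221920924a25c140f040340e0501 0x0 [] (by decide +kernel) <|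
Fa.e 0 0 160 0x601028241a110a8643a21128a45a311a8e47d90ca66339a0d26a35d50aa562b970ba5e2fd00824221920924a25c140f040340e0501 0x0 [] (by decide +kernel) <|
Fa.c0) (by decide +kernel)

theorem d9_499 : Dn 8 S9 b8_499 := Fa.dn (
Fa.e 63 0 28 0x540a25229950aa562b960b25a2d970ba5e2fd008242219108a4623920924a259309a4e27c84462513c8044241344427100940e0501 0x0 [] (by decide +kernel) <|
Fa.e 62 0 19 0x641229249a512a964ba61329a4da713a9e4fe01028241a110a8643a21128a45a311a8e47d40a25229950aa562b960b25a2d970ba5e2fd008242219108a4623920924a259309a4e27c88462613c80422412c48271008c0e0501 0x0 [] (by decide +kernel) <|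
Fa.e 61 0 32 0x601028241a110a8643a21128a45a311a8e47d008242219108a4623920924a259309a4e27c4427100940e0501 0x0 [] (by decide +kernel) <|
Fa.e 60 0 32 0x601028241a110a8643a21128a45a311a8e47d008242219108a4623920924a259309a4e27cc866361bcc062341ac88462613c80422412c48271008c0e0501 0x0 [] (by decide +kernel) <|
Fa.e 59 0 32 0x601028241a110a8643a21128a45a311a8e47c4427100940e0501 0x0 [] (by decide +kernel) <|
Fa.e 58 0 32 0x601028241a110a8643a21128a45a311a8e47d40a25229950aa562b960b25a2d970ba5e2fd008242219108a4623920924a259309a4e27c4427100940e0501 0x0 [] (by decide +kernel) <|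
Fa.e 57 0 32 0x601028241a110a8643a21128a45a311a8e47cc466351bcc064341b484462513c8044241344427100940e0501 0x0 [] (by decide +kernel) <|
Fa.e 56 0 32 0x601028241a110a8643a21128a45a311a8e47d40a25229950aa562b960b25a2d970ba5e2fd008242219108a4623920924a259309a4e27cc866361bcc062341ac88462613c80422412c48271008c0e0501 0x0 [] (by decide +kernel) <|
Fa.e 55 0 17 0x44e25118840e0501 0x0 [] (by decide +kernel) <|
Fa.e 54 0 24 0x540a25229950aa562b960b25a2d970ba5e2fd008242219108a4623920924a259309a4e27c4e25118840e0501 0x0 [] (by decide +kernel) <|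
Fa.e 53 0 17 0x641229249a512a964ba61329a4da713a9e4fe01028241a110a8643a21128a45a311a8e47d40a25229950aa562b960b25a2d970ba5e2fd008242219108a4623920924a259309a4e27c4e25118840e0501 0x0 [] (by decide +kernel) <|
Fa.e 52 0 17 0x4c466351bcc064341b484462513c8044241344e25118840e0501 0x0 [] (by decide +kernel) <|
Fa.e 51 0 24 0x540a25229950aa562b960b25a2d970ba5e2fd008242219108a4623920924a259309a4e27cc466351bcc064341b484462513c8044241344e25118840e0501 0x0 [] (by decide +kernel) <|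
Fa.e 50 0 41 0x641229249a512a964ba61329a4da713a9e4fe01028241a110a8643a21128a45a311a8e47d40a25229950aa562b960b25a2d970ba5e2fd008242219108a4623920924a259309a4e27cc866361bcc062341ac88462613c80422412c4e25118840e0501 0x2404002a04002c04003604003c04004204004801 [] (by decide +kernel) <|
Fa.e 49 0 256 0x5d0ea763b9e0f27a3dd00824221920924a25c804222118904a2613c40221209c0e0501 0x0 [] (by decide +kernel) <|
Fa.e 48 0 256 0x580c262319b0da6e37d00824221920924a25c804222118904a2613c40221209c0e0501 0x601000801001601001801010601010801011601011801 [] (by decide +kernel) <|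
Fa.e 47 0 256 0x601028241a110a8643a21128a45a311a8e47dd0ea763b9e0f27a3dd00824221920924a25c804222118904a2613c40221209c0e0501 0x0 [] (by decide +kernel) <|
Fa.e 46 0 256 0x601028241a110a8643a21128a45a311a8e47d80c262319b0da6e37d00824221920924a25c804222118904a2613c40221209c0e0501 0x601000801001601001801010601010801011601011801 [] (by decide +kernel) <|
Fa.e 45 0 192 0x5d0ea763b9e0f27a3dd00824221920924a25c804222118904a2613c40221209c0e0501 0x0 [] (by decide +kernel) <|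
Fa.e 44 0 192 0x580c262319b0da6e37d00824221920924a25c804222118904a2613c40221209c0e0501 0x601000801001601001801010401010c01 [] (by decide +kernel) <|
Fa.e 43 0 256 0x590ca66339a0d26a35d00824221920924a25c502a160bc0e0501 0x0 [] (by decide +kernel) <|
Fa.e 42 0 256 0x601028241a110a8643a21128a45a311a8e47d90ca66339a0d26a35d00824221920924a25c502a160bc0e0501 0x0 [] (by decide +kernel) <|
Fa.e 41 0 160 0x5d0ea763b9e0f27a3dc40221209c0e0501 0x0 [] (by decide +kernel) <|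
Fa.e 40 0 160 0x601028241a110a8643a21128a45a311a8e47dd0ea763b9e0f27a3dc40221209c0e0501 0x0 [] (by decide +kernel) <|
Fa.e 39 0 256 0x590ca66339a0d26a35d00824221920924a25c40221209c0e0501 0x0 [] (by decide +kernel) <|
Fa.e 38 0 256 0x601028241a110a8643a21128a45a311a8e47d90ca66339a0d26a35d00824221920924a25c40221209c0e0501 0x0 [] (by decide +kernel) <|
Fa.e 37 0 160 0x540a25229960b25a2dcc06232198d06a361bc804222118904a2613c502a160bc0e0501 0x0 [] (by decide +kernel) <|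
Fa.e 36 0 160 0x601028241a110a8643a21128a45a311a8e47d40a25229960b25a2dcc06232198d06a361bc804222118904a2613c502a160bc0e0501 0x0 [] (by decide +kernel) <|
Fa.e 35 0 256 0x580c262319b0da6e37d00824221920924a25ce0723a1d8f07a3e1fc804222118904a2613c502a160bc0e0501 0x204000405001204001405010204010405011204011405 [] (by decide +kernel) <|
Fa.e 34 0 256 0x601028241a110a8643a21128a45a311a8e47d80c262319b0da6e37d00824221920924a25ce0723a1d8f07a3e1fc804222118904a2613c502a160bc0e0501 0x204000405001204001405010204010405011204011405 [] (by decide +kernel) <|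
Fa.e 33 0 160 0x5c0e272399f0fa7e3fce0723a1d8f07a3e1fc804222118904a2613c40221209c0e0501 0x0 [] (by decide +kernel) <|
Fa.e 32 0 160 0x601028241a110a8643a21128a45a311a8e47dc0e272399f0fa7e3fce0723a1d8f07a3e1fc804222118904a2613c40221209c0e0501 0x0 [] (by decide +kernel) <|
Fa.e 31 0 160 0x580c262319b0da6e37d40a25229960b25a2dd00824221920924a25ce0723a1d8f07a3e1fc804222118904a2613c40221209c0e0501 0xe01001001001e0100200100ae0100b00100be0100c001 [] (by decide +kernel) <|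
Fa.e 30 0 160 0x601028241a110a8643a21128a45a311a8e47d80c262319b0da6e37d40a25229960b25a2dd00824221920924a25ce0723a1d8f07a3e1fc804222118904a2613c40221209c0e0501 0xe01001001001e0100200100ae0100b00100be0100c001 [] (by decide +kernel) <|
Fa.e 29 0 256 0x580c262319b0da6e37d00824221920924a25cc06232198d06a361bc804222118904a2613c40221209c0e0501 0x0 [] (by decide +kernel) <|
Fa.e 28 0 256 0x601028241a110a8643a21128a45a311a8e47d80c262319b0da6e37d00824221920924a25cc06232198d06a361bc804222118904a2613c40221209c0e0501 0x0 [] (by decide +kernel) <|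
Fa.e 27 0 160 0x540a25229960b25a2dc502a160bc0e0501 0x0 [] (by decide +kernel) <|
Fa.e 26 0 160 0x5d0ea763b9e0f27a3dd90ca66339a0d26a35d00824221920924a25c502a160bc0e0501 0x0 [] (by decide +kernel) <|
Fa.e 25 0 112 0x540a25229960b25a2dd00824221920924a25c502a160bc0e0501 0x0 [] (by decide +kernel) <|
Fa.e 24 0 192 0x590ca66339a0d26a35d00824221920924a25c502a160bc0e0501 0x0 [] (by decide +kernel) <|
Fa.e 23 0 160 0x5d0ea763b9e0f27a3dc48271008c0e0501 0x160500360700500200680700b60700d60700f007010804 [] (by decide +kernel) <|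
Fa.e 22 0 160 0x590ca66339a0d26a35d40a25229960b25a2dd00824221920924a25c44251009c0e0501 0x160200360300500200680600b60600d60600f003010803 [] (by decide +kernel) <|
Fa.e 21 0 120 0x5d0ea763b9e0f27a3dc48271008c0e0501 0x605002604004402005c0400a40700b40500c20200ce04 [] (by decide +kernel) <|
Fa.e 20 0 192 0x590ca66339a0d26a35d00824221920924a25c44251009c0e0501 0xa03002a06004a04006a06008a0600aa0400ca0600ea05010604011606012603013602014603015603016606017605 [] (by decide +kernel) <|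
Fa.e 19 0 112 0x540a25229960b25a2dd00824221920924a25c44251009c0e0501 0x1205004a0200820400ba03 [] (by decide +kernel) <|
Fa.e 18 0 120 0x540a25229960b25a2dc582f140ac0e0501 0x2204004a03007207009a0600b20400c60300da0700ee06 [] (by decide +kernel) <|
Fa.e 17 0 160 0x601028241a110a8643a21128a45a311a8e47d40a25229960b25a2dc502a160bc0e0501 0x0 [] (by decide +kernel) <|
Fa.e 16 0 160 0x601028241a110a8643a21128a45a311a8e47dd0ea763b9e0f27a3dd90ca66339a0d26a35d00824221920924a25c502a160bc0e0501 0x0 [] (by decide +kernel) <|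
Fa.e 15 0 112 0x601028241a110a8643a21128a45a311a8e47d40a25229960b25a2dd00824221920924a25c502a160bc0e0501 0x0 [] (by decide +kernel) <|
Fa.e 14 0 160 0x601028241a110a8643a21128a45a311a8e47dd0ea763b9e0f27a3dc4427100940e0501 0x160700360700500300680700b60300d60400f007010807 [] (by decide +kernel) <|
Fa.e 13 0 160 0x601028241a110a8643a21128a45a311a8e47d90ca66339a0d26a35d40a25229960b25a2dd00824221920924a25c44251009c0e0501 0x160200360500500200680300b60300d60300f006010802 [] (by decide +kernel) <|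
Fa.e 12 0 120 0x5d0ea763b9e0f27a3dc4427100940e0501 0x603002604004407005c02 [] (by decide +kernel) <|
Fa.e 11 0 120 0x641229249a512a964ba61329a4da713a9e4fe01028241a110a8643a21128a45a311a8e47dd0ea763b9e0f27a3dc4427100940e0501 0x603002607004404005c02 [] (by decide +kernel) <|
Fa.e 10 0 112 0x601028241a110a8643a21128a45a311a8e47d40a25229960b25a2dd00824221920924a25c44251009c0e0501 0x1205004a0300820500ba03 [] (by decide +kernel) <|
Fa.e 9 0 120 0x540a25229960b25a2dcc06232198d06a361bc804222118904a2613c542d140bc0e0501 0x203003a02005207008a0400a20300be0200ca0700e605 [] (by decide +kernel) <|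
Fa.e 8 0 120 0x540a25229960b25a2dcc06232198d06a361bc804222118904a2613c542f140b40e0501 0xa20300be0200ca0700e605 [] (by decide +kernel) <|
Fa.e 7 0 160 0x540a25229960b25a2dcc06232198d06a361bc804222118904a2613c502a160bc0e0501 0x0 [] (by decide +kernel) <|
Fa.e 6 0 160 0x5c0e272399f0fa7e3fd80c262319b0da6e37d00824221920924a25cc06232198d06a361bc804222118904a2613c502a160bc0e0501 0xe01001001001e0100200100ae0100b00100be0100c001 [] (by decide +kernel) <|
Fa.e 5 0 84 0x4e0723a1d8f07a3e1fc804222118904a2613c502a160bc0e0501 0x0 [] (by decide +kernel) <|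
Fa.e 4 0 112 0x540a25229960b25a2dd00824221920924a25ce0723a1d8f07a3e1fc804222118904a2613c502a160bc0e0501 0x0 [] (by decide +kernel) <|
Fa.e 3 0 192 0x580c262319b0da6e37d00824221920924a25ce0723a1d8f07a3e1fc804222118904a2613c502a160bc0e0501 0x202000403001202001403010202010a03 [] (by decide +kernel) <|
Fa.e 2 0 160 0x5c0e272399f0fa7e3fce0723a1d8f07a3e1fc804222118904a2613c48271008c0e0501 0x160700360700500500680500b60700d60200f007010807 [] (by decide +kernel) <|
Fa.e 1 0 160 0x580c262319b0da6e37d40a25229960b25a2dd00824221920924a25ce0723a1d8f07a3e1fc804222118904a2613c44251009c0e0501 0xe01001001001602001e0100200100360600500200680300ae0100b00100b60300be0100c00100d60300f005010802 [] (by decide +kernel) <|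
Fa.e 0 0 120 0x5c0e272399f0fa7e3fce0723a1d8f07a3e1fc804222118904a2613c48271008c0e0501 0x602002606004407005c0500a40200b40600c20700ce05 [] (by decide +kernel) <|
Fa.c0) (by decide +kernel)

end Cfsg.Agent.FS.N.Sw
end

-- part: FS/N/C2/Two
section
prune_inst 0x200000000000000000000000000000000000000000400001000000000000004000000800000001120020080000000040001000000000000000000000000000000000000000000000200000000000000000000000000000000000000000000000000000000
set_option linter.all false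
open scoped Cfsg.Agent.FastGrp

-- part: FS/N/C2/Defs
section
/-!
# S5288, class two: the pure lemmas as boxes (helper53, project FS)
-/

set_option autoImplicit false

namespace Cfsg.Agent.FS.N.C2

open Cfsg.Agent.FS.Th

/-- two elements of `Γ` which generate a `2`-group act quadratically -/
def Quad {V : Type} [CommGroup V] (Γ : Subgroup (MulAut V)) : Prop :=
  ∀ σ ∈ Γ, ∀ υ ∈ Γ, IsPGroup 2 (Subgroup.closure ({σ, υ} : Set (MulAut V))) → ∀ x, cm σ (cm υ x) = 1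

/-- two nontrivial elements of `Γ` which generate a `2`-group have the same fixed points -/
def Same {V : Type} [CommGroup V] (Γ : Subgroup (MulAut V)) : Prop :=
  ∀ σ ∈ Γ, ∀ υ ∈ Γ, σ ≠ 1 → υ ≠ 1 → IsPGroup 2 (Subgroup.closure ({σ, υ} : Set (MulAut V))) →
    ∀ x, σ x = x → υ x = x

/-- the transvection lemma -/
def BoxTV : Prop :=
  ∀ (V : Type) [CommGroup V] [Finite V], (∀ x : V, x * x = 1) → ∀ Γ : Subgroup (MulAut V), Quad Γ →
    ∀ p ∈ Γ, ∀ β ∈ Γ, ∀ α ∈ Γ, ∀ z : V, (∀ x, p x = x ∨ p x = x * z) → Odd (orderOf β) → p * β * p⁻¹ = β⁻¹ →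
      Odd (orderOf α) → α * p = p * α → α * β = β * α

/-- the conjugates of `Z` form a spread over `Z ∩ a Z` -/
def BoxSp : Prop :=
  ∀ (V : Type) [CommGroup V] [Finite V], (∀ x : V, x * x = 1) → ∀ (Γ E : Subgroup (MulAut V)) (Z : Subgroup V),
    Same Γ → E ≤ Γ → (∀ σ ∈ E, ∀ x, cm σ x ∈ Z) → (∀ σ ∈ E, σ ≠ 1 → ∀ x, σ x = x ↔ x ∈ Z) →
      Nat.card E = Z.index → Z.index ≤ 4 → ∀ a ∈ Γ, (∃ z ∈ Z, a z ∉ Z) →
        (∀ σ ∈ E, ∀ x, a⁻¹ (cm σ x) ∈ Z → cm σ x = 1) ∧ ∀ b ∈ Γ, ∀ z ∈ Z, a⁻¹ z ∈ Z → b⁻¹ z ∈ Z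

/-- `UT₃(8)` -/
def BoxUT (R : ℕ) : Prop :=
  ∀ (G : Type) [Group G] [Finite G], Nat.card G = 2 ^ 9 → ∀ A B Z : Subgroup G, (∀ x ∈ A, x * x = 1) →
    (∀ x ∈ B, x * x = 1) → (∀ z ∈ Z, ∀ g, g * z = z * g) → Z ≤ A → Z ≤ B → Nat.card Z = 8 → Nat.card A = 64 →
      Nat.card B = 64 → (∀ a ∈ A, ∀ b ∈ B, a * b * a⁻¹ * b⁻¹ ∈ Z) →
        (∀ a ∈ A, ∀ b ∈ B, a * b = b * a → a ∈ Z ∨ b ∈ Z) → ∃ y : ℕ → G, Pc16 9 R y

/-- `D8 × D8 × D8` -/
def BoxD8 (R : ℕ) : Prop :=
  ∀ (G : Type) [Group G] [Finite G], Nat.card G = 2 ^ 9 → ∀ a b z : Fin 3 → G, (∀ i, a i * a i = 1) →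
    (∀ i, b i * b i = 1) → (∀ i, z i * z i = 1) → (∀ i g, g * z i = z i * g) → (∀ i, a i * b i = b i * a i * z i) →
      (∀ i j, a i * a j = a j * a i) → (∀ i j, b i * b j = b j * b i) → (∀ i j, i ≠ j → a i * b j = b j * a i) →
        Subgroup.closure (Set.range a ∪ Set.range b) = ⊤ → ∃ y : ℕ → G, Pc16 9 R y

end Cfsg.Agent.FS.N.C2
end

-- part: FS/N/C2/Bas
section
/-!
# S5288, class two: essential subgroups, the inverted odd automorphisms, Alperin's theorem (helper53, project FS)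
-/

set_option autoImplicit false

namespace Cfsg.Agent.FS.N.C2

open Cfsg Cfsg.FusionSystem Cfsg.Agent.H752 Cfsg.Agent.FS.Th

variable {G : Type} [Group G]

/-- the commutator -/
def br (a b : G) : G := a * b * a⁻¹ * b⁻¹

/-- the centre -/
abbrev Zc (G : Type) [Group G] : Subgroup G := Subgroup.center G

theorem zc {z : G} (hz : z ∈ Zc G) (g : G) : g * z = z * g := Subgroup.mem_center_iff.1 hz g

theorem br_eq_one {a b : G} : br a b = 1 ↔ a * b = b * a := by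
  unfold br
  rw [mul_inv_eq_one, mul_inv_eq_iff_eq_mul]

theorem br_inv (a b : G) : (br a b)⁻¹ = br b a := by
  unfold br
  group

theorem conj_eq (a b : G) : a * b * a⁻¹ = br a b * b := by
  unfold br
  group

theorem mul_eq_br (a b : G) : a * b = br a b * (b * a) := by
  unfold br
  group

theorem br_mem (h : Cl2 G) (a b : G) : br a b ∈ Zc G := Subgroup.mem_center_iff.2 fun c => (h a b c).symm

theorem br_mul_right (h : Cl2 G) (a b c : G) : br a (b * c) = br a b * br a c := by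
  have e : br a (b * c) = br a b * (b * br a c * b⁻¹) := by
    unfold br
    group
  rw [e, zc (br_mem h a c) b, mul_inv_cancel_right]

theorem br_mul_left (h : Cl2 G) (a b c : G) : br (a * b) c = br a c * br b c := by
  have e : br (a * b) c = (a * br b c * a⁻¹) * br a c := by
    unfold br
    group
  rw [e, zc (br_mem h b c) a, mul_inv_cancel_right, zc (br_mem h a c)]

theorem br_zr {z : G} (hz : z ∈ Zc G) (a : G) : br a z = 1 := br_eq_one.2 (zc hz a)

theorem br_zl {z : G} (hz : z ∈ Zc G) (a : G) : br z a = 1 := br_eq_one.2 (zc hz a).symm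

/-- `x ↦ [s, x]` -/
def brR (h : Cl2 G) (s : G) : G →* G := MonoidHom.mk' (fun x => br s x) (br_mul_right h s)

theorem nor_of (h : Cl2 G) {P : Subgroup G} (hP : Zc G ≤ P) (g : G) {x : G} (hx : x ∈ P) : g * x * g⁻¹ ∈ P := by
  rw [conj_eq]
  exact P.mul_mem (hP (br_mem h g x)) hx

theorem normal_of (h : Cl2 G) {P : Subgroup G} (hP : Zc G ≤ P) : P.Normal := ⟨fun _ hx g => nor_of h hP g hx⟩

/-- `Ω₁ Z(P)` -/
abbrev Om (P : Subgroup G) : Subgroup G := inVS P

theorem om_le (P : Subgroup G) : Om P ≤ P := fun _ hx => hx.1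

theorem om_sq {P : Subgroup G} {x : G} (hx : x ∈ Om P) : x * x = 1 := hx.2.1

theorem om_comm {P : Subgroup G} {x y : G} (hx : x ∈ Om P) (hy : y ∈ P) : y * x = x * y := hx.2.2 y hy

theorem om_inv {P : Subgroup G} {x : G} (hx : x ∈ Om P) : x⁻¹ = x := inv_eq_of_mul_eq_one_right (om_sq hx)

/-- an odd automorphism of `P` in `F`, inverted by a conjugation -/
structure Kp (F : Sys G) (P : Subgroup G) (f : G → G) : Prop where
  mp : Mp F P f
  mem : ∀ x ∈ P, f x ∈ P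
  odd : ∃ k, Odd k ∧ ∀ x ∈ P, f^[k] x = x
  inv : ∃ t, t * t ∈ P ∧ ∀ x ∈ P, f (t * f x * t⁻¹) = t * x * t⁻¹

/-- `[P, K]` -/
def Up (F : Sys G) (P : Subgroup G) : Subgroup G :=
  Subgroup.closure {y | ∃ f, Kp F P f ∧ ∃ x ∈ P, y = x⁻¹ * f x}

/-- `C_P(K)` -/
def Cp (F : Sys G) (P : Subgroup G) : Subgroup G where
  carrier := {x | x ∈ P ∧ ∀ f, Kp F P f → f x = x}
  one_mem' := ⟨P.one_mem, fun _ h => h.mp.one⟩
  mul_mem' := fun {a b} ha hb => ⟨P.mul_mem ha.1 hb.1, fun f h => by rw [h.mp.mul ha.1 hb.1, ha.2 f h, hb.2 f h]⟩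
  inv_mem' := fun {a} ha => ⟨P.inv_mem ha.1, fun f h => by rw [h.mp.inv ha.1, ha.2 f h]⟩

variable {F : Sys G}

theorem up_mem {P : Subgroup G} {f : G → G} (h : Kp F P f) {x : G} (hx : x ∈ P) : x⁻¹ * f x ∈ Up F P :=
  Subgroup.subset_closure ⟨f, h, x, hx, rfl⟩

theorem up_le {P K : Subgroup G} (h : ∀ f, Kp F P f → ∀ x ∈ P, x⁻¹ * f x ∈ K) : Up F P ≤ K :=
  (Subgroup.closure_le K).2 (by
    rintro _ ⟨f, hf, x, hx, rfl⟩
    exact h f hf x hx)

theorem iter_of_sq {X : Type} {f : X → X} {x : X} {k : ℕ} (hk : Odd k) (h1 : f^[k] x = x) (h2 : f (f x) = x) : f x = x := by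
  obtain ⟨j, rfl⟩ := hk
  have h3 : ∀ j : ℕ, f^[2 * j] x = x := by
    intro j
    induction j with
    | zero => rfl
    | succ j ih => rw [Nat.mul_succ, Function.iterate_add_apply]; exact (congrArg _ h2).trans ih
  rw [add_comm, Function.iterate_add_apply, h3] at h1
  exact h1

theorem Kp.fix {P : Subgroup G} {f : G → G} (h : Kp F P f) {x : G} (hx : x ∈ P) (h2 : f (f x) = x) : f x = x := by
  obtain ⟨k, hk, h1⟩ := h.odd
  exact iter_of_sq hk (h1 x hx) h2

theorem Kp.iter_mem {P : Subgroup G} {f : G → G} (h : Kp F P f) {x : G} (hx : x ∈ P) (n : ℕ) : f^[n] x ∈ P := by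
  induction n with
  | zero => exact hx
  | succ n ih => rw [Function.iterate_succ_apply']; exact h.mem _ ih

theorem Kp.oddM {P : Subgroup G} {f : G → G} (h : Kp F P f) : OddM F P f := ⟨h.mp, h.mem, h.odd⟩

theorem fn_pow {P : Subgroup G} (α : MulAut P) (n : ℕ) {x : G} (hx : x ∈ P) : fn (α ^ n) x = (fn α)^[n] x := by
  induction n with
  | zero => rw [pow_zero, fn_one hx]; rfl
  | succ n ih => rw [pow_succ', fn_mul _ _ hx, ih, Function.iterate_succ_apply']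

theorem kp_of {P : Subgroup G} {α : MulAut P} (hα : α ∈ F.autGroup P) {n : ℕ} (hn : Odd n) (h1 : α ^ n = 1) {t : G}
    (ht : t * t ∈ P) (h2 : ∀ x ∈ P, fn α (t * fn α x * t⁻¹) = t * x * t⁻¹) : Kp F P (fn α) :=
  ⟨mp_fn le_top hα, fun _ hx => fn_mem α hx, ⟨n, hn, fun x hx => by rw [← fn_pow α n hx, h1, fn_one hx]⟩, t, ht, h2⟩

variable [Finite G]

theorem mp_om {P : Subgroup G} {f : G → G} (h : Mp F P f) (hm : ∀ x ∈ P, f x ∈ P) {x : G} (hx : x ∈ Om P) :
    f x ∈ Om P := by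
  refine ⟨hm x hx.1, by rw [← h.mul hx.1 hx.1, om_sq hx, h.one], fun y hy => ?_⟩
  obtain ⟨y', hy', rfl⟩ := h.surj hm hy
  rw [← h.mul hy' hx.1, om_comm hx hy', h.mul hx.1 hy']

/-- the standing hypotheses -/
structure Cx (F : Sys G) : Prop where
  pg : IsPGroup 2 G
  cl : Cl2 G
  hy : Hy0 F

/-- essential -/
abbrev Es (F : Sys G) (P : Subgroup G) : Prop := F.IsEssential 2 P

/-- **Alperin** for a closed property. -/
theorem all_of (hG : IsPGroup 2 G) (hF : F.IsSaturated 2) {M : Subgroup G → (G → G) → Prop} (h : Closed F M)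
    (htop : ∀ θ : MulAut G, Mp F ⊤ θ → M ⊤ θ) (hess : ∀ P, Es F P → ∀ f, Kp F P f → M P f) {P : Subgroup G}
    {f : G → G} (hf : Mp F P f) : M P f := by
  have : Fact (Nat.Prime 2) := ⟨Nat.prime_two⟩
  have hS : IsPGroup 2 (⊤ : Subgroup G) := hG.to_subgroup ⊤
  by_contra hM
  obtain ⟨Q, H, h1⟩ := first_failure hS hF h (fun g hg => by
    obtain ⟨θ, hθ⟩ := Mp.exists_top hg
    have h2 : Mp F ⊤ θ := hg.congr fun x _ => hθ x
    exact h.congr ⊤ _ _ h2 (htop θ h2) fun x _ => (hθ x).symm) hf hM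
  obtain ⟨t, r, α, h2⟩ := h1.exists_dih₀ hS hF
  obtain ⟨k, hk⟩ := h2.ord
  exact h2.notMem ((h1.mem α).2 ⟨h2.mem, hess Q h1.ess _ (kp_of h2.mem (h2.prime.odd_of_ne_two h2.ne_two).pow
    (hk ▸ pow_orderOf_eq_one α) h2.tsq h2.inv)⟩)

/-- the normality criterion -/
theorem Cx.eq_bot (c : Cx F) {W : Subgroup G} (htop : ∀ θ : MulAut G, Mp F ⊤ θ → ∀ w ∈ W, θ w ∈ W)
    (hess : ∀ P, Es F P → W ≤ P ∧ ∀ f, Kp F P f → ∀ w ∈ W, f w ∈ W) : W = ⊥ := by
  by_contra hW
  refine not_isNormal_of_core c.hy.core hW (isNormal_of_norP F le_top fun P f hf => ?_)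
  refine all_of c.pg c.hy.sat (closed_norP F le_top fun s _ w hw => ?_) (fun θ hθ => ?_) (fun Q hQ g hg => ?_) hf
  · exact htop (MulAut.conj s) (mp_conj F le_rfl (Subgroup.mem_top s)) w hw
  · exact (norP_iff_of_le le_top hθ).2 (htop θ hθ)
  · exact (norP_iff_of_le (hess Q hQ).1 hg.mp).2 ((hess Q hQ).2 g hg)

/-- the criterion for strong closure -/
theorem Cx.closed (c : Cx F) {W : Subgroup G} (htop : ∀ θ : MulAut G, Mp F ⊤ θ → ∀ w ∈ W, θ w ∈ W)
    (hess : ∀ P, Es F P → ∀ f, Kp F P f → ∀ x ∈ P, (x ∈ W ↔ f x ∈ W)) {P : Subgroup G} {f : G → G} (hf : Mp F P f)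
    {x : G} (hx : x ∈ P) (hW : x ∈ W) : f x ∈ W := by
  have h1 : ∀ θ : MulAut G, Mp F ⊤ θ → ∀ w, w ∈ W ↔ θ w ∈ W := fun θ hθ w =>
    (iff_of_mapsTo (htop θ hθ) w).symm
  refine (all_of c.pg c.hy.sat (M := fun P f => ∀ x ∈ P, (x ∈ W ↔ f x ∈ W)) ⟨?_, ?_, ?_, ?_⟩ (fun θ hθ w _ => h1 θ hθ w)
    hess hf x hx).1 hW
  · intro P f g _ h2 h3 x hx
    rw [h3 x hx]
    exact h2 x hx
  · intro P Q f g _ _ h2 h3 h4 x hx
    exact (h2 x hx).trans (h3 _ (h4 x hx))
  · intro P R f g _ h2 _ h3 _ y hy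
    obtain ⟨x, hx, rfl, h4⟩ := h3 y hy
    rw [h4]
    exact (h2 x hx).symm
  · intro P _ s _ x _
    exact h1 (MulAut.conj s) (mp_conj F le_rfl (Subgroup.mem_top s)) x

/-! ### transport along the automorphisms of the whole group -/

omit [Finite G] in
theorem mp_inv_top {θ : MulAut G} (h : Mp F ⊤ θ) : Mp F ⊤ (θ⁻¹ : MulAut G) :=
  h.symm fun y _ => ⟨θ⁻¹ y, trivial, MulAut.apply_inv_self _ _ _, rfl⟩

omit [Finite G] in
theorem twBy_of {θ : MulAut G} (h : Mp F ⊤ θ) : TwBy θ F F := by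
  intro P a b hab
  constructor
  · intro h1
    refine (((h.res le_top).comp h1 fun x hx => ⟨x, hx, rfl⟩).comp (mp_inv_top h) fun _ _ => trivial).congr
      fun x hx => ?_
    rw [hab x hx, MulAut.inv_apply_self]
  · intro h1
    refine ((((mp_inv_top h).res le_top).comp h1 fun y hy => (Asm.mem_map_iff' θ P y).1 hy).comp h
      fun _ _ => trivial).congr fun y hy => ?_
    rw [← hab _ ((Asm.mem_map_iff' θ P y).1 hy), MulAut.apply_inv_self]

omit [Finite G] in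
theorem es_map {θ : MulAut G} (h : Mp F ⊤ θ) {P : Subgroup G} (hP : Es F P) : Es F (P.map θ.toMonoidHom) :=
  (H805.PU.isEssential_iff (twBy_of h).isPush).2 hP

omit [Finite G] in
theorem kp_pull {θ : MulAut G} (h : Mp F ⊤ θ) {P : Subgroup G} {f : G → G} (hf : Kp F (P.map θ.toMonoidHom) f) :
    Kp F P fun x => θ⁻¹ (f (θ x)) := by
  obtain ⟨h1, h2, h3⟩ := (twBy_of h).oddM hf.oddM
  obtain ⟨t, h4, h5⟩ := hf.inv
  refine ⟨h1, h2, h3, θ⁻¹ t, ?_, fun x hx => ?_⟩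
  · rw [← map_mul]
    exact (Asm.mem_map_iff' θ P _).1 h4
  · rw [map_mul, map_mul, map_inv, MulAut.apply_inv_self, MulAut.apply_inv_self, h5 (θ x) ⟨x, hx, rfl⟩, map_mul, map_mul,
      map_inv, MulAut.inv_apply_self]

omit [Finite G] in
theorem map_map_inv (θ : MulAut G) (P : Subgroup G) :
    (P.map θ.toMonoidHom).map (θ⁻¹ : MulAut G).toMonoidHom = P := by
  ext x
  rw [Asm.mem_map_iff', Asm.mem_map_iff', inv_inv, MulAut.inv_apply_self]

omit [Finite G] in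
theorem cp_map {θ : MulAut G} (h : Mp F ⊤ θ) {P : Subgroup G} {x : G} (hx : x ∈ Cp F P) :
    θ x ∈ Cp F (P.map θ.toMonoidHom) := by
  refine ⟨⟨x, hx.1, rfl⟩, fun f hf => ?_⟩
  have h1 := congrArg θ (hx.2 _ (kp_pull h hf))
  rwa [MulAut.apply_inv_self] at h1

omit [Finite G] in
theorem up_map {θ : MulAut G} (h : Mp F ⊤ θ) {P : Subgroup G} {x : G} (hx : x ∈ Up F P) :
    θ x ∈ Up F (P.map θ.toMonoidHom) := by
  refine (up_le (K := (Up F (P.map θ.toMonoidHom)).comap θ.toMonoidHom) fun f hf y hy => ?_) hx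
  rw [← map_map_inv θ P] at hf
  have h1 := up_mem (kp_pull (mp_inv_top h) hf) (x := θ y) ⟨y, hy, rfl⟩
  rw [inv_inv, MulAut.inv_apply_self] at h1
  show θ (y⁻¹ * f y) ∈ Up F (P.map θ.toMonoidHom)
  rwa [map_mul, map_inv]

omit [Finite G] in
theorem om_map (θ : MulAut G) {P : Subgroup G} {x : G} (hx : x ∈ Om P) : θ x ∈ Om (P.map θ.toMonoidHom) := by
  refine ⟨⟨x, hx.1, rfl⟩, by rw [← map_mul, om_sq hx, map_one], ?_⟩
  rintro _ ⟨y, hy, rfl⟩
  show θ y * θ x = θ x * θ y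
  rw [← map_mul, om_comm hx hy, map_mul]

omit [Finite G] in
theorem index_map' (θ : MulAut G) (P : Subgroup G) : (P.map θ.toMonoidHom).index = P.index :=
  Subgroup.index_map_equiv P θ

/-- the automorphism of an invariant subgroup -/
theorem Kp.aut {P E : Subgroup G} {f : G → G} (h : Kp F P f) (hE : E ≤ P) (hm : ∀ x ∈ E, f x ∈ E) :
    ∃ α ∈ F.autGroup E, Odd (orderOf α) ∧ ∀ x : E, ((α x : E) : G) = f x := by
  obtain ⟨α, hα, h1⟩ := (h.mp.res hE).exists_aut hm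
  obtain ⟨k, hk, h2⟩ := h.odd
  have h3 : ∀ x ∈ E, fn α x = f x := fun x hx => by rw [fn_apply α hx, h1 x hx]
  have h4 : ∀ n, ∀ x ∈ E, (fn α)^[n] x = f^[n] x := by
    intro n
    induction n with
    | zero => exact fun _ _ => rfl
    | succ n ih =>
      intro x hx
      rw [Function.iterate_succ_apply, Function.iterate_succ_apply, h3 x hx, ih _ (hm x hx)]
  refine ⟨α, hα, hk.of_dvd_nat (orderOf_dvd_of_pow_eq_one (MulEquiv.ext fun x => Subtype.ext ?_)),
    fun x => (h1 x x.2).symm⟩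
  rw [← fn_apply (α ^ k) x.2, fn_pow α k x.2, h4 k x x.2, h2 x (hE x.2)]
  rfl

theorem up_le_hyp (P : Subgroup G) : Up F P ≤ hyp F := by
  refine up_le fun f hf x hx => ?_
  obtain ⟨α, hα, h1, h2⟩ := hf.aut le_rfl hf.mem
  refine Subgroup.subset_closure ⟨P, ⟨α, hα⟩, ⟨x, hx⟩, le_top, Subgroup.subset_closure ?_, by rw [← h2 ⟨x, hx⟩]⟩
  show Nat.Coprime (orderOf (⟨α, hα⟩ : F.autGroup P)) 2
  rw [← Subgroup.orderOf_coe]
  exact Nat.coprime_two_right.2 h1

end Cfsg.Agent.FS.N.C2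
end

-- part: FS/N/C2/Ess
section
/-!
# S5288, class two: one essential subgroup (helper53, project FS)
-/

set_option autoImplicit false

namespace Cfsg.Agent.FS.N.C2

open Cfsg Cfsg.FusionSystem Cfsg.Agent.H752 Cfsg.Agent.FS.Th

variable {G : Type} [Group G] [Finite G] {F : Sys G} {P : Subgroup G} {f : G → G}

theorem Cx.loc (c : Cx F) (hP : Es F P) : ∃ D, Loc P (F.autGroup P) D := locM_of_essential c.pg c.hy.sat hP

theorem Cx.zle (c : Cx F) (hP : Es F P) : Zc G ≤ P := fun _ hz =>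
  let ⟨_, h⟩ := c.loc hP
  h.mem_of_centralizes fun x _ => (zc hz x).symm

theorem Cx.ne_top (c : Cx F) (hP : Es F P) : P ≠ ⊤ :=
  let ⟨_, h⟩ := c.loc hP
  h.proper

theorem Cx.exists_not_mem (c : Cx F) (hP : Es F P) : ∃ t, t ∉ P := by
  by_contra h
  push Not at h
  exact c.ne_top hP ((Subgroup.eq_top_iff' P).2 h)

theorem Cx.nor (c : Cx F) (hP : Es F P) (g : G) {x : G} (hx : x ∈ P) : g * x * g⁻¹ ∈ P := nor_of c.cl (c.zle hP) g hx

omit [Finite G] in
/-- the basic identity -/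
theorem Kp.twice (hc : Cl2 G) (hZ : Zc G ≤ P) (h : Kp F P f) :
    ∃ t, t * t ∈ P ∧ ∀ x ∈ P, f (br t (f x)) * f (f x) = br t x * x := by
  obtain ⟨t, h1, h2⟩ := h.inv
  refine ⟨t, h1, fun x hx => ?_⟩
  rw [← h.mp.mul (hZ (br_mem hc _ _)) (h.mem x hx), ← conj_eq, ← conj_eq, h2 x hx]

/-- the centre is elementary abelian -/
theorem Cx.zsq (c : Cx F) {z : G} (hz : z ∈ Zc G) : z * z = 1 := by
  let W : Subgroup G :=
    { carrier := {w | ∃ y ∈ Zc G, w = y * y}
      one_mem' := ⟨1, (Zc G).one_mem, (one_mul 1).symm⟩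
      mul_mem' := by
        rintro _ _ ⟨a, ha, rfl⟩ ⟨b, hb, rfl⟩
        exact ⟨a * b, (Zc G).mul_mem ha hb, by rw [mul_assoc, mul_assoc, ← mul_assoc b, zc ha b, mul_assoc]⟩
      inv_mem' := by
        rintro _ ⟨a, ha, rfl⟩
        exact ⟨a⁻¹, (Zc G).inv_mem ha, mul_inv_rev a a⟩ }
  have hW : W = ⊥ := by
    refine c.eq_bot ?_ fun P hP => ⟨?_, fun f hf => ?_⟩
    · rintro θ - _ ⟨y, hy, rfl⟩
      refine ⟨θ y, Subgroup.mem_center_iff.2 fun g => ?_, map_mul θ y y⟩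
      obtain ⟨g, rfl⟩ := θ.surjective g
      rw [← map_mul, zc hy, map_mul]
    · rintro _ ⟨y, hy, rfl⟩
      exact P.mul_mem (c.zle hP hy) (c.zle hP hy)
    · rintro _ ⟨y, hy, rfl⟩
      have hyP := c.zle hP hy
      obtain ⟨t, h1, h2⟩ := hf.twice c.cl (c.zle hP)
      have h3 := h2 (y * y) (P.mul_mem hyP hyP)
      have h4 : br t (f (y * y)) = 1 := by
        obtain ⟨s, hs, h5⟩ := hf.mp.surj hf.mem h1
        rw [hf.mp.mul hyP hyP, br_mul_right c.cl, ← br_mul_left c.cl, br_eq_one, ← h5, ← hf.mp.mul hs hyP,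
          ← hf.mp.mul hyP hs, zc hy]
      rw [h4, hf.mp.one, one_mul, br_zr ((Zc G).mul_mem hy hy), one_mul] at h3
      exact ⟨y, hy, hf.fix (P.mul_mem hyP hyP) h3⟩
  have h1 : z * z ∈ W := ⟨z, hz, rfl⟩
  rwa [hW, Subgroup.mem_bot] at h1

theorem Cx.sq_mem (c : Cx F) (x : G) : x * x ∈ Zc G := Subgroup.mem_center_iff.2 fun g => by
  rw [← br_eq_one, br_mul_right c.cl, c.zsq (br_mem c.cl g x)]

theorem Cx.zinv (c : Cx F) {z : G} (hz : z ∈ Zc G) : z⁻¹ = z := inv_eq_of_mul_eq_one_right (c.zsq hz)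

theorem Cx.br_symm (c : Cx F) (a b : G) : br a b = br b a := by rw [← br_inv, c.zinv (br_mem c.cl b a)]

theorem Cx.zom (c : Cx F) (hZ : Zc G ≤ P) : Zc G ≤ Om P := fun _ hz => ⟨hZ hz, c.zsq hz, fun y _ => zc hz y⟩

/-- `[P, K] ≤ Ω₁ Z(P)` -/
theorem Cx.dm (c : Cx F) (hP : Es F P) (h : Kp F P f) {x : G} (hx : x ∈ P) : x⁻¹ * f x ∈ Om P := by
  have hZ := c.zle hP
  obtain ⟨t, -, h2⟩ := h.twice c.cl hZ
  have h3 : ∀ x ∈ P, x⁻¹ * f (f x) ∈ Om P := fun x hx => by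
    have h4 := mp_om h.mp h.mem (c.zom hZ (br_mem c.cl t (f x)))
    have h5 : f (f x) = (f (br t (f x)))⁻¹ * (br t x * x) := by rw [← h2 x hx, inv_mul_cancel_left]
    rw [h5, ← mul_assoc, om_comm ((Om P).inv_mem h4) (P.inv_mem hx), ← zc (br_mem c.cl t x), mul_assoc,
      inv_mul_cancel_left]
    exact (Om P).mul_mem ((Om P).inv_mem h4) (c.zom hZ (br_mem c.cl t x))
  have h4 : ∀ j : ℕ, x⁻¹ * f^[2 * j] x ∈ Om P := by
    intro j
    induction j with
    | zero => rw [Nat.mul_zero, Function.iterate_zero_apply, inv_mul_cancel]; exact (Om P).one_mem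
    | succ j ih =>
      have e : x⁻¹ * f^[2 * (j + 1)] x = (x⁻¹ * f^[2 * j] x) * ((f^[2 * j] x)⁻¹ * f (f (f^[2 * j] x))) := by
        rw [Nat.mul_succ, add_comm, Function.iterate_add_apply, mul_assoc, mul_inv_cancel_left]
        rfl
      rw [e]
      exact (Om P).mul_mem ih (h3 _ (h.iter_mem hx _))
  obtain ⟨k, ⟨j, rfl⟩, h5⟩ := h.odd
  have h6 := h4 (j + 1)
  rwa [show 2 * (j + 1) = (2 * j + 1) + 1 by ring, Function.iterate_succ_apply', h5 x hx] at h6

theorem Cx.up_le_om (c : Cx F) (hP : Es F P) : Up F P ≤ Om P := up_le fun _ hf _ hx => c.dm hP hf hx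

theorem Cx.eq_mul (c : Cx F) (hP : Es F P) (h : Kp F P f) {x : G} (hx : x ∈ P) : ∃ u ∈ Om P, f x = x * u :=
  ⟨_, c.dm hP h hx, (mul_inv_cancel_left _ _).symm⟩

theorem Cx.sq_cp (c : Cx F) (hP : Es F P) {x : G} (hx : x ∈ P) : x * x ∈ Cp F P := by
  refine ⟨P.mul_mem hx hx, fun f hf => ?_⟩
  obtain ⟨u, hu, h1⟩ := c.eq_mul hP hf hx
  rw [hf.mp.mul hx hx, h1, mul_assoc, ← mul_assoc u, ← om_comm hu hx, mul_assoc, om_sq hu, mul_one]

omit [Finite G] in
theorem mp_br (h : Mp F P f) {x y : G} (hx : x ∈ P) (hy : y ∈ P) : f (br x y) = br (f x) (f y) := by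
  unfold br
  rw [h.mul (P.mul_mem (P.mul_mem hx hy) (P.inv_mem hx)) (P.inv_mem hy), h.mul (P.mul_mem hx hy) (P.inv_mem hx),
    h.mul hx hy, h.inv hx, h.inv hy]

theorem Cx.br_cp (c : Cx F) (hP : Es F P) {x y : G} (hx : x ∈ P) (hy : y ∈ P) : br x y ∈ Cp F P := by
  refine ⟨c.zle hP (br_mem c.cl x y), fun f hf => ?_⟩
  obtain ⟨u, hu, h1⟩ := c.eq_mul hP hf hx
  obtain ⟨v, hv, h2⟩ := c.eq_mul hP hf hy
  rw [mp_br hf.mp hx hy, h1, h2, br_mul_left c.cl, br_mul_right c.cl, br_mul_right c.cl,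
    br_eq_one.2 (om_comm hv hx), br_eq_one.2 (om_comm hu hy).symm, br_eq_one.2 (om_comm hv hu.1), mul_one, mul_one,
    mul_one]

/-- a chain `1 ≤ K ≤ P` -/
theorem Cx.mem_of_two (c : Cx F) (hP : Es F P) {D : Subgroup (MulAut P)} (h : Loc P (F.autGroup P) D) {α : MulAut P}
    (hα : α ∈ F.autGroup P) (hD : α ∉ D) {K : Subgroup G} (hZ : Zc G ≤ K) (hK : K ≤ P)
    (hαK : ∀ x ∈ K, fn α x ∈ K) {g : G} (hg : ∀ x ∈ K, g * x = x * g) : g ∈ P := by
  refine h.mem_of_chain hα hD (K := fun i => match i with | 0 => ⊥ | 1 => K | _ + 2 => P) (m := 2) ?_ rfl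
    (nonGen_bot P) ?_ ?_ ?_
  · rintro (_ | _ | i)
    exacts [bot_le, hK, le_rfl]
  · rintro (_ | _ | i) x hx
    · rw [Subgroup.mem_bot.1 hx, fn_map_one]
      exact Subgroup.one_mem _
    · exact hαK x hx
    · exact fn_mem α hx
  · rintro (_ | _ | i) x hx
    · rw [Subgroup.mem_bot.1 hx, mul_one, mul_inv_cancel]
      exact Subgroup.one_mem _
    · exact nor_of c.cl hZ g hx
    · exact c.nor hP g hx
  · rintro (_ | _ | i) hi x hx
    · exact Subgroup.mem_bot.2 (br_eq_one.2 (hg x hx))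
    · exact hZ (br_mem c.cl g x)
    · omega

/-- the stabilizer of the centre lies in `D` -/
theorem Cx.mem_of_stab (c : Cx F) (hP : Es F P) {D : Subgroup (MulAut P)} (h : Loc P (F.autGroup P) D) {α : MulAut P}
    (hα : α ∈ F.autGroup P) (hZ : ∀ z ∈ Zc G, fn α z ∈ Zc G) : α ∈ D := by
  by_contra hD
  obtain ⟨t, ht⟩ := c.exists_not_mem hP
  exact ht (c.mem_of_two hP h hα hD le_rfl (c.zle hP) hZ fun x hx => zc hx t)

/-- `C(Ω₁ Z(P)) = P` -/
theorem Cx.mem_of_cent (c : Cx F) (hP : Es F P) {g : G} (hg : ∀ x ∈ Om P, g * x = x * g) : g ∈ P := by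
  obtain ⟨D, h⟩ := c.loc hP
  obtain ⟨α, hα, hD⟩ := SetLike.not_le_iff_exists.1 h.ne
  exact c.mem_of_two hP h hα hD (c.zom (c.zle hP)) (om_le P) (fun x hx => fn_mem_inVS α hx) hg

theorem Cx.exists_move (c : Cx F) (hP : Es F P) : ∃ f, Kp F P f ∧ ∃ z ∈ Zc G, f z ∉ Zc G := by
  obtain ⟨D, h⟩ := c.loc hP
  obtain ⟨t, r, α, h1⟩ := h.exists_dih₀
  obtain ⟨k, hk⟩ := h1.ord
  refine ⟨fn α, kp_of h1.mem (h1.prime.odd_of_ne_two h1.ne_two).pow hk h1.tsq h1.inv, ?_⟩
  by_contra h2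
  push Not at h2
  exact h1.notMem (c.mem_of_stab hP h h1.mem h2)

theorem Cx.up_ne_bot (c : Cx F) (hP : Es F P) : Up F P ≠ ⊥ := by
  obtain ⟨f, hf, z, hz, h1⟩ := c.exists_move hP
  intro h
  have h2 := up_mem hf (c.zle hP hz)
  rw [h, Subgroup.mem_bot, inv_mul_eq_one] at h2
  exact h1 (h2 ▸ hz)

theorem Cx.exists_om (c : Cx F) (hP : Es F P) : ∃ a ∈ Om P, a ∉ Zc G := by
  obtain ⟨f, hf, z, hz, h1⟩ := c.exists_move hP
  exact ⟨f z, mp_om hf.mp hf.mem (c.zom (c.zle hP) hz), h1⟩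

omit [Finite G] in
theorem om_pow_odd {u : G} (hu : u ∈ Om P) {k : ℕ} (hk : Odd k) : u ^ k = u := by
  obtain ⟨j, rfl⟩ := hk
  rw [pow_succ, pow_mul, pow_two, om_sq hu, one_pow, one_mul]

/-- coprime action: `[P, f] = [Ω₁ Z(P), f]` -/
theorem Cx.exists_cob (c : Cx F) (hP : Es F P) (h : Kp F P f) {x : G} (hx : x ∈ P) :
    ∃ a ∈ Om P, x⁻¹ * f x = a⁻¹ * f a := by
  have hu := c.dm hP h hx
  have h1 : ∀ n : ℕ, x⁻¹ * f^[n] x ∈ Om P ∧ ∃ a ∈ Om P, f a = (x⁻¹ * f x) ^ n * a * (x⁻¹ * f^[n] x) := by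
    intro n
    induction n with
    | zero =>
      rw [Function.iterate_zero_apply, inv_mul_cancel]
      exact ⟨(Om P).one_mem, 1, (Om P).one_mem, by rw [h.mp.one, pow_zero, mul_one, mul_one]⟩
    | succ n ih =>
      obtain ⟨h2, a, ha, h3⟩ := ih
      have h4 : f (x⁻¹ * f^[n] x) = (x⁻¹ * f x) * (x⁻¹ * f^[n + 1] x) := by
        rw [h.mp.mul (P.inv_mem hx) (h.iter_mem hx n), h.mp.inv hx, Function.iterate_succ_apply', ← om_inv hu]
        group
      have h5 : x⁻¹ * f^[n + 1] x ∈ Om P := by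
        have h6 := mp_om h.mp h.mem h2
        rw [h4] at h6
        exact ((Om P).mul_mem_cancel_left hu).1 h6
      refine ⟨h5, a * (x⁻¹ * f^[n] x), (Om P).mul_mem ha h2, ?_⟩
      rw [h.mp.mul ha.1 h2.1, h3, h4, pow_succ, ← mul_assoc, mul_assoc ((x⁻¹ * f x) ^ n) a,
        mul_assoc ((x⁻¹ * f x) ^ n), om_comm hu ((Om P).mul_mem ha h2).1]
      simp only [mul_assoc]
  obtain ⟨k, hk, h2⟩ := h.odd
  obtain ⟨-, a, ha, h3⟩ := h1 k
  rw [h2 x hx, inv_mul_cancel, mul_one, om_pow_odd hu hk] at h3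
  exact ⟨a, ha, by rw [h3, ← om_comm hu ha.1, inv_mul_cancel_left]⟩

/-- coprime action: `Ω₁ Z(P) = [P, K] C(f)` -/
theorem Kp.exists_fix (h : Kp F P f) {a : G} (ha : a ∈ Om P) :
    ∃ b ∈ Om P, f b = b ∧ a⁻¹ * b ∈ Up F P := by
  have h0 : ∀ n : ℕ, f^[n] a ∈ Om P ∧ a⁻¹ * f^[n] a ∈ Up F P := by
    intro n
    induction n with
    | zero => exact ⟨ha, by rw [Function.iterate_zero_apply, inv_mul_cancel]; exact Subgroup.one_mem _⟩
    | succ n ih =>
      rw [Function.iterate_succ_apply']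
      refine ⟨mp_om h.mp h.mem ih.1, ?_⟩
      have h1 := (Up F P).mul_mem ih.2 (up_mem h ih.1.1)
      rwa [mul_assoc, mul_inv_cancel_left] at h1
  have h1 : ∀ n : ℕ, ∃ b ∈ Om P, f b * a = b * f^[n] a ∧ (a ^ n)⁻¹ * b ∈ Up F P := by
    intro n
    induction n with
    | zero => exact ⟨1, (Om P).one_mem, by rw [h.mp.one]; rfl, by rw [pow_zero, inv_one, mul_one]; exact Subgroup.one_mem _⟩
    | succ n ih =>
      obtain ⟨b, hb, h2, h3⟩ := ih
      refine ⟨b * f^[n] a, (Om P).mul_mem hb (h0 n).1, ?_, ?_⟩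
      · rw [h.mp.mul hb.1 (h0 n).1.1, mul_assoc, om_comm ha (h.mem _ (h0 n).1.1), ← mul_assoc, h2,
          Function.iterate_succ_apply']
      · have h4 := (Up F P).mul_mem h3 (h0 n).2
        have e : (a ^ (n + 1))⁻¹ * (b * f^[n] a) = (a ^ n)⁻¹ * b * (a⁻¹ * f^[n] a) := by
          rw [pow_succ', mul_inv_rev, mul_assoc, mul_assoc, ← mul_assoc a⁻¹, om_comm hb (P.inv_mem ha.1), mul_assoc]
        rwa [e]
  obtain ⟨k, hk, h2⟩ := h.odd
  obtain ⟨b, hb, h3, h4⟩ := h1 k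
  rw [h2 a ha.1] at h3
  rw [om_pow_odd ha hk] at h4
  exact ⟨b, hb, mul_right_cancel h3, h4⟩

end Cfsg.Agent.FS.N.C2
end

-- part: FS/N/C2/Odd
section
/-!
# S5288, class two: lower bounds for the commutators on `Ω₁ Z(P)` (helper53, project FS)
-/

set_option autoImplicit false

namespace Cfsg.Agent.FS.N.C2

open Cfsg Cfsg.FusionSystem Cfsg.Agent.H752 Cfsg.Agent.FS.Th

section abstract

variable {Γ V : Type} [Group Γ]

theorem odd_abs [Finite Γ] [Group V] (ρ : Γ →* MulAut V) (D : Subgroup Γ) (hker : ∀ a, ρ a = 1 → a ∈ D) {σ τ a : Γ}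
    (σ2 : ρ σ * ρ σ = 1) (τ2 : ρ τ * ρ τ = 1) (fσ : Fr D σ) (fτ : Fr D τ) (σD : σ ∈ D) (τD : τ ∈ D)
    (hsyl : ∀ c : Γ, (∃ k, c ^ 2 ^ k = 1) → ρ c ≠ 1 → ∃ d, Fr D (d * c * d⁻¹)) (ha : a ∉ D) :
    Odd (orderOf (ρ (σ * (a * τ * a⁻¹)))) := by
  set y := σ * (a * τ * a⁻¹) with hy
  by_contra h
  obtain ⟨m, hm⟩ := Nat.not_odd_iff_even.1 h
  obtain ⟨k, n, hn, hN⟩ := Nat.exists_eq_two_pow_mul_odd (orderOf_pos y).ne'
  have h0 : 0 < orderOf (ρ y) := (ρ.isOfFinOrder (isOfFinOrder_of_finite y)).orderOf_pos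
  have h1 : ρ y ^ m ≠ 1 := pow_ne_one_of_lt_orderOf (by omega) (by omega)
  have h2 : ρ y ^ m * ρ y ^ m = 1 := by rw [← pow_add, ← hm, pow_orderOf_eq_one]
  have h3 : ρ (y ^ (m * n)) = ρ y ^ m := by
    obtain ⟨j, rfl⟩ := hn
    rw [map_pow, pow_mul, pow_succ, pow_mul, pow_two, h2, one_pow, one_mul]
  have h4 : ∀ s : MulAut V, s * ρ y * s⁻¹ = (ρ y)⁻¹ → ρ y ^ m * s * (ρ y ^ m)⁻¹ * s⁻¹ = 1 := fun s hs => by
    have h5 : s * ρ y ^ m * s⁻¹ = (ρ y ^ m)⁻¹ := by rw [← conj_pow, hs, inv_pow]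
    rw [inv_eq_of_mul_eq_one_right h2] at h5 ⊢
    rw [mul_assoc, mul_assoc, ← mul_assoc s, h5, h2]
  have u2 : ρ (a * τ * a⁻¹) * ρ (a * τ * a⁻¹) = 1 := by
    have e : a * τ * a⁻¹ * (a * τ * a⁻¹) = a * (τ * τ) * a⁻¹ := by group
    rw [← map_mul, e, map_mul, map_mul, map_mul, τ2, mul_one, ← map_mul, mul_inv_cancel, map_one]
  have e1 : ρ y = ρ σ * ρ (a * τ * a⁻¹) := map_mul _ _ _
  set c := y ^ (m * n) with hc
  have c1 : c ∈ D := by
    refine fσ c ((D.mul_mem_cancel_right (D.inv_mem σD)).1 (hker _ ?_))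
    rw [map_mul, map_mul, map_mul, map_inv, map_inv, h3]
    refine h4 _ ?_
    rw [e1, ← mul_assoc, σ2, one_mul, mul_inv_rev, inv_eq_of_mul_eq_one_right u2]
  have c2 : a⁻¹ * c * a ∈ D := by
    refine fτ _ ((D.mul_mem_cancel_right (D.inv_mem τD)).1 (hker _ ?_))
    have e : a⁻¹ * c * a * τ * (a⁻¹ * c * a)⁻¹ * τ⁻¹ =
        a⁻¹ * (c * (a * τ * a⁻¹) * c⁻¹ * (a * τ * a⁻¹)⁻¹) * a := by group
    have e2 : ρ (c * (a * τ * a⁻¹) * c⁻¹ * (a * τ * a⁻¹)⁻¹) = 1 := by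
      rw [map_mul, map_mul, map_mul, map_inv, map_inv, h3]
      refine h4 _ ?_
      rw [e1, mul_assoc, mul_inv_cancel_right, mul_inv_rev, inv_eq_of_mul_eq_one_right u2,
        inv_eq_of_mul_eq_one_right σ2]
    rw [e, map_mul, map_mul, e2, mul_one, ← map_mul, inv_mul_cancel, map_one]
  obtain ⟨d, hd⟩ := hsyl c ⟨k, by rw [hc, ← pow_mul, mul_assoc, mul_comm n, ← hN, mul_comm, pow_mul,
    pow_orderOf_eq_one, one_pow]⟩ (h3 ▸ h1)
  have d1 : d⁻¹ ∈ D := hd _ (by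
    have e : d⁻¹ * (d * c * d⁻¹) * d⁻¹⁻¹ = c := by group
    rwa [e])
  have d2 : a⁻¹ * d⁻¹ ∈ D := hd _ (by
    have e : a⁻¹ * d⁻¹ * (d * c * d⁻¹) * (a⁻¹ * d⁻¹)⁻¹ = a⁻¹ * c * a := by group
    rwa [e])
  exact ha (D.inv_mem_iff.1 ((D.mul_mem_cancel_right d1).1 d2))

theorem fix_of_odd [Group V] {s u : MulAut V} (h : Odd (orderOf (s * u))) {w e : V} (h1 : u w = w) (h2 : s w = e * w)
    (h3 : u e = e) (h4 : s e = e) (h5 : e * e = 1) : e = 1 := by
  have h6 : (s * u) w = w := by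
    refine iter_of_sq (f := ⇑(s * u)) h ?_ ?_
    · have e1 : ∀ n : ℕ, (⇑(s * u))^[n] w = ((s * u) ^ n) w := by
        intro n
        induction n with
        | zero => rfl
        | succ n ih => rw [Function.iterate_succ_apply', ih, pow_succ', MulAut.mul_apply _ (s * u)]
      rw [e1, pow_orderOf_eq_one, MulAut.one_apply]
    · rw [MulAut.mul_apply _ s u w, h1, h2, MulAut.mul_apply, map_mul, h3, h1, map_mul, h4, h2, ← mul_assoc, h5, one_mul]
  rw [MulAut.mul_apply, h1, h2] at h6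
  exact mul_right_cancel (h6.trans (one_mul w).symm)

end abstract

variable {G : Type} [Group G]

/-- an abelian subgroup as a commutative group -/
@[reducible] def cg (E : Subgroup G) (h : ∀ x ∈ E, ∀ y ∈ E, x * y = y * x) : CommGroup E :=
  { (inferInstance : Group E) with mul_comm := fun x y => Subtype.ext (h x x.2 y y.2) }

theorem om_ab (P : Subgroup G) : ∀ x ∈ Om P, ∀ y ∈ Om P, x * y = y * x := fun _ hx _ hy => om_comm hy hx.1

theorem exists_third {P : Subgroup G} (h : 2 < P.index) (t : G) : ∃ s, s ∉ P ∧ s⁻¹ * t ∉ P := by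
  by_contra h1
  push Not at h1
  have h2 : P.index ∣ 2 := Subgroup.index_dvd_two_iff.2 ⟨t, fun b => by
    by_cases hb : b ∈ P
    · exact Or.inr hb
    · have h3 := h1 b⁻¹ fun h4 => hb (P.inv_mem_iff.1 h4)
      rw [inv_inv] at h3
      exact Or.inl h3⟩
  have := Nat.le_of_dvd (by norm_num) h2
  omega

variable [Finite G] {F : Sys G} {P : Subgroup G}

/-- the module `Ω₁ Z(P)` -/
theorem Cx.exists_mod (c : Cx F) (hP : Es F P) :
    ∃ (ρ : F.autGroup P →* MulAut (Om P)) (κ : G →* F.autGroup P),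
      (∀ (α : F.autGroup P) (x : Om P), ((ρ α x : Om P) : G) = fn α.1 x) ∧ ∀ g, Cj g (κ g).1 := by
  have hn := normal_of c.cl (c.zle hP)
  refine ⟨MonoidHom.mk' (fun α => ⟨⟨fun x => ⟨fn α.1 x, fn_mem_inVS _ x.2⟩, fun x => ⟨fn α.1⁻¹ x, fn_mem_inVS _ x.2⟩,
      fun x => Subtype.ext (fn_inv_fn _ x.2.1), fun x => Subtype.ext (fn_fn_inv _ x.2.1)⟩,
      fun x y => Subtype.ext (fn_map_mul _ x.2.1 y.2.1)⟩)
      fun a b => MulEquiv.ext fun x => Subtype.ext (fn_mul _ _ x.2.1),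
    (MulAut.conjNormal (H := P)).codRestrict _ fun g =>
      (mp_conj F le_top (Subgroup.mem_top g)).mem_autGroup fun x hx => rfl, fun _ _ => rfl, fun _ _ => rfl⟩

/-- the local data on the module -/
structure Md (F : Sys G) (P : Subgroup G) (D : Subgroup (MulAut P)) (ρ : F.autGroup P →* MulAut (Om P))
    (κ : G →* F.autGroup P) : Prop where
  loc : Loc P (F.autGroup P) D
  rho : ∀ (α : F.autGroup P) (x : Om P), ((ρ α x : Om P) : G) = fn α.1 x
  kap : ∀ g, Cj g (κ g).1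

theorem Cx.md (c : Cx F) (hP : Es F P) : ∃ D ρ κ, Md F P D ρ κ := by
  obtain ⟨D, h⟩ := c.loc hP
  obtain ⟨ρ, κ, h1, h2⟩ := c.exists_mod hP
  exact ⟨D, ρ, κ, h, h1, h2⟩

namespace Md

variable {D : Subgroup (MulAut P)} {ρ : F.autGroup P →* MulAut (Om P)} {κ : G →* F.autGroup P}

omit [Finite G] in
theorem rk (h : Md F P D ρ κ) (g : G) (x : Om P) : ((ρ (κ g) x : Om P) : G) = g * x * g⁻¹ := by
  rw [h.rho, (h.kap g).fn x.2.1]

omit [Finite G] in
theorem rk_one (h : Md F P D ρ κ) {g : G} (hg : g ∈ P) : ρ (κ g) = 1 := MulEquiv.ext fun x => Subtype.ext (by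
  rw [h.rk, om_comm x.2 hg, mul_inv_cancel_right]
  rfl)

omit [Finite G] in
theorem fr (h : Md F P D ρ κ) {g : G} (hg : g ∉ P) : Fr (D.subgroupOf (F.autGroup P)) (κ g) := fun b hb =>
  h.loc.se b b.2 g _ hg (h.kap g) hb

omit [Finite G] in
theorem kD (h : Md F P D ρ κ) (g : G) : κ g ∈ D.subgroupOf (F.autGroup P) := h.loc.autD (h.kap g).mem

theorem sq (h : Md F P D ρ κ) (c : Cx F) (hP : Es F P) (g : G) : ρ (κ g) * ρ (κ g) = 1 := by
  rw [← map_mul, ← map_mul]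
  exact h.rk_one (c.zle hP (c.sq_mem g))

theorem ker (h : Md F P D ρ κ) (c : Cx F) (hP : Es F P) (a : F.autGroup P) (ha : ρ a = 1) :
    a ∈ D.subgroupOf (F.autGroup P) :=
  c.mem_of_stab hP h.loc (α := a.1) a.2 fun z hz => by
    rw [← h.rho a ⟨z, c.zom (c.zle hP) hz⟩, ha]
    exact hz

/-- the odd order lemma -/
theorem odd (h : Md F P D ρ κ) (c : Cx F) (hP : Es F P) {s t : G} (hs : s ∉ P) (ht : t ∉ P) {a : F.autGroup P}
    (ha : a ∉ D.subgroupOf (F.autGroup P)) : Odd (orderOf (ρ (κ s * (a * κ t * a⁻¹)))) := by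
  have := Loc.finAut P
  refine odd_abs ρ _ (h.ker c hP) (h.sq c hP s) (h.sq c hP t) (h.fr hs) (h.fr ht) (h.kD s) (h.kD t)
    (fun y ⟨k, hk⟩ hy => ?_) ha
  obtain ⟨d, hd, h1⟩ := h.loc.exists_conj_le (N := Subgroup.zpowers y.1) ((Subgroup.zpowers_le).2 y.2)
    (isPGroup_zpowers_of_pow (congrArg Subtype.val hk))
  obtain ⟨g, hg⟩ := mem_autTop_iff.1 (h1 _ (Subgroup.mem_zpowers _))
  have e : (⟨d, hd⟩ : F.autGroup P) * y * (⟨d, hd⟩ : F.autGroup P)⁻¹ = κ g := Subtype.ext (hg.unique (h.kap g))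
  refine ⟨⟨d, hd⟩, e ▸ h.fr fun h2 => hy ?_⟩
  have h3 := h.rk_one h2
  rw [← e, map_mul, map_mul, map_inv, mul_inv_eq_one, mul_eq_left] at h3
  exact h3

/-- the stabilizer lemma -/
theorem stab (h : Md F P D ρ κ) (c : Cx F) (hP : Es F P) (h2 : 2 < P.index) {t e e' : G} (ht : t ∉ P) (he : e ∈ Zc G)
    (he' : e' ∈ Zc G) (h4 : ∀ x ∈ Om P, br t x = 1 ∨ br t x = e ∨ br t x = e' ∨ br t x = e * e') {b : F.autGroup P}
    (hb : fn b.1 e = e) : b ∈ D.subgroupOf (F.autGroup P) := by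
  obtain ⟨s, hs, hst⟩ := exists_third h2 t
  let _ := cg (Om P) (om_ab P)
  have hz := c.zom (c.zle hP)
  refine nt_mod ρ (fun x => Subtype.ext (om_sq x.2)) _ (τ := κ t) (h := κ s) (e := ⟨e, hz he⟩) (e' := ⟨e', hz he'⟩)
    (h.sq c hP t) (h.kD s) ?_ ?_ (fun a ha => ?_) (h.ker c hP) ?_ ?_ ?_ fun x => ?_
  · rw [← map_inv]
    exact h.fr fun h5 => hs (P.inv_mem_iff.1 h5)
  · rw [← map_inv, ← map_mul]
    exact h.fr hst
  · obtain ⟨y, -, r, m, h1⟩ := h.loc.exists_dih' a.2 ha ht (c.zle hP (c.sq_mem t)) (h.kap t)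
    obtain ⟨k, hk⟩ := h1.ord
    exact ⟨m, r ^ k, (h1.prime.odd_of_ne_two h1.ne_two).pow, h1.notMem, Subtype.ext hk⟩
  · exact Subtype.ext (by rw [h.rk, zc he, mul_inv_cancel_right])
  · exact Subtype.ext (by rw [h.rk, zc he, mul_inv_cancel_right])
  · exact Subtype.ext (by rw [h.rho]; exact hb)
  · have e1 : ((cm (ρ (κ t)) x : Om P) : G) = br t x := by
      show (x : G) * ((ρ (κ t) x : Om P) : G) = _
      rw [h.rk, conj_eq, ← zc (br_mem c.cl t x), ← mul_assoc, om_sq x.2, one_mul]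
    simp only [Subtype.ext_iff, e1]
    exact h4 x x.2

end Md

/-- **no transvections** -/
theorem Cx.nt (c : Cx F) (hP : Es F P) (h2 : 2 < P.index) {t v : G} (ht : t ∉ P)
    (hv : ∀ x ∈ Om P, br t x = 1 ∨ br t x = v) : False := by
  obtain ⟨D, ρ, κ, h⟩ := c.md hP
  obtain ⟨a, ha, haD⟩ := SetLike.not_le_iff_exists.1 h.loc.ne
  by_cases hz : v ∈ Zc G
  · exact haD (h.stab c hP h2 ht (Zc G).one_mem hz (b := ⟨a, ha⟩) (fun x hx => (hv x hx).elim Or.inl
      fun h3 => Or.inr (Or.inr (Or.inl h3))) (fn_map_one a))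
  · exact ht (c.mem_of_cent hP fun x hx => br_eq_one.1 ((hv x hx).resolve_right fun h3 => hz (h3 ▸ br_mem c.cl t x)))

theorem four_cases' {U : Subgroup G} (h2 : ∀ x ∈ U, x * x = 1) (h4 : Nat.card U ≤ 4) {e : G} (he : e ∈ U)
    (he1 : e ≠ 1) : ∃ e' ∈ U, ∀ x ∈ U, x = 1 ∨ x = e ∨ x = e' ∨ x = e * e' := by
  classical
  by_cases h : ∀ x ∈ U, x = 1 ∨ x = e
  · exact ⟨1, U.one_mem, fun x hx => (h x hx).elim Or.inl fun h1 => Or.inr (Or.inl h1)⟩
  push Not at h
  obtain ⟨e', he', h1⟩ := h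
  refine ⟨e', he', fun x hx => ?_⟩
  have h5 : ({1, e, e', e * e'} : Set G) ⊆ U := by
    intro x hx
    simp only [Set.mem_insert_iff, Set.mem_singleton_iff] at hx
    rcases hx with rfl | rfl | rfl | rfl
    exacts [U.one_mem, he, he', U.mul_mem he he']
  have h3 : ({1, e, e', e * e'} : Set G).ncard = 4 := by
    rw [Set.ncard_eq_four]
    refine ⟨1, e, e', e * e', he1.symm, Ne.symm h1.1, fun h => h1.2 ?_, Ne.symm h1.2, fun h => h1.1 ?_,
      fun h => he1 ?_, rfl⟩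
    · exact mul_left_cancel (h.symm.trans (h2 e he).symm)
    · exact (left_eq_mul.1 h)
    · exact (right_eq_mul.1 h)
  have h6 := Set.eq_of_subset_of_ncard_le h5 (by rw [h3]; exact h4)
  have h7 : x ∈ ({1, e, e', e * e'} : Set G) := h6 ▸ hx
  simpa only [Set.mem_insert_iff, Set.mem_singleton_iff] using h7

/-- `[Ω₁ Z(P), t]` -/
def Wt (c : Cx F) (P : Subgroup G) (t : G) : Subgroup G := (Om P).map (brR c.cl t)

omit [Finite G] in
theorem wt_le (c : Cx F) (P : Subgroup G) (t : G) : Wt c P t ≤ Zc G := by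
  rintro _ ⟨x, -, rfl⟩
  exact br_mem c.cl t x

omit [Finite G] in
theorem br_mem_wt (c : Cx F) (t : G) {x : G} (hx : x ∈ Om P) : br t x ∈ Wt c P t := ⟨x, hx, rfl⟩

theorem Cx.exists_br (c : Cx F) (hP : Es F P) {t : G} (ht : t ∉ P) : ∃ x ∈ Om P, br t x ≠ 1 := by
  by_contra h
  push Not at h
  exact ht (c.mem_of_cent hP fun x hx => br_eq_one.1 (h x hx))

/-- **index at least eight needs rank at least three** -/
theorem Cx.g2 (c : Cx F) (hP : Es F P) (h8 : 4 < P.index) {t : G} (ht : t ∉ P) (h4 : Nat.card (Wt c P t) ≤ 4) :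
    False := by
  obtain ⟨D, ρ, κ, h⟩ := c.md hP
  obtain ⟨a, ha, haD⟩ := SetLike.not_le_iff_exists.1 h.loc.ne
  obtain ⟨x₀, hx₀, he1⟩ := c.exists_br hP ht
  set e := br t x₀ with he
  have heZ : e ∈ Zc G := br_mem c.cl t x₀
  have hZ := c.zle hP
  have hz := c.zom hZ
  obtain ⟨e', he', h5⟩ := four_cases' (fun x hx => c.zsq (wt_le c P t hx)) h4 (br_mem_wt c t hx₀) he1
  have hw : fn a e ∈ Om P := fn_mem_inVS a (hz heZ)
  let ψ : G →* G := MonoidHom.mk' (fun s => br t (fn a⁻¹ (br s (fn a e)))) fun s s' => by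
    rw [br_mul_left c.cl, fn_map_mul _ (hZ (br_mem c.cl _ _)) (hZ (br_mem c.cl _ _)), br_mul_right c.cl]
  have h6 : ψ.range ≤ Wt c P t := by
    rintro _ ⟨s, rfl⟩
    exact br_mem_wt c t (fn_mem_inVS _ (hz (br_mem c.cl _ _)))
  have h7 : ψ.ker.index ≤ 4 := by
    rw [Subgroup.index_ker]
    exact (Subgroup.card_le_of_le h6).trans h4
  obtain ⟨s, hs, hsP⟩ : ∃ s ∈ ψ.ker, s ∉ P := by
    by_contra h9
    push Not at h9
    have := Subgroup.index_antitone (show ψ.ker ≤ P from h9)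
    omega
  have hs' : br t (fn a⁻¹ (br s (fn a e))) = 1 := hs
  have h9 := h.odd c hP hsP ht (a := ⟨a, ha⟩) haD
  rw [map_mul] at h9
  have hu : ∀ y : Om P, br t (fn a⁻¹ y) = 1 → ρ (⟨a, ha⟩ * κ t * ⟨a, ha⟩⁻¹) y = y := fun y hy => by
    rw [map_mul, map_mul, MulAut.mul_apply, MulAut.mul_apply]
    have e1 : ρ (κ t) (ρ ⟨a, ha⟩⁻¹ y) = ρ ⟨a, ha⟩⁻¹ y := Subtype.ext (by
      rw [h.rk, h.rho, conj_eq]
      exact (congrArg (· * _) hy).trans (one_mul _))
    rw [e1, map_inv, MulAut.apply_inv_self]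
  have h10 := fix_of_odd h9 (w := ⟨fn a e, hw⟩) (e := ⟨br s (fn a e), hz (br_mem c.cl _ _)⟩)
    (hu _ (by rw [fn_inv_fn a (hZ heZ), br_zr heZ])) (Subtype.ext (by rw [h.rk, conj_eq]; rfl)) (hu _ hs')
    (Subtype.ext (by rw [h.rk, zc (br_mem c.cl _ _), mul_inv_cancel_right])) (Subtype.ext (c.zsq (br_mem c.cl _ _)))
  have h11 : s * fn a e = fn a e * s := br_eq_one.1 (congrArg Subtype.val h10)
  have h12 := h.stab c hP (by omega) ht heZ (wt_le c P t he') (fun x hx => h5 _ (br_mem_wt c t hx))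
    (b := ⟨a, ha⟩⁻¹ * κ s * ⟨a, ha⟩⁻¹⁻¹) (by
      show fn (a⁻¹ * (κ s).1 * a⁻¹⁻¹) e = e
      rw [inv_inv, fn_mul _ _ (hZ heZ), fn_mul _ _ hw.1, (h.kap s).fn hw.1, h11, mul_inv_cancel_right,
        fn_inv_fn a (hZ heZ)])
  exact haD ((Subgroup.inv_mem_iff _).1 (h.fr hsP _ h12))

end Cfsg.Agent.FS.N.C2
end

-- part: FS/N/C2/Edge
section
/-!
# S5288, class two: the edges (helper53, project FS)
-/

set_option autoImplicit false

namespace Cfsg.Agent.FS.N.C2

open Cfsg Cfsg.FusionSystem Cfsg.Agent.H752 Cfsg.Agent.FS.Th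

variable {G : Type} [Group G] [Finite G]

theorem rel_ne (H K : Subgroup G) : H.relIndex K ≠ 0 := Subgroup.index_ne_zero_of_finite

theorem rel_le_left {H K : Subgroup G} (h : H ≤ K) (L : Subgroup G) : K.relIndex L ≤ H.relIndex L :=
  Subgroup.relIndex_le_of_le_left h (rel_ne _ _)

theorem rel_le_right (H : Subgroup G) {K L : Subgroup G} (h : K ≤ L) : H.relIndex K ≤ H.relIndex L :=
  Subgroup.relIndex_le_of_le_right h (rel_ne _ _)

theorem rel_le_index (H K : Subgroup G) : H.relIndex K ≤ H.index := by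
  rw [← Subgroup.relIndex_top_right]
  exact rel_le_right H le_top

omit [Finite G] in
theorem card_eq_rel {H K : Subgroup G} (h : H ≤ K) : Nat.card K = Nat.card H * H.relIndex K := by
  rw [← Subgroup.relIndex_bot_left, ← Subgroup.relIndex_bot_left, Subgroup.relIndex_mul_relIndex _ _ _ bot_le h]

theorem mem_of_rel {H K L : Subgroup G} (h : H ≤ K) (h1 : H.relIndex L ≤ K.relIndex L) {x : G} (hK : x ∈ K)
    (hL : x ∈ L) : x ∈ H := by
  have h2 := Subgroup.relIndex_inf_mul_relIndex H K L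
  rw [inf_eq_left.2 h] at h2
  have h3 := Nat.pos_of_ne_zero (rel_ne K L)
  have h4 := Nat.pos_of_ne_zero (rel_ne H (K ⊓ L))
  have h5 : H.relIndex (K ⊓ L) = 1 := by nlinarith
  exact Subgroup.relIndex_eq_one.1 h5 ⟨hK, hL⟩

theorem dec_of_rel {P B : Subgroup G} (hn : P.Normal) (h : P.index ≤ P.relIndex B) (g : G) :
    ∃ b ∈ B, b⁻¹ * g ∈ P := by
  have h1 := Subgroup.relIndex_mul_index (show P ≤ B ⊔ P from le_sup_right)
  rw [Subgroup.relIndex_sup_right] at h1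
  have h2 := Nat.pos_of_ne_zero (rel_ne P B)
  have h3 : 0 < (B ⊔ P).index := Nat.pos_of_ne_zero Subgroup.index_ne_zero_of_finite
  have h4 : (B ⊔ P).index = 1 := by nlinarith
  have h5 : g ∈ B ⊔ P := by rw [Subgroup.index_eq_one.1 h4]; trivial
  obtain ⟨b, hb, p, hp, rfl⟩ := Subgroup.mem_sup_of_normal_right.1 h5
  exact ⟨b, hb, by rwa [inv_mul_cancel_left]⟩

theorem rel_pow (hG : IsPGroup 2 G) (H K : Subgroup G) : ∃ n, H.relIndex K = 2 ^ n :=
  haveI : Fact (Nat.Prime 2) := ⟨Nat.prime_two⟩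
  (hG.to_subgroup K).index _

theorem card_pow (hG : IsPGroup 2 G) (H : Subgroup G) : ∃ n, Nat.card H = 2 ^ n :=
  haveI : Fact (Nat.Prime 2) := ⟨Nat.prime_two⟩
  IsPGroup.iff_card.1 (hG.to_subgroup H)

theorem pow_cases {a : ℕ} (h : ∃ n, a = 2 ^ n) : a = 1 ∨ a = 2 ∨ a = 4 ∨ 8 ≤ a := by
  obtain ⟨n, rfl⟩ := h
  rcases n with _ | _ | _ | n
  · exact Or.inl rfl
  · exact Or.inr (Or.inl rfl)
  · exact Or.inr (Or.inr (Or.inl rfl))
  · have := Nat.two_pow_pos n
    refine Or.inr (Or.inr (Or.inr ?_))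
    rw [pow_succ, pow_succ, pow_succ]
    omega

theorem two_cases {U : Subgroup G} (h : Nat.card U ≤ 2) : ∃ v ∈ U, ∀ x ∈ U, x = 1 ∨ x = v := by
  by_contra h1
  push Not at h1
  obtain ⟨x, hx, h2, -⟩ := h1 1 U.one_mem
  obtain ⟨y, hy, h3, h4⟩ := h1 x hx
  have := Fintype.ofFinite U
  have h5 : 2 < Fintype.card U := Fintype.two_lt_card_iff.2 ⟨1, ⟨x, hx⟩, ⟨y, hy⟩,
    fun e => h2 (congrArg Subtype.val e).symm, fun e => h3 (congrArg Subtype.val e).symm,
    fun e => h4 (congrArg Subtype.val e).symm⟩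
  rw [Nat.card_eq_fintype_card] at h
  omega

theorem card_le_two {U : Subgroup G} {v : G} (h : ∀ x ∈ U, x = 1 ∨ x = v) : Nat.card U ≤ 2 := by
  have h1 : (U : Set G) ⊆ {1, v} := fun x hx => h x hx
  have h2 := Set.ncard_le_ncard h1
  have h3 := Set.ncard_insert_le (1 : G) {v}
  rw [Set.ncard_singleton] at h3
  exact h2.trans h3

variable {F : Sys G} {P Q : Subgroup G}

theorem Cx.om_le_symm (c : Cx F) (hP : Es F P) (h : Om P ≤ Q) : Om Q ≤ P := fun _ hb =>
  c.mem_of_cent hP fun _ hx => (om_comm hb (h hx)).symm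

omit [Finite G] in
theorem card_wt (c : Cx F) (P : Subgroup G) (t : G) : Nat.card (Wt c P t) = (brR c.cl t).ker.relIndex (Om P) :=
  (Subgroup.relIndex_ker _ _).symm

theorem Cx.wt_le_rel (c : Cx F) (P : Subgroup G) {b : G} (hb : b ∈ Om Q) :
    Nat.card (Wt c P b) ≤ Q.relIndex (Om P) := by
  rw [card_wt]
  exact rel_le_left (fun x hx => br_eq_one.2 (om_comm hb hx).symm) _

theorem Cx.wt_two (c : Cx F) (hP : Es F P) {t : G} (ht : t ∉ P) : 2 ≤ Nat.card (Wt c P t) := by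
  obtain ⟨x, hx, h1⟩ := c.exists_br hP ht
  exact Finite.one_lt_card_iff_nontrivial.2 ⟨⟨_, br_mem_wt c t hx⟩, 1, fun e => h1 (congrArg Subtype.val e)⟩

theorem Cx.wt_four (c : Cx F) (hP : Es F P) (h : 2 < P.index) {t : G} (ht : t ∉ P) : 4 ≤ Nat.card (Wt c P t) := by
  by_contra h1
  have h2 := c.wt_two hP ht
  have h3 := pow_cases (card_pow c.pg (Wt c P t))
  obtain ⟨v, -, hv⟩ := two_cases (U := Wt c P t) (by omega)
  exact c.nt hP h ht fun x hx => hv _ (br_mem_wt c t hx)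

theorem Cx.wt_eight (c : Cx F) (hP : Es F P) (h : 4 < P.index) {t : G} (ht : t ∉ P) : 8 ≤ Nat.card (Wt c P t) := by
  by_contra h1
  have h3 := pow_cases (card_pow c.pg (Wt c P t))
  exact c.g2 hP h ht (by omega)

/-- a regular essential subgroup -/
structure Rg (F : Sys G) (q : ℕ) (P : Subgroup G) : Prop where
  es : Es F P
  idx : P.index = q
  rel : (Zc G).relIndex (Om P) = q
  reg : ∀ t, t ∉ P → ∀ a ∈ Om P, t * a = a * t → a ∈ Zc G

theorem Cx.idx_ne (c : Cx F) (hP : Es F P) : P.index ≠ 1 := fun h => c.ne_top hP (Subgroup.index_eq_one.1 h)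

theorem Cx.rg_of (c : Cx F) (hP : Es F P) {q : ℕ} (h1 : P.index = q) (h2 : P.relIndex (Om Q) = q)
    (h3 : Q.relIndex (Om P) = q) (hZ : Zc G ≤ Q) (h4 : ∀ t, t ∉ P → q ≤ Nat.card (Wt c P t)) : Rg F q P := by
  have h5 : (Zc G).relIndex (Om P) = q := by
    rw [← h3, ← Subgroup.inf_relIndex_right (Zc G), ← Subgroup.inf_relIndex_right Q]
    congr 1
    refine le_antisymm (inf_le_inf_right _ hZ) fun x hx => ⟨Subgroup.mem_center_iff.2 fun g => ?_, hx.2⟩
    obtain ⟨b, hb, h6⟩ := dec_of_rel (normal_of c.cl (c.zle hP)) (h1.trans h2.symm).le g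
    rw [← mul_inv_cancel_left b g, mul_assoc, om_comm hx.2 h6, ← mul_assoc, ← om_comm hb hx.1, mul_assoc]
  refine ⟨hP, h1, h5, fun t ht a ha h6 => ?_⟩
  refine mem_of_rel (K := (brR c.cl t).ker) (fun z hz => br_zr hz t) ?_ (br_eq_one.2 h6) ha
  rw [h5, ← card_wt]
  exact h4 t ht

/-- a transvection -/
theorem Cx.rg_two (c : Cx F) (hP : Es F P) {t v : G} (ht : t ∉ P) (hv : ∀ x ∈ Om P, br t x = 1 ∨ br t x = v) :
    Rg F 2 P := by
  have h1 : P.index = 2 := by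
    have h2 := c.idx_ne hP
    have h3 : P.index ≠ 0 := Subgroup.index_ne_zero_of_finite
    by_contra h4
    exact c.nt hP (by omega) ht hv
  have h2 : ∀ t, t ∉ P → ∀ a ∈ Om P, t * a = a * t → a ∈ Zc G := fun t ht a ha h2 =>
    Subgroup.mem_center_iff.2 fun g => by
      by_cases hg : g ∈ P
      · exact om_comm ha hg
      · have h3 : t⁻¹ * g ∈ P := (Subgroup.mul_mem_iff_of_index_two h1).2 (by simp [ht, hg])
        rw [← mul_inv_cancel_left t g, mul_assoc, om_comm ha h3, ← mul_assoc, h2, mul_assoc]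
  refine ⟨hP, h1, ?_, h2⟩
  have h3 : Nat.card (Wt c P t) ≤ 2 := card_le_two (v := v) (by
    rintro _ ⟨x, hx, rfl⟩
    exact hv x hx)
  rw [← le_antisymm h3 (c.wt_two hP ht), card_wt, ← Subgroup.inf_relIndex_right (Zc G),
    ← Subgroup.inf_relIndex_right (brR c.cl t).ker]
  congr 1
  exact le_antisymm (inf_le_inf_right _ fun z hz => br_zr hz t) fun x hx => ⟨h2 t ht x hx.2 (br_eq_one.1 hx.1), hx.2⟩

theorem Cx.edge_two (c : Cx F) (hP : Es F P) (h : ¬ Om Q ≤ P) (h2 : Q.relIndex (Om P) ≤ 2) : Rg F 2 P := by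
  obtain ⟨b, hb, hbP⟩ := SetLike.not_le_iff_exists.1 h
  obtain ⟨v, -, hv⟩ := two_cases ((c.wt_le_rel P hb).trans h2)
  exact c.rg_two hP hbP fun x hx => hv _ (br_mem_wt c b hx)

theorem Cx.edge_four (c : Cx F) (hP : Es F P) (h : ¬ Om Q ≤ P) (h2 : Q.relIndex (Om P) ≤ 4) : P.index ≤ 4 := by
  obtain ⟨b, hb, hbP⟩ := SetLike.not_le_iff_exists.1 h
  by_contra h3
  exact c.g2 hP (by omega) hbP ((c.wt_le_rel P hb).trans h2)

theorem Cx.edge_eight (c : Cx F) (hc : Nat.card G ≤ 2 ^ 9) (hP : Es F P) (hQ : Es F Q) (h1 : 8 ≤ Q.relIndex (Om P))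
    (h2 : 8 ≤ P.relIndex (Om Q)) : P.index = 8 ∧ Q.relIndex (Om P) = 8 ∧ Nat.card (Zc G) = 8 := by
  have h3 := rel_le_index P (Om Q)
  have h4 := rel_le_right Q (om_le P)
  obtain ⟨t, ht⟩ := c.exists_not_mem hP
  have h5 := (c.wt_eight hP (by omega) ht).trans (Subgroup.card_le_of_le (wt_le c P t))
  have h6 : Nat.card (Zc G) ≤ Nat.card ↥(Q ⊓ P) := Subgroup.card_le_of_le (le_inf (c.zle hQ) (c.zle hP))
  have h7 := Subgroup.card_mul_index (Q ⊓ P)
  rw [← Subgroup.relIndex_mul_index (show Q ⊓ P ≤ P from inf_le_right), Subgroup.inf_relIndex_right] at h7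
  generalize Nat.card ↥(Q ⊓ P) = x, Q.relIndex P = y, P.index = z at *
  have hx : 8 ≤ x := by omega
  have hy : 8 ≤ y := by omega
  have hz : 8 ≤ z := by omega
  have e1 : x * (8 * 8) ≤ x * (y * z) := Nat.mul_le_mul_left _ (Nat.mul_le_mul hy hz)
  have e2 : 8 * (y * 8) ≤ x * (y * z) := Nat.mul_le_mul hx (Nat.mul_le_mul_left _ hz)
  have e3 : 8 * (8 * z) ≤ x * (y * z) := Nat.mul_le_mul hx (Nat.mul_le_mul_right _ hy)
  omega

/-- **the edges** -/
theorem Cx.edge (c : Cx F) (hc : Nat.card G ≤ 2 ^ 9) (hP : Es F P) (hQ : Es F Q) (h : ¬ Om P ≤ Q) :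
    (Rg F 2 P ∧ Rg F 2 Q) ∨ (Rg F 4 P ∧ Rg F 4 Q) ∨ (Rg F 8 P ∧ Rg F 8 Q ∧ Nat.card (Zc G) = 8) := by
  have h' : ¬ Om Q ≤ P := fun h1 => h (c.om_le_symm hQ h1)
  have j1 : Q.relIndex (Om P) ≠ 1 := fun e => h (Subgroup.relIndex_eq_one.1 e)
  have k1 : P.relIndex (Om Q) ≠ 1 := fun e => h' (Subgroup.relIndex_eq_one.1 e)
  have j2 := pow_cases (rel_pow c.pg Q (Om P))
  have k2 := pow_cases (rel_pow c.pg P (Om Q))
  have j3 := rel_le_index Q (Om P)
  have k3 := rel_le_index P (Om Q)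
  by_cases a1 : Q.relIndex (Om P) ≤ 2
  · have r1 := c.edge_two hP h' a1
    exact Or.inl ⟨r1, c.edge_two hQ h (k3.trans r1.idx.le)⟩
  by_cases a2 : P.relIndex (Om Q) ≤ 2
  · exact (a1 (j3.trans (c.edge_two hQ h a2).idx.le)).elim
  by_cases a3 : Q.relIndex (Om P) ≤ 4 ∨ P.relIndex (Om Q) ≤ 4
  · have b1 : P.index ≤ 4 ∧ Q.index ≤ 4 := by
      rcases a3 with a3 | a3
      · have b1 := c.edge_four hP h' a3
        exact ⟨b1, c.edge_four hQ h (k3.trans b1)⟩
      · have b1 := c.edge_four hQ h a3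
        exact ⟨c.edge_four hP h' (j3.trans b1), b1⟩
    exact Or.inr (Or.inl ⟨c.rg_of hP (Q := Q) (by omega) (by omega) (by omega) (c.zle hQ)
      fun t ht => c.wt_four hP (by omega) ht, c.rg_of hQ (Q := P) (by omega) (by omega) (by omega) (c.zle hP)
      fun t ht => c.wt_four hQ (by omega) ht⟩)
  · obtain ⟨b1, b2, b3⟩ := c.edge_eight hc hP hQ (by omega) (by omega)
    obtain ⟨b4, b5, -⟩ := c.edge_eight hc hQ hP (by omega) (by omega)
    exact Or.inr (Or.inr ⟨c.rg_of hP b1 b5 b2 (c.zle hQ) fun t ht => c.wt_eight hP (by omega) ht,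
      c.rg_of hQ b4 b2 b5 (c.zle hP) fun t ht => c.wt_eight hQ (by omega) ht, b3⟩)

namespace Rg

variable {q : ℕ}

omit [Finite G] in
theorem mem (h : Rg F q P) {a t : G} (ha : a ∈ Om P) (haZ : a ∉ Zc G) (ht : t * a = a * t) : t ∈ P := by
  by_contra h1
  exact haZ (h.reg t h1 a ha ht)

omit [Finite G] in
/-- on an edge `Ω₁ Z(P) ∩ Q = Z` -/
theorem z_of (h : Rg F q P) (he : ¬ Om Q ≤ P) {a : G} (ha : a ∈ Om P) (haQ : a ∈ Q) : a ∈ Zc G := by
  obtain ⟨b, hb, hbP⟩ := SetLike.not_le_iff_exists.1 he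
  exact h.reg b hbP a ha (om_comm hb haQ).symm

theorem le_rel (h : Rg F q P) (he : ¬ Om Q ≤ P) : q ≤ Q.relIndex (Om P) := by
  rw [← Subgroup.inf_relIndex_right Q]
  exact h.rel.ge.trans (rel_le_left (H := Q ⊓ Om P) (fun x hx => h.z_of he hx.2 hx.1) _)

/-- on an edge `G = Ω₁ Z(P) Q` -/
theorem dec (h : Rg F q P) (c : Cx F) (hQ : Rg F q Q) (he : ¬ Om Q ≤ P) (g : G) : ∃ a ∈ Om P, a⁻¹ * g ∈ Q :=
  dec_of_rel (normal_of c.cl (c.zle hQ.es)) (hQ.idx.le.trans (h.le_rel he)) g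

theorem dec2 (h : Rg F q P) (c : Cx F) (hQ : Rg F q Q) (he : ¬ Om Q ≤ P) (g : G) :
    ∃ a ∈ Om P, ∃ b ∈ Om Q, ∃ y, y ∈ P ∧ y ∈ Q ∧ g = a * b * y := by
  obtain ⟨a, ha, h1⟩ := h.dec c hQ he g
  obtain ⟨b, hb, h2⟩ := hQ.dec c h (fun h3 => he (c.om_le_symm h.es h3)) (a⁻¹ * g)
  exact ⟨a, ha, b, hb, _, h2, Q.mul_mem (Q.inv_mem hb.1) h1, by group⟩

omit [Finite G] in
theorem card_wt (h : Rg F q P) (c : Cx F) {t : G} (ht : t ∉ P) : Nat.card (Wt c P t) = q := by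
  rw [C2.card_wt, ← h.rel, ← Subgroup.inf_relIndex_right (Zc G), ← Subgroup.inf_relIndex_right (brR c.cl t).ker]
  congr 1
  exact le_antisymm (fun x hx => ⟨h.reg t ht x hx.2 (br_eq_one.1 hx.1), hx.2⟩)
    (inf_le_inf_right _ fun z hz => br_zr hz t)

/-- on an edge `|G| = q² |P ∩ Q|` -/
theorem card_inf (h : Rg F q P) (hQ : Rg F q Q) (he : ¬ Om Q ≤ P) :
    Nat.card ↥(P ⊓ Q) * (q * q) = Nat.card G := by
  have h1 := Subgroup.card_mul_index (Q ⊓ P)
  rw [← Subgroup.relIndex_mul_index (show Q ⊓ P ≤ P from inf_le_right), Subgroup.inf_relIndex_right, h.idx] at h1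
  have h2 : Q.relIndex P = q :=
    le_antisymm ((rel_le_index Q P).trans hQ.idx.le) ((h.le_rel he).trans (rel_le_right Q (om_le P)))
  rwa [h2, inf_comm] at h1

end Rg

end Cfsg.Agent.FS.N.C2
end

-- part: FS/N/C2/Mod
section
/-!
# S5288, class two: the pure lemmas applied to normal elementary abelian subgroups (helper53, project FS)
-/

set_option autoImplicit false

namespace Cfsg.Agent.FS.N.C2

open Cfsg Cfsg.FusionSystem Cfsg.Agent.H752 Cfsg.Agent.FS.Th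

theorem cm_conj {V : Type} [CommGroup V] (d σ : MulAut V) (y : V) : d (cm σ y) = cm (d * σ * d⁻¹) (d y) := by
  rw [cm_apply, cm_apply, map_mul, MulAut.mul_apply, MulAut.mul_apply, MulAut.inv_apply_self]

variable {G : Type} [Group G] [Finite G] {F : Sys G} {P Q E : Subgroup G}

theorem Cx.syl (c : Cx F) (hZ : Zc G ≤ E) {σ υ : MulAut E} (hσ : σ ∈ F.autGroup E) (hυ : υ ∈ F.autGroup E)
    (h : IsPGroup 2 (Subgroup.closure ({σ, υ} : Set (MulAut E)))) :
    ∃ (d : MulAut E) (g g' : G), Cj g (d * σ * d⁻¹) ∧ Cj g' (d * υ * d⁻¹) := by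
  have : Fact (Nat.Prime 2) := ⟨Nat.prime_two⟩
  obtain ⟨d, -, h1⟩ := exists_conj_le_autInducedBy (c.pg.to_subgroup ⊤) c.hy.sat
    (isFullyNormalized_of_normal F le_top fun s _ x hx => nor_of c.cl hZ s hx)
    ((Subgroup.closure_le _).2 (Set.insert_subset hσ (Set.singleton_subset_iff.2 hυ))) h
  obtain ⟨g, hg⟩ := mem_autTop_iff.1 (h1 σ (Subgroup.subset_closure (Set.mem_insert _ _)))
  obtain ⟨g', hg'⟩ := mem_autTop_iff.1 (h1 υ (Subgroup.subset_closure (Set.mem_insert_of_mem _ rfl)))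
  exact ⟨d, g, g', hg, hg'⟩

omit [Finite G] in
theorem cm_cj (hc : Cl2 G) (hab : ∀ x ∈ E, ∀ y ∈ E, x * y = y * x) (hsq : ∀ x ∈ E, x * x = 1) {g : G} {γ : MulAut E}
    (h : Cj g γ) (x : E) : ((@cm E (cg E hab) γ x : E) : G) = br g x := by
  show (x : G) * ((γ x : E) : G) = _
  rw [h x, conj_eq, ← zc (br_mem hc g x), ← mul_assoc, hsq x x.2, one_mul]

theorem Cx.quad (c : Cx F) (hZ : Zc G ≤ E) (hab : ∀ x ∈ E, ∀ y ∈ E, x * y = y * x) (hsq : ∀ x ∈ E, x * x = 1) :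
    @Quad E (cg E hab) (F.autGroup E) := by
  intro σ hσ υ hυ h x
  obtain ⟨d, g, g', h1, h2⟩ := c.syl hZ hσ hυ h
  let _ := cg E hab
  refine d.injective ?_
  rw [cm_conj, cm_conj, map_one]
  exact Subtype.ext (by rw [cm_cj c.cl hab hsq h1, cm_cj c.cl hab hsq h2, br_zr (br_mem c.cl _ _)]; rfl)

omit [Finite G] in
theorem Kp.of_sq {f : G → G} (h : Kp F P f) (hE : E ≤ P) (hm : ∀ x ∈ E, f x ∈ E) {K : Subgroup G}
    (h3 : ∀ x ∈ E, x⁻¹ * f (f x) ∈ K) {x : G} (hx : x ∈ E) : x⁻¹ * f x ∈ K := by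
  have h0 : ∀ n : ℕ, f^[n] x ∈ E := by
    intro n
    induction n with
    | zero => exact hx
    | succ n ih => rw [Function.iterate_succ_apply']; exact hm _ ih
  have h4 : ∀ j : ℕ, x⁻¹ * f^[2 * j] x ∈ K := by
    intro j
    induction j with
    | zero => rw [Nat.mul_zero, Function.iterate_zero_apply, inv_mul_cancel]; exact K.one_mem
    | succ j ih =>
      have e : x⁻¹ * f^[2 * (j + 1)] x = (x⁻¹ * f^[2 * j] x) * ((f^[2 * j] x)⁻¹ * f (f (f^[2 * j] x))) := by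
        rw [Nat.mul_succ, add_comm, Function.iterate_add_apply, mul_assoc, mul_inv_cancel_left]
        rfl
      rw [e]
      exact K.mul_mem ih (h3 _ (h0 _))
  obtain ⟨k, ⟨j, rfl⟩, h5⟩ := h.odd
  have h6 := h4 (j + 1)
  rwa [show 2 * (j + 1) = (2 * j + 1) + 1 by ring, Function.iterate_succ_apply', h5 x (hE hx)] at h6

/-- a map is trivial or inverted by an element outside -/
theorem Cx.kp_out (c : Cx F) (hP : Es F P) {f : G → G} (h : Kp F P f) :
    (∀ x ∈ P, f x = x) ∨ ∃ t, t ∉ P ∧ ∀ x ∈ P, f (br t (f x)) * f (f x) = br t x * x := by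
  obtain ⟨t, -, h1⟩ := h.twice c.cl (c.zle hP)
  by_cases ht : t ∈ P
  · refine Or.inl fun x hx => h.fix hx ?_
    obtain ⟨u, hu, h2⟩ := c.eq_mul hP h hx
    have h3 := h1 x hx
    rw [(c.br_cp hP ht (h.mem x hx)).2 f h] at h3
    conv_lhs at h3 => enter [1, 2]; rw [h2]
    rw [br_mul_right c.cl, br_eq_one.2 (om_comm hu ht), mul_one] at h3
    exact mul_left_cancel h3
  · exact Or.inr ⟨t, ht, h1⟩

/-- **the transvection lemma in the system** -/
theorem Cx.tv (hT : BoxTV) (c : Cx F) (hP : Rg F 2 P) (hQ : Es F Q) (h1 : Om P ≤ Q) {w : G} (hw : w ∈ Q)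
    (hwP : w ∉ P) {β α : G → G} (hβ : Kp F P β) (hα : Kp F Q α) :
    (∀ x ∈ P, α (x⁻¹ * β x) = x⁻¹ * β x) ∧ ∀ x ∈ Q, β (x⁻¹ * α x) = x⁻¹ * α x := by
  have h2 : Om Q ≤ P := c.om_le_symm hP.es h1
  rcases c.kp_out hP.es hβ with h3 | ⟨t, ht, h3⟩
  · exact ⟨fun x hx => by rw [h3 x hx, inv_mul_cancel, hα.mp.one], fun x hx => h3 _ (h2 (c.dm hQ hα hx))⟩
  have hZP := c.zom (c.zle hP.es)
  have hZQ := c.zom (c.zle hQ)
  have := normal_of c.cl hZQ
  set E := Om P ⊔ Om Q with hE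
  have hEP : E ≤ P := sup_le (om_le P) h2
  have hEQ : E ≤ Q := sup_le h1 (om_le Q)
  have hZ : Zc G ≤ E := hZP.trans le_sup_left
  have hd : ∀ x ∈ E, ∃ a ∈ Om P, ∃ b ∈ Om Q, a * b = x := fun x hx => Subgroup.mem_sup_of_normal_right.1 hx
  have hab : ∀ x ∈ E, ∀ y ∈ E, x * y = y * x := fun x hx y hy => by
    obtain ⟨a, ha, b, hb, rfl⟩ := hd x hx
    rw [mul_assoc, ← om_comm hb (hEQ hy), ← mul_assoc, ← om_comm ha (hEP hy), mul_assoc]
  have hsq : ∀ x ∈ E, x * x = 1 := fun x hx => by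
    obtain ⟨a, ha, b, hb, rfl⟩ := hd x hx
    rw [mul_assoc, ← mul_assoc b, om_comm ha (h2 hb), mul_assoc, om_sq hb, mul_one, om_sq ha]
  have hβE : ∀ x ∈ E, β x ∈ E := fun x hx => by
    obtain ⟨u, hu, h4⟩ := c.eq_mul hP.es hβ (hEP hx)
    rw [h4]
    exact E.mul_mem hx (le_sup_left (a := Om P) hu)
  have hαE : ∀ x ∈ E, α x ∈ E := fun x hx => by
    obtain ⟨u, hu, h4⟩ := c.eq_mul hQ hα (hEQ hx)
    rw [h4]
    exact E.mul_mem hx (le_sup_right (a := Om P) hu)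
  obtain ⟨b, hb, b1, b2⟩ := hβ.aut hEP hβE
  obtain ⟨a, ha, a1, a2⟩ := hα.aut hEQ hαE
  obtain ⟨p, hp⟩ := exists_cj (P := E) (g := w) fun x hx => nor_of c.cl hZ w hx
  obtain ⟨v, hv, hv'⟩ := two_cases (hP.card_wt c hwP).le
  have h4 : ∀ x ∈ E, β (br w (β x)) * β (β x) = br w x * x := fun x hx => by
    have hy : w⁻¹ * t ∈ P := (Subgroup.mul_mem_iff_of_index_two hP.idx).2 (by simp [ht, hwP])
    have h5 := h3 x (hEP hx)
    obtain ⟨u, hu, h6⟩ := c.eq_mul hP.es hβ (hEP hx)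
    have h7 : br (w⁻¹ * t) (β x) = br (w⁻¹ * t) x := by
      rw [h6, br_mul_right c.cl, br_eq_one.2 (om_comm hu hy), mul_one]
    rw [← mul_inv_cancel_left w t, br_mul_left c.cl w (w⁻¹ * t), br_mul_left c.cl w (w⁻¹ * t),
      hβ.mp.mul (hEP (hZ (br_mem c.cl _ _))) (hEP (hZ (br_mem c.cl _ _))), h7, (c.br_cp hP.es hy (hEP hx)).2 β hβ,
      zc (br_mem c.cl (w⁻¹ * t) x), zc (br_mem c.cl (w⁻¹ * t) x), mul_assoc, mul_assoc] at h5
    exact mul_left_cancel h5
  have h5 : a * b = b * a := by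
    refine @hT E (cg E hab) inferInstance (fun x => Subtype.ext (hsq x x.2)) (F.autGroup E) (c.quad hZ hab hsq) p
      (H802.autInducedBy_le_autGroup F le_top hp.mem) b hb a ha ⟨v, hZ (wt_le c P w hv)⟩ (fun x => ?_) b1 ?_ a1 ?_
    · obtain ⟨x₁, hx₁, x₂, hx₂, h6⟩ := hd x x.2
      have h7 : br w x = br w x₁ := by rw [← h6, br_mul_right c.cl, br_eq_one.2 (om_comm hx₂ hw), mul_one]
      rcases hv' _ (br_mem_wt c w hx₁) with h8 | h8
      · exact Or.inl (Subtype.ext (by rw [hp x, conj_eq, h7, h8, one_mul]))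
      · exact Or.inr (Subtype.ext (by rw [hp x, conj_eq, h7, h8, ← zc (wt_le c P w hv)]; rfl))
    · have h6 : b * (p * b) = p := MulEquiv.ext fun x => Subtype.ext (by
        rw [MulAut.mul_apply, MulAut.mul_apply, b2, hp, hp, b2, conj_eq, conj_eq,
          hβ.mp.mul (hEP (hZ (br_mem c.cl _ _))) (hβ.mem _ (hEP x.2)), h4 x x.2])
      exact mul_inv_eq_of_eq_mul (eq_inv_mul_of_mul_eq h6)
    · refine MulEquiv.ext fun x => Subtype.ext ?_
      show ((a (p x) : E) : G) = ((p (a x) : E) : G)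
      obtain ⟨u, hu, h6⟩ := c.eq_mul hQ hα (hEQ x.2)
      rw [a2, hp, hp, a2, conj_eq, conj_eq, hα.mp.mul (hEQ (hZ (br_mem c.cl _ _))) (hEQ x.2),
        (c.br_cp hQ hw (hEQ x.2)).2 α hα]
      conv_rhs => enter [1, 2]; rw [h6]
      rw [br_mul_right c.cl, br_eq_one.2 (om_comm hu hw), mul_one]
  have h6 : ∀ x ∈ E, α (β x) = β (α x) := fun x hx => by
    have h7 := congrArg (fun γ : MulAut E => ((γ ⟨x, hx⟩ : E) : G)) h5
    simp only [MulAut.mul_apply, a2, b2] at h7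
    exact h7
  let Φ : Subgroup G :=
    { carrier := {y | y ∈ E ∧ α y = y}
      one_mem' := ⟨E.one_mem, hα.mp.one⟩
      mul_mem' := fun {x y} hx hy => ⟨E.mul_mem hx.1 hy.1, by rw [hα.mp.mul (hEQ hx.1) (hEQ hy.1), hx.2, hy.2]⟩
      inv_mem' := fun {x} hx => ⟨E.inv_mem hx.1, by rw [hα.mp.inv (hEQ hx.1), hx.2]⟩ }
  have h7 : ∀ x ∈ E, br w x ∈ Φ := fun x hx => ⟨hZ (br_mem c.cl _ _), (c.br_cp hQ hw (hEQ hx)).2 α hα⟩
  have h8 : ∀ x ∈ E, x⁻¹ * β x ∈ Φ := fun x hx => by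
    refine hβ.of_sq hEP hβE (fun y hy => ?_) hx
    have h9 := h7 _ (hβE y hy)
    have h10 : β (br w (β y)) ∈ Φ := ⟨hβE _ h9.1, by rw [h6 _ h9.1, h9.2]⟩
    have h11 : y⁻¹ * β (β y) = (β (br w (β y)))⁻¹ * br w y := by
      rw [eq_inv_mul_of_mul_eq (h4 y hy), ← mul_assoc, hab _ (E.inv_mem hy) _ (E.inv_mem h10.1),
        ← zc (br_mem c.cl w y), mul_assoc, inv_mul_cancel_left]
    rw [h11]
    exact Φ.mul_mem (Φ.inv_mem h10) (h7 y hy)
  refine ⟨fun x hx => ?_, fun x hx => ?_⟩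
  · obtain ⟨y, hy, h9⟩ := c.exists_cob hP.es hβ hx
    rw [h9]
    exact (h8 y (le_sup_left (a := Om P) hy)).2
  · obtain ⟨y, hy, h9⟩ := c.exists_cob hQ hα hx
    have hyE : y ∈ E := le_sup_right (a := Om P) hy
    obtain ⟨h10, h11⟩ := h8 y hyE
    have h12 : β y = y * (y⁻¹ * β y) := (mul_inv_cancel_left _ _).symm
    generalize y⁻¹ * β y = φ at h10 h11 h12
    rw [h9, hβ.mp.mul (P.inv_mem (hEP hyE)) (hEP (hαE y hyE)), hβ.mp.inv (hEP hyE), ← h6 y hyE, h12,
      hα.mp.mul (hEQ hyE) (hEQ h10), h11, mul_inv_rev, mul_assoc, ← mul_assoc y⁻¹,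
      ← hab φ h10 _ (E.mul_mem (E.inv_mem hyE) (hαE y hyE)), inv_mul_cancel_left]

theorem Cx.tv_up (hT : BoxTV) (c : Cx F) (hP : Rg F 2 P) (hQ : Es F Q) (h1 : Om P ≤ Q) (h2 : ¬ Q ≤ P) :
    Up F P ≤ Cp F Q ∧ Up F Q ≤ Cp F P := by
  obtain ⟨w, hw, hwP⟩ := SetLike.not_le_iff_exists.1 h2
  exact ⟨up_le fun β hβ x hx => ⟨h1 (c.dm hP.es hβ hx), fun α hα => (c.tv hT hP hQ h1 hw hwP hβ hα).1 x hx⟩,
    up_le fun α hα x hx => ⟨c.om_le_symm hP.es h1 (c.dm hQ hα hx),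
      fun β hβ => (c.tv hT hP hQ h1 hw hwP hβ hα).2 x hx⟩⟩

/-- **the spread lemma in the system** -/
theorem Rg.sp (hS : BoxSp) {q : ℕ} (h : Rg F q P) (c : Cx F) (hq : q ≤ 4) :
    (∀ t, ∀ a ∈ Om P, br t a ∈ Cp F P → br t a = 1) ∧ (Cp F P).relIndex (Zc G) ≤ q ∧ Om P ≤ Up F P ⊔ Zc G := by
  have hZ := c.zom (c.zle h.es)
  have := normal_of c.cl hZ
  obtain ⟨f₀, hf₀, z₀, hz₀, h0⟩ := c.exists_move h.es
  have hm : ∀ f, Kp F P f → ∀ x ∈ Om P, f x ∈ Om P := fun f hf x hx => mp_om hf.mp hf.mem hx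
  obtain ⟨a, ha, -, a2⟩ := hf₀.aut (om_le P) (hm _ hf₀)
  let κ : G →* MulAut (Om P) := MulAut.conjNormal
  have hκ : ∀ g, Cj g (κ g) := fun _ _ => rfl
  have hone : ∀ g ∈ P, ∀ γ : MulAut (Om P), Cj g γ → γ = 1 := fun g hg γ h1 => MulEquiv.ext fun x => Subtype.ext (by
    rw [h1 x, om_comm x.2 hg, mul_inv_cancel_right]
    rfl)
  have hker : κ.ker = P := le_antisymm (fun g hg => c.mem_of_cent h.es fun x hx => by
    have h1 := hκ g ⟨x, hx⟩
    rw [show κ g = 1 from hg] at h1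
    exact mul_inv_eq_iff_eq_mul.1 h1.symm) fun g hg => hone g hg _ (hκ g)
  have hsq : ∀ x ∈ Om P, x * x = 1 := fun _ hx => om_sq hx
  obtain ⟨s1, s2⟩ := @hS (Om P) (cg _ (om_ab P)) inferInstance (fun x => Subtype.ext (om_sq x.2)) (F.autGroup (Om P))
    κ.range ((Zc G).subgroupOf (Om P))
    (fun σ hσ υ hυ σ1 υ1 h1 x hx => by
      obtain ⟨d, g, g', h2, h3⟩ := c.syl hZ hσ hυ h1
      have h4 : g ∉ P := fun h4 => σ1 (by
        have h5 := hone g h4 _ h2
        rwa [mul_inv_eq_one, mul_eq_left] at h5)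
      have h5 := h2 (d x)
      rw [MulAut.mul_apply, MulAut.mul_apply, MulAut.inv_apply_self] at h5
      have h6 : ((d x : Om P) : G) ∈ Zc G := h.reg g h4 _ (d x).2 (mul_inv_eq_iff_eq_mul.1 (by
        rw [← h5]
        exact congrArg (fun y => ((d y : Om P) : G)) hx))
      have h7 := h3 (d x)
      rw [MulAut.mul_apply, MulAut.mul_apply, MulAut.inv_apply_self, zc h6, mul_inv_cancel_right] at h7
      exact d.injective (Subtype.ext h7))
    (by
      rintro _ ⟨g, rfl⟩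
      exact H802.autInducedBy_le_autGroup F le_top (hκ g).mem)
    (by
      rintro _ ⟨g, rfl⟩ x
      show ((@cm _ (cg _ (om_ab P)) (κ g) x : Om P) : G) ∈ Zc G
      rw [cm_cj c.cl (om_ab P) hsq (hκ g)]
      exact br_mem c.cl _ _)
    (by
      rintro _ ⟨g, rfl⟩ g1 x
      refine ⟨fun h1 => h.reg g (fun h2 => g1 (hone g h2 _ (hκ g))) _ x.2 (mul_inv_eq_iff_eq_mul.1 ?_), fun h1 => ?_⟩
      · exact (hκ g x).symm.trans (congrArg Subtype.val h1)
      · exact Subtype.ext (by rw [hκ g x, zc (show (x : G) ∈ Zc G from h1), mul_inv_cancel_right]))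
    (by
      rw [← Subgroup.index_ker, hker, h.idx]
      exact h.rel.symm)
    (h.rel.le.trans hq) a ha ⟨⟨z₀, hZ hz₀⟩, hz₀, fun h1 => h0 (by rw [← a2 ⟨z₀, hZ hz₀⟩]; exact h1)⟩
  have k1 : ∀ t, ∀ x ∈ Om P, f₀ (br t x) = br t x → br t x = 1 := fun t x hx h1 => by
    have h2 := cm_cj c.cl (om_ab P) hsq (hκ t) ⟨x, hx⟩
    have h3 := s1 (κ t) ⟨t, rfl⟩ ⟨x, hx⟩ (by
      have h4 : a (@cm _ (cg _ (om_ab P)) (κ t) ⟨x, hx⟩) = @cm _ (cg _ (om_ab P)) (κ t) ⟨x, hx⟩ :=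
        Subtype.ext (by rw [a2, h2, h1])
      rw [← h4]
      show ((a⁻¹ (a _) : Om P) : G) ∈ Zc G
      rw [MulAut.inv_apply_self, h2]
      exact br_mem c.cl _ _)
    rw [← h2]
    exact congrArg Subtype.val h3
  refine ⟨fun t x hx h1 => k1 t x hx (h1.2 f₀ hf₀), ?_, fun x hx => ?_⟩
  · rw [← Subgroup.relIndex_subgroupOf hZ]
    have h1 : (((Zc G).subgroupOf (Om P)).comap (a⁻¹ : MulAut (Om P)).toMonoidHom).index = q :=
      (Subgroup.index_comap_of_surjective _ (a⁻¹ : MulAut (Om P)).surjective).trans h.rel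
    refine le_trans ?_ ((rel_le_index _ ((Zc G).subgroupOf (Om P))).trans h1.le)
    rw [← Subgroup.inf_relIndex_right (Subgroup.comap _ _)]
    refine rel_le_left ?_ _
    intro z hz
    refine ⟨z.2.1, fun f hf => ?_⟩
    show f z = z
    obtain ⟨b, hb, -, b2⟩ := hf.aut (om_le P) (hm _ hf)
    have h2 : ((b⁻¹⁻¹ z : Om P) : G) ∈ Zc G := s2 b⁻¹ ((F.autGroup _).inv_mem hb) z hz.2 hz.1
    rw [inv_inv, b2] at h2
    obtain ⟨t, -, h3⟩ := hf.twice c.cl (c.zle h.es)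
    have h4 := h3 z z.2.1
    rw [br_zr h2, hf.mp.one, one_mul, br_zr (show (z : G) ∈ Zc G from hz.2), one_mul] at h4
    exact hf.fix z.2.1 h4
  · obtain ⟨b, hb, h1, h2⟩ := hf₀.exists_fix hx
    rcases c.kp_out h.es hf₀ with h3 | ⟨t, ht, h3⟩
    · exact (h0 (by rw [h3 z₀ (c.zle h.es hz₀)]; exact hz₀)).elim
    have h4 := h3 b hb.1
    rw [h1, h1] at h4
    have h5 : b ∈ Zc G := h.reg t ht b hb (br_eq_one.1 (k1 t b hb (mul_right_cancel h4)))
    have e : x = b * (x⁻¹ * b)⁻¹ := by group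
    rw [e]
    exact Subgroup.mul_mem _ (Subgroup.mem_sup_right h5) (Subgroup.inv_mem _ (Subgroup.mem_sup_left h2))

end Cfsg.Agent.FS.N.C2
end

-- part: FS/N/C2/One
section
/-!
# S5288, class two: all edges have index two (helper53, project FS)
-/

set_option autoImplicit false

namespace Cfsg.Agent.FS.N.C2

open Cfsg Cfsg.FusionSystem Cfsg.Agent.H752 Cfsg.Agent.FS.Th

variable {G : Type} [Group G] {F : Sys G} {P Q R : Subgroup G}

theorem map_inv_map (θ : MulAut G) (P : Subgroup G) :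
    (P.map (θ⁻¹ : MulAut G).toMonoidHom).map θ.toMonoidHom = P := by
  ext x
  rw [Asm.mem_map_iff', Asm.mem_map_iff', inv_inv, MulAut.apply_inv_self]

/-- the product of the `[R, K]` over a family -/
def Us (F : Sys G) (s : Subgroup G → Prop) : Subgroup G := ⨆ R : {R // s R}, Up F R.1

theorem le_us {s : Subgroup G → Prop} (h : s R) : Up F R ≤ Us F s := le_iSup (fun R : {R // s R} => Up F R.1) ⟨R, h⟩

theorem us_le {s : Subgroup G → Prop} {K : Subgroup G} (h : ∀ R, s R → Up F R ≤ K) : Us F s ≤ K :=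
  iSup_le fun R => h R.1 R.2

theorem us_map {s : Subgroup G → Prop} {θ : MulAut G} (hθ : Mp F ⊤ θ) (h : ∀ R, s R → s (R.map θ.toMonoidHom)) {w : G}
    (hw : w ∈ Us F s) : θ w ∈ Us F s :=
  us_le (K := (Us F s).comap θ.toMonoidHom) (fun R hR _ hx => le_us (h R hR) (up_map hθ hx)) hw

variable [Finite G]

/-- an element fixed by all the odd maps is trivial -/
theorem Cx.eq_one (c : Cx F) {x : G} (hx : ∀ P, Es F P → x ∈ Cp F P) : x = 1 := by
  let N : Subgroup G :=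
    { carrier := {x | ∀ P, Es F P → x ∈ Cp F P}
      one_mem' := fun P _ => (Cp F P).one_mem
      mul_mem' := fun ha hb P hP => (Cp F P).mul_mem (ha P hP) (hb P hP)
      inv_mem' := fun ha P hP => (Cp F P).inv_mem (ha P hP) }
  have h : N = ⊥ := c.eq_bot (fun θ hθ w hw P hP => by
    have h1 := cp_map hθ (hw _ (es_map (mp_inv_top hθ) hP))
    rwa [map_inv_map] at h1) fun P hP => ⟨fun w hw => (hw P hP).1, fun f hf w hw => by
      rw [(hw P hP).2 f hf]
      exact hw⟩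
  have h1 : x ∈ N := hx
  rwa [h, Subgroup.mem_bot] at h1

theorem Cx.not_fam (c : Cx F) {s : Subgroup G → Prop} (h1 : ∀ R, s R → Es F R)
    (h2 : ∀ θ : MulAut G, Mp F ⊤ θ → ∀ R, s R → s (R.map θ.toMonoidHom))
    (h3 : ∀ Q, Es F Q → (∀ R, s R → Om R ≤ Q) ∧ (s Q ∨ ∀ R, s R → Up F R ≤ Cp F Q)) (hR : s R) : False := by
  have h : Us F s = ⊥ := c.eq_bot (fun θ hθ w hw => us_map hθ (h2 θ hθ) hw) fun Q hQ => by
    have h4 : Us F s ≤ Q := us_le fun R hR => (c.up_le_om (h1 R hR)).trans ((h3 Q hQ).1 R hR)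
    refine ⟨h4, fun f hf w hw => ?_⟩
    rcases (h3 Q hQ).2 with h5 | h5
    · rw [← mul_inv_cancel_left w (f w)]
      exact Subgroup.mul_mem _ hw (le_us h5 (up_mem hf (h4 hw)))
    · rw [(us_le h5 hw).2 f hf]
      exact hw
  exact c.up_ne_bot (h1 R hR) (le_bot_iff.1 (h ▸ le_us hR))

theorem Cx.le_center (c : Cx F) {C : Subgroup G} (hC : ∀ R, Es F R → C ≤ R)
    (hG : ∀ g, ∃ h y, y ∈ C ∧ g = h * y ∧ ∀ x ∈ C, h * x = x * h) : C ≤ Zc G := fun x hx =>
  Subgroup.mem_center_iff.2 fun g => by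
    obtain ⟨h, y, hy, rfl, h1⟩ := hG g
    rw [mul_assoc, br_eq_one.1 (c.eq_one fun R hR => c.br_cp hR (hC R hR hy) (hC R hR hx)), ← mul_assoc, h1 x hx,
      mul_assoc]

theorem Cx.card_center (c : Cx F) {K : Subgroup G} (hK : ∀ R, Es F R → K ≤ Cp F R) :
    Nat.card (Zc G) = K.relIndex (Zc G) := by
  have h : K = ⊥ := (Subgroup.eq_bot_iff_forall K).2 fun x hx => c.eq_one fun R hR => hK R hR hx
  rw [h, Subgroup.relIndex_bot_left]

/-- the partner is unique -/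
theorem Cx.uniq (hS : BoxSp) (c : Cx F) (hP : Rg F 2 P) (hQ : Rg F 2 Q) (hR : Rg F 2 R) (h1 : ¬ Om Q ≤ P)
    (h2 : ¬ Om R ≤ P) : Q = R := by
  obtain ⟨b, hb, hbP⟩ := SetLike.not_le_iff_exists.1 h1
  obtain ⟨b', hb', hbP'⟩ := SetLike.not_le_iff_exists.1 h2
  have s1 := (hP.sp hS c (by norm_num)).1
  have h3 : b * b' ∈ P := (Subgroup.mul_mem_iff_of_index_two hP.idx).2 (by simp [hbP, hbP'])
  have h4 : ∀ g, ∃ a ∈ Om P, br g b = br b a := fun g => by
    obtain ⟨a, ha, h5⟩ := hP.dec c hQ h1 g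
    exact ⟨a, ha, by rw [← mul_inv_cancel_left a g, br_mul_left c.cl, br_eq_one.2 (om_comm hb h5), mul_one, c.br_symm]⟩
  have h5 : ∀ g, ∃ a ∈ Om P, br g b' = br b a := fun g => by
    obtain ⟨a, ha, h5⟩ := hP.dec c hR h2 g
    refine ⟨a, ha, ?_⟩
    have e : b' = b * (b * b') := by rw [← mul_assoc, om_sq hb, one_mul]
    rw [← mul_inv_cancel_left a g, br_mul_left c.cl, br_eq_one.2 (om_comm hb' h5), mul_one, c.br_symm, e,
      br_mul_left c.cl, br_eq_one.2 (om_comm ha h3), mul_one]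
  have h6 : br b b' = 1 := by
    obtain ⟨a, ha, h6⟩ := h5 b
    have h7 := c.sq_cp hP.es h3
    have e : b * b' * (b * b') = br b b' := by
      unfold br
      rw [om_inv hb, om_inv hb']
      simp only [mul_assoc]
    rw [e, h6] at h7
    rw [h6, s1 b a ha h7]
  have h7 : b * b' ∈ Om P := by
    refine ⟨h3, ?_, fun y hy => ?_⟩
    · rw [mul_assoc, ← mul_assoc b', ← br_eq_one.1 h6, mul_assoc, om_sq hb', mul_one, om_sq hb]
    · obtain ⟨a, ha, e1⟩ := h4 y
      obtain ⟨a', ha', e2⟩ := h5 y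
      have h8 := c.br_cp hP.es hy h3
      have e : br y (b * b') = br b (a * a') := by rw [br_mul_right c.cl, br_mul_right c.cl, e1, e2]
      rw [e] at h8
      exact br_eq_one.1 (e.trans (s1 b _ ((Om P).mul_mem ha ha') h8))
  have h8 : b * b' ∈ Zc G := hP.reg b hbP _ h7 (by rw [mul_assoc, ← br_eq_one.1 h6])
  have h9 : ∀ t, t * b = b * t ↔ t * b' = b' * t := fun t => by
    have h10 := br_zr h8 t
    rw [br_mul_right c.cl] at h10
    rw [← br_eq_one, ← br_eq_one]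
    exact ⟨fun h => by rwa [h, one_mul] at h10, fun h => by rwa [h, mul_one] at h10⟩
  ext t
  exact ⟨fun ht => hR.mem hb' (fun h => hbP' (c.zle hP.es h)) ((h9 t).1 (om_comm hb ht)),
    fun ht => hQ.mem hb (fun h => hbP (c.zle hP.es h)) ((h9 t).2 (om_comm hb' ht))⟩

/-- all edges have index two -/
def W2 (F : Sys G) : Prop := ∀ P Q, Es F P → Es F Q → ¬ Om Q ≤ P → Rg F 2 P

/-- an edge of index two -/
structure E2 (F : Sys G) (P Q : Subgroup G) : Prop where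
  l : Rg F 2 P
  r : Rg F 2 Q
  e : ¬ Om Q ≤ P

theorem E2.symm (h : E2 F P Q) (c : Cx F) : E2 F Q P := ⟨h.r, h.l, fun h1 => h.e (c.om_le_symm h.l.es h1)⟩

theorem W2.edge (hT : BoxTV) (c : Cx F) (h : W2 F) (hR : Es F R) : ∃ Q, E2 F R Q := by
  suffices h1 : ∃ Q, Es F Q ∧ ¬ Om R ≤ Q by
    obtain ⟨Q, hQ, h2⟩ := h1
    have h3 : ¬ Om Q ≤ R := fun h3 => h2 (c.om_le_symm hQ h3)
    exact ⟨Q, h R Q hR hQ h3, h Q R hQ hR h2, h3⟩
  by_contra h1
  push Not at h1
  refine c.not_fam (s := fun R => Es F R ∧ ∀ Q, Es F Q → Om R ≤ Q) (fun _ h => h.1)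
    (fun θ hθ R hR => ⟨es_map hθ hR.1, fun Q hQ x hx => ?_⟩) (fun Q hQ => ⟨fun R hR => hR.2 Q hQ, ?_⟩) ⟨hR, h1⟩
  · have h2 := om_map θ⁻¹ hx
    rw [map_map_inv] at h2
    have h3 := (Asm.mem_map_iff' _ _ _).1 (hR.2 _ (es_map (mp_inv_top hθ) hQ) h2)
    rwa [inv_inv, MulAut.apply_inv_self] at h3
  · by_cases h2 : ∀ Q', Es F Q' → Om Q ≤ Q'
    · exact Or.inl ⟨hQ, h2⟩
    push Not at h2
    obtain ⟨Q', hQ', h3⟩ := h2
    have h4 : ¬ Om Q' ≤ Q := fun h4 => h3 (c.om_le_symm hQ' h4)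
    exact Or.inr fun R hR => (c.tv_up hT (h Q Q' hQ hQ' h4) hR.1 (c.om_le_symm hR.1 (hR.2 Q hQ))
      fun h5 => h4 ((c.om_le_symm hR.1 (hR.2 Q' hQ')).trans h5)).2

theorem W2.le (hS : BoxSp) (c : Cx F) (h : W2 F) (e : E2 F P Q) (hR : Es F R) (h1 : R ≠ Q) : Om R ≤ P := by
  by_contra h2
  exact h1 (c.uniq hS e.l (h R P hR e.l.es fun h3 => h2 (c.om_le_symm e.l.es h3)) e.r h2 e.e)

/-- two different edges -/
structure Ap (P Q P' Q' : Subgroup G) : Prop where
  a : Om P' ≤ P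
  b : Om P' ≤ Q
  c : Om Q' ≤ P
  d : Om Q' ≤ Q

theorem W2.ap (hS : BoxSp) (c : Cx F) (h : W2 F) {P' Q' : Subgroup G} (e : E2 F P Q) (e' : E2 F P' Q') (h1 : P' ≠ P)
    (h2 : P' ≠ Q) : Ap P Q P' Q' := by
  have h3 := h.le hS c e e'.l.es h2
  have h4 := h.le hS c (e.symm c) e'.l.es h1
  have h5 := (e'.symm c).e
  exact ⟨h3, h4, h.le hS c e e'.r.es fun h6 => h5 (h6 ▸ h4), h.le hS c (e.symm c) e'.r.es fun h6 => h5 (h6 ▸ h3)⟩

theorem Ap.symm {P' Q' : Subgroup G} (h : Ap P Q P' Q') (c : Cx F) (e' : E2 F P' Q') : Ap P' Q' P Q :=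
  ⟨c.om_le_symm e'.l.es h.a, c.om_le_symm e'.r.es h.c, c.om_le_symm e'.l.es h.b, c.om_le_symm e'.r.es h.d⟩

theorem E2.fin1 (hS : BoxSp) (c : Cx F) (e : E2 F P Q) (h : ∀ R, Es F R → R = P ∨ R = Q) : Nat.card G ≤ 16 := by
  have h1 : P ⊓ Q ≤ Zc G := c.le_center (fun R hR => by rcases h R hR with rfl | rfl; exacts [inf_le_left, inf_le_right])
    fun g => by
      obtain ⟨a, ha, b, hb, y, h1, h2, rfl⟩ := e.l.dec2 c e.r e.e g
      exact ⟨a * b, y, ⟨h1, h2⟩, rfl, fun x hx => by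
        rw [mul_assoc, ← om_comm hb hx.2, ← mul_assoc, ← om_comm ha hx.1, mul_assoc]⟩
  have h2 := c.card_center (K := Cp F P ⊓ Cp F Q) fun R hR => by
    rcases h R hR with rfl | rfl; exacts [inf_le_left, inf_le_right]
  have h3 := h2.le.trans (Subgroup.relIndex_inf_le.trans
    (Nat.mul_le_mul (e.l.sp hS c (by norm_num)).2.1 (e.r.sp hS c (by norm_num)).2.1))
  have h4 := e.l.card_inf e.r e.e
  have h5 := Subgroup.card_le_of_le h1
  omega

theorem E2.fin2 (hS : BoxSp) (c : Cx F) {P' Q' : Subgroup G} (e : E2 F P Q) (e' : E2 F P' Q') (ap : Ap P Q P' Q')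
    (h : ∀ R, Es F R → R = P ∨ R = Q ∨ R = P' ∨ R = Q') : Nat.card G ≤ 256 := by
  have h1 : (P ⊓ Q) ⊓ (P' ⊓ Q') ≤ Zc G := c.le_center (fun R hR x hx => by
      rcases h R hR with rfl | rfl | rfl | rfl; exacts [hx.1.1, hx.1.2, hx.2.1, hx.2.2])
    fun g => by
      obtain ⟨a, ha, b, hb, y, h1, h2, rfl⟩ := e.l.dec2 c e.r e.e g
      obtain ⟨a', ha', b', hb', y', h3, h4, h5⟩ := e'.l.dec2 c e'.r e'.e y
      have h6 : y' = (a' * b')⁻¹ * y := by rw [h5, inv_mul_cancel_left]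
      refine ⟨a * b * (a' * b'), y', ⟨⟨?_, ?_⟩, h3, h4⟩, by rw [h5]; group, fun x hx => ?_⟩
      · rw [h6]
        exact P.mul_mem (P.inv_mem (P.mul_mem (ap.a ha') (ap.c hb'))) h1
      · rw [h6]
        exact Q.mul_mem (Q.inv_mem (Q.mul_mem (ap.b ha') (ap.d hb'))) h2
      · rw [← br_eq_one, br_mul_left c.cl, br_mul_left c.cl, br_mul_left c.cl, br_eq_one.2 (om_comm ha hx.1.1).symm,
          br_eq_one.2 (om_comm hb hx.1.2).symm, br_eq_one.2 (om_comm ha' hx.2.1).symm,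
          br_eq_one.2 (om_comm hb' hx.2.2).symm]
        simp only [mul_one]
  have h2 := c.card_center (K := (Cp F P ⊓ Cp F Q) ⊓ (Cp F P' ⊓ Cp F Q')) fun R hR x hx => by
    rcases h R hR with rfl | rfl | rfl | rfl; exacts [hx.1.1, hx.1.2, hx.2.1, hx.2.2]
  have h3 := h2.le.trans (Subgroup.relIndex_inf_le.trans (Nat.mul_le_mul (Subgroup.relIndex_inf_le.trans
    (Nat.mul_le_mul (e.l.sp hS c (by norm_num)).2.1 (e.r.sp hS c (by norm_num)).2.1)) (Subgroup.relIndex_inf_le.trans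
    (Nat.mul_le_mul (e'.l.sp hS c (by norm_num)).2.1 (e'.r.sp hS c (by norm_num)).2.1))))
  have h4 := Subgroup.card_mul_index ((P ⊓ Q) ⊓ (P' ⊓ Q'))
  have h5 := (Subgroup.card_le_of_le h1).trans h3
  have h6 : ((P ⊓ Q) ⊓ (P' ⊓ Q')).index ≤ 2 * 2 * (2 * 2) := Subgroup.index_inf_le.trans (Nat.mul_le_mul
    (Subgroup.index_inf_le.trans (Nat.mul_le_mul e.l.idx.le e.r.idx.le))
    (Subgroup.index_inf_le.trans (Nat.mul_le_mul e'.l.idx.le e'.r.idx.le)))
  have h7 := Nat.mul_le_mul h5 h6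
  omega

theorem dbl {A B : Subgroup G} (h : A ≤ B) {x : G} (hB : x ∈ B) (hA : x ∉ A) : 2 * Nat.card A ≤ Nat.card B := by
  rw [card_eq_rel h, mul_comm]
  have h1 := rel_ne A B
  have h2 : A.relIndex B ≠ 1 := fun e => hA (Subgroup.relIndex_eq_one.1 e hB)
  exact Nat.mul_le_mul_left _ (by omega)

theorem dbl' {A K : Subgroup G} {x : G} (hA : x ∈ A) (hK : x ∉ K) : 2 * Nat.card ↥(A ⊓ K) ≤ Nat.card A :=
  dbl inf_le_left hA fun h => hK h.2

theorem E2.exists_ab (e : E2 F P Q) (hS : BoxSp) (c : Cx F) :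
    ∃ a ∈ Om P, ∃ b ∈ Om Q, a ∉ Q ∧ b ∉ P ∧ br a b ∉ Cp F P := by
  obtain ⟨a, ha, h1⟩ := SetLike.not_le_iff_exists.1 (e.symm c).e
  obtain ⟨b, hb, h2⟩ := SetLike.not_le_iff_exists.1 e.e
  refine ⟨a, ha, b, hb, h1, h2, fun h3 => ?_⟩
  rw [c.br_symm] at h3
  exact h1 (c.zle e.r.es (e.l.reg b h2 a ha (br_eq_one.1 ((e.l.sp hS c (by norm_num)).1 b a ha h3))))

theorem Cx.d8 {R₁ : ℕ} (hD : BoxD8 R₁) (hS : BoxSp) (c : Cx F) (hc : Nat.card G = 2 ^ 9) (P Q : Fin 3 → Subgroup G)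
    (e : ∀ i, E2 F (P i) (Q i)) (ap : ∀ i j, i ≠ j → Ap (P i) (Q i) (P j) (Q j)) : ∃ y : ℕ → G, Pc16 9 R₁ y := by
  choose a ha b hb h1 h2 h3 using fun i => (e i).exists_ab hS c
  have aP : ∀ i j, a j ∈ P i := fun i j => by
    by_cases h : i = j
    · exact h ▸ (ha i).1
    · exact (ap i j h).a (ha j)
  have bQ : ∀ i j, b j ∈ Q i := fun i j => by
    by_cases h : i = j
    · exact h ▸ (hb i).1
    · exact (ap i j h).d (hb j)
  have aQ : ∀ i j, i ≠ j → a j ∈ Q i := fun i j h => (ap i j h).b (ha j)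
  have bP : ∀ i j, i ≠ j → b j ∈ P i := fun i j h => (ap i j h).c (hb j)
  refine hD G hc a b (fun i => br (a i) (b i)) (fun i => om_sq (ha i)) (fun i => om_sq (hb i))
    (fun i => c.zsq (br_mem c.cl _ _)) (fun i g => zc (br_mem c.cl _ _) g)
    (fun i => by rw [zc (br_mem c.cl _ _), ← mul_eq_br]) (fun i j => om_comm (ha j) (aP j i))
    (fun i j => om_comm (hb j) (bQ j i)) (fun i j h => om_comm (hb j) (aQ j i h.symm)) ?_
  set H := Subgroup.closure (Set.range a ∪ Set.range b) with hH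
  have aH : ∀ i, a i ∈ H := fun i => Subgroup.subset_closure (Or.inl ⟨i, rfl⟩)
  have bH : ∀ i, b i ∈ H := fun i => Subgroup.subset_closure (Or.inr ⟨i, rfl⟩)
  have zH : ∀ i, br (a i) (b i) ∈ H ⊓ Q 0 ⊓ P 0 ⊓ Q 1 ⊓ P 1 ⊓ Q 2 ⊓ P 2 := fun i => by
    have h4 := br_mem c.cl (a i) (b i)
    exact ⟨⟨⟨⟨⟨⟨H.mul_mem (H.mul_mem (H.mul_mem (aH i) (bH i)) (H.inv_mem (aH i))) (H.inv_mem (bH i)),
      c.zle (e 0).r.es h4⟩, c.zle (e 0).l.es h4⟩, c.zle (e 1).r.es h4⟩, c.zle (e 1).l.es h4⟩, c.zle (e 2).r.es h4⟩,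
      c.zle (e 2).l.es h4⟩
  have zC : ∀ i j, i ≠ j → br (a j) (b j) ∈ Cp F (P i) := fun i j h => c.br_cp (e i).l.es (aP i j) (bP i j h)
  have d1 := dbl' (aH 0) (h1 0)
  have d2 := dbl' (A := H ⊓ Q 0) ⟨bH 0, bQ 0 0⟩ (h2 0)
  have d3 := dbl' (A := H ⊓ Q 0 ⊓ P 0) ⟨⟨aH 1, aQ 0 1 (by decide)⟩, aP 0 1⟩ (h1 1)
  have d4 := dbl' (A := H ⊓ Q 0 ⊓ P 0 ⊓ Q 1) ⟨⟨⟨bH 1, bQ 0 1⟩, bP 0 1 (by decide)⟩, bQ 1 1⟩ (h2 1)
  have d5 := dbl' (A := H ⊓ Q 0 ⊓ P 0 ⊓ Q 1 ⊓ P 1)
    ⟨⟨⟨⟨aH 2, aQ 0 2 (by decide)⟩, aP 0 2⟩, aQ 1 2 (by decide)⟩, aP 1 2⟩ (h1 2)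
  have d6 := dbl' (A := H ⊓ Q 0 ⊓ P 0 ⊓ Q 1 ⊓ P 1 ⊓ Q 2)
    ⟨⟨⟨⟨⟨bH 2, bQ 0 2⟩, bP 0 2 (by decide)⟩, bQ 1 2⟩, bP 1 2 (by decide)⟩, bQ 2 2⟩ (h2 2)
  have d7 := dbl' (zH 0) (h3 0)
  have d8 := dbl' (A := H ⊓ Q 0 ⊓ P 0 ⊓ Q 1 ⊓ P 1 ⊓ Q 2 ⊓ P 2 ⊓ Cp F (P 0)) ⟨zH 1, zC 0 1 (by decide)⟩ (h3 1)
  have d9 := dbl' (A := H ⊓ Q 0 ⊓ P 0 ⊓ Q 1 ⊓ P 1 ⊓ Q 2 ⊓ P 2 ⊓ Cp F (P 0) ⊓ Cp F (P 1))
    ⟨⟨zH 2, zC 0 2 (by decide)⟩, zC 1 2 (by decide)⟩ (h3 2)
  have d0 : 0 < Nat.card ↥(H ⊓ Q 0 ⊓ P 0 ⊓ Q 1 ⊓ P 1 ⊓ Q 2 ⊓ P 2 ⊓ Cp F (P 0) ⊓ Cp F (P 1) ⊓ Cp F (P 2)) := Nat.card_pos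
  exact Subgroup.eq_top_of_le_card H (by omega)

theorem Cx.exists_es (c : Cx F) (h : 1 < Nat.card G) : ∃ P, Es F P := by
  by_contra h1
  push Not at h1
  have h2 : (⊤ : Subgroup G) = ⊥ := c.eq_bot (fun _ _ _ _ => trivial) fun P hP => (h1 P hP).elim
  have h3 := Subgroup.card_top (G := G)
  rw [h2, Subgroup.card_bot] at h3
  omega

/-- **all edges of index two at the order `2 ^ 9`** -/
theorem W2.d8 {R₁ : ℕ} (hD : BoxD8 R₁) (hT : BoxTV) (hS : BoxSp) (c : Cx F) (hc : Nat.card G = 2 ^ 9) (h : W2 F) :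
    ∃ y : ℕ → G, Pc16 9 R₁ y := by
  obtain ⟨P₀, h0⟩ := c.exists_es (by omega)
  obtain ⟨Q₀, e0⟩ := h.edge hT c h0
  obtain ⟨P₁, h1, n1⟩ : ∃ R, Es F R ∧ ¬ (R = P₀ ∨ R = Q₀) := by
    by_contra h1
    have := e0.fin1 hS c fun R hR => by_contra fun h2 => h1 ⟨R, hR, h2⟩
    omega
  obtain ⟨Q₁, e1⟩ := h.edge hT c h1
  push Not at n1
  have a01 := h.ap hS c e0 e1 n1.1 n1.2
  obtain ⟨P₂, h2, n2⟩ : ∃ R, Es F R ∧ ¬ (R = P₀ ∨ R = Q₀ ∨ R = P₁ ∨ R = Q₁) := by
    by_contra h2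
    have := e0.fin2 hS c e1 a01 fun R hR => by_contra fun h3 => h2 ⟨R, hR, h3⟩
    omega
  obtain ⟨Q₂, e2⟩ := h.edge hT c h2
  push Not at n2
  have a02 := h.ap hS c e0 e2 n2.1 n2.2.1
  have a12 := h.ap hS c e1 e2 n2.2.2.1 n2.2.2.2
  refine c.d8 hD hS hc ![P₀, P₁, P₂] ![Q₀, Q₁, Q₂] (fun i => ?_) fun i j hij => ?_
  · fin_cases i
    exacts [e0, e1, e2]
  · fin_cases i <;> fin_cases j
    exacts [(hij rfl).elim, a01, a02, a01.symm c e1, (hij rfl).elim, a12, a02.symm c e2, a12.symm c e2, (hij rfl).elim]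

/-- **groups with a Frattini subgroup of order at most two** -/
theorem boxSq_of (hT : BoxTV) (hS : BoxSp) : BoxSq := by
  intro G _ _ hG F hF z z2 hz hsq
  have hbr : ∀ a b : G, br a b = 1 ∨ br a b = z := fun a b => by
    rcases comm_of_sq z2 hz hsq a b with h | h
    · exact Or.inl (br_eq_one.2 h)
    · right
      unfold br
      rw [h, ← hz]
      group
  have c : Cx F := ⟨hG, fun a b g => by
    show br a b * g = g * br a b
    rcases hbr a b with h | h <;> rw [h]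
    · rw [one_mul, mul_one]
    · exact hz g, hF⟩
  have h : W2 F := fun P _ hP _ _ =>
    let ⟨t, ht⟩ := c.exists_not_mem hP
    c.rg_two hP ht fun x _ => hbr t x
  by_contra h16
  obtain ⟨P, h0⟩ := c.exists_es (by omega)
  obtain ⟨Q, e⟩ := h.edge hT c h0
  refine h16 (e.fin1 hS c fun R hR => by_contra fun h1 => ?_)
  push Not at h1
  obtain ⟨R', e'⟩ := h.edge hT c hR
  have ap := h.ap hS c e e' h1.1 h1.2
  obtain ⟨a, -, b, -, -, -, h2⟩ := e.exists_ab hS c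
  obtain ⟨a', ha', b', hb', -, -, h3⟩ := e'.exists_ab hS c
  have h4 : ∀ {x y : G} {K : Subgroup G}, br x y ∉ K → br x y = z := fun {x y K} h4 =>
    (hbr x y).resolve_left fun h5 => h4 (h5 ▸ K.one_mem)
  have h5 := c.br_cp h0 (ap.a ha') (ap.c hb')
  rw [h4 h3, ← h4 h2] at h5
  exact h2 h5

end Cfsg.Agent.FS.N.C2
end

-- part: FS/N/C2/Two
section
/-!
# S5288, class two: an edge of index four or eight, and the box (helper53, project FS)
-/

set_option autoImplicit false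

namespace Cfsg.Agent.FS.N.C2

open Cfsg Cfsg.FusionSystem Cfsg.Agent.H752 Cfsg.Agent.FS.Th

variable {G : Type} [Group G] [Finite G] {F : Sys G} {P Q R R' : Subgroup G}

theorem Rg.or_z {q : ℕ} (hP : Rg F q P) (c : Cx F) (hQ : Rg F q Q) (he : ¬ Om Q ≤ P) {a b : G} (ha : a ∈ Om P)
    (hb : b ∈ Om Q) (h : a * b = b * a) : a ∈ Zc G ∨ b ∈ Zc G := by
  by_cases h1 : b ∈ P
  · exact Or.inr (hQ.z_of (fun h2 => he (c.om_le_symm hP.es h2)) hb h1)
  · exact Or.inl (hP.reg b h1 a ha h.symm)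

theorem Cx.ut {R₂ : ℕ} (hU : BoxUT R₂) (c : Cx F) (hc : Nat.card G = 2 ^ 9) (hP : Rg F 8 P) (hQ : Rg F 8 Q)
    (he : ¬ Om Q ≤ P) (hZ : Nat.card (Zc G) = 8) : ∃ y : ℕ → G, Pc16 9 R₂ y :=
  hU G hc (Om P) (Om Q) (Zc G) (fun _ => om_sq) (fun _ => om_sq) (fun _ => zc) (c.zom (c.zle hP.es))
    (c.zom (c.zle hQ.es)) hZ (by rw [card_eq_rel (c.zom (c.zle hP.es)), hZ, hP.rel])
    (by rw [card_eq_rel (c.zom (c.zle hQ.es)), hZ, hQ.rel]) (fun a _ b _ => br_mem c.cl a b)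
    fun _ ha _ hb h => hP.or_z c hQ he ha hb h

theorem Cx.closed_us (c : Cx F) {s : Subgroup G → Prop}
    (h2 : ∀ θ : MulAut G, Mp F ⊤ θ → ∀ R, s R → s (R.map θ.toMonoidHom))
    (h3 : ∀ Q, Es F Q → s Q ∨ ∀ R, s R → Up F R ≤ Cp F Q) {f : G → G} (hf : Mp F P f) {x : G} (hx : x ∈ P)
    (hW : x ∈ Us F s) : f x ∈ Us F s := by
  refine c.closed (fun θ hθ w hw => us_map hθ (h2 θ hθ) hw) (fun Q hQ g hg y hy => ?_) hf hx hW
  rcases h3 Q hQ with h4 | h4
  · have h5 := le_us h4 (up_mem hg hy)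
    refine ⟨fun h6 => ?_, fun h6 => ?_⟩
    · rw [← mul_inv_cancel_left y (g y)]
      exact Subgroup.mul_mem _ h6 h5
    · exact (Subgroup.inv_mem_iff _).1 ((Subgroup.mul_mem_cancel_right _ h6).1 h5)
  · refine ⟨fun h6 => by rw [(us_le h4 h6).2 g hg]; exact h6, fun h6 => ?_⟩
    rwa [hg.mp.inj (hg.mem y hy) hy ((us_le h4 h6).2 g hg)] at h6

theorem Rg.rel_cp (hS : BoxSp) {q : ℕ} (h : Rg F q P) (c : Cx F) (hq : q ≤ 4) :
    Nat.card (Zc G) = Nat.card ↥(Cp F P ⊓ Zc G) * q := by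
  obtain ⟨s1, s2, -⟩ := h.sp hS c hq
  obtain ⟨t, ht⟩ := c.exists_not_mem h.es
  have h1 : Cp F P ⊓ Wt c P t = ⊥ := (Subgroup.eq_bot_iff_forall _).2 (by
    rintro _ ⟨h1, x, hx, rfl⟩
    exact s1 t x hx h1)
  have h2 := rel_le_right (Cp F P) (wt_le c P t)
  rw [← Subgroup.inf_relIndex_right (Cp F P) (Wt c P t), h1, Subgroup.relIndex_bot_left, h.card_wt c ht] at h2
  rw [card_eq_rel (inf_le_right : Cp F P ⊓ Zc G ≤ Zc G), Subgroup.inf_relIndex_right, le_antisymm s2 h2]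

theorem Rg.exists_br {q : ℕ} (hP : Rg F q P) (c : Cx F) (hQ : Rg F q Q) (he : ¬ Om Q ≤ P) (h : ¬ P ⊓ Q ≤ Zc G) :
    ∃ x ∈ P ⊓ Q, ∃ y ∈ P ⊓ Q, br x y ≠ 1 := by
  by_contra h1
  push Not at h1
  refine h fun x hx => Subgroup.mem_center_iff.2 fun g => ?_
  obtain ⟨a, ha, b, hb, y, h2, h3, rfl⟩ := hP.dec2 c hQ he g
  rw [← br_eq_one, br_mul_left c.cl, br_mul_left c.cl, br_eq_one.2 (om_comm ha hx.1).symm,
    br_eq_one.2 (om_comm hb hx.2).symm, h1 y ⟨h2, h3⟩ x hx, mul_one, mul_one]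

/-- the centre has order `32` -/
theorem Rg.not_le (hS : BoxSp) (hP : Rg F 4 P) (c : Cx F) (hc : Nat.card G = 2 ^ 9) (hQ : Rg F 4 Q) (he : ¬ Om Q ≤ P) :
    ¬ P ⊓ Q ≤ Zc G := by
  intro h
  have he' : ¬ Om P ≤ Q := fun h2 => he (c.om_le_symm hP.es h2)
  have key : ∀ {P Q : Subgroup G}, Rg F 4 P → Rg F 4 Q → ¬ Om Q ≤ P → P ⊓ Q ≤ Zc G → ∀ R, Es F R → ∀ x ∈ Om R,
      x ∉ Zc G → x ∈ Om P → R = P := by
    intro P Q hP hQ he h R hR x hx hxZ hxP
    have h1 : R ≤ P := fun t ht => hP.mem hxP hxZ (om_comm hx ht)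
    refine le_antisymm h1 fun p hp => c.mem_of_cent hR fun u hu => ?_
    obtain ⟨a, ha, b, hb, y, h2, h3, rfl⟩ := hP.dec2 c hQ he p
    have h4 : b ∈ P := (P.mul_mem_cancel_left ha.1).1 ((P.mul_mem_cancel_right h2).1 hp)
    have hz := c.zom (c.zle hP.es)
    exact (om_comm ((Om P).mul_mem ((Om P).mul_mem ha (hz (h ⟨h4, hb.1⟩))) (hz (h ⟨h2, h3⟩))) (h1 hu.1)).symm
  have h1 : ∀ R, Es F R → R = P ∨ R = Q := fun R hR => by
    obtain ⟨x, hx, hxZ⟩ := c.exists_om hR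
    obtain ⟨a, ha, b, hb, y, h2, h3, h4⟩ := hP.dec2 c hQ he x
    have hy := h ⟨h2, h3⟩
    have h5 : a * b = b * a := by
      have h6 := om_sq hx
      have e : a * b * y * (a * b * y) = a * b * (a * b) * (y * y) := by
        rw [mul_assoc (a * b) y, ← mul_assoc y, ← zc hy (a * b)]
        simp only [mul_assoc]
      rw [h4, e, c.zsq hy, mul_one] at h6
      rw [← inv_eq_of_mul_eq_one_right h6, mul_inv_rev, om_inv ha, om_inv hb]
    rcases hP.or_z c hQ he ha hb h5 with h6 | h6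
    · refine Or.inr (key hQ hP he' (by rwa [inf_comm]) R hR x hx hxZ ?_)
      have hz := c.zom (c.zle hQ.es)
      exact h4 ▸ (Om Q).mul_mem ((Om Q).mul_mem (hz h6) hb) (hz hy)
    · refine Or.inl (key hP hQ he h R hR x hx hxZ ?_)
      have hz := c.zom (c.zle hP.es)
      exact h4 ▸ (Om P).mul_mem ((Om P).mul_mem ha (hz h6)) (hz hy)
  have h2 := c.card_center (K := Cp F P ⊓ Cp F Q) fun R hR => by
    rcases h1 R hR with rfl | rfl; exacts [inf_le_left, inf_le_right]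
  have h3 := h2.le.trans (Subgroup.relIndex_inf_le.trans
    (Nat.mul_le_mul (hP.sp hS c le_rfl).2.1 (hQ.sp hS c le_rfl).2.1))
  have h4 := hP.card_inf hQ he
  have h5 := Subgroup.card_le_of_le h
  omega

/-- the centre has order `8` -/
theorem Rg.exists_y (hS : BoxSp) (hP : Rg F 4 P) (c : Cx F) (hc : Nat.card G = 2 ^ 9) (hQ : Rg F 4 Q)
    (he : ¬ Om Q ≤ P) : Nat.card (Zc G) = 8 ∧ ∃ y ∈ Zc G, y ≠ 1 ∧ y ∈ Cp F P ∧ y ∈ Cp F Q ∧
      ∀ z ∈ Zc G, z ∈ Cp F P → z = 1 ∨ z = y := by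
  obtain ⟨x, hx, x', hx', h1⟩ := hP.exists_br c hQ he (hP.not_le hS c hc hQ he)
  have h2 := c.br_cp hP.es hx.1 hx'.1
  have h3 := br_mem c.cl x x'
  have d1 := dbl (A := ⊥) (B := Cp F P ⊓ Zc G) bot_le ⟨h2, h3⟩ h1
  have d2 := dbl (A := Zc G) (B := (P ⊓ Q) ⊓ (brR c.cl x).ker)
    (le_inf (le_inf (c.zle hP.es) (c.zle hQ.es)) fun z hz => br_zr hz x) ⟨hx, br_eq_one.2 rfl⟩ fun h => h1 (br_zl h x')
  have d3 := dbl' (K := (brR c.cl x).ker) hx' h1
  have h4 := hP.card_inf hQ he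
  have h5 := hP.rel_cp hS c le_rfl
  rw [Subgroup.card_bot] at d1
  refine ⟨by omega, _, h3, h1, h2, c.br_cp hQ.es hx.2 hx'.2, fun z hz h6 => ?_⟩
  obtain ⟨v, -, hv⟩ := two_cases (U := Cp F P ⊓ Zc G) (by omega)
  rw [(hv _ ⟨h2, h3⟩).resolve_left h1]
  exact hv z ⟨h6, hz⟩

theorem Cx.edge_idx (c : Cx F) (hc : Nat.card G = 2 ^ 9) (hP : Es F P) (hQ : Es F Q) (h : ¬ Om P ≤ Q) :
    P.index = Q.index := by
  rcases c.edge hc.le hP hQ h with ⟨h1, h2⟩ | ⟨h1, h2⟩ | ⟨h1, h2, -⟩ <;> exact h1.idx.trans h2.idx.symm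

theorem Rg.edge_four (hP : Rg F 4 P) (c : Cx F) (hc : Nat.card G = 2 ^ 9) (hR : Es F R) (h : ¬ Om R ≤ P) :
    Rg F 4 R := by
  have h0 := hP.idx
  rcases c.edge hc.le hR hP.es h with ⟨-, h2⟩ | ⟨h1, -⟩ | ⟨-, h2, -⟩
  · have := h2.idx; omega
  · exact h1
  · have := h2.idx; omega

/-- **an edge of index four at the order `2 ^ 9`** -/
theorem Rg.dec4 (hT : BoxTV) (hS : BoxSp) (hP : Rg F 4 P) (c : Cx F) (hc : Nat.card G = 2 ^ 9) (hQ : Rg F 4 Q)
    (he : ¬ Om Q ≤ P) : Dec F := by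
  obtain ⟨hZ, y, yZ, y1, yP, yQ, hy⟩ := hP.exists_y hS c hc hQ he
  have he' : ¬ Om P ≤ Q := fun h2 => he (c.om_le_symm hP.es h2)
  obtain ⟨-, y', -, -, -, -, hy'⟩ := hQ.exists_y hS c hc hP he'
  -- the two kinds of essential subgroups
  have hA : ∀ R, Es F R → (Om R ≤ P ∧ Om R ≤ Q ∧ Rg F 2 R ∧ ∀ t, ∀ x ∈ Om R, br t x = 1 ∨ br t x = y) ∨
      (Rg F 4 R ∧ y ∈ Cp F R ∧ ∃ R', Rg F 4 R' ∧ ¬ Om R ≤ R') := fun R hR => by
    by_cases h1 : Om R ≤ P
    · by_cases h2 : Om R ≤ Q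
      · have h3 : ∀ t, ∀ x ∈ Om R, br t x = 1 ∨ br t x = y := fun t x hx => by
          obtain ⟨a, ha, b, hb, w, h3, -, rfl⟩ := hP.dec2 c hQ he t
          rw [br_mul_left c.cl, br_mul_left c.cl, br_eq_one.2 (om_comm ha (h1 hx)).symm,
            br_eq_one.2 (om_comm hb (h2 hx)).symm, one_mul, one_mul]
          exact hy _ (br_mem c.cl _ _) (c.br_cp hP.es h3 (h1 hx))
        obtain ⟨t, ht⟩ := c.exists_not_mem hR
        exact Or.inl ⟨h1, h2, c.rg_two hR ht (h3 t), h3⟩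
      · have h3 := hQ.edge_four c hc hR h2
        obtain ⟨-, u, uZ, u1, uQ, uR, -⟩ := hQ.exists_y hS c hc h3 h2
        refine Or.inr ⟨h3, ?_, Q, hQ, h2⟩
        rwa [(hy' y yZ yQ).resolve_left y1, ← (hy' u uZ uQ).resolve_left u1]
    · have h3 := hP.edge_four c hc hR h1
      obtain ⟨-, u, uZ, u1, uP, uR, -⟩ := hP.exists_y hS c hc h3 h1
      exact Or.inr ⟨h3, (hy u uZ uP).resolve_left u1 ▸ uR, P, hP, h1⟩
  let s2 : Subgroup G → Prop := fun R => Es F R ∧ R.index = 2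
  let s4 : Subgroup G → Prop := fun R => Es F R ∧ R.index = 4
  have t2 : ∀ θ : MulAut G, Mp F ⊤ θ → ∀ R, s2 R → s2 (R.map θ.toMonoidHom) := fun θ hθ R hR =>
    ⟨es_map hθ hR.1, (index_map' θ R).trans hR.2⟩
  have t4 : ∀ θ : MulAut G, Mp F ⊤ θ → ∀ R, s4 R → s4 (R.map θ.toMonoidHom) := fun θ hθ R hR =>
    ⟨es_map hθ hR.1, (index_map' θ R).trans hR.2⟩
  have h24 : ∀ R, Es F R → s2 R ∨ s4 R := fun R hR =>
    (hA R hR).elim (fun h => Or.inl ⟨hR, h.2.2.1.idx⟩) fun h => Or.inr ⟨hR, h.1.idx⟩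
  have a2 : ∀ R, s2 R → Om R ≤ P ∧ Om R ≤ Q ∧ Rg F 2 R ∧ ∀ t, ∀ x ∈ Om R, br t x = 1 ∨ br t x = y := fun R hR =>
    (hA R hR.1).resolve_right fun h => by have := h.1.idx; have := hR.2; omega
  have a4 : ∀ R, s4 R → Rg F 4 R ∧ y ∈ Cp F R ∧ ∃ R', Rg F 4 R' ∧ ¬ Om R ≤ R' := fun R hR =>
    (hA R hR.1).resolve_left fun h => by have := h.2.2.1.idx; have := hR.2; omega
  have hO : ∀ R R', s2 R → s4 R' → Om R ≤ R' := fun R R' h h' => by
    by_contra h1
    have := c.edge_idx hc h.1 h'.1 h1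
    have := h.2
    have := h'.2
    omega
  have hB : ∀ R R', s2 R → s4 R' → Up F R ≤ Cp F R' ∧ Up F R' ≤ Cp F R := fun R R' h h' => by
    refine c.tv_up hT (a2 R h).2.2.1 h'.1 (hO R R' h h') fun h1 => c.ne_top h.1 ((Subgroup.eq_top_iff' R).2 fun g => ?_)
    obtain ⟨h2, -, R'', h3, h4⟩ := a4 R' h'
    obtain ⟨a, ha, h5⟩ := h3.dec c h2 h4 g
    rw [← mul_inv_cancel_left a g]
    exact R.mul_mem (c.om_le_symm h.1 (hO R R'' h ⟨h3.es, h3.idx⟩) ha) (h1 h5)
  obtain ⟨R, hR, R', hR', e0⟩ : ∃ R, s2 R ∧ ∃ R', s2 R' ∧ ¬ Om R' ≤ R := by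
    by_contra h1
    push Not at h1
    obtain ⟨R, hR, h2⟩ : ∃ R, Es F R ∧ y ∉ Cp F R := by
      by_contra h2
      push Not at h2
      exact y1 (c.eq_one h2)
    refine c.not_fam (fun _ h => h.1) t2 (fun Q' hQ' => ?_) ((h24 R hR).resolve_right fun h => h2 (a4 R h).2.1)
    rcases h24 Q' hQ' with h3 | h3
    · exact ⟨fun R hR => h1 Q' h3 R hR, Or.inl h3⟩
    · exact ⟨fun R hR => hO R Q' hR h3, Or.inr fun R hR => (hB R Q' hR h3).1⟩
  have e : E2 F R R' := ⟨(a2 R hR).2.2.1, (a2 R' hR').2.2.1, e0⟩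
  obtain ⟨a, ha, b, hb, aR', bR, hab⟩ := e.exists_ab hS c
  have hab' : br a b = y := ((a2 R' hR').2.2.2 a b hb).resolve_left fun h => hab (h ▸ (Cp F R).one_mem)
  have sP : s4 P := ⟨hP.es, hP.idx⟩
  have sQ : s4 Q := ⟨hQ.es, hQ.idx⟩
  set H := Us F s2 ⊔ Us F s4 with hH
  have hn : (Zc G).Normal := inferInstance
  have o1 : ∀ R, Es F R → Om R ≤ H ⊔ Zc G := fun R hR => by
    rcases h24 R hR with h | h
    · exact ((a2 R h).2.2.1.sp hS c (by norm_num)).2.2.trans (sup_le_sup_right ((le_us h).trans le_sup_left) _)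
    · exact ((a4 R h).1.sp hS c le_rfl).2.2.trans (sup_le_sup_right ((le_us h).trans le_sup_right) _)
  have o2 : P ⊓ Q ⊓ R' ⊓ R ≤ Zc G := by
    have d1 := dbl' (A := P ⊓ Q) ⟨(a2 R hR).1 ha, (a2 R hR).2.1 ha⟩ aR'
    have d2 := dbl' (A := P ⊓ Q ⊓ R') ⟨⟨(a2 R' hR').1 hb, (a2 R' hR').2.1 hb⟩, hb.1⟩ bR
    have h4 := hP.card_inf hQ he
    exact (Subgroup.eq_of_le_of_card_ge (le_inf (le_inf (le_inf (c.zle hP.es) (c.zle hQ.es)) (c.zle hR'.1))
      (c.zle hR.1)) (by omega)).ge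
  have o3 : ∀ g, g ∈ H ⊔ Zc G := fun g => by
    obtain ⟨a₁, ha₁, b₁, hb₁, w, h1, h2, rfl⟩ := hP.dec2 c hQ he g
    obtain ⟨a₂, ha₂, b₂, hb₂, w', h3, h4, h5⟩ := e.l.dec2 c e.r e.e w
    have h6 : w' = (a₂ * b₂)⁻¹ * w := by rw [h5, inv_mul_cancel_left]
    have h7 : w' ∈ Zc G := o2 ⟨⟨⟨h6 ▸ P.mul_mem (P.inv_mem (P.mul_mem ((a2 R hR).1 ha₂) ((a2 R' hR').1 hb₂))) h1,
      h6 ▸ Q.mul_mem (Q.inv_mem (Q.mul_mem ((a2 R hR).2.1 ha₂) ((a2 R' hR').2.1 hb₂))) h2⟩, h4⟩, h3⟩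
    rw [h5]
    exact Subgroup.mul_mem _ (Subgroup.mul_mem _ (o1 P hP.es ha₁) (o1 Q hQ.es hb₁))
      (Subgroup.mul_mem _ (Subgroup.mul_mem _ (o1 R hR.1 ha₂) (o1 R' hR'.1 hb₂)) (Subgroup.mem_sup_right h7))
  have o4 : ∀ g g', br g g' ∈ H := fun g g' => by
    obtain ⟨h, hh, z, hz, rfl⟩ := Subgroup.mem_sup_of_normal_right.1 (o3 g)
    obtain ⟨h', hh', z', hz', rfl⟩ := Subgroup.mem_sup_of_normal_right.1 (o3 g')
    rw [br_mul_left c.cl, br_zl hz, mul_one, br_mul_right c.cl, br_zr hz', mul_one]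
    exact H.mul_mem (H.mul_mem (H.mul_mem hh hh') (H.inv_mem hh)) (H.inv_mem hh')
  have o5 : Zc G ≤ H := by
    obtain ⟨t, ht⟩ := c.exists_not_mem hP.es
    have d1 := dbl (A := Wt c P t) (B := H ⊓ Zc G) (le_inf (by
      rintro _ ⟨x, -, rfl⟩
      exact o4 t x) (wt_le c P t)) ⟨hab' ▸ o4 a b, yZ⟩ (by
      rintro ⟨x, hx, h1⟩
      have h2 : br t x = y := h1
      exact y1 (h2 ▸ (hP.sp hS c le_rfl).1 t x hx (h2 ▸ yP)))
    rw [hP.card_wt c ht] at d1
    exact inf_eq_right.1 (Subgroup.eq_of_le_of_card_ge inf_le_right (by omega))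
  have o6 : ∀ g, g ∈ H := fun g => sup_le le_rfl o5 (o3 g)
  have hcomm : ∀ x ∈ Us F s2, ∀ x' ∈ Us F s4, x * x' = x' * x := fun x hx x' hx' => by
    refine Subgroup.mem_centralizer_singleton_iff.1 (us_le (K := Subgroup.centralizer {x'}) (fun R₁ h₁ u hu => ?_) hx)
    refine Subgroup.mem_centralizer_singleton_iff.2 (Subgroup.mem_centralizer_singleton_iff.1
      (us_le (K := Subgroup.centralizer {u}) (fun R₂ h₂ u' hu' => ?_) hx')).symm
    exact Subgroup.mem_centralizer_singleton_iff.2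
      (om_comm (c.up_le_om h₂.1 hu') (hO R₁ R₂ h₁ h₂ (c.up_le_om h₁.1 hu))).symm
  refine ⟨Us F s2, Us F s4, fun h => c.up_ne_bot hR.1 (le_bot_iff.1 (h ▸ le_us hR)),
    fun h => c.up_ne_bot hP.es (le_bot_iff.1 (h ▸ le_us sP)), (Subgroup.eq_bot_iff_forall _).2 fun x hx => ?_,
    le_antisymm (sup_le (us_le fun R _ => up_le_hyp R) (us_le fun R _ => up_le_hyp R)) fun g _ => o6 g, hcomm,
    fun P' f hf x hx => ⟨c.closed_us t2 (fun Q' hQ' => (h24 Q' hQ').imp_right fun h R hR => (hB R Q' hR h).1) hf.1 hx,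
      c.closed_us t4 (fun Q' hQ' => (h24 Q' hQ').symm.imp_right fun h R hR => (hB Q' R h hR).2) hf.1 hx⟩⟩
  have h0 : H ≤ Subgroup.centralizer {x} :=
    sup_le (fun u hu => Subgroup.mem_centralizer_singleton_iff.2 (hcomm u hu x hx.2))
      (fun u hu => Subgroup.mem_centralizer_singleton_iff.2 (hcomm x hx.1 u hu).symm)
  have h1 : x ∈ Zc G := Subgroup.mem_center_iff.2 fun g => Subgroup.mem_centralizer_singleton_iff.1 (h0 (o6 g))
  refine (hy x h1 (us_le (fun R₁ h₁ => (hB R₁ P h₁ sP).1) hx.1)).resolve_right fun h2 => hab ?_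
  rw [hab', ← h2]
  exact us_le (fun R₂ h₂ => (hB R R₂ hR h₂).2) hx.2

/-- **class two at the order `2 ^ 9`** -/
theorem boxC2_of {R₁ R₂ : ℕ} (hT : BoxTV) (hS : BoxSp) (hD : BoxD8 R₁) (hU : BoxUT R₂) : BoxC2 R₁ R₂ := by
  intro G _ _ hc h2 F hF
  have c : Cx F := ⟨IsPGroup.of_card hc, h2, hF.toHy0⟩
  by_cases h : W2 F
  · exact Or.inl (h.d8 hD hT hS c hc)
  · unfold W2 at h
    push Not at h
    obtain ⟨P, Q, hP, hQ, he, h1⟩ := h
    rcases c.edge hc.le hQ hP he with ⟨-, h3⟩ | ⟨h3, h4⟩ | ⟨h3, h4, h5⟩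
    · exact (h1 h3).elim
    · exact (hF.nd (h4.dec4 hT hS c hc h3 he)).elim
    · exact Or.inr (c.ut hU hc h4 h3 he h5)

end Cfsg.Agent.FS.N.C2
end
end

-- part: FS/N/B/Val
section
prune_inst 0x20100400702200000000000020001c6292000000000b0001204000000cc8080180400620b2100200012000a4483c002813100009421000002a000200411c01a000012082803cac00100000008800000000000000000000000000000000000000000000000
set_option linter.all false
open scoped Cfsg.Agent.FastGrp

-- part: FS/N/B/Def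
section
/-!
# The certificate checker of part B (project FS): definitions

Elements of the group are the numbers below `2 ^ n ≤ 512`; vectors indexed by the elements are packed with 16 bits per entry.
The lowest 32 bits of the codes of subgroups, maps and automorphisms are ignored (they spread the hash values).
-/

set_option autoImplicit false

namespace Cfsg.Agent.FS.NB

open Cfsg.Agent.FS.Pc Cfsg.Agent.FS.Sw

/-- byte `i` -/
def lk (V i : ℕ) : ℕ := Nat.land (Nat.shiftRight V (Nat.shiftLeft i 4)) 65535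

/-- `v` at byte `i` -/
def pt (v i : ℕ) : ℕ := Nat.shiftLeft v (Nat.shiftLeft i 4)

/-- drops the lowest 32 bits -/
def sl (a : ℕ) : ℕ := Nat.shiftRight a 32

def nz (a : ℕ) : Bool := Nat.ble 1 a

noncomputable def iF {α : Type} (b : Bool) (t e : α) : α := Bool.rec e t b

noncomputable def an (a b : Bool) : Bool := Bool.rec false b a

noncomputable def orr (a b : Bool) : Bool := Bool.rec b true a

noncomputable def ne (a b : ℕ) : Bool := Bool.rec true false (Nat.beq a b)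

noncomputable def nt (a : Bool) : Bool := Bool.rec true false a

/-- forces `x` to a numeral -/
noncomputable def frr {α : Type} (x : ℕ) (f : ℕ → α) : α :=
  Nat.rec (motive := fun _ => α) (f 0) (fun k _ => f k) (Nat.succ x)

/-- number of blocks of `k` bits -/
noncomputable def lenK (k w : ℕ) : ℕ :=
  Nat.rec (motive := fun _ => ℕ → ℕ) (fun _ => 1)
    (fun _ ih x => Nat.rec 1 (fun y _ => Nat.succ (ih (Nat.succ y))) (Nat.shiftRight x k)) 100000 w

/-- number of bytes -/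
noncomputable def len1 (w : ℕ) : ℕ := lenK 16 w

/-- number of pairs of bytes -/
noncomputable def len2 (w : ℕ) : ℕ := lenK 32 w

noncomputable def allN (n : ℕ) (p : ℕ → Bool) : Bool := Nat.rec true (fun i ih => an (p i) ih) n

noncomputable def foN (n : ℕ) (φ : ℕ → ℕ) : ℕ := Nat.rec 0 (fun i ih => Nat.lor (φ i) ih) n

noncomputable def itr (q : ℕ → ℕ) (u a : ℕ) : ℕ := Nat.rec a (fun _ r => q r) u

noncomputable def nth {α : Type} (d : α) (L : List α) : ℕ → α :=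
  List.rec (fun _ => d) (fun a _ ih i => Nat.rec a (fun j _ => ih j) i) L

noncomputable def allL {α : Type} (L : List α) (p : α → Bool) : Bool := List.rec true (fun a _ ih => an (p a) ih) L

noncomputable def exL {α : Type} (L : List α) (p : α → Bool) : Bool := List.rec false (fun a _ ih => orr (p a) ih) L

noncomputable def cnN (n : ℕ) (p : ℕ → Bool) : ℕ := Nat.rec 0 (fun i r => iF (p i) (Nat.succ r) r) n

/-- lists of pairs -/
inductive PL
  | nil
  | cons (a b : ℕ) (l : PL)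

noncomputable def allP (l : PL) (p : ℕ → ℕ → Bool) : Bool := PL.rec true (fun a b _ ih => an (p a b) ih) l

noncomputable def foP (l : PL) (φ : ℕ → ℕ → ℕ) : ℕ := PL.rec 0 (fun a b _ ih => Nat.lor (φ a b) ih) l

/-- partial maps: generators, graph, table, inverse table -/
structure PM where
  gs : PL
  el : PL
  tab : ℕ
  itab : ℕ

def s0 : PM := ⟨.nil, .cons 0 0 .nil, 0, 0⟩

noncomputable def mem (s : PM) (a : ℕ) : Bool := orr (nz (lk s.tab a)) (Nat.beq a 0)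

/-- the generators of `X` go into a member of the list -/
noncomputable def inC (cl : List PM) (X : PM) (p : PM → ℕ → Bool) : Bool := exL cl fun Y => allP X.gs fun a _ => p Y a

/-- the tables of the group -/
structure Gp where
  n : ℕ
  N : ℕ
  mk' : ℕ
  R : ℕ
  r : ℕ → ℕ
  c : ℕ → ℕ
  iv : ℕ
  sq : ℕ
  id : ℕ
  O : ℕ
  L : ℕ

namespace Gp

variable (g : Gp)

/-- byte `i`, reduced to an element -/
def by' (w i : ℕ) : ℕ := Nat.land (Nat.shiftRight w (Nat.shiftLeft i 4)) g.mk'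

def m (a b : ℕ) : ℕ := lk (g.r a) b

def i (a : ℕ) : ℕ := lk g.iv a

def q (a : ℕ) : ℕ := lk g.sq a

def cj (s x : ℕ) : ℕ := lk (g.c (lk g.iv s)) (lk (g.r s) x)

noncomputable def cj0 (s x : ℕ) : ℕ := iF (nz s) (g.cj s x) x

/-- `a b a⁻¹ b⁻¹` -/
def cm (a b : ℕ) : ℕ := lk (g.c (lk g.iv b)) (g.cj a b)

def nzm (X : ℕ) : ℕ := rnz 15 g.O g.L X

def zm (X : ℕ) : ℕ := Nat.xor g.O (rnz 15 g.O g.L X)

def msk (s : PM) : ℕ := Nat.lor (g.nzm s.tab) 1

def full (s : PM) : Bool := Nat.beq (g.msk s) g.O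

/-- zero at `s` iff `s a = b s` -/
def tw (a b : ℕ) : ℕ := Nat.xor (g.c a) (g.r b)

noncomputable def ind (V : ℕ) : Bool := ne (g.nzm V) g.O

noncomputable def dbl (s : PM) (a b : ℕ) : PM :=
  PL.rec (motive := fun _ => PL → ℕ → ℕ → PM) (fun el t it => ⟨.cons a b s.gs, el, t, it⟩)
    (fun h k _ ih el t it => ih (.cons (lk (g.r a) h) (lk (g.r b) k) el)
      (Nat.lor t (pt (lk (g.r b) k) (lk (g.r a) h))) (Nat.lor it (pt (lk (g.r a) h) (lk (g.r b) k))))
    s.el s.el s.tab s.itab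

noncomputable def scan (t a b : ℕ) (l : PL) (kf : ℕ → ℕ → PM) (kd : PM) : PM :=
  PL.rec kd (fun h k _ ih => iF (nz (lk t (g.cj a h))) ih (kf (g.cj a h) (g.cj b k))) l

end Gp

noncomputable def fin (s : PM) (a b : ℕ) (s' : PM) : PM := iF (mem s' a) ⟨.cons a b s.gs, s'.el, s'.tab, s'.itab⟩ s

namespace Gp

variable (g : Gp)

noncomputable def adF (fu : ℕ) : PM → ℕ → ℕ → PM :=
  Nat.rec (fun s _ _ => s) (fun _ ih s a b => iF (mem s a) s
    (g.scan s.tab a b s.gs (fun x y => fin s a b (ih (ih s x y) a b))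
      (iF (mem s (g.q a)) (g.dbl s a b) (fin s a b (ih (ih s (g.q a) (g.q b)) a b))))) fu

/-- adds the pair `(a, b)` -/
noncomputable def ad (s : PM) (a b : ℕ) : PM := g.adF 10 s a b

/-- adds the elements `φ 0, …, φ (k - 1)` to a subgroup -/
noncomputable def adS (K : PM) (φ : ℕ → ℕ) (k : ℕ) : PM := Nat.rec K (fun i s => g.ad s (φ i) (φ i)) k

noncomputable def mkS1 (w : ℕ) : PM := g.adS s0 (g.by' w) (len1 w)

noncomputable def mkS0 (w : ℕ) : PM := g.mkS1 (sl w)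

/-- the subgroup generated by the bytes of `w` -/
noncomputable def mkS (w : ℕ) : PM := frc w g.mkS0

noncomputable def mkP1 (w : ℕ) : PM :=
  Nat.rec s0 (fun i s => g.ad s (g.by' w (Nat.add i i)) (g.by' w (Nat.succ (Nat.add i i)))) (len2 w)

noncomputable def mkP0 (w : ℕ) : PM := g.mkP1 (sl w)

/-- the partial map generated by the pairs of bytes of `w` -/
noncomputable def mkP (w : ℕ) : PM := frc w g.mkP0

/-- `r` normalizes `P`, lies outside, its square lies inside -/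
noncomputable def okN0 (P : PM) (r : ℕ) : Bool :=
  an (nt (mem P r)) (an (mem P (g.q r)) (allP P.gs fun a _ => mem P (g.cj r a)))

noncomputable def okN (P : PM) (r : ℕ) : Bool := frc r (g.okN0 P)

/-- the generators of `K` normalize `W` -/
noncomputable def nrm (K W : PM) : Bool := allP K.gs fun s _ => allP W.gs fun a _ => mem W (g.cj s a)

/-- the commutators of the generators of `K` lie in `W` -/
noncomputable def cms (K W : PM) : Bool := allP K.gs fun a _ => allP K.gs fun b _ => mem W (g.cm a b)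

/-- `K` contains the normalizer of `T` -/
noncomputable def nrmz (T K : PM) : Bool :=
  allN g.N fun s => orr (mem K s) (nt (allP T.gs fun a _ => mem T (g.cj s a)))

/-! ### invariant tables -/

noncomputable def cls (pm V c : ℕ) : ℕ := Nat.land (g.zm (Nat.xor V (Nat.mul c g.O))) pm

noncomputable def sta (pm V op c a : ℕ) : ℕ :=
  iF (nz op) (Nat.mod (Nat.land (iF (Nat.beq op 1) (g.nzm (g.tw a a)) (g.zm (Nat.xor g.sq (Nat.mul a g.O))))
    (iF (nz c) (g.cls pm V c) pm)) 65535) (lk V (g.q a))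

noncomputable def ncm (a : ℕ) : ℕ := g.nzm (g.tw a a)

noncomputable def srt (a : ℕ) : ℕ := g.zm (Nat.xor g.sq (Nat.mul a g.O))

end Gp

noncomputable def rn0 (l : PL) (φ : ℕ → ℕ) : ℕ :=
  PL.rec 0 (fun a _ _ ih => Nat.rec (motive := fun _ => ℕ) 0 (fun a _ =>
    Nat.lor (Nat.shiftLeft (Nat.succ (Nat.mod (φ a) 65521)) (Nat.shiftLeft a 4)) ih) (Nat.succ a)) l

noncomputable def rn1 (l : PL) (V mu : ℕ) (φ : ℕ → ℕ) : ℕ :=
  iF (nz V) (rn0 l fun a =>
    Nat.add (Nat.mul (Nat.land (Nat.shiftRight V (Nat.shiftLeft a 4)) 65535) mu) (φ a)) (rn0 l φ)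

namespace Gp

variable (g : Gp)

noncomputable def rnd (P : PM) (V op c mu : ℕ) : ℕ :=
  frr V fun V => frr mu fun mu => iF (nz op)
    (frr (iF (nz c) (g.cls (g.msk P) V c) (g.msk P)) fun X => iF (Nat.beq op 1)
      (rn1 P.el V mu fun a => Nat.mod (Nat.land (g.ncm a) X) 65535)
      (rn1 P.el V mu fun a => Nat.mod (Nat.land (g.srt a) X) 65535))
    (frr g.sq fun sq => rn1 P.el V mu fun a => Nat.land (Nat.shiftRight V
      (Nat.shiftLeft (Nat.land (Nat.shiftRight sq (Nat.shiftLeft a 4)) 65535) 4)) 65535)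

noncomputable def fvt0 (P : PM) (pr : ℕ) : ℕ :=
  Nat.rec 0 (fun i V => g.rnd P V (lk pr (Nat.shiftLeft i 2)) (lk pr (Nat.add (Nat.shiftLeft i 2) 1))
    (lk pr (Nat.add (Nat.shiftLeft i 2) 2))) (lenK 64 pr)

/-- the program has four bytes per round -/
noncomputable def fvt (P : PM) (pr : ℕ) : ℕ := iF (nz pr) (g.fvt0 P pr) (g.msk P)

/-! ### automorphisms -/

noncomputable def atr (B j : ℕ) : ℕ → ℕ :=
  Nat.rec (fun y => y)
    (fun j ih y => Nat.add (ih y) (Nat.shiftLeft (ih (lk (g.c (g.by' B j)) y)) (Nat.shiftLeft 16 j))) j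

/-- the products with the elements below `2 ^ k` -/
noncomputable def atq (B k M j : ℕ) : ℕ → ℕ :=
  Nat.rec (fun y => Nat.land (g.r y) M)
    (fun j ih y => Nat.add (ih y)
      (Nat.shiftLeft (ih (lk (g.c (g.by' B (Nat.add k j))) y)) (Nat.shiftLeft (Nat.shiftLeft 16 k) j))) j

noncomputable def gth (B k A : ℕ) : ℕ :=
  frr (Nat.mul 65535 (ones (Nat.shiftLeft 16 k) (Nat.sub g.n k))) fun M =>
  foN (Nat.shiftLeft 1 k) fun a => Nat.shiftLeft (Nat.land
    (Nat.shiftRight (g.atq B k (Pc.msk (Nat.shiftLeft 16 k)) (Nat.sub g.n k) 0)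
    (Nat.shiftLeft (Nat.land (Nat.shiftRight A (Nat.shiftLeft a 4)) 65535) 4)) M) (Nat.shiftLeft a 4)

/-- the case that the elements below `2 ^ k` are mapped to such elements -/
noncomputable def aut1 (B k V : ℕ) : ℕ :=
  iF (Nat.beq (Nat.land (g.atr B k 0) (Nat.mul (Pc.msk k) (ones 16 k))) (g.atr B k 0)) (g.gth B k (g.atr B k 0)) V

noncomputable def aut2 (B : ℕ) : ℕ :=
  iF (Nat.ble 6 g.n) (g.aut1 B 5 (g.aut1 B 4 (g.aut1 B 3 (g.atr B g.n 0)))) (g.atr B g.n 0)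

noncomputable def aut0 (B : ℕ) : ℕ := g.aut2 (sl B)

/-- the table of the endomorphism with the images `B` of the generators -/
noncomputable def aut (B : ℕ) : ℕ := frc B g.aut0

noncomputable def autOK0 (B : ℕ) : Bool :=
  an (Nat.beq (Nat.lor (g.nzm (g.aut0 B)) 1) g.O) (allN g.n fun k =>
    an (Nat.beq (g.q (g.by' (sl B) k)) (lk (g.aut0 B) (lk g.R (tri k k)))) (allN k fun j =>
      Nat.beq (g.m (g.by' (sl B) j) (g.by' (sl B) k)) (g.m (g.by' (sl B) k) (lk (g.aut0 B) (lk g.R (tri k j))))))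

noncomputable def autOK (B : ℕ) : Bool := frc B g.autOK0

/-! ### words -/

noncomputable def tbL (L : List ℕ) (j : ℕ) : ℕ :=
  iF (nz (Nat.land j 1)) (g.mkP (nth 0 L (Nat.pred (Nat.shiftRight (Nat.pred j) 1)))).tab
    (g.mkP (nth 0 L (Nat.pred (Nat.shiftRight (Nat.pred j) 1)))).itab

/-- letters: `0` identity, `1`, `2` the current map and its inverse, `3 + 2 i`, `4 + 2 i` map `i` and its inverse -/
noncomputable def tb (L : List ℕ) (st : PM) (j : ℕ) : ℕ :=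
  iF (Nat.ble j 2) (iF (nz j) (iF (Nat.beq j 1) st.tab st.itab) g.id) (frc j (g.tbL L))

noncomputable def evk (L : List ℕ) (st : PM) (w k a : ℕ) : ℕ :=
  Nat.rec a (fun i r => lk (g.tb L st (lk w (Nat.succ (Nat.add i i)))) (g.cj0 (g.by' w (Nat.add i i)) r)) k

noncomputable def ev (L : List ℕ) (st : PM) (w a : ℕ) : ℕ := g.evk L st w (len2 w) a

noncomputable def der1 (L : List ℕ) (st : PM) (β : ℕ → ℕ) (s w : ℕ) : Bool :=
  allP (g.mkP s).gs fun a b => an (nz (β b)) (Nat.beq (g.ev L st w (β a)) (β b))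

/-- the maps of the list, transported by `β`, are words in `st` and `L` -/
noncomputable def der (L : List ℕ) (st : PM) (β : ℕ → ℕ) (Lt : List ℕ) : ℕ → Bool :=
  List.rec (fun _ => true) (fun s _ ih ws =>
    an (g.der1 L st β s (Nat.land (Nat.shiftRight ws 16) (Pc.msk (Nat.shiftLeft (lk ws 0) 5))))
      (ih (Nat.shiftRight ws (Nat.add 16 (Nat.shiftLeft (lk ws 0) 5))))) Lt

end Gp

/-- the known maps, the invariant data and the automorphisms of a node -/
structure Nx where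
  L : List ℕ
  cuts : List (List ℕ)
  kd : ℕ
  W : PM
  z : ℕ
  pw : ℕ
  pool : ℕ
  cl : List PM

/-- the data of a search -/
structure Cx where
  nx : Nx
  P : PM
  ntg : ℕ
  fv : ℕ
  t0 : ℕ
  ph : ℕ
  ex : Bool
  cu : ℕ → ℕ → Bool

def Nx.en (x : Nx) (j : ℕ) : ℕ := Nat.land (Nat.shiftRight x.pool (Nat.mul x.pw j)) (msk x.pw)

def Nx.bb (x : Nx) (j : ℕ) : ℕ := Nat.land (x.en j) 95780971304118053647396689196894323976171195136475135

namespace Gp

variable (g : Gp)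

noncomputable def good0 (x : Nx) (j : ℕ) : Bool :=
  an (g.autOK (x.bb j)) (g.der x.L s0 (lk (g.aut (x.bb j))) x.L (Nat.shiftRight (x.en j) 176))

noncomputable def good (x : Nx) (j : ℕ) : Bool := iF (nz j) (frc j (g.good0 x)) true

/-- the automorphism with the code `w` -/
noncomputable def gam (x : Nx) (w a : ℕ) : ℕ :=
  g.cj0 (g.by' w 0) (iF (nz (Nat.shiftRight w 32)) (lk (g.aut (x.bb (Nat.shiftRight w 32))) a) a)

noncomputable def stN (x : Nx) (w : ℕ) : Bool :=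
  an (g.good x (Nat.shiftRight w 32)) (an (allP x.W.gs fun a _ => mem x.W (g.gam x w a))
    (an (mem x.W (g.m (g.i x.z) (g.gam x w x.z))) (allL x.cl fun X => inC x.cl X fun Y a => mem Y (g.gam x w a))))

noncomputable def stC (cx : Cx) (w : ℕ) : Bool :=
  an (g.stN cx.nx w) (an (allP cx.P.gs fun a _ => mem cx.P (g.gam cx.nx w a))
    (an (mem cx.P (g.m cx.t0 (g.i (g.gam cx.nx w cx.t0)))) (orr (Nat.beq (g.by' w 1) 0) cx.ex)))

noncomputable def dyn (cx : Cx) (t : ℕ) (st : PM) (x w : ℕ) : Bool :=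
  an (g.stC cx w) (an (Nat.beq (g.gam cx.nx w t) t) (an (Nat.beq (g.gam cx.nx w x) x) (allP st.gs fun a b =>
    an (nz (g.gam cx.nx w b)) (Nat.beq (lk st.tab (g.gam cx.nx w a)) (g.cj0 (g.by' w 1) (g.gam cx.nx w b))))))

noncomputable def sym1 (cx : Cx) (t : ℕ) (st : PM) (x M y w : ℕ) : ℕ :=
  iF (an (nz (lk M y)) (g.dyn cx t st x w)) (Nat.lor M (pt 1 (g.cj0 (g.by' w 1) (g.gam cx.nx w y)))) M

noncomputable def syms (cx : Cx) (t : ℕ) (st : PM) (x gv sy M k : ℕ) : ℕ :=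
  Nat.rec M (fun i M => frc (Nat.land (Nat.shiftRight gv (Nat.shiftLeft (lk sy (Nat.succ (Nat.add i i))) 6)) 18446744073709551615)
    (g.sym1 cx t st x M (g.by' sy (Nat.add i i)))) k

/-- nonzero at the excluded images of `x` -/
noncomputable def flt (cx : Cx) (st : PM) (x : ℕ) : ℕ :=
  Nat.lor (Nat.xor cx.fv (Nat.mul (lk cx.fv x) g.O))
    (Nat.lor (iF (mem st (g.q x)) (Nat.xor g.sq (Nat.mul (lk st.tab (g.q x)) g.O)) 0)
      (foP st.gs fun h k => iF (nz (lk st.tab (g.cj x h))) (g.tw k (lk st.tab (g.cj x h))) 0))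

noncomputable def cov (cx : Cx) (st : PM) (x M : ℕ) : Bool :=
  an (nz (lk cx.P.tab x)) (an (Nat.beq (lk st.tab x) 0)
    (Nat.beq (Nat.lor (Nat.lor (g.nzm (Nat.lor (g.flt cx st x) st.itab)) 1) (Nat.lor cx.ntg M)) g.O))

/-- the elements `2 ^ j`, `j < blk P`, lie in `P` -/
noncomputable def blk0 (P : PM) (c : ℕ) : ℕ → ℕ :=
  Nat.rec (fun j => j) (fun _ ih j => iF (mem P (Nat.shiftLeft 1 j)) (ih (Nat.succ j)) j) c

noncomputable def blk (P : PM) : ℕ := blk0 P g.n 0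

noncomputable def cos0 (P : PM) (t : ℕ) : ℕ := foP P.el fun a _ => pt 1 (g.m t a)

noncomputable def cosB (P : PM) (ro o k : ℕ) : ℕ :=
  foN (Nat.shiftRight g.N k) fun b => iF (mem P (lk ro (Nat.shiftLeft b k))) (pt o (Nat.shiftLeft b k)) 0

noncomputable def cos (P : PM) (t : ℕ) : ℕ :=
  frr (g.blk P) fun k => iF (Nat.ble 4 k)
    (frr (g.r (g.i t)) fun ro => frr (ones 16 k) fun o => g.cosB P ro o k) (g.cos0 P t)

noncomputable def covT (cx : Cx) (M : ℕ) : Bool :=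
  an (nz cx.t0) (Nat.beq (Nat.land (g.cos cx.P cx.t0) M) (g.cos cx.P cx.t0))

/-! ### leaves -/

noncomputable def lfCf (cx : Cx) (t : ℕ) (φ ψ : ℕ → ℕ) (md a b : ℕ) : Bool :=
  an (nz (φ a)) (iF (nz md)
    (iF (Nat.beq md 1)
      (an (nz t) (orr (an (nz (φ (g.cj t (φ a)))) (ne (φ (g.cj t (φ a))) (g.cj t a)))
        (an (nz (ψ (g.cj t a))) (ne (ψ (g.cj t a)) (g.cj t (φ a))))))
      (ne (lk cx.fv a) (lk cx.fv (φ a))))
    (an (nz (φ b)) (iF (nz (g.m a b))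
      (orr (Nat.beq (g.m (φ a) (φ b)) 0) (an (nz (φ (g.m a b))) (ne (φ (g.m a b)) (g.m (φ a) (φ b)))))
      (nz (g.m (φ a) (φ b))))))

noncomputable def odd (q : ℕ → ℕ) (J u xs : ℕ) : Bool :=
  an (ne (Nat.land (g.nzm (foN (len1 xs) fun i => iF (nz (itr q u (itr q u (g.by' xs i))))
      (g.tw (g.by' xs i) (itr q u (itr q u (g.by' xs i)))) g.O)) J) J)
    (Nat.beq (Nat.land (g.nzm (foN (len1 xs) fun i => g.tw (g.by' xs i) (itr q u (g.by' xs i)))) J) J)

noncomputable def lfOd (cx : Cx) (φ ψ : ℕ → ℕ) (r s u xs : ℕ) : Bool :=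
  an (nt cx.ex) (an (nz u) (iF (nz r)
    (an (nz cx.t0) (an (g.okN cx.P r) (an (g.okN cx.P s) (g.odd (fun a => g.cj r (φ (g.cj s (ψ a)))) (g.msk cx.P) u xs))))
    (iF (nz s) (g.odd φ (g.msk cx.P) u xs)
      (an (nz (itr φ u (itr φ u xs))) (an (Nat.beq (itr φ u (itr φ u xs)) xs) (ne (itr φ u xs) xs))))))

/-- the leaves which only look up values -/
noncomputable def lfK (cx : Cx) (t : ℕ) (φ ψ : ℕ → ℕ) (d : ℕ) : Bool :=
  iF (Nat.ble (lk d 0) 2) (g.lfCf cx t φ ψ (lk d 0) (lk d 1) (lk d 2))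
    (g.lfOd cx φ ψ (g.by' d 1) (g.by' d 2) (lk d 3) (Nat.shiftRight d 64))

/-- the partial map `φ` extended to the coset of `x` by `x ↦ y` -/
noncomputable def ext (φ : ℕ → ℕ) (x y a : ℕ) : ℕ :=
  iF (orr (nz (φ a)) (Nat.beq a 0)) (φ a)
    (iF (nz (φ (g.m (g.i x) a))) (g.m y (φ (g.m (g.i x) a))) (iF (Nat.beq a x) y 0))

noncomputable def kil (cx : Cx) (t : ℕ) (st : PM) (x y fl d : ℕ) : Bool :=
  an (nz x) (iF (an (nz fl) (nz t))
    (g.lfK cx t (g.ext (g.ext (lk st.tab) x y) (g.cj t y) (g.cj t x)) (g.ext (g.ext (lk st.itab) y x) (g.cj t x) (g.cj t y)) d)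
    (g.lfK cx t (g.ext (lk st.tab) x y) (g.ext (lk st.itab) y x) d))

noncomputable def clA (cx : Cx) (a : ℕ) : ℕ := g.cls (g.msk cx.P) cx.fv (lk cx.fv a)

noncomputable def clIn (cx : Cx) (K : PM) (a : ℕ) : Bool := Nat.beq (Nat.land (g.clA cx a) (g.msk K)) (g.clA cx a)

/-- the image of `a` lies in `K` -/
noncomputable def imIn (cx : Cx) (st K : PM) (a : ℕ) : Bool :=
  iF (nz (lk st.tab a)) (mem K (lk st.tab a)) (g.clIn cx K a)

noncomputable def lfMc (cx : Cx) (st : PM) (w : ℕ) : Bool :=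
  an (nt cx.ex) (iF (Nat.beq cx.nx.kd 1)
    (an (Nat.beq (g.mkS w).tab cx.nx.W.tab) (allP (g.mkS w).gs fun a _ => an (mem cx.P a) (g.imIn cx st cx.nx.W a)))
    (iF (Nat.beq cx.nx.kd 2)
      (an (Nat.beq (g.mkS w).tab cx.P.tab) (allP (g.mkS w).gs fun a _ =>
        iF (nz (lk st.tab a)) (mem cx.nx.W (g.m (g.i a) (lk st.tab a)))
          (orr (g.clIn cx cx.nx.W a) (Nat.beq (Nat.land (g.clA cx a) (g.msk cx.nx.W)) 0))))
      (iF (Nat.beq cx.nx.kd 5)
        (allL cx.nx.cl fun X => orr (nt (allP X.gs fun a _ => mem cx.P a)) (inC cx.nx.cl X (g.imIn cx st)))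
        (an (Nat.beq cx.nx.kd 3) (an (nz (lk st.tab w)) (an (mem cx.nx.W (g.m (g.i cx.nx.z) w))
          (mem cx.nx.W (g.m (g.i cx.nx.z) (lk st.tab w)))))))))

/-- the subgroup generated by the squares of the bytes of `w` -/
noncomputable def sqS (w : ℕ) : PM := g.adS s0 (fun i => g.q (g.by' w i)) (len1 w)

noncomputable def urS (cx : Cx) (st K K' : PM) (md x : ℕ) : Bool :=
  iF (Nat.beq md 1)
    (an (nz cx.t0) (allP K'.gs fun a _ => an (orr (mem K a) (an (mem cx.P a) (g.imIn cx st K' a))) (mem K (g.cm cx.t0 a))))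
    (allP K'.gs fun a _ => orr (mem K a) (an (mem cx.P a) (an (g.imIn cx st K' a)
      (iF (nz md) (an (nz (lk st.tab a)) (mem K (g.m (lk st.tab a) (g.i a)))) (Nat.beq a x)))))

/-- a step: one byte `length + 16 * mode`, then the new generators -/
noncomputable def urG (cx : Cx) (st : PM) (fu : ℕ) : PM → ℕ → Bool :=
  Nat.rec (fun _ _ => false) (fun _ ih K ch => iF (nz ch)
    (an (g.urS cx st K (g.adS K (g.by' (Nat.shiftRight ch 16)) (Nat.land ch 15)) (Nat.land (Nat.shiftRight ch 4) 15)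
        (g.by' ch 1))
      (ih (g.adS K (g.by' (Nat.shiftRight ch 16)) (Nat.land ch 15))
        (Nat.shiftRight ch (Nat.shiftLeft (Nat.succ (Nat.land ch 15)) 4))))
    (allP cx.P.gs fun a _ => mem K a)) fu

noncomputable def phOK (P : PM) (w : ℕ) : Bool := allN (len1 w) fun i => mem P (g.by' w i)

noncomputable def lfUr (cx : Cx) (st : PM) (ch : ℕ) : Bool :=
  an (nt cx.ex) (an (g.phOK cx.P cx.ph) (g.urG cx st 10 (g.sqS cx.ph) ch))

noncomputable def psi (T : PM) (φ : ℕ → ℕ) : PM := PL.rec s0 (fun a _ _ ih => g.ad ih a (φ a)) T.gs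

noncomputable def v1c (T K : PM) (φ : ℕ → ℕ) : Bool :=
  an (Nat.beq (g.nzm (foP T.gs fun x _ => g.tw x (φ x))) g.O)
    (an (g.ind (foP T.gs fun x _ => iF (nz (φ (φ x))) (g.tw x (φ (φ x))) g.O))
      (allP K.gs fun s _ => g.ind (foP T.gs fun x _ => iF (nz (φ (g.cj s x))) (g.tw (φ x) (φ (g.cj s x))) g.O)))

noncomputable def lfV1 (cx : Cx) (st T K : PM) (w k : ℕ) : Bool :=
  an (orr (g.full K) (an (orr (an (nz cx.t0) (Nat.beq T.tab cx.P.tab)) (an (Nat.beq cx.nx.kd 6) (Nat.beq T.tab cx.nx.W.tab)))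
      (g.nrmz T K)))
    (an (nz k) (an (allP T.gs fun a _ => nz (lk T.tab (g.ev cx.nx.L st w a)))
      (g.v1c T K (itr (lk (g.psi T (g.ev cx.nx.L st w)).tab) k))))

noncomputable def lfIn (cx : Cx) (st : PM) (w : ℕ) : Bool :=
  an (nt cx.ex) (allP cx.P.gs fun a _ => an (nz (lk st.tab a)) (Nat.beq (g.ev cx.nx.L s0 w a) (lk st.tab a)))

noncomputable def lfRef (cx : Cx) (st : PM) (k B ws : ℕ) : Bool :=
  an (Nat.blt k cx.nx.cuts.length) (an (g.autOK B) (g.der cx.nx.L st (lk (g.aut B)) (nth [] cx.nx.cuts k) ws))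

noncomputable def lfCut (cx : Cx) (t : ℕ) (st : PM) (w : ℕ) : Bool :=
  an (cx.cu t w) (allP (g.mkP w).gs fun a b => an (nz b) (Nat.beq (lk st.tab a) b))

end Gp

/-- certificates of a search -/
inductive Ct
  | nil
  | cons (y fl : ℕ) (sub rest : Ct)
  | br (x gv sy : ℕ) (kids : Ct)
  | kil (y fl d : ℕ) (rest : Ct)
  | lf (d : ℕ)
  | mc (w : ℕ)
  | ur (ch : ℕ)
  | v1 (T K w k : ℕ)
  | ine (w : ℕ)
  | ref (k B ws : ℕ)
  | cut (w : ℕ)

/-- a leaf -/
def lf (p : ℕ → PM → Bool) : (ℕ → PM → Bool) × (ℕ → PM → ℕ → ℕ) := (p, fun _ _ _ => 0)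

namespace Gp

variable (g : Gp)

noncomputable def nxt (t : ℕ) (st : PM) (x y fl : ℕ) : PM :=
  iF (an (nz fl) (nz t)) (g.ad (g.ad st x y) (g.cj t y) (g.cj t x)) (g.ad st x y)

/-- the checker of a search -/
noncomputable def go (cx : Cx) (c : Ct) : (ℕ → PM → Bool) × (ℕ → PM → ℕ → ℕ) :=
  Ct.rec (lf fun _ _ => false)
    (fun y fl _ _ sub rest => (fun _ _ => false, fun t st x => Nat.lor
      (iF (iF (nz x) (sub.1 t (g.nxt t st x y fl)) (sub.1 y (g.ad st (g.q y) (g.q y)))) (pt 1 y) 0) (rest.2 t st x)))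
    (fun x gv sy _ kids => lf fun t st => iF (nz x) (g.cov cx st x (g.syms cx t st x gv sy (kids.2 t st x) (len2 sy)))
      (g.covT cx (g.syms cx t st x gv sy (kids.2 t st x) (len2 sy))))
    (fun y fl d _ rest => (fun _ _ => false, fun t st x =>
      Nat.lor (iF (g.kil cx t st x y fl d) (pt 1 y) 0) (rest.2 t st x)))
    (fun d => lf fun t st => g.lfK cx t (lk st.tab) (lk st.itab) d)
    (fun w => lf fun _ st => g.lfMc cx st w)
    (fun ch => lf fun _ st => g.lfUr cx st ch)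
    (fun T K w k => lf fun _ st => g.lfV1 cx st (g.mkS T) (g.mkS K) w k)
    (fun w => lf fun _ st => g.lfIn cx st w)
    (fun k B ws => lf fun _ st => g.lfRef cx st k B ws)
    (fun w => lf fun t st => g.lfCut cx t st w) c

end Gp

/-- a candidate for an essential subgroup: generators, program of the invariant table, roots, coset -/
structure Ds where
  P : ℕ
  pr : ℕ
  ph : ℕ
  t0 : ℕ

/-- a node -/
structure Nd where
  L : List ℕ
  kd : ℕ
  W : ℕ
  z : ℕ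
  a1 : ℕ
  a2 : ℕ
  pw : ℕ
  pool : ℕ
  top : Ct
  ps : Ct
  cl : List ℕ
  ex : Ct

namespace Gp

variable (g : Gp)

noncomputable def fvD (d : Ds) : ℕ := g.fvt (g.mkS d.P) d.pr

noncomputable def ntD (d : Ds) : ℕ := Nat.xor g.O (g.msk (g.mkS d.P))

noncomputable def cxP (x : Nx) (cu : ℕ → ℕ → ℕ → Bool) (d : Ds) : Cx :=
  ⟨x, g.mkS d.P, g.ntD d, g.fvD d, g.by' d.t0 0, d.ph, false, cu d.P⟩

noncomputable def srch (x : Nx) (cu : ℕ → ℕ → ℕ → Bool) (d : Ds) (c : Ct) : Bool :=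
  an (g.okN (g.mkS d.P) (g.by' d.t0 0)) ((g.go (g.cxP x cu d) c).1 0 s0)

/-- the image of an earlier candidate -/
noncomputable def symP (x : Nx) (d : Ds) (P w : ℕ) : Bool :=
  an (g.stN x w) (an (allP (g.mkS P).gs fun a _ => mem (g.mkS d.P) (g.gam x w a))
    (Nat.beq (Nat.mod (g.msk (g.mkS P)) 65535) (Nat.mod (g.msk (g.mkS d.P)) 65535)))

/-- all candidates of the list -/
noncomputable def covP (x : Nx) (cu : ℕ → ℕ → ℕ → Bool) (AL : List Ds) : Ct → List ℕ → Bool :=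
  List.rec (fun _ _ => true) (fun d _ ih c dn => Ct.rec false
    (fun w j sub rest _ _ => an (iF (nz w) (an (Nat.blt j dn.length) (frc w (g.symP x d (nth 0 dn j)))) (g.srch x cu d sub))
      (ih rest (d.P :: dn)))
    (fun _ _ _ _ _ => false) (fun _ _ _ _ _ => false) (fun _ => false) (fun _ => false) (fun _ => false)
    (fun _ _ _ _ => false) (fun _ => false) (fun _ _ _ => false) (fun _ => false) c) AL

/-- the subgroup generated by commutators -/
noncomputable def cmS (w : ℕ) : PM :=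
  g.adS s0 (fun i => g.cm (g.by' w (Nat.add i i)) (g.by' w (Nat.succ (Nat.add i i)))) (len2 w)

noncomputable def nxOf (cuts : List (List ℕ)) (nd : Nd) : Nx :=
  ⟨nd.L, cuts, nd.kd, iF (Nat.beq nd.kd 3) (g.cmS nd.W) (iF (Nat.ble 4 nd.kd) s0 (g.mkS nd.W)),
    iF (Nat.beq nd.kd 3) (g.by' nd.z 0) 0, nd.pw, nd.pool,
    iF (Nat.beq nd.kd 5) (List.rec [] (fun a _ ih => g.mkS a :: ih) nd.cl) []⟩

/-- the context of the extension in a node of the kind `5`: the subgroup `W` is fully normalized -/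
noncomputable def nxE (cuts : List (List ℕ)) (nd : Nd) : Nx := ⟨nd.L, cuts, 6, g.mkS nd.W, 0, nd.pw, nd.pool, []⟩

noncomputable def cxE (x : Nx) (cu : ℕ → ℕ → ℕ → Bool) (R : ℕ) : Cx := ⟨x, g.mkS R, 0, 0, 0, 0, true, cu R⟩

noncomputable def extOK (T h R : PM) : Bool :=
  an (allP h.gs fun a b => an (mem T b) (mem R a)) (an (allP T.gs fun a _ => nz (lk h.itab a))
    (allP R.gs fun s _ => g.ind (foP h.gs fun a b => iF (nz (lk h.tab (g.cj s a))) (g.tw b (lk h.tab (g.cj s a))) g.O)))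

/-- the search for the extension of the map `a1` to `z` -/
noncomputable def extC (cu : ℕ → ℕ → ℕ → Bool) (nd : Nd) (x : Nx) (c : Ct) : Bool :=
  an (g.extOK (g.mkS nd.W) (g.mkP nd.a1) (g.mkS nd.z)) (an (g.der nd.L s0 (lk g.id) [nd.a1] nd.a2)
    ((g.go (g.cxE x cu nd.z) c).1 0 (g.mkP nd.a1)))

/-- the order of the normalizer -/
noncomputable def nN (X : PM) : ℕ := cnN g.N fun s => allP X.gs fun a _ => mem X (g.cj s a)

/-- the table `t` maps `X` into a member of the list, if it is defined on `X` -/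
noncomputable def _root_.Cfsg.Agent.FS.NB.clM (cl : List PM) (X : PM) (t : ℕ) : Bool :=
  orr (nt (allP X.gs fun a _ => orr (nz (lk t a)) (Nat.beq a 0))) (inC cl X fun Y a => mem Y (lk t a))

/-- The list of subgroups of one order is closed under conjugation and under the known maps and their inverses;
it contains `T`, which has the largest normalizer. -/
noncomputable def clsOK (S : PM) (x : Nx) (T : PM) : Bool :=
  an (exL x.cl fun Y => Nat.beq Y.tab T.tab) (frc (g.nN T) fun k => frc (Nat.mod (g.msk T) 65535) fun o => allL x.cl fun X =>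
    an (Nat.beq (Nat.mod (g.msk X) 65535) o) (an (Nat.ble (g.nN X) k)
      (an (allP S.gs fun s _ => inC x.cl X fun Y a => mem Y (g.cj s a))
        (allL x.L fun s => an (clM x.cl X (g.mkP s).tab) (clM x.cl X (g.mkP s).itab)))))

noncomputable def kdOK (Xs : List (List ℕ)) (S : PM) (x : Nx) (a : ℕ) : Bool :=
  an (g.nrm S x.W) (iF (nz x.kd) (iF (Nat.beq x.kd 1)
      (an (nz x.W.tab) (allL x.L fun s => allP x.W.gs fun a _ => nz (lk x.W.tab (lk (g.mkP s).tab a))))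
      (an (g.cms S x.W) (iF (Nat.beq x.kd 2)
        (an (nt (mem x.W (g.by' a 0))) (an (Nat.beq (Nat.lor (g.msk x.W) (g.cos x.W (g.by' a 0))) g.O)
          (allL x.L fun s => allP (g.mkP s).gs fun a b => mem x.W (g.m (g.i a) b))))
        (an (Nat.beq x.kd 3) (an (nt (mem x.W x.z)) (an (Nat.beq (g.q x.z) 0) (an (Nat.beq (g.r x.z) (g.c x.z))
          (allL x.L fun s => orr (nt (g.full (g.mkP s))) (mem x.W (g.m (g.i x.z) (lk (g.mkP s).tab x.z)))))))))))
    (an (Nat.blt a Xs.length) (List.beq (nth [] Xs a) x.L)))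

noncomputable def node1 (Xs : List (List ℕ)) (AL : List Ds) (dT : Ds) (cu : ℕ → ℕ → ℕ → Bool) (nd : Nd) (x : Nx) : Bool :=
  iF (Nat.beq nd.kd 4) (an (g.nrm (g.mkS dT.P) (g.mkS nd.W)) (g.extC cu nd x nd.top))
    (an (iF (Nat.beq nd.kd 5)
        (an (g.clsOK (g.mkS dT.P) x (g.mkS nd.W)) (g.extC (fun _ _ _ => false) nd (g.nxE x.cuts nd) nd.ex))
        (g.kdOK Xs (g.mkS dT.P) x nd.a1))
      (an ((g.go (g.cxP x cu dT) nd.top).1 0 s0) (orr (Nat.beq nd.kd 3) (g.covP x cu AL nd.ps []))))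

/-- the checker of a node; the kinds `2`, `3` need the flag `pf` (perfect systems) -/
noncomputable def node (pf : Bool) (Xs : List (List ℕ)) (AL : List Ds) (dT : Ds) (cu : ℕ → ℕ → ℕ → Bool)
    (cuts : List (List ℕ)) (nd : Nd) : Bool :=
  an (orr pf (an (ne nd.kd 2) (ne nd.kd 3)))
    (an (g.full (g.mkS dT.P)) (an (Nat.beq dT.t0 0) (g.node1 Xs AL dT cu nd (g.nxOf cuts nd))))

/-- the nodes in the order of their completion -/
noncomputable def nodes (pf : Bool) (Xs : List (List ℕ)) (AL : List Ds) (dT : Ds) (l : List Nd) :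
    List (List ℕ) → Bool :=
  List.rec (fun _ => true)
    (fun nd _ ih cuts => an (g.node pf Xs AL dT (fun _ _ _ => false) cuts nd) (ih (nd.L :: cuts))) l

/-! ### the candidates -/

/-- the elements commuting with `u` modulo the elements below `2 ^ i` -/
noncomputable def cmi (i u : ℕ) : ℕ :=
  g.zm (Nat.land (g.tw u u) (Nat.mul (Nat.sub 65536 (Nat.shiftLeft 1 i)) g.O))

def cmw (M u : ℕ) : ℕ := Nat.land (Nat.xor (g.c u) (g.r u)) M

noncomputable def tge (CA : List Ds) (e : ℕ) : ℕ :=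
  frr (Nat.shiftRight e 16) fun j => iF (Nat.blt j CA.length)
    (Nat.xor g.O (g.msk (g.mkS (nth ⟨0, 0, 0, 0⟩ CA j).P))) 2

noncomputable def lev1 (CA : List Ds) (M C u v : ℕ) : Bool :=
  Nat.rec (motive := fun _ => Bool) true (fun _ _ =>
    frr (Nat.land (Nat.shiftRight C (Nat.shiftLeft v 5)) 4294967295) fun e =>
      Nat.beq (g.nzm (Nat.rec (motive := fun _ => ℕ) (g.cmw M u)
        (fun h _ => frr (g.cj (g.i (Nat.succ h)) u) (g.cmw M)) (Nat.land e g.mk'))) (g.tge CA e)) (g.cmw M u)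

noncomputable def lev0 (CA : List Ds) (i i4 M Q C c : ℕ) : Bool :=
  Nat.rec true (fun v ih => Nat.rec (motive := fun _ => Bool)
    (an (frr (Nat.shiftLeft v i) fun u => g.lev1 CA M C u v) ih) (fun _ _ => ih)
    (Nat.land (Nat.shiftRight Q (Nat.shiftLeft v i4)) 65535)) c

/-- the entry of `(i, v)` has the index `2 ^ (n - i) + v` -/
noncomputable def lev (CA : List Ds) (C : ℕ) : Bool :=
  allN g.n fun i => frr (Nat.shiftRight g.N i) fun c =>
    frr (Nat.mul (Nat.sub 65536 (Nat.shiftLeft 1 i)) g.O) fun M =>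
    frr (Nat.lor (Nat.lor (Nat.land g.sq M) 1) (pt 1 (Nat.shiftLeft 1 i))) fun Q =>
    frr (Nat.shiftRight C (Nat.shiftLeft c 5)) fun C => frr (Nat.add i 4) fun i4 => g.lev0 CA i i4 M Q C c

/-- every essential subgroup is conjugate to a member of `AL` -/
noncomputable def alv (AL DL : List Ds) (cu : ℕ → ℕ → ℕ → Bool) (C pool : ℕ) (ps : Ct) : Bool :=
  an (g.lev (AL ++ DL) C) (g.covP ⟨[], [], 0, s0, 0, 176, pool, []⟩ cu DL ps [])

end Gp

def row (T s ms a : ℕ) : ℕ := Nat.land (Nat.shiftRight T (Nat.mul s a)) ms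

/-- rows through blocks of 16 rows -/
noncomputable def row4 (T s s4 ms4 a : ℕ) : ℕ :=
  frc (Nat.shiftRight a 4) fun hi => Nat.shiftRight (row T s4 ms4 hi) (Nat.mul s (Nat.land a 15))

noncomputable def vec (N : ℕ) (φ : ℕ → ℕ) : ℕ := foN N fun a => pt (φ a) a

/-- `x * ones w k` -/
noncomputable def rp2 (x w k : ℕ) : ℕ :=
  Nat.rec x (fun j o => Nat.add o (Nat.shiftLeft o (Nat.shiftLeft w j))) k

/-- the generator `i` is a central involution, provided the earlier ones are -/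
noncomputable def tlc (n R i : ℕ) : Bool :=
  an (Nat.blt i n) (an (Nat.beq (lk R (tri i i)) 0)
    (allN n fun k => orr (Nat.ble k i) (Nat.beq (lk R (tri k i)) (Nat.shiftLeft 1 i))))

/-- the number of central involutions at the bottom of the series which are used -/
noncomputable def tlr (n R : ℕ) : ℕ := iF (tlc n R 0) (iF (tlc n R 1) (iF (tlc n R 2) 3 2) 1) 0

/-- the row of `y`; the table `T` holds the rows of the multiples of `2 ^ r` -/
noncomputable def ry (T S ms S4 ms4 r mr O y : ℕ) : ℕ :=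
  Nat.xor (Nat.land (row4 T S S4 ms4 (Nat.shiftRight y r)) ms) (Nat.mul (Nat.land y mr) O)

def chf (C r w i : ℕ) : ℕ := Nat.mul w (Nat.shiftRight (lk C i) r)

def clf (C mr i : ℕ) : ℕ := Nat.land (lk C i) mr

/-- the rows of the conjugates -/
noncomputable def trB (ro ch cl : ℕ → ℕ) (mw S s j : ℕ) : ℕ → ℕ :=
  Nat.rec (motive := fun _ => ℕ → ℕ) (fun y => Nat.shiftLeft (ro y) s)
    (fun i ih y => Nat.add (ih y) (Nat.shiftLeft
      (Nat.rec (motive := fun _ => ℕ) 0 (fun z _ => ih z)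
        (Nat.succ (Nat.xor (Nat.land (Nat.shiftRight (ro y) (ch i)) mw) (cl i)))) (Nat.shiftLeft S i))) j

noncomputable def stF (R r w mw mr S ms S4 ms4 k F : ℕ) : ℕ :=
  frr (Nat.add r k) fun K => frr (Nat.shiftLeft w k) fun s => frr (ones w k) fun O =>
  frr (rp2 (Nat.shiftLeft O K) S k) fun H => frr (Nat.shiftRight R (Nat.shiftLeft (tri K r) 4)) fun C =>
  frr (lk C k) fun p =>
  Nat.add (Nat.xor (Nat.xor F (trB (ry F S ms S4 ms4 r mr O) (chf C r w) (clf C mr) mw S s k 0)) (Nat.shiftLeft H s))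
    (Nat.shiftLeft (Nat.xor (Nat.xor F (trB (ry F S ms S4 ms4 r mr O) (chf C r w) (clf C mr) mw S s k p)) H)
      (Nat.shiftLeft S k))

/-- the products of the multiples of `2 ^ r`: rows of `S` bits, entries of `w` bits -/
noncomputable def tbF (R r w mw mr S ms S4 ms4 k : ℕ) : ℕ :=
  Nat.rec 0 (fun k F => frr F (stF R r w mw mr S ms S4 ms4 k)) k

def sw2 (X t d : ℕ) : ℕ := Nat.xor (Nat.xor X t) (Nat.shiftLeft t d)

def sw1 (X M d : ℕ) : ℕ := sw2 X (Nat.land (Nat.xor (Nat.shiftRight X d) X) M) d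

noncomputable def swm (m j l : ℕ) : ℕ :=
  rp2 (rp2 (Nat.shiftLeft (msk (Nat.shiftLeft 1 j)) (Nat.shiftLeft 1 j)) (Nat.shiftLeft 2 j) (Nat.sub l (Nat.succ j)))
    (Nat.shiftLeft 2 l) (Nat.sub m (Nat.succ l))

/-- the transposed table, entries of `2 ^ e` bits -/
noncomputable def trE (e n T : ℕ) : ℕ :=
  Nat.rec T (fun i Y => frr (Nat.add i e) fun j => frr (Nat.add j n) fun l =>
    sw1 Y (swm (Nat.add (Nat.add n n) e) j l) (Nat.sub (Nat.shiftLeft 1 l) (Nat.shiftLeft 1 j))) n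

/-- the vector `0, 1, …, 2 ^ n - 1` -/
noncomputable def idv (n : ℕ) : ℕ :=
  Nat.rec 0 (fun j V => Nat.add V (Nat.shiftLeft (Nat.xor V (Nat.shiftLeft (ones 16 j) j)) (Nat.shiftLeft 16 j))) n

set_option genSizeOf false in
set_option genInjectivity false in
structure Bx where
  v : ℕ

noncomputable def rowb (T S ms S4 ms4 r mr O k : ℕ) : Bx :=
  Nat.rec (motive := fun _ => Bx) ⟨0⟩ (fun v _ => ⟨v⟩) (Nat.succ (ry T S ms S4 ms4 r mr O (Nat.succ k)))

noncomputable def rowp (T S ms S4 ms4 r mr O z a : ℕ) : ℕ :=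
  Nat.rec z (fun k _ => Bx.rec (fun v => v) (rowb T S ms S4 ms4 r mr O k)) a

/-- the squares of the multiples of `2 ^ r` -/
noncomputable def sqv (ro : ℕ → ℕ) (r c : ℕ) : ℕ :=
  foN c fun h => frr (Nat.shiftLeft h r) fun a => pt (lk (ro a) a) a

/-- the tables of the presentation `R`; `I` is the table of the inverses -/
noncomputable def mkG (n R I : ℕ) (k : Gp → Bool) : Bool :=
  frr (tlr n R) fun r => frr (Nat.sub n r) fun u => frr (Nat.shiftLeft 16 r) fun w => frr (msk w) fun mw =>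
  frr (msk r) fun mr => frr (Nat.shiftLeft 1 n) fun N => frr (Nat.shiftLeft N 4) fun S => frr (msk S) fun ms =>
  frr (Nat.shiftLeft S 4) fun S4 => frr (msk S4) fun ms4 => frr (ones 16 n) fun O => frr (Nat.mul 32767 O) fun L =>
  frr (Nat.pred N) fun mk => frr (ones 16 r) fun Q => frr (tbF R r w mw mr S ms S4 ms4 u) fun F =>
  frr (idv n) fun id => frr (Nat.land id (Nat.mul mr O)) fun P1 => frr (rp2 P1 S u) fun P =>
  frr (Nat.xor (Nat.mul F Q) P) fun E => frr (Nat.xor (Nat.mul (trE (Nat.add 4 r) u F) Q) P) fun E' =>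
  frr (Nat.land E ms) fun z => frr (Nat.land E' ms) fun z' =>
  frr (Nat.mul (sqv (rowp E S ms S4 ms4 r mr O z) r (Nat.shiftLeft 1 u)) Q) fun sq =>
  frr (Nat.xor (Nat.mul (Nat.land I (Nat.mul mk (ones w u))) Q) P1) fun iv =>
  k ⟨n, N, mk, R, rowp E S ms S4 ms4 r mr O z, rowp E' S ms S4 ms4 r mr O z', iv, sq, id, O, L⟩

/-- checks of the data -/
noncomputable def Gp.ok (g : Gp) : Bool :=
  an (Nat.ble g.n 9) (an (frr (tlr g.n g.R) fun r => allN (Nat.shiftRight g.N r) fun h =>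
      frr (Nat.shiftLeft h r) fun a => Nat.beq (lk (g.r a) (lk g.iv a)) 0)
    (allN g.n fun k => an (Nat.blt (lk g.R (tri k k)) (Nat.shiftLeft 1 k))
      (allN k fun j => Nat.beq (Nat.shiftRight (lk g.R (tri k j)) j) 1)))

/-! ### faster versions (generated by `tools/P4/h18/nb`; helper18) -/

noncomputable def Fa.memK : (PM → (ℕ → Bool)) :=
  (fun (s0 : PM) (a1 : ℕ) => (@Nat.rec (fun (_ : ℕ) => Bool) (Nat.beq a1 (nat_lit 0)) (fun (_ : ℕ) (_ : Bool) => Bool.true) (Nat.land (Nat.shiftRight (@PM.tab s0) (Nat.shiftLeft a1 (nat_lit 4))) (nat_lit 65535))))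

noncomputable def Fa.byK : (Gp → (ℕ → (ℕ → ℕ))) :=
  (fun (g0 : Gp) (w1 : ℕ) (i2 : ℕ) => (Nat.land (Nat.shiftRight w1 (Nat.shiftLeft i2 (nat_lit 4))) (@Gp.mk' g0)))

noncomputable def Fa.mK : (Gp → (ℕ → (ℕ → ℕ))) :=
  (fun (g0 : Gp) (a1 : ℕ) (b2 : ℕ) => (Nat.land (Nat.shiftRight (@Gp.r g0 a1) (Nat.shiftLeft b2 (nat_lit 4))) (nat_lit 65535)))

noncomputable def Fa.iK : (Gp → (ℕ → ℕ)) :=
  (fun (g0 : Gp) (a1 : ℕ) => (Nat.land (Nat.shiftRight (@Gp.iv g0) (Nat.shiftLeft a1 (nat_lit 4))) (nat_lit 65535)))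

noncomputable def Fa.qK : (Gp → (ℕ → ℕ)) :=
  (fun (g0 : Gp) (a1 : ℕ) => (Nat.land (Nat.shiftRight (@Gp.sq g0) (Nat.shiftLeft a1 (nat_lit 4))) (nat_lit 65535)))

noncomputable def Fa.cjK : (Gp → (ℕ → (ℕ → ℕ))) :=
  (fun (g0 : Gp) (s1 : ℕ) (x2 : ℕ) => (Nat.land (Nat.shiftRight (@Gp.c g0 (Fa.iK g0 s1)) (Nat.shiftLeft (Nat.land (Nat.shiftRight (@Gp.r g0 s1) (Nat.shiftLeft x2 (nat_lit 4))) (nat_lit 65535)) (nat_lit 4))) (nat_lit 65535)))

noncomputable def Fa.cj0K : (Gp → (ℕ → (ℕ → ℕ))) :=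
  (fun (g0 : Gp) (s1 : ℕ) (x2 : ℕ) => (@Nat.rec (fun (_ : ℕ) => ℕ) x2 (fun (_ : ℕ) (_ : ℕ) => (Nat.land (Nat.shiftRight (@Gp.c g0 (Fa.iK g0 s1)) (Nat.shiftLeft (Nat.land (Nat.shiftRight (@Gp.r g0 s1) (Nat.shiftLeft x2 (nat_lit 4))) (nat_lit 65535)) (nat_lit 4))) (nat_lit 65535))) s1))

noncomputable def Fa.cmK : (Gp → (ℕ → (ℕ → ℕ))) :=
  (fun (g0 : Gp) (a1 : ℕ) (b2 : ℕ) => (@lk (@Gp.c g0 (@lk (@Gp.iv g0) b2)) (Fa.cjK g0 a1 b2)))

noncomputable def Fa.nzmK : (Gp → (ℕ → ℕ)) :=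
  (fun (g0 : Gp) (X1 : ℕ) => (Nat.land (Nat.shiftRight (Nat.lor (Nat.add (Nat.land X1 (@Gp.L g0)) (@Gp.L g0)) X1) (nat_lit 15)) (@Gp.O g0)))

noncomputable def Fa.zmK : (Gp → (ℕ → ℕ)) :=
  (fun (g0 : Gp) (X1 : ℕ) => (Nat.xor (@Gp.O g0) (Nat.land (Nat.shiftRight (Nat.lor (Nat.add (Nat.land X1 (@Gp.L g0)) (@Gp.L g0)) X1) (nat_lit 15)) (@Gp.O g0))))

noncomputable def Fa.mskK : (Gp → (PM → ℕ)) :=
  (fun (g0 : Gp) (s1 : PM) => (Nat.lor (Fa.nzmK g0 (@PM.tab s1)) (nat_lit 1)))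

noncomputable def Fa.fullK : (Gp → (PM → Bool)) :=
  (fun (g0 : Gp) (s1 : PM) => (Nat.beq (Fa.mskK g0 s1) (@Gp.O g0)))

noncomputable def Fa.twK : (Gp → (ℕ → (ℕ → ℕ))) :=
  (fun (g0 : Gp) (a1 : ℕ) (b2 : ℕ) => (Nat.xor (@Gp.c g0 a1) (@Gp.r g0 b2)))

noncomputable def Fa.indK : (Gp → (ℕ → Bool)) :=
  (fun (g0 : Gp) (V1 : ℕ) => (@ne (Fa.nzmK g0 V1) (@Gp.O g0)))

noncomputable def Fa.dblK : (Gp → (PM → (ℕ → (ℕ → PM)))) :=
  (fun (g0 : Gp) (s1 : PM) (a2 : ℕ) (b3 : ℕ) => (@PL.rec (fun (_ : PL) => (PL → (ℕ → (ℕ → PM)))) (fun (el8 : PL) (t9 : ℕ) (it10 : ℕ) => (@PM.mk (@PL.cons a2 b3 (@PM.gs s1)) el8 t9 it10)) (fun (h8 : ℕ) (k9 : ℕ) (_ : PL) (ih11 : (PL → (ℕ → (ℕ → PM)))) (el12 : PL) (t13 : ℕ) (it14 : ℕ) => (ih11 (@PL.cons (Nat.land (Nat.shiftRight (@Gp.r g0 a2) (Nat.shiftLeft h8 (nat_lit 4))) (nat_lit 65535)) (Nat.land (Nat.shiftRight (@Gp.r g0 b3) (Nat.shiftLeft k9 (nat_lit 4))) (nat_lit 65535)) el12) (Nat.lor t13 (Nat.shiftLeft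 (Nat.land (Nat.shiftRight (@Gp.r g0 b3) (Nat.shiftLeft k9 (nat_lit 4))) (nat_lit 65535)) (Nat.shiftLeft (Nat.land (Nat.shiftRight (@Gp.r g0 a2) (Nat.shiftLeft h8 (nat_lit 4))) (nat_lit 65535)) (nat_lit 4)))) (Nat.lor it14 (Nat.shiftLeft (Nat.land (Nat.shiftRight (@Gp.r g0 a2) (Nat.shiftLeft h8 (nat_lit 4))) (nat_lit 65535)) (Nat.shiftLeft (Nat.land (Nat.shiftRight (@Gp.r g0 b3) (Nat.shiftLeft k9 (nat_lit 4))) (nat_lit 65535)) (nat_lit 4)))))) (@PM.el s1) (@PM.el s1) (@PM.tab s1) (@PM.itab s1)))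

noncomputable def Fa.scanK : (Gp → (ℕ → (ℕ → (ℕ → (PL → ((ℕ → (ℕ → PM)) → (PM → PM))))))) :=
  (fun (g0 : Gp) (t1 : ℕ) (a2 : ℕ) (b3 : ℕ) (l4 : PL) (kf5 : (ℕ → (ℕ → PM))) (kd6 : PM) => (@PL.rec (fun (_ : PL) => PM) kd6 (fun (h7 : ℕ) (k8 : ℕ) (_ : PL) (ih10 : PM) => (@Nat.rec (fun (_ : ℕ) => PM) (kf5 (Fa.cjK g0 a2 h7) (Fa.cjK g0 b3 k8)) (fun (_ : ℕ) (_ : PM) => ih10) (Nat.land (Nat.shiftRight t1 (Nat.shiftLeft (Fa.cjK g0 a2 h7) (nat_lit 4))) (nat_lit 65535)))) l4))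

noncomputable def Fa.finK : (PM → (ℕ → (ℕ → (PM → PM)))) :=
  (fun (s0 : PM) (a1 : ℕ) (b2 : ℕ) (sp3 : PM) => (@iF PM (Fa.memK sp3 a1) (@PM.mk (@PL.cons a1 b2 (@PM.gs s0)) (@PM.el sp3) (@PM.tab sp3) (@PM.itab sp3)) s0))

noncomputable def Fa.adFK : (Gp → (ℕ → (PM → (ℕ → (ℕ → PM))))) :=
  (fun (g0 : Gp) (fu1 : ℕ) => (@Nat.rec (fun (_ : ℕ) => (PM → (ℕ → (ℕ → PM)))) (fun (s2 : PM) (_ : ℕ) (_ : ℕ) => s2) (fun (_ : ℕ) (ih3 : (PM → (ℕ → (ℕ → PM)))) (s4 : PM) (a5 : ℕ) (b6 : ℕ) => (@Nat.rec (fun (_ : ℕ) => PM) @s0 (fun (a7 : ℕ) (_ : PM) => (@Nat.rec (fun (_ : ℕ) => PM) @s0 (fun (b9 : ℕ) (_ : PM) => (@Bool.rec (fun (_ : Bool) => PM) (Fa.scanK g0 (@PM.tab s4) a7 b9 (@PM.gs s4) (fun (x11 : ℕ) (y12 : ℕ) => (Fa.finK s4 a7 b9 (ih3 (ih3 s4 x11 y12) a7 b9))) (@Bool.rec (fun (_ : Bool) => PM) (Fa.finK s4 a7 b9 (ih3 (ih3 s4 (Fa.qK g0 a7) (Fa.qK g0 b9)) a7 b9)) (Fa.dblK g0 s4 a7 b9) (Fa.memK s4 (Fa.qK g0 a7)))) s4 (Fa.memK s4 a7)))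 (Nat.succ b6))) (Nat.succ a5))) fu1))

noncomputable def Fa.adK : (Gp → (PM → (ℕ → (ℕ → PM)))) :=
  (fun (g0 : Gp) (s1 : PM) (a2 : ℕ) (b3 : ℕ) => (Fa.adFK g0 (nat_lit 10) s1 a2 b3))

noncomputable def Fa.adSK : (Gp → (PM → ((ℕ → ℕ) → (ℕ → PM)))) :=
  (fun (g0 : Gp) (K1 : PM) (φ2 : (ℕ → ℕ)) (k3 : ℕ) => (@Nat.rec (fun (_ : ℕ) => PM) K1 (fun (i4 : ℕ) (s5 : PM) => (Fa.adK g0 s5 (φ2 i4) (φ2 i4))) k3))

noncomputable def Fa.dblDK : (Gp → (PM → (ℕ → PM))) :=
  (fun (g0 : Gp) (s1 : PM) (a2 : ℕ) => (@Nat.rec (fun (_ : ℕ) => PM) @s0 (fun (ra3 : ℕ) (_ : PM) => (@PL.rec (fun (_ : PL) => (PL → (ℕ → PM))) (fun (el5 : PL) (t6 : ℕ) => (@PM.mk (@PL.cons a2 a2 (@PM.gs s1)) el5 t6 t6)) (fun (h5 : ℕ) (_ : ℕ) (_ : PL) (ih8 : (PL → (ℕ → PM))) (el9 : PL) (t10 : ℕ) => (@Nat.rec (fun (_ : ℕ) => PM) @s0 (fun (x11 : ℕ) (_ : PM) => (ih8 (@PL.cons x11 x11 el9) (Nat.lor t10 (Nat.shiftLeft x11 (Nat.shiftLeft x11 (nat_lit 4)))))) (Nat.succ (Nat.land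 (Nat.shiftRight ra3 (Nat.shiftLeft h5 (nat_lit 4))) (nat_lit 65535))))) (@PM.el s1) (@PM.el s1) (@PM.tab s1))) (Nat.succ (@Gp.r g0 a2))))

noncomputable def Fa.scanDK : (Gp → (ℕ → (ℕ → (PL → ((ℕ → PM) → (PM → PM)))))) :=
  (fun (g0 : Gp) (t1 : ℕ) (a2 : ℕ) (l3 : PL) (kf4 : (ℕ → PM)) (kd5 : PM) => (@PL.rec (fun (_ : PL) => PM) kd5 (fun (h6 : ℕ) (_ : ℕ) (_ : PL) (ih9 : PM) => (@Nat.rec (fun (_ : ℕ) => PM) (kf4 (Fa.cjK g0 a2 h6)) (fun (_ : ℕ) (_ : PM) => ih9) (Nat.land (Nat.shiftRight t1 (Nat.shiftLeft (Fa.cjK g0 a2 h6) (nat_lit 4))) (nat_lit 65535)))) l3))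

noncomputable def Fa.adDK : (Gp → (ℕ → (PM → (ℕ → PM)))) :=
  (fun (g0 : Gp) (fu1 : ℕ) => (@Nat.rec (fun (_ : ℕ) => (PM → (ℕ → PM))) (fun (s2 : PM) (_ : ℕ) => s2) (fun (_ : ℕ) (ih3 : (PM → (ℕ → PM))) (s4 : PM) (a5 : ℕ) => (@Nat.rec (fun (_ : ℕ) => PM) @s0 (fun (a6 : ℕ) (_ : PM) => (@Bool.rec (fun (_ : Bool) => PM) (Fa.scanDK g0 (@PM.tab s4) a6 (@PM.gs s4) (fun (x8 : ℕ) => (Fa.finK s4 a6 a6 (ih3 (ih3 s4 x8) a6))) (@Bool.rec (fun (_ : Bool) => PM) (Fa.finK s4 a6 a6 (ih3 (ih3 s4 (Fa.qK g0 a6)) a6)) (Fa.dblDK g0 s4 a6) (Fa.memK s4 (Fa.qK g0 a6)))) s4 (Fa.memK s4 a6))) (Nat.succ a5))) fu1))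

noncomputable def Fa.adSDK : (Gp → (PM → ((ℕ → ℕ) → (ℕ → PM)))) :=
  (fun (g0 : Gp) (K1 : PM) (φ2 : (ℕ → ℕ)) (k3 : ℕ) => (@Nat.rec (fun (_ : ℕ) => PM) K1 (fun (i4 : ℕ) (s5 : PM) => (Fa.adDK g0 (nat_lit 10) s5 (φ2 i4))) k3))

noncomputable def Fa.mkS1K : (Gp → (ℕ → PM)) :=
  (fun (g0 : Gp) (w1 : ℕ) => (Fa.adSDK g0 @s0 (Fa.byK g0 w1) (@len1 w1)))

noncomputable def Fa.mkS0K : (Gp → (ℕ → PM)) :=
  (fun (g0 : Gp) (w1 : ℕ) => (Fa.mkS1K g0 (@sl w1)))

noncomputable def Fa.mkSK : (Gp → (ℕ → PM)) :=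
  (fun (g0 : Gp) (w1 : ℕ) => (@Pc.frc PM w1 (Fa.mkS0K g0)))

noncomputable def Fa.mkP1K : (Gp → (ℕ → PM)) :=
  (fun (g0 : Gp) (w1 : ℕ) => (@Nat.rec (fun (_ : ℕ) => PM) @s0 (fun (i2 : ℕ) (s3 : PM) => (Fa.adK g0 s3 (Fa.byK g0 w1 (Nat.add i2 i2)) (Fa.byK g0 w1 (Nat.succ (Nat.add i2 i2))))) (@len2 w1)))

noncomputable def Fa.mkP0K : (Gp → (ℕ → PM)) :=
  (fun (g0 : Gp) (w1 : ℕ) => (Fa.mkP1K g0 (@sl w1)))

noncomputable def Fa.mkPK : (Gp → (ℕ → PM)) :=
  (fun (g0 : Gp) (w1 : ℕ) => (@Pc.frc PM w1 (Fa.mkP0K g0)))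

noncomputable def Fa.okN0K : (Gp → (PM → (ℕ → Bool))) :=
  (fun (g0 : Gp) (P1 : PM) (r2 : ℕ) => (@an (@nt (Fa.memK P1 r2)) (@an (Fa.memK P1 (Fa.qK g0 r2)) (@allP (@PM.gs P1) (fun (a3 : ℕ) (_ : ℕ) => (Fa.memK P1 (Fa.cjK g0 r2 a3)))))))

noncomputable def Fa.okNK : (Gp → (PM → (ℕ → Bool))) :=
  (fun (g0 : Gp) (P1 : PM) (r2 : ℕ) => (@Pc.frc Bool r2 (Fa.okN0K g0 P1)))

noncomputable def Fa.nrmK : (Gp → (PM → (PM → Bool))) :=
  (fun (g0 : Gp) (K1 : PM) (W2 : PM) => (@allP (@PM.gs K1) (fun (s3 : ℕ) (_ : ℕ) => (@allP (@PM.gs W2) (fun (a5 : ℕ) (_ : ℕ) => (Fa.memK W2 (Fa.cjK g0 s3 a5)))))))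

noncomputable def Fa.cmsK : (Gp → (PM → (PM → Bool))) :=
  (fun (g0 : Gp) (K1 : PM) (W2 : PM) => (@allP (@PM.gs K1) (fun (a3 : ℕ) (_ : ℕ) => (@allP (@PM.gs K1) (fun (b5 : ℕ) (_ : ℕ) => (Fa.memK W2 (Fa.cmK g0 a3 b5)))))))

noncomputable def Fa.nrmzK : (Gp → (PM → (PM → Bool))) :=
  (fun (g0 : Gp) (T1 : PM) (K2 : PM) => (@allN (@Gp.N g0) (fun (s3 : ℕ) => (@orr (Fa.memK K2 s3) (@nt (@allP (@PM.gs T1) (fun (a4 : ℕ) (_ : ℕ) => (Fa.memK T1 (Fa.cjK g0 s3 a4)))))))))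

noncomputable def Fa.clsK : (Gp → (ℕ → (ℕ → (ℕ → ℕ)))) :=
  (fun (g0 : Gp) (pm1 : ℕ) (V2 : ℕ) (c3 : ℕ) => (Nat.land (Fa.zmK g0 (Nat.xor V2 (Nat.mul c3 (@Gp.O g0)))) pm1))

noncomputable def Fa.ncmK : (Gp → (ℕ → ℕ)) :=
  (fun (g0 : Gp) (a1 : ℕ) => (Fa.nzmK g0 (Fa.twK g0 a1 a1)))

noncomputable def Fa.srtK : (Gp → (ℕ → ℕ)) :=
  (fun (g0 : Gp) (a1 : ℕ) => (Fa.zmK g0 (Nat.xor (@Gp.sq g0) (Nat.mul a1 (@Gp.O g0)))))

noncomputable def Fa.rndK : (Gp → (PM → (ℕ → (ℕ → (ℕ → (ℕ → ℕ)))))) :=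
  (fun (g0 : Gp) (P1 : PM) (V2 : ℕ) (op3 : ℕ) (c4 : ℕ) (mu5 : ℕ) => (@frr ℕ V2 (fun (V6 : ℕ) => (@frr ℕ mu5 (fun (mu7 : ℕ) => (@iF ℕ (@nz op3) (@frr ℕ (@iF ℕ (@nz c4) (Fa.clsK g0 (Fa.mskK g0 P1) V6 c4) (Fa.mskK g0 P1)) (fun (X8 : ℕ) => (@iF ℕ (Nat.beq op3 (nat_lit 1)) (@rn1 (@PM.el P1) V6 mu7 (fun (a9 : ℕ) => (Nat.mod (Nat.land (Fa.ncmK g0 a9) X8) (nat_lit 65535)))) (@rn1 (@PM.el P1) V6 mu7 (fun (a9 : ℕ) => (Nat.mod (Nat.land (Fa.srtK g0 a9) X8) (nat_lit 65535))))))) (@frr ℕ (@Gp.sq g0) (fun (sq8 : ℕ) => (@rn1 (@PM.el P1) V6 mu7 (fun (a9 : ℕ) => (Nat.land (Nat.shiftRight V6 (Nat.shiftLeft (Nat.land (Nat.shiftRight sq8 (Nat.shiftLeft a9 (nat_lit 4))) (nat_lit 65535)) (nat_lit 4))) (nat_lit 65535))))))))))))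

noncomputable def Fa.fvt0K : (Gp → (PM → (ℕ → ℕ))) :=
  (fun (g0 : Gp) (P1 : PM) (pr2 : ℕ) => (@Nat.rec (fun (_ : ℕ) => ℕ) (nat_lit 0) (fun (i3 : ℕ) (V4 : ℕ) => (Fa.rndK g0 P1 V4 (@lk pr2 (Nat.shiftLeft i3 (nat_lit 2))) (@lk pr2 (Nat.add (Nat.shiftLeft i3 (nat_lit 2)) (nat_lit 1))) (@lk pr2 (Nat.add (Nat.shiftLeft i3 (nat_lit 2)) (nat_lit 2))))) (@lenK (nat_lit 64) pr2)))

noncomputable def Fa.fvtK : (Gp → (PM → (ℕ → ℕ))) :=
  (fun (g0 : Gp) (P1 : PM) (pr2 : ℕ) => (@iF ℕ (@nz pr2) (Fa.fvt0K g0 P1 pr2) (Fa.mskK g0 P1)))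

noncomputable def Fa.atrCK : (Gp → (ℕ → (ℕ → (((ℕ → ℕ) → ℕ) → ℕ)))) :=
  (fun (g0 : Gp) (B1 : ℕ) (j2 : ℕ) => (@Nat.rec (fun (_ : ℕ) => (((ℕ → ℕ) → ℕ) → ℕ)) (fun (k3 : ((ℕ → ℕ) → ℕ)) => (k3 (fun (y4 : ℕ) => y4))) (fun (j3 : ℕ) (ih4 : (((ℕ → ℕ) → ℕ) → ℕ)) (k5 : ((ℕ → ℕ) → ℕ)) => (ih4 (fun (f6 : (ℕ → ℕ)) => (@Nat.rec (fun (_ : ℕ) => ℕ) (nat_lit 0) (fun (c7 : ℕ) (_ : ℕ) => (@Nat.rec (fun (_ : ℕ) => ℕ) (nat_lit 0) (fun (s9 : ℕ) (_ : ℕ) => (k5 (fun (y11 : ℕ) => (Nat.add (f6 y11) (Nat.shiftLeft (f6 (Nat.land (Nat.shiftRight c7 (Nat.shiftLeft y11 (nat_lit 4))) (nat_lit 65535))) s9))))) (Nat.succ (Nat.shiftLeft (nat_lit 16) j3)))) (Nat.succ (@Gp.c g0 (Fa.byK g0 B1 j3))))))) j2))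

noncomputable def Fa.atqK : (Gp → (ℕ → (ℕ → (ℕ → (ℕ → (ℕ → ℕ)))))) :=
  (fun (g0 : Gp) (B1 : ℕ) (k2 : ℕ) (M3 : ℕ) (j4 : ℕ) => (@Nat.rec (fun (_ : ℕ) => (ℕ → ℕ)) (fun (y5 : ℕ) => (Nat.land (@Gp.r g0 y5) M3)) (fun (j5 : ℕ) (ih6 : (ℕ → ℕ)) (y7 : ℕ) => (Nat.add (ih6 y7) (Nat.shiftLeft (ih6 (@lk (@Gp.c g0 (Fa.byK g0 B1 (Nat.add k2 j5))) y7)) (Nat.shiftLeft (Nat.shiftLeft (nat_lit 16) k2) j5)))) j4))

noncomputable def Fa.gthK : (Gp → (ℕ → (ℕ → (ℕ → ℕ)))) :=
  (fun (g0 : Gp) (B1 : ℕ) (k2 : ℕ) (A3 : ℕ) => (@frr ℕ (Nat.mul (nat_lit 65535) (@Pc.ones (Nat.shiftLeft (nat_lit 16) k2) (Nat.sub (@Gp.n g0) k2))) (fun (M4 : ℕ) => (@foN (Nat.shiftLeft (nat_lit 1) k2) (fun (a5 : ℕ) => (Nat.shiftLeft (Nat.land (Nat.shiftRight (Fa.atqK g0 B1 k2 (@Pc.msk (Nat.shiftLeft (nat_lit 16) k2)) (Nat.sub (@Gp.n g0) k2) (nat_lit 0)) (Nat.shiftLeft (Nat.land (Nat.shiftRight A3 (Nat.shiftLeft a5 (nat_lit 4))) (nat_lit 65535)) (nat_lit 4))) M4)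 (Nat.shiftLeft a5 (nat_lit 4))))))))

noncomputable def Fa.aut1K : (Gp → (ℕ → (ℕ → (ℕ → ℕ)))) :=
  (fun (g0 : Gp) (B1 : ℕ) (k2 : ℕ) (V3 : ℕ) => (@Bool.rec (fun (_ : Bool) => ℕ) V3 (Fa.gthK g0 B1 k2 (Fa.atrCK g0 B1 k2 (fun (f4 : (ℕ → ℕ)) => (f4 (nat_lit 0))))) (Nat.beq (Nat.land (Fa.atrCK g0 B1 k2 (fun (f4 : (ℕ → ℕ)) => (f4 (nat_lit 0)))) (Nat.mul (@Pc.msk k2) (@Pc.ones (nat_lit 16) k2))) (Fa.atrCK g0 B1 k2 (fun (f4 : (ℕ → ℕ)) => (f4 (nat_lit 0)))))))

noncomputable def Fa.aut2K : (Gp → (ℕ → ℕ)) :=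
  (fun (g0 : Gp) (B1 : ℕ) => (@Bool.rec (fun (_ : Bool) => ℕ) (Fa.atrCK g0 B1 (@Gp.n g0) (fun (f2 : (ℕ → ℕ)) => (f2 (nat_lit 0)))) (Fa.aut1K g0 B1 (nat_lit 5) (Fa.aut1K g0 B1 (nat_lit 4) (Fa.aut1K g0 B1 (nat_lit 3) (Fa.atrCK g0 B1 (@Gp.n g0) (fun (f2 : (ℕ → ℕ)) => (f2 (nat_lit 0))))))) (Nat.ble (nat_lit 6) (@Gp.n g0))))

noncomputable def Fa.aut0K : (Gp → (ℕ → ℕ)) :=
  (fun (g0 : Gp) (B1 : ℕ) => (Fa.aut2K g0 (@sl B1)))

noncomputable def Fa.autK : (Gp → (ℕ → ℕ)) :=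
  (fun (g0 : Gp) (B1 : ℕ) => (@Pc.frc ℕ B1 (Fa.aut0K g0)))

noncomputable def Fa.autOK0K : (Gp → (ℕ → Bool)) :=
  (fun (g0 : Gp) (B1 : ℕ) => (@an (Nat.beq (Nat.lor (Fa.nzmK g0 (Fa.aut0K g0 B1)) (nat_lit 1)) (@Gp.O g0)) (@allN (@Gp.n g0) (fun (k2 : ℕ) => (@an (Nat.beq (Fa.qK g0 (Fa.byK g0 (@sl B1) k2)) (@lk (Fa.aut0K g0 B1) (@lk (@Gp.R g0) (@Pc.tri k2 k2)))) (@allN k2 (fun (j3 : ℕ) => (Nat.beq (Fa.mK g0 (Fa.byK g0 (@sl B1) j3) (Fa.byK g0 (@sl B1) k2)) (Fa.mK g0 (Fa.byK g0 (@sl B1) k2) (@lk (Fa.aut0K g0 B1) (@lk (@Gp.R g0) (@Pc.tri k2 j3))))))))))))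

noncomputable def Fa.autOKK : (Gp → (ℕ → Bool)) :=
  (fun (g0 : Gp) (B1 : ℕ) => (@Pc.frc Bool B1 (Fa.autOK0K g0)))

noncomputable def Fa.tbLK : (Gp → ((List ℕ) → (ℕ → ℕ))) :=
  (fun (g0 : Gp) (L1 : (List ℕ)) (j2 : ℕ) => (@iF ℕ (@nz (Nat.land j2 (nat_lit 1))) (@PM.tab (Fa.mkPK g0 (@nth ℕ (nat_lit 0) L1 (Nat.pred (Nat.shiftRight (Nat.pred j2) (nat_lit 1)))))) (@PM.itab (Fa.mkPK g0 (@nth ℕ (nat_lit 0) L1 (Nat.pred (Nat.shiftRight (Nat.pred j2) (nat_lit 1))))))))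

noncomputable def Fa.tbK : (Gp → ((List ℕ) → (PM → (ℕ → ℕ)))) :=
  (fun (g0 : Gp) (L1 : (List ℕ)) (st2 : PM) (j3 : ℕ) => (@iF ℕ (Nat.ble j3 (nat_lit 2)) (@iF ℕ (@nz j3) (@iF ℕ (Nat.beq j3 (nat_lit 1)) (@PM.tab st2) (@PM.itab st2)) (@Gp.id g0)) (@Pc.frc ℕ j3 (Fa.tbLK g0 L1))))

noncomputable def Fa.evkK : (Gp → ((List ℕ) → (PM → (ℕ → (ℕ → (ℕ → ℕ)))))) :=
  (fun (g0 : Gp) (L1 : (List ℕ)) (st2 : PM) (w3 : ℕ) (k4 : ℕ) (a5 : ℕ) => (@Nat.rec (fun (_ : ℕ) => ℕ) a5 (fun (i6 : ℕ) (r7 : ℕ) => (@lk (Fa.tbK g0 L1 st2 (@lk w3 (Nat.succ (Nat.add i6 i6)))) (Fa.cj0K g0 (Fa.byK g0 w3 (Nat.add i6 i6)) r7))) k4))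

noncomputable def Fa.evK : (Gp → ((List ℕ) → (PM → (ℕ → (ℕ → ℕ))))) :=
  (fun (g0 : Gp) (L1 : (List ℕ)) (st2 : PM) (w3 : ℕ) (a4 : ℕ) => (Fa.evkK g0 L1 st2 w3 (@len2 w3) a4))

noncomputable def Fa.der1K : (Gp → ((List ℕ) → (PM → ((ℕ → ℕ) → (ℕ → (ℕ → Bool)))))) :=
  (fun (g0 : Gp) (L1 : (List ℕ)) (st2 : PM) (β3 : (ℕ → ℕ)) (s4 : ℕ) (w5 : ℕ) => (@allP (@PM.gs (Fa.mkPK g0 s4)) (fun (a6 : ℕ) (b7 : ℕ) => (@an (@nz (β3 b7)) (Nat.beq (Fa.evK g0 L1 st2 w5 (β3 a6)) (β3 b7))))))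

noncomputable def Fa.derK : (Gp → ((List ℕ) → (PM → ((ℕ → ℕ) → ((List ℕ) → (ℕ → Bool)))))) :=
  (fun (g0 : Gp) (L1 : (List ℕ)) (st2 : PM) (β3 : (ℕ → ℕ)) (Lt4 : (List ℕ)) => (@List.rec ℕ (fun (_ : (List ℕ)) => (ℕ → Bool)) (fun (_ : ℕ) => Bool.true) (fun (s5 : ℕ) (_ : (List ℕ)) (ih7 : (ℕ → Bool)) (ws8 : ℕ) => (@an (Fa.der1K g0 L1 st2 β3 s5 (Nat.land (Nat.shiftRight ws8 (nat_lit 16)) (@Pc.msk (Nat.shiftLeft (@lk ws8 (nat_lit 0)) (nat_lit 5))))) (ih7 (Nat.shiftRight ws8 (Nat.add (nat_lit 16) (Nat.shiftLeft (@lk ws8 (nat_lit 0)) (nat_lit 5))))))) Lt4))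

noncomputable def Fa.good0K : (Gp → (Nx → (ℕ → Bool))) :=
  (fun (g0 : Gp) (x1 : Nx) (j2 : ℕ) => (@an (Fa.autOKK g0 (@Nx.bb x1 j2)) (Fa.derK g0 (@Nx.L x1) @s0 (@lk (Fa.autK g0 (@Nx.bb x1 j2))) (@Nx.L x1) (Nat.shiftRight (@Nx.en x1 j2) (nat_lit 176)))))

noncomputable def Fa.goodK : (Gp → (Nx → (ℕ → Bool))) :=
  (fun (g0 : Gp) (x1 : Nx) (j2 : ℕ) => (@iF Bool (@nz j2) (@Pc.frc Bool j2 (Fa.good0K g0 x1)) Bool.true))

noncomputable def Fa.gamK : (Gp → (Nx → (ℕ → (ℕ → ℕ)))) :=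
  (fun (g0 : Gp) (x1 : Nx) (w2 : ℕ) (a3 : ℕ) => (Fa.cj0K g0 (Fa.byK g0 w2 (nat_lit 0)) (@Nat.rec (fun (_ : ℕ) => ℕ) a3 (fun (_ : ℕ) (_ : ℕ) => (Nat.land (Nat.shiftRight (Fa.autK g0 (@Nx.bb x1 (Nat.shiftRight w2 (nat_lit 32)))) (Nat.shiftLeft a3 (nat_lit 4))) (nat_lit 65535))) (Nat.shiftRight w2 (nat_lit 32)))))

noncomputable def Fa.stNK : (Gp → (Nx → (ℕ → Bool))) :=
  (fun (g0 : Gp) (x1 : Nx) (w2 : ℕ) => (@an (Fa.goodK g0 x1 (Nat.shiftRight w2 (nat_lit 32))) (@an (@allP (@PM.gs (@Nx.W x1)) (fun (a3 : ℕ) (_ : ℕ) => (Fa.memK (@Nx.W x1) (Fa.gamK g0 x1 w2 a3)))) (@an (Fa.memK (@Nx.W x1) (Fa.mK g0 (Fa.iK g0 (@Nx.z x1)) (Fa.gamK g0 x1 w2 (@Nx.z x1)))) (@allL PM (@Nx.cl x1) (fun (X3 : PM) => (@inC (@Nx.cl x1) X3 (fun (Y4 : PM) (a5 : ℕ) => (Fa.memK Y4 (Fa.gamK g0 x1 w2 a5))))))))))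

noncomputable def Fa.stCK : (Gp → (Cx → (ℕ → Bool))) :=
  (fun (g0 : Gp) (cx1 : Cx) (w2 : ℕ) => (@an (Fa.stNK g0 (@Cx.nx cx1) w2) (@an (@allP (@PM.gs (@Cx.P cx1)) (fun (a3 : ℕ) (_ : ℕ) => (Fa.memK (@Cx.P cx1) (Fa.gamK g0 (@Cx.nx cx1) w2 a3)))) (@an (Fa.memK (@Cx.P cx1) (Fa.mK g0 (@Cx.t0 cx1) (Fa.iK g0 (Fa.gamK g0 (@Cx.nx cx1) w2 (@Cx.t0 cx1))))) (@orr (Nat.beq (Fa.byK g0 w2 (nat_lit 1)) (nat_lit 0)) (@Cx.ex cx1))))))

noncomputable def Fa.dynK : (Gp → (Cx → (ℕ → (PM → (ℕ → (ℕ → Bool)))))) :=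
  (fun (g0 : Gp) (cx1 : Cx) (t2 : ℕ) (st3 : PM) (x4 : ℕ) (w5 : ℕ) => (@an (Fa.stCK g0 cx1 w5) (@an (Nat.beq (Fa.gamK g0 (@Cx.nx cx1) w5 t2) t2) (@an (Nat.beq (Fa.gamK g0 (@Cx.nx cx1) w5 x4) x4) (@allP (@PM.gs st3) (fun (a6 : ℕ) (b7 : ℕ) => (@an (@nz (Fa.gamK g0 (@Cx.nx cx1) w5 b7)) (Nat.beq (@lk (@PM.tab st3) (Fa.gamK g0 (@Cx.nx cx1) w5 a6)) (Fa.cj0K g0 (Fa.byK g0 w5 (nat_lit 1)) (Fa.gamK g0 (@Cx.nx cx1) w5 b7))))))))))

noncomputable def Fa.sym1K : (Gp → (Cx → (ℕ → (PM → (ℕ → (ℕ → (ℕ → (ℕ → ℕ)))))))) :=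
  (fun (g0 : Gp) (cx1 : Cx) (t2 : ℕ) (st3 : PM) (x4 : ℕ) (M5 : ℕ) (y6 : ℕ) (w7 : ℕ) => (@Nat.rec (fun (_ : ℕ) => ℕ) (nat_lit 0) (fun (M8 : ℕ) (_ : ℕ) => (@Nat.rec (fun (_ : ℕ) => ℕ) (nat_lit 0) (fun (y10 : ℕ) (_ : ℕ) => (@Nat.rec (fun (_ : ℕ) => ℕ) M8 (fun (_ : ℕ) (_ : ℕ) => (@Bool.rec (fun (_ : Bool) => ℕ) M8 (Nat.lor M8 (Nat.shiftLeft (nat_lit 1) (Nat.shiftLeft (Fa.cj0K g0 (Fa.byK g0 w7 (nat_lit 1)) (Fa.gamK g0 (@Cx.nx cx1) w7 y10)) (nat_lit 4)))) (Fa.dynK g0 cx1 t2 st3 x4 w7))) (Nat.land (Nat.shiftRight M8 (Nat.shiftLeft y10 (nat_lit 4))) (nat_lit 65535)))) (Nat.succ y6))) (Nat.succ M5)))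

noncomputable def Fa.symsK : (Gp → (Cx → (ℕ → (PM → (ℕ → (ℕ → (ℕ → (ℕ → (ℕ → ℕ))))))))) :=
  (fun (g0 : Gp) (cx1 : Cx) (t2 : ℕ) (st3 : PM) (x4 : ℕ) (gv5 : ℕ) (sy6 : ℕ) (M7 : ℕ) (k8 : ℕ) => (@Nat.rec (fun (_ : ℕ) => ℕ) (nat_lit 0) (fun (gv9 : ℕ) (_ : ℕ) => (@Nat.rec (fun (_ : ℕ) => ℕ) (nat_lit 0) (fun (sy11 : ℕ) (_ : ℕ) => (@Nat.rec (fun (_ : ℕ) => ℕ) M7 (fun (i13 : ℕ) (M14 : ℕ) => ((fun (j15 : ℕ) => (@Nat.rec (fun (_ : ℕ) => ℕ) (nat_lit 0) (fun (w16 : ℕ) (_ : ℕ) => (Fa.sym1K g0 cx1 t2 st3 x4 M14 (Fa.byK g0 sy11 j15) w16)) (Nat.succ (Nat.land (Nat.shiftRight gv9 (Nat.shiftLeft (Nat.land (Nat.shiftRight sy11 (Nat.shiftLeft (Nat.succ j15) (nat_lit 4))) (nat_lit 65535)) (nat_lit 6))) (nat_lit 18446744073709551615))))) (Nat.add i13 i13))) k8)) (Nat.succ sy6))) (Nat.succ gv5)))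

noncomputable def Fa.fltK : (Gp → (Cx → (PM → (ℕ → ℕ)))) :=
  (fun (g0 : Gp) (cx1 : Cx) (st2 : PM) (x3 : ℕ) => (Nat.lor (Nat.xor (@Cx.fv cx1) (Nat.mul (@lk (@Cx.fv cx1) x3) (@Gp.O g0))) (Nat.lor (@iF ℕ (Fa.memK st2 (Fa.qK g0 x3)) (Nat.xor (@Gp.sq g0) (Nat.mul (@lk (@PM.tab st2) (Fa.qK g0 x3)) (@Gp.O g0))) (nat_lit 0)) (@foP (@PM.gs st2) (fun (h4 : ℕ) (k5 : ℕ) => (@iF ℕ (@nz (@lk (@PM.tab st2) (Fa.cjK g0 x3 h4))) (Fa.twK g0 k5 (@lk (@PM.tab st2) (Fa.cjK g0 x3 h4))) (nat_lit 0)))))))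

noncomputable def Fa.covK : (Gp → (Cx → (PM → (ℕ → (ℕ → Bool))))) :=
  (fun (g0 : Gp) (cx1 : Cx) (st2 : PM) (x3 : ℕ) (M4 : ℕ) => (@an (@nz (@lk (@PM.tab (@Cx.P cx1)) x3)) (@an (Nat.beq (@lk (@PM.tab st2) x3) (nat_lit 0)) (Nat.beq (Nat.lor (Nat.lor (Fa.nzmK g0 (Nat.lor (Fa.fltK g0 cx1 st2 x3) (@PM.itab st2))) (nat_lit 1)) (Nat.lor (@Cx.ntg cx1) M4)) (@Gp.O g0)))))

noncomputable def Fa.blk0K : (PM → (ℕ → (ℕ → ℕ))) :=
  (fun (P0 : PM) (c1 : ℕ) => (@Nat.rec (fun (_ : ℕ) => (ℕ → ℕ)) (fun (j2 : ℕ) => j2) (fun (_ : ℕ) (ih3 : (ℕ → ℕ)) (j4 : ℕ) => (@iF ℕ (Fa.memK P0 (Nat.shiftLeft (nat_lit 1) j4)) (ih3 (Nat.succ j4)) j4)) c1))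

noncomputable def Fa.blkK : (Gp → (PM → ℕ)) :=
  (fun (g0 : Gp) (P1 : PM) => (Fa.blk0K P1 (@Gp.n g0) (nat_lit 0)))

noncomputable def Fa.cos0K : (Gp → (PM → (ℕ → ℕ))) :=
  (fun (g0 : Gp) (P1 : PM) (t2 : ℕ) => (@Nat.rec (fun (_ : ℕ) => ℕ) (nat_lit 0) (fun (R3 : ℕ) (_ : ℕ) => (@PL.rec (fun (_ : PL) => ℕ) (nat_lit 0) (fun (a5 : ℕ) (_ : ℕ) (_ : PL) (ih8 : ℕ) => (Nat.lor (Nat.shiftLeft (nat_lit 1) (Nat.shiftLeft (Nat.land (Nat.shiftRight R3 (Nat.shiftLeft a5 (nat_lit 4))) (nat_lit 65535)) (nat_lit 4))) ih8)) (@PM.el P1))) (Nat.succ (@Gp.r g0 t2))))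

noncomputable def Fa.cosBK : (Gp → (PM → (ℕ → (ℕ → (ℕ → ℕ))))) :=
  (fun (g0 : Gp) (P1 : PM) (ro2 : ℕ) (o3 : ℕ) (k4 : ℕ) => (@foN (Nat.shiftRight (@Gp.N g0) k4) (fun (b5 : ℕ) => (@iF ℕ (Fa.memK P1 (@lk ro2 (Nat.shiftLeft b5 k4))) (@pt o3 (Nat.shiftLeft b5 k4)) (nat_lit 0)))))

noncomputable def Fa.cosK : (Gp → (PM → (ℕ → ℕ))) :=
  (fun (g0 : Gp) (P1 : PM) (t2 : ℕ) => (@frr ℕ (Fa.blkK g0 P1) (fun (k3 : ℕ) => (@iF ℕ (Nat.ble (nat_lit 4) k3) (@frr ℕ (@Gp.r g0 (Fa.iK g0 t2)) (fun (ro4 : ℕ) => (@frr ℕ (@Pc.ones (nat_lit 16) k3) (fun (o5 : ℕ) => (Fa.cosBK g0 P1 ro4 o5 k3))))) (Fa.cos0K g0 P1 t2)))))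

noncomputable def Fa.covTK : (Gp → (Cx → (ℕ → Bool))) :=
  (fun (g0 : Gp) (cx1 : Cx) (M2 : ℕ) => (@an (@nz (@Cx.t0 cx1)) (Nat.beq (Nat.land (Fa.cosK g0 (@Cx.P cx1) (@Cx.t0 cx1)) M2) (Fa.cosK g0 (@Cx.P cx1) (@Cx.t0 cx1)))))

noncomputable def Fa.lfCfK : (Gp → (Cx → (ℕ → ((ℕ → ℕ) → ((ℕ → ℕ) → (ℕ → (ℕ → (ℕ → Bool)))))))) :=
  (fun (g0 : Gp) (cx1 : Cx) (t2 : ℕ) (φ3 : (ℕ → ℕ)) (ψ4 : (ℕ → ℕ)) (md5 : ℕ) (a6 : ℕ) (b7 : ℕ) => (@Nat.rec (fun (_ : ℕ) => Bool) Bool.false (fun (v8 : ℕ) (_ : Bool) => (@Nat.rec (fun (_ : ℕ) => Bool) Bool.false (fun (_ : ℕ) (_ : Bool) => (@Nat.rec (fun (_ : ℕ) => Bool) (@an (@nz (φ3 b7)) (@iF Bool (@nz (Fa.mK g0 a6 b7)) (@orr (Nat.beq (Fa.mK g0 v8 (φ3 b7)) (@OfNat.ofNat ℕ (nat_lit 0) (@instOfNatNat (nat_lit 0)))) (@an (@nz (φ3 (Fa.mK g0 a6 b7))) (@ne (φ3 (Fa.mK g0 a6 b7)) (Fa.mK g0 v8 (φ3 b7))))) (@nz (Fa.mK g0 v8 (φ3 b7))))) (fun (_ : ℕ) (_ : Bool) => (@iF Bool (Nat.beq md5 (@OfNat.ofNat ℕ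 (nat_lit 1) (@instOfNatNat (nat_lit 1)))) (@an (@nz t2) (@orr (@an (@nz (φ3 (Fa.cjK g0 t2 v8))) (@ne (φ3 (Fa.cjK g0 t2 v8)) (Fa.cjK g0 t2 a6))) (@an (@nz (ψ4 (Fa.cjK g0 t2 a6))) (@ne (ψ4 (Fa.cjK g0 t2 a6)) (Fa.cjK g0 t2 v8))))) (@ne (@lk (@Cx.fv cx1) a6) (@lk (@Cx.fv cx1) v8)))) md5)) v8)) (Nat.succ (φ3 a6))))

noncomputable def Fa.oddK : (Gp → ((ℕ → ℕ) → (ℕ → (ℕ → (ℕ → Bool))))) :=
  (fun (g0 : Gp) (q1 : (ℕ → ℕ)) (J2 : ℕ) (u3 : ℕ) (xs4 : ℕ) => (@an (@ne (Nat.land (Fa.nzmK g0 (@foN (@len1 xs4) (fun (i5 : ℕ) => (@iF ℕ (@nz (@itr q1 u3 (@itr q1 u3 (Fa.byK g0 xs4 i5)))) (Fa.twK g0 (Fa.byK g0 xs4 i5) (@itr q1 u3 (@itr q1 u3 (Fa.byK g0 xs4 i5)))) (@Gp.O g0))))) J2) J2) (Nat.beq (Nat.land (Fa.nzmK g0 (@foN (@len1 xs4) (fun (i5 : ℕ) => (Fa.twK g0 (Fa.byK g0 xs4 i5) (@itr q1 u3 (Fa.byK g0 xs4 i5)))))) J2) J2)))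

noncomputable def Fa.lfOdK : (Gp → (Cx → ((ℕ → ℕ) → ((ℕ → ℕ) → (ℕ → (ℕ → (ℕ → (ℕ → Bool)))))))) :=
  (fun (g0 : Gp) (cx1 : Cx) (φ2 : (ℕ → ℕ)) (ψ3 : (ℕ → ℕ)) (r4 : ℕ) (s5 : ℕ) (u6 : ℕ) (xs7 : ℕ) => (@an (@nt (@Cx.ex cx1)) (@an (@nz u6) (@iF Bool (@nz r4) (@an (@nz (@Cx.t0 cx1)) (@an (Fa.okNK g0 (@Cx.P cx1) r4) (@an (Fa.okNK g0 (@Cx.P cx1) s5) (Fa.oddK g0 (fun (a8 : ℕ) => (Fa.cjK g0 r4 (φ2 (Fa.cjK g0 s5 (ψ3 a8))))) (Fa.mskK g0 (@Cx.P cx1)) u6 xs7)))) (@iF Bool (@nz s5) (Fa.oddK g0 φ2 (Fa.mskK g0 (@Cx.P cx1)) u6 xs7) (@an (@nz (@itr φ2 u6 (@itr φ2 u6 xs7))) (@an (Nat.beq (@itr φ2 u6 (@itr φ2 u6 xs7)) xs7) (@ne (@itr φ2 u6 xs7) xs7))))))))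

noncomputable def Fa.od1K : (ℕ → ((ℕ → ℕ) → Bool)) :=
  (fun (xs0 : ℕ) (φ1 : (ℕ → ℕ)) => (@Nat.rec (fun (_ : ℕ) => Bool) Bool.false (fun (v2 : ℕ) (_ : Bool) => (@Nat.rec (fun (_ : ℕ) => Bool) Bool.false (fun (w4 : ℕ) (_ : Bool) => (@Nat.rec (fun (_ : ℕ) => Bool) Bool.false (fun (_ : ℕ) (_ : Bool) => (@Bool.rec (fun (_ : Bool) => Bool) Bool.false (@Bool.rec (fun (_ : Bool) => Bool) Bool.true Bool.false (Nat.beq v2 xs0)) (Nat.beq w4 xs0))) w4)) (Nat.succ (φ1 v2)))) (Nat.succ (φ1 xs0))))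

noncomputable def Fa.selOdK : (Gp → (Cx → (ℕ → (ℕ → (ℕ → (ℕ → (@PLift (ℕ → ((ℕ → ℕ) → ((ℕ → ℕ) → Bool)))))))))) :=
  (fun (g0 : Gp) (cx1 : Cx) (r2 : ℕ) (s3 : ℕ) (u4 : ℕ) (xs5 : ℕ) => (@Bool.rec (fun (_ : Bool) => (@PLift (ℕ → ((ℕ → ℕ) → ((ℕ → ℕ) → Bool))))) (@PLift.up (ℕ → ((ℕ → ℕ) → ((ℕ → ℕ) → Bool))) (fun (_ : ℕ) (φ7 : (ℕ → ℕ)) (ψ8 : (ℕ → ℕ)) => (Fa.lfOdK g0 cx1 φ7 ψ8 r2 s3 u4 xs5))) (@PLift.up (ℕ → ((ℕ → ℕ) → ((ℕ → ℕ) → Bool))) (fun (_ : ℕ) (φ7 : (ℕ → ℕ)) (_ : (ℕ → ℕ)) => (Fa.od1K xs5 φ7))) (@Bool.rec (fun (_ : Bool) => Bool) Bool.false (@Bool.rec (fun (_ : Bool) => Bool) Bool.false (@Bool.rec (fun (_ : Bool) => Bool) Bool.false (Nat.beq u4 (nat_lit 1)) (Nat.beq s3 (nat_lit 0))) (Nat.beq r2 (nat_lit 0))) (@Bool.rec (fun (_ : Bool) => Bool) Bool.true Bool.false (@Cx.ex cx1)))))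

noncomputable def Fa.selK : (Gp → (Cx → (ℕ → (@PLift (ℕ → ((ℕ → ℕ) → ((ℕ → ℕ) → Bool))))))) :=
  (fun (g0 : Gp) (cx1 : Cx) (d2 : ℕ) => (@Nat.rec (fun (_ : ℕ) => (@PLift (ℕ → ((ℕ → ℕ) → ((ℕ → ℕ) → Bool))))) (@PLift.up (ℕ → ((ℕ → ℕ) → ((ℕ → ℕ) → Bool))) (fun (_ : ℕ) (_ : (ℕ → ℕ)) (_ : (ℕ → ℕ)) => Bool.false)) (fun (md3 : ℕ) (_ : (@PLift (ℕ → ((ℕ → ℕ) → ((ℕ → ℕ) → Bool))))) => (@Bool.rec (fun (_ : Bool) => (@PLift (ℕ → ((ℕ → ℕ) → ((ℕ → ℕ) → Bool))))) (@Nat.rec (fun (_ : ℕ) => (@PLift (ℕ → ((ℕ → ℕ) → ((ℕ → ℕ) → Bool))))) (@PLift.up (ℕ → ((ℕ → ℕ) → ((ℕ → ℕ) → Bool))) (fun (_ : ℕ) (_ : (ℕ → ℕ)) (_ : (ℕ → ℕ)) => Bool.false)) (fun (xs5 : ℕ) (_ : (@PLift (ℕ → ((ℕ → ℕ) → ((ℕ → ℕ) → Bool))))) => (Fa.selOdK g0 cx1 (Fa.byK g0 d2 (nat_lit 1)) (Fa.byK g0 d2 (nat_lit 2)) (Nat.land (Nat.shiftRight d2 (Nat.shiftLeft (nat_lit 3) (nat_lit 4))) (nat_lit 65535)) xs5)) (Nat.succ (Nat.shiftRight d2 (nat_lit 64)))) (@Nat.rec (fun (_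 : ℕ) => (@PLift (ℕ → ((ℕ → ℕ) → ((ℕ → ℕ) → Bool))))) (@PLift.up (ℕ → ((ℕ → ℕ) → ((ℕ → ℕ) → Bool))) (fun (_ : ℕ) (_ : (ℕ → ℕ)) (_ : (ℕ → ℕ)) => Bool.false)) (fun (a5 : ℕ) (_ : (@PLift (ℕ → ((ℕ → ℕ) → ((ℕ → ℕ) → Bool))))) => (@Nat.rec (fun (_ : ℕ) => (@PLift (ℕ → ((ℕ → ℕ) → ((ℕ → ℕ) → Bool))))) (@PLift.up (ℕ → ((ℕ → ℕ) → ((ℕ → ℕ) → Bool))) (fun (_ : ℕ) (_ : (ℕ → ℕ)) (_ : (ℕ → ℕ)) => Bool.false)) (fun (b7 : ℕ) (_ : (@PLift (ℕ → ((ℕ → ℕ) → ((ℕ → ℕ) → Bool))))) => (@PLift.up (ℕ → ((ℕ → ℕ) → ((ℕ → ℕ) → Bool))) (fun (t9 : ℕ) (φ10 : (ℕ → ℕ)) (ψ11 : (ℕ → ℕ)) => (Fa.lfCfK g0 cx1 t9 φ10 ψ11 md3 a5 b7)))) (Nat.succ (Nat.land (Nat.shiftRight d2 (Nat.shiftLeft (nat_lit 2) (nat_lit 4))) (nat_lit 65535))))) (Nat.succ (Nat.land (Nat.shiftRight d2 (Nat.shiftLeft (nat_lit 1) (nat_lit 4))) (nat_lit 65535)))) (Nat.ble md3 (nat_lit 2)))) (Nat.succ (Nat.land (Nat.shiftRight d2 (Nat.shiftLeft (nat_lit 0) (nat_lit 4))) (nat_lit 65535)))))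

noncomputable def Fa.lfKK : (Gp → (Cx → (ℕ → ((ℕ → ℕ) → ((ℕ → ℕ) → (ℕ → Bool)))))) :=
  (fun (g0 : Gp) (cx1 : Cx) (t2 : ℕ) (φ3 : (ℕ → ℕ)) (ψ4 : (ℕ → ℕ)) (d5 : ℕ) => (@PLift.rec (ℕ → ((ℕ → ℕ) → ((ℕ → ℕ) → Bool))) (fun (_ : (@PLift (ℕ → ((ℕ → ℕ) → ((ℕ → ℕ) → Bool))))) => Bool) (fun (f6 : (ℕ → ((ℕ → ℕ) → ((ℕ → ℕ) → Bool)))) => (f6 t2 φ3 ψ4)) (Fa.selK g0 cx1 d5)))

noncomputable def Fa.extK : (Gp → ((ℕ → ℕ) → (ℕ → (ℕ → (ℕ → ℕ))))) :=
  (fun (g0 : Gp) (φ1 : (ℕ → ℕ)) (x2 : ℕ) (y3 : ℕ) (a4 : ℕ) => (@Nat.rec (fun (_ : ℕ) => ℕ) (nat_lit 0) (fun (a5 : ℕ) (_ : ℕ) => (@Nat.rec (fun (_ : ℕ) => ℕ) (@Nat.rec (fun (_ : ℕ) => ℕ) (nat_lit 0) (fun (_ : ℕ) (_ : ℕ) => (@Nat.rec (fun (_ : ℕ) => ℕ) (@Bool.rec (fun (_ : Bool) => ℕ) (nat_lit 0) y3 (Nat.beq a5 x2)) (fun (k9 : ℕ) (_ : ℕ) => (Fa.mK g0 y3 (Nat.succ k9))) (φ1 (Fa.mK g0 (Fa.iK g0 x2) a5)))) a5) (fun (k7 : ℕ) (_ : ℕ) => (Nat.succ k7)) (φ1 a5))) (Nat.succ a4)))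

noncomputable def Fa.extTK : (Gp → (ℕ → (ℕ → (ℕ → (ℕ → ℕ))))) :=
  (fun (g0 : Gp) (T1 : ℕ) (x2 : ℕ) (y3 : ℕ) (a4 : ℕ) => (@Nat.rec (fun (_ : ℕ) => ℕ) (@Nat.rec (fun (_ : ℕ) => ℕ) (nat_lit 0) (fun (_ : ℕ) (_ : ℕ) => (@Nat.rec (fun (_ : ℕ) => ℕ) (@Bool.rec (fun (_ : Bool) => ℕ) (nat_lit 0) y3 (Nat.beq a4 x2)) (fun (k7 : ℕ) (_ : ℕ) => (Nat.land (Nat.shiftRight (@Gp.r g0 y3) (Nat.shiftLeft (Nat.succ k7) (nat_lit 4))) (nat_lit 65535))) (Nat.land (Nat.shiftRight T1 (Nat.shiftLeft (Nat.land (Nat.shiftRight (@Gp.r g0 (Fa.iK g0 x2)) (Nat.shiftLeft a4 (nat_lit 4))) (nat_lit 65535)) (nat_lit 4))) (nat_lit 65535)))) a4) (fun (k5 : ℕ) (_ : ℕ) => (Nat.succ k5)) (Nat.land (Nat.shiftRight T1 (Nat.shiftLeft a4 (nat_lit 4))) (nat_lit 65535))))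

noncomputable def Fa.kilK : (Gp → (Cx → (ℕ → (PM → (ℕ → (ℕ → (ℕ → (ℕ → Bool)))))))) :=
  (fun (g0 : Gp) (cx1 : Cx) (t2 : ℕ) (st3 : PM) (x4 : ℕ) (y5 : ℕ) (fl6 : ℕ) (d7 : ℕ) => (@Nat.rec (fun (_ : ℕ) => Bool) Bool.false (fun (_ : ℕ) (_ : Bool) => (@PLift.rec (ℕ → ((ℕ → ℕ) → ((ℕ → ℕ) → Bool))) (fun (_ : (@PLift (ℕ → ((ℕ → ℕ) → ((ℕ → ℕ) → Bool))))) => Bool) (fun (f10 : (ℕ → ((ℕ → ℕ) → ((ℕ → ℕ) → Bool)))) => (@Bool.rec (fun (_ : Bool) => Bool) (f10 t2 (Fa.extTK g0 (@PM.tab st3) x4 y5) (Fa.extTK g0 (@PM.itab st3) y5 x4)) (f10 t2 (Fa.extK g0 (Fa.extTK g0 (@PM.tab st3) x4 y5) (Fa.cjK g0 t2 y5) (Fa.cjK g0 t2 x4)) (Fa.extK g0 (Fa.extTK g0 (@PM.itab st3) y5 x4) (Fa.cjK g0 t2 x4) (Fa.cjK g0 t2 y5))) (@Nat.rec (fun (_ : ℕ) => Bool) Bool.false (fun (_ : ℕ) (_ : Bool) => (Nat.ble (nat_lit 1) t2)) fl6))) (Fa.selK g0 cx1 d7))) x4))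

noncomputable def Fa.clAK : (Gp → (Cx → (ℕ → ℕ))) :=
  (fun (g0 : Gp) (cx1 : Cx) (a2 : ℕ) => (Fa.clsK g0 (Fa.mskK g0 (@Cx.P cx1)) (@Cx.fv cx1) (@lk (@Cx.fv cx1) a2)))

noncomputable def Fa.clInK : (Gp → (Cx → (PM → (ℕ → Bool)))) :=
  (fun (g0 : Gp) (cx1 : Cx) (K2 : PM) (a3 : ℕ) => (Nat.beq (Nat.land (Fa.clAK g0 cx1 a3) (Fa.mskK g0 K2)) (Fa.clAK g0 cx1 a3)))

noncomputable def Fa.imInK : (Gp → (Cx → (PM → (PM → (ℕ → Bool))))) :=
  (fun (g0 : Gp) (cx1 : Cx) (st2 : PM) (K3 : PM) (a4 : ℕ) => (@iF Bool (@nz (@lk (@PM.tab st2) a4)) (Fa.memK K3 (@lk (@PM.tab st2) a4)) (Fa.clInK g0 cx1 K3 a4)))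

noncomputable def Fa.lfMcK : (Gp → (Cx → (PM → (ℕ → Bool)))) :=
  (fun (g0 : Gp) (cx1 : Cx) (st2 : PM) (w3 : ℕ) => (@an (@nt (@Cx.ex cx1)) (@iF Bool (Nat.beq (@Nx.kd (@Cx.nx cx1)) (nat_lit 1)) (@an (Nat.beq (@PM.tab (Fa.mkSK g0 w3)) (@PM.tab (@Nx.W (@Cx.nx cx1)))) (@allP (@PM.gs (Fa.mkSK g0 w3)) (fun (a4 : ℕ) (_ : ℕ) => (@an (Fa.memK (@Cx.P cx1) a4) (Fa.imInK g0 cx1 st2 (@Nx.W (@Cx.nx cx1)) a4))))) (@iF Bool (Nat.beq (@Nx.kd (@Cx.nx cx1)) (nat_lit 2)) (@an (Nat.beq (@PM.tab (Fa.mkSK g0 w3)) (@PM.tab (@Cx.P cx1))) (@allP (@PM.gs (Fa.mkSK g0 w3)) (fun (a4 : ℕ) (_ : ℕ) => (@iF Bool (@nz (@lk (@PM.tab st2) a4)) (Fa.memK (@Nx.W (@Cx.nx cx1)) (Fa.mK g0 (Fa.iK g0 a4) (@lk (@PM.tab st2) a4))) (@orr (Fa.clInK g0 cx1 (@Nx.W (@Cx.nx cx1)) a4) (Nat.beq (Nat.land (Fa.clAK g0 cx1 a4) (Fa.mskK g0 (@Nx.W (@Cx.nx cx1)))) (nat_lit 0))))))) (@iF Bool (Nat.beq (@Nx.kd (@Cx.nx cx1)) (nat_lit 5)) (@allL PM (@Nx.cl (@Cx.nx cx1)) (fun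 (X4 : PM) => (@orr (@nt (@allP (@PM.gs X4) (fun (a5 : ℕ) (_ : ℕ) => (Fa.memK (@Cx.P cx1) a5)))) (@inC (@Nx.cl (@Cx.nx cx1)) X4 (Fa.imInK g0 cx1 st2))))) (@an (Nat.beq (@Nx.kd (@Cx.nx cx1)) (nat_lit 3)) (@an (@nz (@lk (@PM.tab st2) w3)) (@an (Fa.memK (@Nx.W (@Cx.nx cx1)) (Fa.mK g0 (Fa.iK g0 (@Nx.z (@Cx.nx cx1))) w3)) (Fa.memK (@Nx.W (@Cx.nx cx1)) (Fa.mK g0 (Fa.iK g0 (@Nx.z (@Cx.nx cx1))) (@lk (@PM.tab st2) w3)))))))))))

noncomputable def Fa.sqSK : (Gp → (ℕ → PM)) :=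
  (fun (g0 : Gp) (w1 : ℕ) => (Fa.adSDK g0 @s0 (fun (i2 : ℕ) => (Fa.qK g0 (Fa.byK g0 w1 i2))) (@len1 w1)))

noncomputable def Fa.urSK : (Gp → (Cx → (PM → (PM → (PM → (ℕ → (ℕ → Bool))))))) :=
  (fun (g0 : Gp) (cx1 : Cx) (st2 : PM) (K3 : PM) (Kp4 : PM) (md5 : ℕ) (x6 : ℕ) => (@iF Bool (Nat.beq md5 (nat_lit 1)) (@an (@nz (@Cx.t0 cx1)) (@allP (@PM.gs Kp4) (fun (a7 : ℕ) (_ : ℕ) => (@an (@orr (Fa.memK K3 a7) (@an (Fa.memK (@Cx.P cx1) a7) (Fa.imInK g0 cx1 st2 Kp4 a7))) (Fa.memK K3 (Fa.cmK g0 (@Cx.t0 cx1) a7)))))) (@allP (@PM.gs Kp4) (fun (a7 : ℕ) (_ : ℕ) => (@orr (Fa.memK K3 a7) (@an (Fa.memK (@Cx.P cx1) a7) (@an (Fa.imInK g0 cx1 st2 Kp4 a7) (@iF Bool (@nz md5) (@an (@nz (@lk (@PM.tab st2) a7)) (Fa.memK K3 (Fa.mK g0 (@lk (@PM.tab st2) a7) (Fa.iK g0 a7)))) (Nat.beq a7 x6)))))))))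

noncomputable def Fa.urDK : (Gp → (Cx → (PM → (ℕ → (PM → (ℕ → Bool)))))) :=
  (fun (g0 : Gp) (cx1 : Cx) (st2 : PM) (fu3 : ℕ) => (@Nat.rec (fun (_ : ℕ) => (PM → (ℕ → Bool))) (fun (_ : PM) (_ : ℕ) => Bool.false) (fun (_ : ℕ) (ih5 : (PM → (ℕ → Bool))) (K6 : PM) (ch7 : ℕ) => (@Nat.rec (fun (_ : ℕ) => Bool) Bool.false (fun (ch8 : ℕ) (_ : Bool) => (@Nat.rec (fun (_ : ℕ) => Bool) (@PL.rec (fun (_ : PL) => Bool) Bool.true (fun (a10 : ℕ) (_ : ℕ) (_ : PL) (ih13 : Bool) => (@Bool.rec (fun (_ : Bool) => Bool) Bool.false ih13 (Fa.memK K6 a10))) (@PM.gs (@Cx.P cx1))) (fun (_ : ℕ) (_ : Bool) => ((fun (Kp12 : PM) => (@Bool.rec (fun (_ : Bool) => Bool) Bool.false (ih5 Kp12 (Nat.shiftRight ch8 (Nat.shiftLeft (Nat.succ (Nat.land ch8 (nat_lit 15))) (nat_lit 4)))) (Fa.urSK g0 cx1 st2 K6 Kp12 (Nat.land (Nat.shiftRight ch8 (nat_lit 4)) (nat_lit 15)) (Fa.byK g0 ch8 (nat_lit 1))))) (Fa.adSDK g0 K6 (Fa.byK g0 (Nat.shiftRight ch8 (nat_lit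 16))) (Nat.land ch8 (nat_lit 15))))) ch8)) (Nat.succ ch7))) fu3))

noncomputable def Fa.phOKK : (Gp → (PM → (ℕ → Bool))) :=
  (fun (g0 : Gp) (P1 : PM) (w2 : ℕ) => (@allN (@len1 w2) (fun (i3 : ℕ) => (Fa.memK P1 (Fa.byK g0 w2 i3)))))

noncomputable def Fa.lfUrK : (Gp → (Cx → (PM → (ℕ → Bool)))) :=
  (fun (g0 : Gp) (cx1 : Cx) (st2 : PM) (ch3 : ℕ) => (@Bool.rec (fun (_ : Bool) => Bool) Bool.false (@Bool.rec (fun (_ : Bool) => Bool) Bool.false (Fa.urDK g0 cx1 st2 (nat_lit 10) (Fa.sqSK g0 (@Cx.ph cx1)) ch3) (Fa.phOKK g0 (@Cx.P cx1) (@Cx.ph cx1))) (@Bool.rec (fun (_ : Bool) => Bool) Bool.true Bool.false (@Cx.ex cx1))))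

noncomputable def Fa.psiK : (Gp → (PM → ((ℕ → ℕ) → PM))) :=
  (fun (g0 : Gp) (T1 : PM) (φ2 : (ℕ → ℕ)) => (@PL.rec (fun (_ : PL) => PM) @s0 (fun (a3 : ℕ) (_ : ℕ) (_ : PL) (ih6 : PM) => (Fa.adK g0 ih6 a3 (φ2 a3))) (@PM.gs T1)))

noncomputable def Fa.v1cK : (Gp → (PM → (PM → ((ℕ → ℕ) → Bool)))) :=
  (fun (g0 : Gp) (T1 : PM) (K2 : PM) (φ3 : (ℕ → ℕ)) => (@Bool.rec (fun (_ : Bool) => Bool) Bool.false (@Bool.rec (fun (_ : Bool) => Bool) Bool.false (@PL.rec (fun (_ : PL) => Bool) Bool.true (fun (a4 : ℕ) (_ : ℕ) (_ : PL) (ih7 : Bool) => (@Bool.rec (fun (_ : Bool) => Bool) Bool.false ih7 (Fa.indK g0 (@PL.rec (fun (_ : PL) => ℕ) (nat_lit 0) (fun (a8 : ℕ) (_ : ℕ) (_ : PL) (ih11 : ℕ) => (Nat.lor (@Nat.rec (fun (_ : ℕ) => ℕ) (@Gp.O g0) (fun (k12 : ℕ) (_ : ℕ) => (Nat.xor (@Gp.c g0 (φ3 a8)) (@Gp.r g0 (Nat.succ k12)))) (φ3 (Fa.cjK g0 a4 a8))) ih11)) (@PM.gs T1))))) (@PM.gs K2)) (Fa.indK g0 (@PL.rec (fun (_ : PL) => ℕ) (nat_lit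 0) (fun (a4 : ℕ) (_ : ℕ) (_ : PL) (ih7 : ℕ) => (Nat.lor (@Nat.rec (fun (_ : ℕ) => ℕ) (@Gp.O g0) (fun (k8 : ℕ) (_ : ℕ) => (Nat.xor (@Gp.c g0 a4) (@Gp.r g0 (Nat.succ k8)))) (φ3 (φ3 a4))) ih7)) (@PM.gs T1)))) (Nat.beq (Fa.nzmK g0 (@PL.rec (fun (_ : PL) => ℕ) (nat_lit 0) (fun (a4 : ℕ) (_ : ℕ) (_ : PL) (ih7 : ℕ) => (Nat.lor (@Nat.rec (fun (_ : ℕ) => ℕ) (nat_lit 0) (fun (y8 : ℕ) (_ : ℕ) => (Nat.xor (@Gp.c g0 a4) (@Gp.r g0 y8))) (Nat.succ (φ3 a4))) ih7)) (@PM.gs T1))) (@Gp.O g0))))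

noncomputable def Fa.lfV1K : (Gp → (Cx → (PM → (PM → (PM → (ℕ → (ℕ → Bool))))))) :=
  (fun (g0 : Gp) (cx1 : Cx) (st2 : PM) (T3 : PM) (K4 : PM) (w5 : ℕ) (k6 : ℕ) => (@Bool.rec (fun (_ : Bool) => Bool) Bool.false (@Nat.rec (fun (_ : ℕ) => Bool) Bool.false (fun (w7 : ℕ) (_ : Bool) => (@Nat.rec (fun (_ : ℕ) => Bool) Bool.false (fun (_ : ℕ) (_ : Bool) => (@Bool.rec (fun (_ : Bool) => Bool) Bool.false (@Bool.rec (fun (_ : Bool) => Bool) (Fa.v1cK g0 T3 K4 (@itr (@lk (@PM.tab (Fa.psiK g0 T3 (Fa.evK g0 (@Nx.L (@Cx.nx cx1)) st2 w7)))) k6)) (Fa.v1cK g0 T3 K4 (fun (a13 : ℕ) => (Nat.land (Nat.shiftRight (@PM.tab (Fa.psiK g0 T3 (Fa.evK g0 (@Nx.L (@Cx.nx cx1)) st2 w7))) (Nat.shiftLeft a13 (nat_lit 4))) (nat_lit 65535)))) (Nat.beq k6 (nat_lit 1))) (@PL.rec (fun (_ : PL) => Bool) Bool.true (fun (a11 : ℕ) (_ : ℕ) (_ : PL) (ih14 : Bool) => (@Bool.rec (fun (_ : Bool) => Bool) Bool.false ih14 (Nat.ble (nat_lit 1) (Nat.land (Nat.shiftRight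 (@PM.tab T3) (Nat.shiftLeft (Fa.evK g0 (@Nx.L (@Cx.nx cx1)) st2 w7 a11) (nat_lit 4))) (nat_lit 65535))))) (@PM.gs T3)))) k6)) (Nat.succ w5)) (@orr (Fa.fullK g0 K4) (@an (@orr (@an (@nz (@Cx.t0 cx1)) (Nat.beq (@PM.tab T3) (@PM.tab (@Cx.P cx1)))) (@an (Nat.beq (@Nx.kd (@Cx.nx cx1)) (@OfNat.ofNat ℕ (nat_lit 6) (@instOfNatNat (nat_lit 6)))) (Nat.beq (@PM.tab T3) (@PM.tab (@Nx.W (@Cx.nx cx1)))))) (Fa.nrmzK g0 T3 K4)))))

noncomputable def Fa.lfInK : (Gp → (Cx → (PM → (ℕ → Bool)))) :=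
  (fun (g0 : Gp) (cx1 : Cx) (st2 : PM) (w3 : ℕ) => (@an (@nt (@Cx.ex cx1)) (@allP (@PM.gs (@Cx.P cx1)) (fun (a4 : ℕ) (_ : ℕ) => (@an (@nz (@lk (@PM.tab st2) a4)) (Nat.beq (Fa.evK g0 (@Nx.L (@Cx.nx cx1)) @s0 w3 a4) (@lk (@PM.tab st2) a4)))))))

noncomputable def Fa.lfRefK : (Gp → (Cx → (PM → (ℕ → (ℕ → (ℕ → Bool)))))) :=
  (fun (g0 : Gp) (cx1 : Cx) (st2 : PM) (k3 : ℕ) (B4 : ℕ) (ws5 : ℕ) => (@an (Nat.blt k3 (@List.length (List ℕ) (@Nx.cuts (@Cx.nx cx1)))) (@an (Fa.autOKK g0 B4) (Fa.derK g0 (@Nx.L (@Cx.nx cx1)) st2 (@lk (Fa.autK g0 B4)) (@nth (List ℕ) (@List.nil ℕ) (@Nx.cuts (@Cx.nx cx1)) k3) ws5))))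

noncomputable def Fa.lfCutK : (Gp → (Cx → (ℕ → (PM → (ℕ → Bool))))) :=
  (fun (g0 : Gp) (cx1 : Cx) (t2 : ℕ) (st3 : PM) (w4 : ℕ) => (@an (@Cx.cu cx1 t2 w4) (@allP (@PM.gs (Fa.mkPK g0 w4)) (fun (a5 : ℕ) (b6 : ℕ) => (@an (@nz b6) (Nat.beq (@lk (@PM.tab st3) a5) b6))))))

noncomputable def Fa.nxtK : (Gp → (ℕ → (PM → (ℕ → (ℕ → (ℕ → PM)))))) :=
  (fun (g0 : Gp) (t1 : ℕ) (st2 : PM) (x3 : ℕ) (y4 : ℕ) (fl5 : ℕ) => (@Bool.rec (fun (_ : Bool) => PM) (Fa.adFK g0 (nat_lit 10) st2 x3 y4) (Fa.adFK g0 (nat_lit 10) (Fa.adFK g0 (nat_lit 10) st2 x3 y4) (Fa.cjK g0 t1 y4) (Fa.cjK g0 t1 x3)) (@Nat.rec (fun (_ : ℕ) => Bool) Bool.false (fun (_ : ℕ) (_ : Bool) => (Nat.ble (nat_lit 1) t1)) fl5)))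

noncomputable def Fa.goK : (Gp → (Cx → (Ct → (Prod (ℕ → (PM → Bool)) (ℕ → (PM → (ℕ → ℕ))))))) :=
  (fun (g0 : Gp) (cx1 : Cx) (c2 : Ct) => (@Ct.rec (fun (_ : Ct) => (Prod (ℕ → (PM → Bool)) (ℕ → (PM → (ℕ → ℕ))))) (@lf (fun (_ : ℕ) (_ : PM) => Bool.false)) (fun (y3 : ℕ) (fl4 : ℕ) (_ : Ct) (_ : Ct) (sub7 : (Prod (ℕ → (PM → Bool)) (ℕ → (PM → (ℕ → ℕ))))) (rest8 : (Prod (ℕ → (PM → Bool)) (ℕ → (PM → (ℕ → ℕ))))) => (@Prod.mk (ℕ → (PM → Bool)) (ℕ → (PM → (ℕ → ℕ))) (fun (_ : ℕ) (_ : PM) => Bool.false) (fun (t9 : ℕ) (st10 : PM) (x11 : ℕ) => (Nat.lor (@Bool.rec (fun (_ : Bool) => ℕ) (nat_lit 0) (Nat.shiftLeft (nat_lit 1) (Nat.shiftLeft y3 (nat_lit 4))) (@Nat.rec (fun (_ : ℕ) => Bool) (@Prod.fst (ℕ → (PM → Bool)) (ℕ → (PM → (ℕ → ℕ))) sub7 y3 (Fa.adK g0 st10 (Fa.qK g0 y3) (Fa.qK g0 y3))) (fun (_ : ℕ) (_ : Bool) => (@Prod.fst (ℕ → (PM → Bool)) (ℕ → (PM → (ℕ → ℕ))) sub7 t9 (Fa.nxtK g0 t9 st10 x11 y3 fl4))) x11)) (@Prod.snd (ℕ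 → (PM → Bool)) (ℕ → (PM → (ℕ → ℕ))) rest8 t9 st10 x11))))) (fun (x3 : ℕ) (gv4 : ℕ) (sy5 : ℕ) (_ : Ct) (kids7 : (Prod (ℕ → (PM → Bool)) (ℕ → (PM → (ℕ → ℕ))))) => (@lf (fun (t8 : ℕ) (st9 : PM) => (@iF Bool (@nz x3) (Fa.covK g0 cx1 st9 x3 (Fa.symsK g0 cx1 t8 st9 x3 gv4 sy5 (@Prod.snd (ℕ → (PM → Bool)) (ℕ → (PM → (ℕ → ℕ))) kids7 t8 st9 x3) (@len2 sy5))) (Fa.covTK g0 cx1 (Fa.symsK g0 cx1 t8 st9 x3 gv4 sy5 (@Prod.snd (ℕ → (PM → Bool)) (ℕ → (PM → (ℕ → ℕ))) kids7 t8 st9 x3) (@len2 sy5))))))) (fun (y3 : ℕ) (fl4 : ℕ) (d5 : ℕ) (_ : Ct) (rest7 : (Prod (ℕ → (PM → Bool)) (ℕ → (PM → (ℕ → ℕ))))) => (@Prod.mk (ℕ → (PM → Bool)) (ℕ → (PM → (ℕ → ℕ))) (fun (_ : ℕ) (_ : PM) => Bool.false) (fun (t8 : ℕ) (st9 : PM) (x10 : ℕ) => (Nat.lor (@Bool.rec (fun (_ : Bool) => ℕ) (nat_lit 0) (Nat.shiftLeft (nat_lit 1) (Nat.shiftLeft y3 (nat_lit 4))) (Fa.kilK g0 cx1 t8 st9 x10 y3 fl4 d5)) (@Prod.snd (ℕ → (PM → Bool)) (ℕ → (PM → (ℕ → ℕ))) rest7 t8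 st9 x10))))) (fun (d3 : ℕ) => (@lf (fun (t4 : ℕ) (st5 : PM) => (Fa.lfKK g0 cx1 t4 (@lk (@PM.tab st5)) (@lk (@PM.itab st5)) d3)))) (fun (w3 : ℕ) => (@lf (fun (_ : ℕ) (st5 : PM) => (Fa.lfMcK g0 cx1 st5 w3)))) (fun (ch3 : ℕ) => (@lf (fun (_ : ℕ) (st5 : PM) => (Fa.lfUrK g0 cx1 st5 ch3)))) (fun (T3 : ℕ) (K4 : ℕ) (w5 : ℕ) (k6 : ℕ) => (@lf (fun (_ : ℕ) (st8 : PM) => (Fa.lfV1K g0 cx1 st8 (Fa.mkSK g0 T3) (Fa.mkSK g0 K4) w5 k6)))) (fun (w3 : ℕ) => (@lf (fun (_ : ℕ) (st5 : PM) => (Fa.lfInK g0 cx1 st5 w3)))) (fun (k3 : ℕ) (B4 : ℕ) (ws5 : ℕ) => (@lf (fun (_ : ℕ) (st7 : PM) => (Fa.lfRefK g0 cx1 st7 k3 B4 ws5)))) (fun (w3 : ℕ) => (@lf (fun (t4 : ℕ) (st5 : PM) => (Fa.lfCutK g0 cx1 t4 st5 w3)))) c2))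

noncomputable def Fa.fvDK : (Gp → (Ds → ℕ)) :=
  (fun (g0 : Gp) (d1 : Ds) => (Fa.fvtK g0 (Fa.mkSK g0 (@Ds.P d1)) (@Ds.pr d1)))

noncomputable def Fa.ntDK : (Gp → (Ds → ℕ)) :=
  (fun (g0 : Gp) (d1 : Ds) => (Nat.xor (@Gp.O g0) (Fa.mskK g0 (Fa.mkSK g0 (@Ds.P d1)))))

noncomputable def Fa.cxPK : (Gp → (Nx → ((ℕ → (ℕ → (ℕ → Bool))) → (Ds → Cx)))) :=
  (fun (g0 : Gp) (x1 : Nx) (cu2 : (ℕ → (ℕ → (ℕ → Bool)))) (d3 : Ds) => (@Cx.mk x1 (Fa.mkSK g0 (@Ds.P d3)) (Fa.ntDK g0 d3) (Fa.fvDK g0 d3) (Fa.byK g0 (@Ds.t0 d3) (nat_lit 0)) (@Ds.ph d3) Bool.false (cu2 (@Ds.P d3))))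

noncomputable def Fa.srchK : (Gp → (Nx → ((ℕ → (ℕ → (ℕ → Bool))) → (Ds → (Ct → Bool))))) :=
  (fun (g0 : Gp) (x1 : Nx) (cu2 : (ℕ → (ℕ → (ℕ → Bool)))) (d3 : Ds) (c4 : Ct) => (@an (Fa.okNK g0 (Fa.mkSK g0 (@Ds.P d3)) (Fa.byK g0 (@Ds.t0 d3) (nat_lit 0))) (@Prod.fst (ℕ → (PM → Bool)) (ℕ → (PM → (ℕ → ℕ))) (Fa.goK g0 (Fa.cxPK g0 x1 cu2 d3) c4) (nat_lit 0) @s0)))

noncomputable def Fa.symPK : (Gp → (Nx → (Ds → (ℕ → (ℕ → Bool))))) :=
  (fun (g0 : Gp) (x1 : Nx) (d2 : Ds) (P3 : ℕ) (w4 : ℕ) => (@an (Fa.stNK g0 x1 w4) (@an (@allP (@PM.gs (Fa.mkSK g0 P3)) (fun (a5 : ℕ) (_ : ℕ) => (Fa.memK (Fa.mkSK g0 (@Ds.P d2)) (Fa.gamK g0 x1 w4 a5)))) (Nat.beq (Nat.mod (Fa.mskK g0 (Fa.mkSK g0 P3)) (nat_lit 65535)) (Nat.mod (Fa.mskK g0 (Fa.mkSK g0 (@Ds.P d2))) (nat_lit 65535))))))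

noncomputable def Fa.covPK : (Gp → (Nx → ((ℕ → (ℕ → (ℕ → Bool))) → ((List Ds) → (Ct → ((List ℕ) → Bool)))))) :=
  (fun (g0 : Gp) (x1 : Nx) (cu2 : (ℕ → (ℕ → (ℕ → Bool)))) (AL3 : (List Ds)) => (@List.rec Ds (fun (_ : (List Ds)) => (Ct → ((List ℕ) → Bool))) (fun (_ : Ct) (_ : (List ℕ)) => Bool.true) (fun (d4 : Ds) (_ : (List Ds)) (ih6 : (Ct → ((List ℕ) → Bool))) (c7 : Ct) (dn8 : (List ℕ)) => (@Ct.rec (fun (_ : Ct) => Bool) Bool.false (fun (w9 : ℕ) (j10 : ℕ) (sub11 : Ct) (rest12 : Ct) (_ : Bool) (_ : Bool) => (@an (@iF Bool (@nz w9) (@an (Nat.blt j10 (@List.length ℕ dn8)) (@Pc.frc Bool w9 (Fa.symPK g0 x1 d4 (@nth ℕ (nat_lit 0) dn8 j10)))) (Fa.srchK g0 x1 cu2 d4 sub11)) (ih6 rest12 (@List.cons ℕ (@Ds.P d4) dn8)))) (fun (_ : ℕ) (_ : ℕ) (_ : ℕ) (_ : Ct) (_ : Bool) => Bool.false) (fun (_ : ℕ) (_ : ℕ) (_ : ℕ) (_ : Ct) (_ : Bool) => Bool.false) (fun (_ : ℕ) => Bool.false) (fun (_ : ℕ) => Bool.false) (fun (_ : ℕ) => Bool.false)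 (fun (_ : ℕ) (_ : ℕ) (_ : ℕ) (_ : ℕ) => Bool.false) (fun (_ : ℕ) => Bool.false) (fun (_ : ℕ) (_ : ℕ) (_ : ℕ) => Bool.false) (fun (_ : ℕ) => Bool.false) c7)) AL3))

noncomputable def Fa.cmSK : (Gp → (ℕ → PM)) :=
  (fun (g0 : Gp) (w1 : ℕ) => (Fa.adSK g0 @s0 (fun (i2 : ℕ) => (Fa.cmK g0 (Fa.byK g0 w1 (Nat.add i2 i2)) (Fa.byK g0 w1 (Nat.succ (Nat.add i2 i2))))) (@len2 w1)))

noncomputable def Fa.nxOfK : (Gp → ((List (List ℕ)) → (Nd → Nx))) :=
  (fun (g0 : Gp) (cuts1 : (List (List ℕ))) (nd2 : Nd) => (@Nx.mk (@Nd.L nd2) cuts1 (@Nd.kd nd2) (@iF PM (Nat.beq (@Nd.kd nd2) (nat_lit 3)) (Fa.cmSK g0 (@Nd.W nd2)) (@iF PM (Nat.ble (nat_lit 4) (@Nd.kd nd2)) @s0 (Fa.mkSK g0 (@Nd.W nd2)))) (@iF ℕ (Nat.beq (@Nd.kd nd2) (nat_lit 3)) (Fa.byK g0 (@Nd.z nd2) (nat_lit 0)) (nat_lit 0)) (@Nd.pw nd2) (@Nd.pool nd2) (@iF (List PM) (Nat.beq (@Nd.kd nd2) (nat_lit 5)) (@List.rec ℕ (fun (_ : (List ℕ)) => (List PM)) (@List.nil PM) (fun (a3 : ℕ)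 (_ : (List ℕ)) (ih5 : (List PM)) => (@List.cons PM (Fa.mkSK g0 a3) ih5)) (@Nd.cl nd2)) (@List.nil PM))))

noncomputable def Fa.nxEK : (Gp → ((List (List ℕ)) → (Nd → Nx))) :=
  (fun (g0 : Gp) (cuts1 : (List (List ℕ))) (nd2 : Nd) => (@Nx.mk (@Nd.L nd2) cuts1 (nat_lit 6) (Fa.mkSK g0 (@Nd.W nd2)) (nat_lit 0) (@Nd.pw nd2) (@Nd.pool nd2) (@List.nil PM)))

noncomputable def Fa.cxEK : (Gp → (Nx → ((ℕ → (ℕ → (ℕ → Bool))) → (ℕ → Cx)))) :=
  (fun (g0 : Gp) (x1 : Nx) (cu2 : (ℕ → (ℕ → (ℕ → Bool)))) (R3 : ℕ) => (@Cx.mk x1 (Fa.mkSK g0 R3) (nat_lit 0) (nat_lit 0) (nat_lit 0) (nat_lit 0) Bool.true (cu2 R3)))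

noncomputable def Fa.extOKK : (Gp → (PM → (PM → (PM → Bool)))) :=
  (fun (g0 : Gp) (T1 : PM) (h2 : PM) (R3 : PM) => (@an (@allP (@PM.gs h2) (fun (a4 : ℕ) (b5 : ℕ) => (@an (Fa.memK T1 b5) (Fa.memK R3 a4)))) (@an (@allP (@PM.gs T1) (fun (a4 : ℕ) (_ : ℕ) => (@nz (@lk (@PM.itab h2) a4)))) (@allP (@PM.gs R3) (fun (s4 : ℕ) (_ : ℕ) => (Fa.indK g0 (@foP (@PM.gs h2) (fun (a6 : ℕ) (b7 : ℕ) => (@iF ℕ (@nz (@lk (@PM.tab h2) (Fa.cjK g0 s4 a6))) (Fa.twK g0 b7 (@lk (@PM.tab h2) (Fa.cjK g0 s4 a6))) (@Gp.O g0))))))))))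

noncomputable def Fa.extCK : (Gp → ((ℕ → (ℕ → (ℕ → Bool))) → (Nd → (Nx → (Ct → Bool))))) :=
  (fun (g0 : Gp) (cu1 : (ℕ → (ℕ → (ℕ → Bool)))) (nd2 : Nd) (x3 : Nx) (c4 : Ct) => (@an (Fa.extOKK g0 (Fa.mkSK g0 (@Nd.W nd2)) (Fa.mkPK g0 (@Nd.a1 nd2)) (Fa.mkSK g0 (@Nd.z nd2))) (@an (Fa.derK g0 (@Nd.L nd2) @s0 (@lk (@Gp.id g0)) (@List.cons ℕ (@Nd.a1 nd2) (@List.nil ℕ)) (@Nd.a2 nd2)) (@Prod.fst (ℕ → (PM → Bool)) (ℕ → (PM → (ℕ → ℕ))) (Fa.goK g0 (Fa.cxEK g0 x3 cu1 (@Nd.z nd2)) c4) (nat_lit 0) (Fa.mkPK g0 (@Nd.a1 nd2))))))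

noncomputable def Fa.nNK : (Gp → (PM → ℕ)) :=
  (fun (g0 : Gp) (X1 : PM) => (@cnN (@Gp.N g0) (fun (s2 : ℕ) => (@allP (@PM.gs X1) (fun (a3 : ℕ) (_ : ℕ) => (Fa.memK X1 (Fa.cjK g0 s2 a3)))))))

noncomputable def Fa.clMK : ((List PM) → (PM → (ℕ → Bool))) :=
  (fun (cl0 : (List PM)) (X1 : PM) (t2 : ℕ) => (@orr (@nt (@allP (@PM.gs X1) (fun (a3 : ℕ) (_ : ℕ) => (@orr (@nz (@lk t2 a3)) (Nat.beq a3 (nat_lit 0)))))) (@inC cl0 X1 (fun (Y3 : PM) (a4 : ℕ) => (Fa.memK Y3 (@lk t2 a4))))))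

noncomputable def Fa.clsOKK : (Gp → (PM → (Nx → (PM → Bool)))) :=
  (fun (g0 : Gp) (S1 : PM) (x2 : Nx) (T3 : PM) => (@an (@exL PM (@Nx.cl x2) (fun (Y4 : PM) => (Nat.beq (@PM.tab Y4) (@PM.tab T3)))) (@Pc.frc Bool (Fa.nNK g0 T3) (fun (k4 : ℕ) => (@Pc.frc Bool (Nat.mod (Fa.mskK g0 T3) (nat_lit 65535)) (fun (o5 : ℕ) => (@allL PM (@Nx.cl x2) (fun (X6 : PM) => (@an (Nat.beq (Nat.mod (Fa.mskK g0 X6) (nat_lit 65535)) o5) (@an (Nat.ble (Fa.nNK g0 X6) k4) (@an (@allP (@PM.gs S1) (fun (s7 : ℕ) (_ : ℕ) => (@inC (@Nx.cl x2) X6 (fun (Y9 : PM) (a10 : ℕ) => (Fa.memK Y9 (Fa.cjK g0 s7 a10)))))) (@allL ℕ (@Nx.L x2) (fun (s7 : ℕ) => (@an (Fa.clMK (@Nx.cl x2) X6 (@PM.tab (Fa.mkPK g0 s7))) (Fa.clMK (@Nx.cl x2) X6 (@PM.itab (Fa.mkPK g0 s7)))))))))))))))))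

noncomputable def Fa.kdOKK : (Gp → ((List (List ℕ)) → (PM → (Nx → (ℕ → Bool))))) :=
  (fun (g0 : Gp) (Xs1 : (List (List ℕ))) (S2 : PM) (x3 : Nx) (a4 : ℕ) => (@an (Fa.nrmK g0 S2 (@Nx.W x3)) (@iF Bool (@nz (@Nx.kd x3)) (@iF Bool (Nat.beq (@Nx.kd x3) (nat_lit 1)) (@an (@nz (@PM.tab (@Nx.W x3))) (@allL ℕ (@Nx.L x3) (fun (s5 : ℕ) => (@allP (@PM.gs (@Nx.W x3)) (fun (a6 : ℕ) (_ : ℕ) => (@nz (@lk (@PM.tab (@Nx.W x3)) (@lk (@PM.tab (Fa.mkPK g0 s5)) a6)))))))) (@an (Fa.cmsK g0 S2 (@Nx.W x3)) (@iF Bool (Nat.beq (@Nx.kd x3) (nat_lit 2)) (@an (@nt (Fa.memK (@Nx.W x3) (Fa.byK g0 a4 (nat_lit 0)))) (@an (Nat.beq (Nat.lor (Fa.mskK g0 (@Nx.W x3)) (Fa.cosK g0 (@Nx.W x3) (Fa.byK g0 a4 (nat_lit 0)))) (@Gp.O g0)) (@allL ℕ (@Nx.L x3) (fun (s5 : ℕ) => (@allP (@PM.gs (Fa.mkPK g0 s5)) (fun (a6 : ℕ) (b7 : ℕ) => (Fa.memK (@Nx.W x3) (Fa.mK g0 (Fa.iK g0 a6) b7)))))))) (@an (Nat.beq (@Nx.kd x3) (nat_lit 3)) (@an (@nt (Fa.memK (@Nx.W x3) (@Nx.z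 x3))) (@an (Nat.beq (Fa.qK g0 (@Nx.z x3)) (nat_lit 0)) (@an (Nat.beq (@Gp.r g0 (@Nx.z x3)) (@Gp.c g0 (@Nx.z x3))) (@allL ℕ (@Nx.L x3) (fun (s5 : ℕ) => (@orr (@nt (Fa.fullK g0 (Fa.mkPK g0 s5))) (Fa.memK (@Nx.W x3) (Fa.mK g0 (Fa.iK g0 (@Nx.z x3)) (@lk (@PM.tab (Fa.mkPK g0 s5)) (@Nx.z x3)))))))))))))) (@an (Nat.blt a4 (@List.length (List ℕ) Xs1)) (@List.beq ℕ (@instBEqOfDecidableEq ℕ @instDecidableEqNat) (@nth (List ℕ) (@List.nil ℕ) Xs1 a4) (@Nx.L x3))))))

noncomputable def Fa.node1K : (Gp → ((List (List ℕ)) → ((List Ds) → (Ds → ((ℕ → (ℕ → (ℕ → Bool))) → (Nd → (Nx → Bool))))))) :=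
  (fun (g0 : Gp) (Xs1 : (List (List ℕ))) (AL2 : (List Ds)) (dT3 : Ds) (cu4 : (ℕ → (ℕ → (ℕ → Bool)))) (nd5 : Nd) (x6 : Nx) => (@iF Bool (Nat.beq (@Nd.kd nd5) (nat_lit 4)) (@an (Fa.nrmK g0 (Fa.mkSK g0 (@Ds.P dT3)) (Fa.mkSK g0 (@Nd.W nd5))) (Fa.extCK g0 cu4 nd5 x6 (@Nd.top nd5))) (@an (@iF Bool (Nat.beq (@Nd.kd nd5) (nat_lit 5)) (@an (Fa.clsOKK g0 (Fa.mkSK g0 (@Ds.P dT3)) x6 (Fa.mkSK g0 (@Nd.W nd5))) (Fa.extCK g0 (fun (_ : ℕ) (_ : ℕ) (_ : ℕ) => Bool.false) nd5 (Fa.nxEK g0 (@Nx.cuts x6) nd5) (@Nd.ex nd5))) (Fa.kdOKK g0 Xs1 (Fa.mkSK g0 (@Ds.P dT3)) x6 (@Nd.a1 nd5))) (@an (@Prod.fst (ℕ → (PM → Bool)) (ℕ → (PM → (ℕ → ℕ))) (Fa.goK g0 (Fa.cxPK g0 x6 cu4 dT3) (@Nd.top nd5)) (nat_lit 0) @s0) (@orr (Nat.beq (@Nd.kd nd5) (nat_lit 3)) (Fa.covPK g0 x6 cu4 AL2 (@Nd.ps nd5) (@List.nil ℕ)))))))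

noncomputable def Fa.nodeK : (Gp → (Bool → ((List (List ℕ)) → ((List Ds) → (Ds → ((ℕ → (ℕ → (ℕ → Bool))) → ((List (List ℕ)) → (Nd → Bool)))))))) :=
  (fun (g0 : Gp) (pf1 : Bool) (Xs2 : (List (List ℕ))) (AL3 : (List Ds)) (dT4 : Ds) (cu5 : (ℕ → (ℕ → (ℕ → Bool)))) (cuts6 : (List (List ℕ))) (nd7 : Nd) => (@an (@orr pf1 (@an (@ne (@Nd.kd nd7) (nat_lit 2)) (@ne (@Nd.kd nd7) (nat_lit 3)))) (@an (Fa.fullK g0 (Fa.mkSK g0 (@Ds.P dT4))) (@an (Nat.beq (@Ds.t0 dT4) (nat_lit 0)) (Fa.node1K g0 Xs2 AL3 dT4 cu5 nd7 (Fa.nxOfK g0 cuts6 nd7))))))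

noncomputable def Fa.nodesK : (Gp → (Bool → ((List (List ℕ)) → ((List Ds) → (Ds → ((List Nd) → ((List (List ℕ)) → Bool))))))) :=
  (fun (g0 : Gp) (pf1 : Bool) (Xs2 : (List (List ℕ))) (AL3 : (List Ds)) (dT4 : Ds) (l5 : (List Nd)) => (@List.rec Nd (fun (_ : (List Nd)) => ((List (List ℕ)) → Bool)) (fun (_ : (List (List ℕ))) => Bool.true) (fun (nd6 : Nd) (_ : (List Nd)) (ih8 : ((List (List ℕ)) → Bool)) (cuts9 : (List (List ℕ))) => (@an (Fa.nodeK g0 pf1 Xs2 AL3 dT4 (fun (_ : ℕ) (_ : ℕ) (_ : ℕ) => Bool.false) cuts9 nd6) (ih8 (@List.cons (List ℕ) (@Nd.L nd6) cuts9)))) l5))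

noncomputable def Fa.tgeK : (Gp → ((List Ds) → (ℕ → ℕ))) :=
  (fun (g0 : Gp) (CA1 : (List Ds)) (e2 : ℕ) => (@frr ℕ (Nat.shiftRight e2 (nat_lit 16)) (fun (j3 : ℕ) => (@iF ℕ (Nat.blt j3 (@List.length Ds CA1)) (Nat.xor (@Gp.O g0) (Fa.mskK g0 (Fa.mkSK g0 (@Ds.P (@nth Ds (@Ds.mk (nat_lit 0) (nat_lit 0) (nat_lit 0) (nat_lit 0)) CA1 j3))))) (nat_lit 2)))))

noncomputable def Fa.lev1K : (Gp → ((List Ds) → (ℕ → (ℕ → (ℕ → (ℕ → Bool)))))) :=
  (fun (g0 : Gp) (CA1 : (List Ds)) (M2 : ℕ) (C3 : ℕ) (u4 : ℕ) (v5 : ℕ) => (@Nat.rec (fun (_ : ℕ) => Bool) Bool.true (fun (_ : ℕ) (_ : Bool) => (@frr Bool (Nat.land (Nat.shiftRight C3 (Nat.shiftLeft v5 (nat_lit 5))) (nat_lit 4294967295)) (fun (e8 : ℕ) => (Nat.beq (Fa.nzmK g0 (@Nat.rec (fun (_ : ℕ) => ℕ) (@Gp.cmw g0 M2 u4) (fun (h9 : ℕ) (_ : ℕ) => (@frr ℕ (Fa.cjK g0 (Fa.iK g0 (Nat.succ h9)) u4) (@Gp.cmw g0 M2))) (Nat.land e8 (@Gp.mk' g0)))) (Fa.tgeK g0 CA1 e8))))) (@Gp.cmw g0 M2 u4)))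

noncomputable def Fa.lev0K : (Gp → ((List Ds) → (ℕ → (ℕ → (ℕ → (ℕ → (ℕ → (ℕ → Bool)))))))) :=
  (fun (g0 : Gp) (CA1 : (List Ds)) (i2 : ℕ) (i43 : ℕ) (M4 : ℕ) (Q5 : ℕ) (C6 : ℕ) (c7 : ℕ) => (@Nat.rec (fun (_ : ℕ) => Bool) Bool.true (fun (v8 : ℕ) (ih9 : Bool) => (@Nat.rec (fun (_ : ℕ) => Bool) (@an (@frr Bool (Nat.shiftLeft v8 i2) (fun (u10 : ℕ) => (Fa.lev1K g0 CA1 M4 C6 u10 v8))) ih9) (fun (_ : ℕ) (_ : Bool) => ih9) (Nat.land (Nat.shiftRight Q5 (Nat.shiftLeft v8 i43)) (nat_lit 65535)))) c7))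

noncomputable def Fa.levK : (Gp → ((List Ds) → (ℕ → Bool))) :=
  (fun (g0 : Gp) (CA1 : (List Ds)) (C2 : ℕ) => (@allN (@Gp.n g0) (fun (i3 : ℕ) => (@frr Bool (Nat.shiftRight (@Gp.N g0) i3) (fun (c4 : ℕ) => (@frr Bool (Nat.mul (Nat.sub (nat_lit 65536) (Nat.shiftLeft (nat_lit 1) i3)) (@Gp.O g0)) (fun (M5 : ℕ) => (@frr Bool (Nat.lor (Nat.lor (Nat.land (@Gp.sq g0) M5) (nat_lit 1)) (@pt (nat_lit 1) (Nat.shiftLeft (nat_lit 1) i3))) (fun (Q6 : ℕ) => (@frr Bool (Nat.shiftRight C2 (Nat.shiftLeft c4 (nat_lit 5))) (fun (C7 : ℕ) => (@frr Bool (Nat.add i3 (nat_lit 4)) (fun (i48 : ℕ) => (Fa.lev0K g0 CA1 i3 i48 M5 Q6 C7 c4))))))))))))))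

noncomputable def Fa.alvK : (Gp → ((List Ds) → ((List Ds) → ((ℕ → (ℕ → (ℕ → Bool))) → (ℕ → (ℕ → (Ct → Bool))))))) :=
  (fun (g0 : Gp) (AL1 : (List Ds)) (DL2 : (List Ds)) (cu3 : (ℕ → (ℕ → (ℕ → Bool)))) (C4 : ℕ) (pool5 : ℕ) (ps6 : Ct) => (@an (Fa.levK g0 (@HAppend.hAppend (List Ds) (List Ds) (List Ds) (@instHAppendOfAppend (List Ds) (@List.instAppend Ds)) AL1 DL2) C4) (Fa.covPK g0 (@Nx.mk (@List.nil ℕ) (@List.nil (List ℕ)) (nat_lit 0) @s0 (nat_lit 0) (nat_lit 176) pool5 (@List.nil PM)) cu3 DL2 ps6 (@List.nil ℕ))))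

theorem Fa.nzR {α : Type} (a : ℕ) (t e : α) : @Nat.rec (fun _ => α) e (fun _ _ => t) a = iF (nz a) t e := by
  cases a <;> rfl

theorem Fa.sucR (a z : ℕ) : @Nat.rec (fun _ => ℕ) z (fun k _ => Nat.succ k) a = iF (nz a) a z := by
  cases a <;> rfl

theorem Fa.sucF (a z : ℕ) (f : ℕ → ℕ) : @Nat.rec (fun _ => ℕ) z (fun k _ => f (Nat.succ k)) a = iF (nz a) (f a) z := by
  cases a <;> rfl

theorem Fa.twR (g : Gp) (x a : ℕ) : @Nat.rec (fun _ => ℕ) g.O (fun k _ => Nat.xor (g.c x) (g.r (Nat.succ k))) a =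
    iF (nz a) (g.tw x a) g.O := by
  cases a <;> rfl

/-- the map is the identity -/
def Fa.DgL (l : PL) : Prop := @PL.rec (fun _ => Prop) True (fun a b _ ih => b = a ∧ ih) l

def Fa.Dg (s : PM) : Prop := Fa.DgL s.gs ∧ Fa.DgL s.el ∧ s.itab = s.tab

theorem Fa.memK_eq : @Fa.memK = @mem := by
  delta Fa.memK
  funext s a
  exact Fa.nzR _ _ _

theorem Fa.byK_eq : @Fa.byK = @Gp.by' := by
  delta Fa.byK
  rfl

theorem Fa.mK_eq : @Fa.mK = @Gp.m := by
  delta Fa.mK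
  rfl

theorem Fa.iK_eq : @Fa.iK = @Gp.i := by
  delta Fa.iK
  rfl

theorem Fa.qK_eq : @Fa.qK = @Gp.q := by
  delta Fa.qK
  rfl

theorem Fa.cjK_eq : @Fa.cjK = @Gp.cj := by
  delta Fa.cjK
  rw [Fa.iK_eq]
  rfl

theorem Fa.cj0K_eq : @Fa.cj0K = @Gp.cj0 := by
  delta Fa.cj0K
  rw [Fa.iK_eq]
  funext g s x
  exact Fa.nzR _ _ _

theorem Fa.cmK_eq : @Fa.cmK = @Gp.cm := by
  delta Fa.cmK
  rw [Fa.cjK_eq]
  rfl

theorem Fa.nzmK_eq : @Fa.nzmK = @Gp.nzm := by
  delta Fa.nzmK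
  rfl

theorem Fa.zmK_eq : @Fa.zmK = @Gp.zm := by
  delta Fa.zmK
  rfl

theorem Fa.mskK_eq : @Fa.mskK = @Gp.msk := by
  delta Fa.mskK
  rw [Fa.nzmK_eq]
  rfl

theorem Fa.fullK_eq : @Fa.fullK = @Gp.full := by
  delta Fa.fullK
  rw [Fa.mskK_eq]
  rfl

theorem Fa.twK_eq : @Fa.twK = @Gp.tw := by
  delta Fa.twK
  rfl

theorem Fa.indK_eq : @Fa.indK = @Gp.ind := by
  delta Fa.indK
  rw [Fa.nzmK_eq]
  rfl

theorem Fa.dblK_eq : @Fa.dblK = @Gp.dbl := by
  delta Fa.dblK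
  rfl

theorem Fa.scanK_eq : @Fa.scanK = @Gp.scan := by
  delta Fa.scanK
  rw [Fa.cjK_eq]
  funext g t a b l kf kd
  simp only [Fa.nzR]
  rfl

theorem Fa.finK_eq : @Fa.finK = @fin := by
  delta Fa.finK
  rw [Fa.memK_eq]
  rfl

theorem Fa.adFK_eq : @Fa.adFK = @Gp.adF := by
  delta Fa.adFK
  rw [Fa.scanK_eq, Fa.finK_eq, Fa.qK_eq, Fa.dblK_eq, Fa.memK_eq]
  rfl

theorem Fa.adK_eq : @Fa.adK = @Gp.ad := by
  delta Fa.adK
  rw [Fa.adFK_eq]
  rfl

theorem Fa.adSK_eq : @Fa.adSK = @Gp.adS := by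
  delta Fa.adSK
  rw [Fa.adK_eq]
  rfl

theorem Fa.dblD_aux (g : Gp) (G : PL) (a : ℕ) {l : PL} (hl : Fa.DgL l) (hG : Fa.DgL G) : ∀ (el : PL) (t : ℕ), Fa.DgL el →
    @PL.rec (fun _ => PL → ℕ → ℕ → PM) (fun el t it => ⟨G, el, t, it⟩)
      (fun h k _ ih el t it => ih (.cons (lk (g.r a) h) (lk (g.r a) k) el)
        (Nat.lor t (pt (lk (g.r a) k) (lk (g.r a) h))) (Nat.lor it (pt (lk (g.r a) h) (lk (g.r a) k)))) l el t t =
    @PL.rec (fun _ => PL → ℕ → PM) (fun el t => ⟨G, el, t, t⟩)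
      (fun h _ _ ih el t => ih (.cons (lk (g.r a) h) (lk (g.r a) h) el) (Nat.lor t (pt (lk (g.r a) h) (lk (g.r a) h)))) l el t ∧
    Fa.Dg (@PL.rec (fun _ => PL → ℕ → PM) (fun el t => ⟨G, el, t, t⟩)
      (fun h _ _ ih el t => ih (.cons (lk (g.r a) h) (lk (g.r a) h) el) (Nat.lor t (pt (lk (g.r a) h) (lk (g.r a) h)))) l el t) := by
  induction l with
  | nil => exact fun el t h => ⟨rfl, hG, h, rfl⟩
  | cons h k l ih =>
    obtain ⟨rfl, hl⟩ := hl
    exact fun el t h => ih hl _ _ ⟨rfl, h⟩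

theorem Fa.dblD_eq (g : Gp) {s : PM} (hs : Fa.Dg s) (a : ℕ) : g.dbl s a a = Fa.dblDK g s a ∧ Fa.Dg (Fa.dblDK g s a) := by
  obtain ⟨gs, el, t, it⟩ := s
  obtain ⟨h1, h2, h3⟩ := hs
  obtain rfl : it = t := h3
  exact Fa.dblD_aux g (.cons a a gs) a h2 ⟨rfl, h1⟩ el it h2

theorem Fa.scanD_eq (g : Gp) (t a : ℕ) {l : PL} (hl : Fa.DgL l) {kf : ℕ → ℕ → PM} {kf' : ℕ → PM} {kd kd' : PM}
    (h1 : ∀ x, kf x x = kf' x ∧ Fa.Dg (kf' x)) (h2 : kd = kd' ∧ Fa.Dg kd') :
    g.scan t a a l kf kd = Fa.scanDK g t a l kf' kd' ∧ Fa.Dg (Fa.scanDK g t a l kf' kd') := by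
  induction l with
  | nil => exact h2
  | cons k h l ih =>
    obtain ⟨rfl, hl⟩ := hl
    replace ih := ih hl
    have e1 : g.scan t a a (.cons h h l) kf kd =
      iF (nz (lk t (g.cj a h))) (g.scan t a a l kf kd) (kf (g.cj a h) (g.cj a h)) := rfl
    have e2 : Fa.scanDK g t a (.cons h h l) kf' kd' = @Nat.rec (fun _ => PM) (kf' (Fa.cjK g a h))
      (fun _ _ => Fa.scanDK g t a l kf' kd') (lk t (Fa.cjK g a h)) := rfl
    rw [e1, e2, Fa.nzR, Fa.cjK_eq]
    cases nz (lk t (g.cj a h))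
    · exact h1 _
    · exact ih

theorem Fa.fin_dg {s s' : PM} (hs : Fa.Dg s) (hs' : Fa.Dg s') (a : ℕ) : Fa.Dg (fin s a a s') := by
  delta fin
  cases mem s' a
  · exact hs
  · exact ⟨⟨rfl, hs.1⟩, hs'.2.1, hs'.2.2⟩

theorem Fa.adD_eq (g : Gp) : ∀ (fu : ℕ) (s : PM) (a : ℕ), Fa.Dg s → g.adF fu s a a = Fa.adDK g fu s a ∧ Fa.Dg (Fa.adDK g fu s a)
  | 0, _, _, hs => ⟨rfl, hs⟩
  | fu + 1, s, a, hs => by
    have e1 : g.adF (fu + 1) s a a = iF (mem s a) s
      (g.scan s.tab a a s.gs (fun x y => fin s a a (g.adF fu (g.adF fu s x y) a a))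
        (iF (mem s (g.q a)) (g.dbl s a a) (fin s a a (g.adF fu (g.adF fu s (g.q a) (g.q a)) a a)))) := rfl
    have e2 : Fa.adDK g (fu + 1) s a = iF (Fa.memK s a) s
      (Fa.scanDK g s.tab a s.gs (fun x => Fa.finK s a a (Fa.adDK g fu (Fa.adDK g fu s x) a))
        (iF (Fa.memK s (Fa.qK g a)) (Fa.dblDK g s a)
          (Fa.finK s a a (Fa.adDK g fu (Fa.adDK g fu s (Fa.qK g a)) a)))) := rfl
    have h1 : ∀ x, fin s a a (g.adF fu (g.adF fu s x x) a a) = fin s a a (Fa.adDK g fu (Fa.adDK g fu s x) a) ∧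
        Fa.Dg (fin s a a (Fa.adDK g fu (Fa.adDK g fu s x) a)) := fun x => by
      obtain ⟨h2, h3⟩ := Fa.adD_eq g fu s x hs
      obtain ⟨h4, h5⟩ := Fa.adD_eq g fu _ a h3
      rw [h2, h4]
      exact ⟨rfl, Fa.fin_dg hs h5 a⟩
    rw [e1, e2, Fa.memK_eq, Fa.finK_eq, Fa.qK_eq]
    cases mem s a
    · refine Fa.scanD_eq g _ a hs.1 (kf := fun x y => fin s a a (g.adF fu (g.adF fu s x y) a a))
        (kf' := fun x => fin s a a (Fa.adDK g fu (Fa.adDK g fu s x) a)) h1 ?_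
      cases mem s (g.q a)
      · exact h1 _
      · exact Fa.dblD_eq g hs a
    · exact ⟨rfl, hs⟩

theorem Fa.adSD_eq (g : Gp) {K : PM} (hK : Fa.Dg K) (φ : ℕ → ℕ) :
    ∀ k, g.adS K φ k = Fa.adSDK g K φ k ∧ Fa.Dg (Fa.adSDK g K φ k)
  | 0 => ⟨rfl, hK⟩
  | k + 1 => by
    obtain ⟨h1, h2⟩ := Fa.adSD_eq g hK φ k
    have e1 : g.adS K φ (k + 1) = g.adF 10 (g.adS K φ k) (φ k) (φ k) := rfl
    rw [e1, h1]
    exact Fa.adD_eq g 10 _ _ h2

theorem Fa.dg0 : Fa.Dg s0 := ⟨trivial, ⟨rfl, trivial⟩, rfl⟩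

theorem Fa.mkS1K_eq : @Fa.mkS1K = @Gp.mkS1 := by
  delta Fa.mkS1K
  rw [Fa.byK_eq]
  funext g w
  exact (Fa.adSD_eq g Fa.dg0 _ _).1.symm

theorem Fa.mkS0K_eq : @Fa.mkS0K = @Gp.mkS0 := by
  delta Fa.mkS0K
  rw [Fa.mkS1K_eq]
  rfl

theorem Fa.mkSK_eq : @Fa.mkSK = @Gp.mkS := by
  delta Fa.mkSK
  rw [Fa.mkS0K_eq]
  rfl

theorem Fa.mkP1K_eq : @Fa.mkP1K = @Gp.mkP1 := by
  delta Fa.mkP1K
  rw [Fa.adK_eq, Fa.byK_eq]
  rfl

theorem Fa.mkP0K_eq : @Fa.mkP0K = @Gp.mkP0 := by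
  delta Fa.mkP0K
  rw [Fa.mkP1K_eq]
  rfl

theorem Fa.mkPK_eq : @Fa.mkPK = @Gp.mkP := by
  delta Fa.mkPK
  rw [Fa.mkP0K_eq]
  rfl

theorem Fa.okN0K_eq : @Fa.okN0K = @Gp.okN0 := by
  delta Fa.okN0K
  rw [Fa.memK_eq, Fa.qK_eq, Fa.cjK_eq]
  rfl

theorem Fa.okNK_eq : @Fa.okNK = @Gp.okN := by
  delta Fa.okNK
  rw [Fa.okN0K_eq]
  rfl

theorem Fa.nrmK_eq : @Fa.nrmK = @Gp.nrm := by
  delta Fa.nrmK
  rw [Fa.memK_eq, Fa.cjK_eq]
  rfl

theorem Fa.cmsK_eq : @Fa.cmsK = @Gp.cms := by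
  delta Fa.cmsK
  rw [Fa.memK_eq, Fa.cmK_eq]
  rfl

theorem Fa.nrmzK_eq : @Fa.nrmzK = @Gp.nrmz := by
  delta Fa.nrmzK
  rw [Fa.memK_eq, Fa.cjK_eq]
  rfl

theorem Fa.clsK_eq : @Fa.clsK = @Gp.cls := by
  delta Fa.clsK
  rw [Fa.zmK_eq]
  rfl

theorem Fa.ncmK_eq : @Fa.ncmK = @Gp.ncm := by
  delta Fa.ncmK
  rw [Fa.nzmK_eq, Fa.twK_eq]
  rfl

theorem Fa.srtK_eq : @Fa.srtK = @Gp.srt := by
  delta Fa.srtK
  rw [Fa.zmK_eq]
  rfl

theorem Fa.rndK_eq : @Fa.rndK = @Gp.rnd := by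
  delta Fa.rndK
  rw [Fa.clsK_eq, Fa.mskK_eq, Fa.ncmK_eq, Fa.srtK_eq]
  rfl

theorem Fa.fvt0K_eq : @Fa.fvt0K = @Gp.fvt0 := by
  delta Fa.fvt0K
  rw [Fa.rndK_eq]
  rfl

theorem Fa.fvtK_eq : @Fa.fvtK = @Gp.fvt := by
  delta Fa.fvtK
  rw [Fa.fvt0K_eq, Fa.mskK_eq]
  rfl

theorem Fa.atrC_eq (g : Gp) (B : ℕ) : ∀ (j : ℕ) (k : (ℕ → ℕ) → ℕ), Fa.atrCK g B j k = k (g.atr B j)
  | 0, _ => rfl
  | j + 1, k => by
    have e : Fa.atrCK g B (j + 1) k = Fa.atrCK g B j fun f => k fun y => Nat.add (f y)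
      (Nat.shiftLeft (f (lk (g.c (Fa.byK g B j)) y)) (Nat.shiftLeft 16 j)) := rfl
    rw [e, Fa.atrC_eq g B j, Fa.byK_eq]
    rfl

theorem Fa.atqK_eq : @Fa.atqK = @Gp.atq := by
  delta Fa.atqK
  rw [Fa.byK_eq]
  rfl

theorem Fa.gthK_eq : @Fa.gthK = @Gp.gth := by
  delta Fa.gthK
  rw [Fa.atqK_eq]
  rfl

theorem Fa.aut1K_eq : @Fa.aut1K = @Gp.aut1 := by
  delta Fa.aut1K
  rw [Fa.gthK_eq]
  funext g B k V
  rw [Fa.atrC_eq]
  rfl

theorem Fa.aut2K_eq : @Fa.aut2K = @Gp.aut2 := by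
  delta Fa.aut2K
  rw [Fa.aut1K_eq]
  funext g B
  rw [Fa.atrC_eq]
  rfl

theorem Fa.aut0K_eq : @Fa.aut0K = @Gp.aut0 := by
  delta Fa.aut0K
  rw [Fa.aut2K_eq]
  rfl

theorem Fa.autK_eq : @Fa.autK = @Gp.aut := by
  delta Fa.autK
  rw [Fa.aut0K_eq]
  rfl

theorem Fa.autOK0K_eq : @Fa.autOK0K = @Gp.autOK0 := by
  delta Fa.autOK0K
  rw [Fa.nzmK_eq, Fa.aut0K_eq, Fa.qK_eq, Fa.byK_eq, Fa.mK_eq]
  rfl

theorem Fa.autOKK_eq : @Fa.autOKK = @Gp.autOK := by
  delta Fa.autOKK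
  rw [Fa.autOK0K_eq]
  rfl

theorem Fa.tbLK_eq : @Fa.tbLK = @Gp.tbL := by
  delta Fa.tbLK
  rw [Fa.mkPK_eq]
  rfl

theorem Fa.tbK_eq : @Fa.tbK = @Gp.tb := by
  delta Fa.tbK
  rw [Fa.tbLK_eq]
  rfl

theorem Fa.evkK_eq : @Fa.evkK = @Gp.evk := by
  delta Fa.evkK
  rw [Fa.tbK_eq, Fa.cj0K_eq, Fa.byK_eq]
  rfl

theorem Fa.evK_eq : @Fa.evK = @Gp.ev := by
  delta Fa.evK
  rw [Fa.evkK_eq]
  rfl

theorem Fa.der1K_eq : @Fa.der1K = @Gp.der1 := by
  delta Fa.der1K
  rw [Fa.mkPK_eq, Fa.evK_eq]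
  rfl

theorem Fa.derK_eq : @Fa.derK = @Gp.der := by
  delta Fa.derK
  rw [Fa.der1K_eq]
  rfl

theorem Fa.good0K_eq : @Fa.good0K = @Gp.good0 := by
  delta Fa.good0K
  rw [Fa.autOKK_eq, Fa.derK_eq, Fa.autK_eq]
  rfl

theorem Fa.goodK_eq : @Fa.goodK = @Gp.good := by
  delta Fa.goodK
  rw [Fa.good0K_eq]
  rfl

theorem Fa.gamK_eq : @Fa.gamK = @Gp.gam := by
  delta Fa.gamK
  rw [Fa.cj0K_eq, Fa.byK_eq, Fa.autK_eq]
  funext g x w a
  rw [Fa.nzR]
  rfl

theorem Fa.stNK_eq : @Fa.stNK = @Gp.stN := by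
  delta Fa.stNK
  rw [Fa.goodK_eq, Fa.memK_eq, Fa.gamK_eq, Fa.mK_eq, Fa.iK_eq]
  rfl

theorem Fa.stCK_eq : @Fa.stCK = @Gp.stC := by
  delta Fa.stCK
  rw [Fa.stNK_eq, Fa.memK_eq, Fa.gamK_eq, Fa.mK_eq, Fa.iK_eq, Fa.byK_eq]
  rfl

theorem Fa.dynK_eq : @Fa.dynK = @Gp.dyn := by
  delta Fa.dynK
  rw [Fa.stCK_eq, Fa.gamK_eq, Fa.cj0K_eq, Fa.byK_eq]
  rfl

theorem Fa.sym1K_eq : @Fa.sym1K = @Gp.sym1 := by
  delta Fa.sym1K
  rw [Fa.cj0K_eq, Fa.byK_eq, Fa.gamK_eq, Fa.dynK_eq]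
  funext g cx t st x M y w
  refine (Fa.nzR _ _ _).trans ?_
  delta Gp.sym1
  show iF (nz (lk M y)) _ _ = _
  cases nz (lk M y) <;> rfl

theorem Fa.symsK_eq : @Fa.symsK = @Gp.syms := by
  delta Fa.symsK
  rw [Fa.sym1K_eq, Fa.byK_eq]
  funext g cx t st x gv sy M k
  delta Gp.syms
  simp only [frc_eq]
  rfl

theorem Fa.fltK_eq : @Fa.fltK = @Gp.flt := by
  delta Fa.fltK
  rw [Fa.memK_eq, Fa.qK_eq, Fa.cjK_eq, Fa.twK_eq]
  rfl

theorem Fa.covK_eq : @Fa.covK = @Gp.cov := by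
  delta Fa.covK
  rw [Fa.nzmK_eq, Fa.fltK_eq]
  rfl

theorem Fa.blk0K_eq : @Fa.blk0K = @Gp.blk0 := by
  delta Fa.blk0K
  rw [Fa.memK_eq]
  rfl

theorem Fa.blkK_eq : @Fa.blkK = @Gp.blk := by
  delta Fa.blkK
  rw [Fa.blk0K_eq]
  rfl

theorem Fa.cos0K_eq : @Fa.cos0K = @Gp.cos0 := by
  delta Fa.cos0K
  rfl

theorem Fa.cosBK_eq : @Fa.cosBK = @Gp.cosB := by
  delta Fa.cosBK
  rw [Fa.memK_eq]
  rfl

theorem Fa.cosK_eq : @Fa.cosK = @Gp.cos := by
  delta Fa.cosK
  rw [Fa.blkK_eq, Fa.iK_eq, Fa.cosBK_eq, Fa.cos0K_eq]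
  rfl

theorem Fa.covTK_eq : @Fa.covTK = @Gp.covT := by
  delta Fa.covTK
  rw [Fa.cosK_eq]
  rfl

theorem Fa.lfCfK_eq : @Fa.lfCfK = @Gp.lfCf := by
  delta Fa.lfCfK
  rw [Fa.mK_eq, Fa.cjK_eq]
  funext g cx t φ ψ md a b
  refine (Fa.nzR _ _ _).trans ?_
  rw [Fa.nzR]
  rfl

theorem Fa.oddK_eq : @Fa.oddK = @Gp.odd := by
  delta Fa.oddK
  rw [Fa.nzmK_eq, Fa.byK_eq, Fa.twK_eq]
  rfl

theorem Fa.lfOdK_eq : @Fa.lfOdK = @Gp.lfOd := by
  delta Fa.lfOdK
  rw [Fa.okNK_eq, Fa.oddK_eq, Fa.cjK_eq, Fa.mskK_eq]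
  rfl

theorem Fa.selOd_eq (g : Gp) (cx : Cx) (r s u xs : ℕ) :
    Fa.selOdK g cx r s u xs = ⟨fun _ φ ψ => g.lfOd cx φ ψ r s u xs⟩ := by
  delta Fa.selOdK
  rw [Fa.lfOdK_eq]
  obtain ⟨nx, P, ntg, fv, t0, ph, ex, cu⟩ := cx
  cases ex
  · rcases r with _ | r
    · rcases s with _ | s
      · rcases u with _ | _ | u
        · rfl
        · refine congrArg PLift.up ?_
          funext _ φ _
          exact Fa.nzR _ _ _
        · rfl
      · rfl
    · rfl
  · rfl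

theorem Fa.sel_eq (g : Gp) (cx : Cx) (d : ℕ) : Fa.selK g cx d = ⟨fun t φ ψ => g.lfK cx t φ ψ d⟩ := by
  have e : Fa.selK g cx d = @Bool.rec (fun _ => PLift (ℕ → (ℕ → ℕ) → (ℕ → ℕ) → Bool))
    (Fa.selOdK g cx (Fa.byK g d 1) (Fa.byK g d 2) (lk d 3) (Nat.shiftRight d 64))
    (PLift.up fun t φ ψ => Fa.lfCfK g cx t φ ψ (lk d 0) (lk d 1) (lk d 2)) (Nat.ble (lk d 0) 2) := rfl
  rw [e, Fa.selOd_eq, Fa.lfCfK_eq, Fa.byK_eq]
  delta Gp.lfK
  cases Nat.ble (lk d 0) 2 <;> rfl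

theorem Fa.lfKK_eq : @Fa.lfKK = @Gp.lfK := by
  delta Fa.lfKK
  funext g cx t φ ψ d
  rw [Fa.sel_eq]

theorem Fa.extK_eq : @Fa.extK = @Gp.ext := by
  delta Fa.extK
  rw [Fa.mK_eq, Fa.iK_eq]
  funext g φ x y a
  refine (Fa.sucR _ _).trans ?_
  rw [Fa.sucF, Fa.nzR]
  delta Gp.ext
  cases φ a <;> cases a <;> rfl

theorem Fa.extT_eq (g : Gp) (T x y : ℕ) : Fa.extTK g T x y = g.ext (lk T) x y := by
  rw [← Fa.extK_eq]
  delta Fa.extTK Fa.extK
  rw [Fa.mK_eq]
  rfl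

theorem Fa.kilK_eq : @Fa.kilK = @Gp.kil := by
  delta Fa.kilK
  rw [Fa.extK_eq, Fa.cjK_eq]
  funext g cx t st x y fl d
  rw [Fa.sel_eq, Fa.nzR, Fa.nzR, Fa.extT_eq, Fa.extT_eq]
  rfl

theorem Fa.clAK_eq : @Fa.clAK = @Gp.clA := by
  delta Fa.clAK
  rw [Fa.clsK_eq, Fa.mskK_eq]
  rfl

theorem Fa.clInK_eq : @Fa.clInK = @Gp.clIn := by
  delta Fa.clInK
  rw [Fa.clAK_eq, Fa.mskK_eq]
  rfl

theorem Fa.imInK_eq : @Fa.imInK = @Gp.imIn := by
  delta Fa.imInK
  rw [Fa.memK_eq, Fa.clInK_eq]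
  rfl

theorem Fa.lfMcK_eq : @Fa.lfMcK = @Gp.lfMc := by
  delta Fa.lfMcK
  rw [Fa.mkSK_eq, Fa.memK_eq, Fa.imInK_eq, Fa.mK_eq, Fa.iK_eq, Fa.clInK_eq, Fa.clAK_eq, Fa.mskK_eq]
  rfl

theorem Fa.sqSK_eq : @Fa.sqSK = @Gp.sqS := by
  delta Fa.sqSK
  rw [Fa.qK_eq, Fa.byK_eq]
  funext g w
  exact (Fa.adSD_eq g Fa.dg0 _ _).1.symm

theorem Fa.urSK_eq : @Fa.urSK = @Gp.urS := by
  delta Fa.urSK
  rw [Fa.memK_eq, Fa.imInK_eq, Fa.cmK_eq, Fa.mK_eq, Fa.iK_eq]
  rfl

theorem Fa.urD_eq (g : Gp) (cx : Cx) (st : PM) : ∀ (fu : ℕ) (K : PM) (ch : ℕ), Fa.Dg K →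
    Fa.urDK g cx st fu K ch = g.urG cx st fu K ch
  | 0, _, _, _ => rfl
  | fu + 1, K, ch, hK => by
    have e1 : g.urG cx st (fu + 1) K ch = iF (nz ch)
      (an (g.urS cx st K (g.adS K (g.by' (Nat.shiftRight ch 16)) (Nat.land ch 15)) (Nat.land (Nat.shiftRight ch 4) 15)
          (g.by' ch 1))
        (g.urG cx st fu (g.adS K (g.by' (Nat.shiftRight ch 16)) (Nat.land ch 15))
          (Nat.shiftRight ch (Nat.shiftLeft (Nat.succ (Nat.land ch 15)) 4))))
      (allP cx.P.gs fun a _ => mem K a) := rfl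
    have e2 : Fa.urDK g cx st (fu + 1) K ch = @Nat.rec (fun _ => Bool) (allP cx.P.gs fun a _ => Fa.memK K a) (fun _ _ =>
      (an (Fa.urSK g cx st K (Fa.adSDK g K (Fa.byK g (Nat.shiftRight ch 16)) (Nat.land ch 15))
          (Nat.land (Nat.shiftRight ch 4) 15) (Fa.byK g ch 1))
        (Fa.urDK g cx st fu (Fa.adSDK g K (Fa.byK g (Nat.shiftRight ch 16)) (Nat.land ch 15))
          (Nat.shiftRight ch (Nat.shiftLeft (Nat.succ (Nat.land ch 15)) 4))))) ch := rfl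
    obtain ⟨h1, h2⟩ := Fa.adSD_eq g hK (g.by' (Nat.shiftRight ch 16)) (Nat.land ch 15)
    rw [e1, e2, Fa.nzR, Fa.memK_eq, Fa.urSK_eq, Fa.byK_eq, Fa.urD_eq g cx st fu _ _ h2, h1]

theorem Fa.phOKK_eq : @Fa.phOKK = @Gp.phOK := by
  delta Fa.phOKK
  rw [Fa.memK_eq, Fa.byK_eq]
  rfl

theorem Fa.lfUrK_eq : @Fa.lfUrK = @Gp.lfUr := by
  delta Fa.lfUrK
  rw [Fa.sqSK_eq, Fa.phOKK_eq]
  funext g cx st ch
  have h := Fa.adSD_eq g Fa.dg0 (fun i => g.q (g.by' cx.ph i)) (len1 cx.ph)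
  have h2 := h.2
  rw [← h.1] at h2
  rw [Fa.urD_eq g cx st _ (g.sqS cx.ph) _ h2]
  rfl

theorem Fa.psiK_eq : @Fa.psiK = @Gp.psi := by
  delta Fa.psiK
  rw [Fa.adK_eq]
  rfl

theorem Fa.v1cK_eq : @Fa.v1cK = @Gp.v1c := by
  delta Fa.v1cK
  rw [Fa.indK_eq, Fa.cjK_eq, Fa.nzmK_eq]
  funext g T K φ
  simp only [Fa.twR]
  rfl

theorem Fa.lfV1K_eq : @Fa.lfV1K = @Gp.lfV1 := by
  delta Fa.lfV1K
  rw [Fa.v1cK_eq, Fa.psiK_eq, Fa.evK_eq, Fa.fullK_eq, Fa.nrmzK_eq]
  funext g cx st T K w k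
  delta Gp.lfV1
  rcases k with _ | _ | k <;> rfl

theorem Fa.lfInK_eq : @Fa.lfInK = @Gp.lfIn := by
  delta Fa.lfInK
  rw [Fa.evK_eq]
  rfl

theorem Fa.lfRefK_eq : @Fa.lfRefK = @Gp.lfRef := by
  delta Fa.lfRefK
  rw [Fa.autOKK_eq, Fa.derK_eq, Fa.autK_eq]
  rfl

theorem Fa.lfCutK_eq : @Fa.lfCutK = @Gp.lfCut := by
  delta Fa.lfCutK
  rw [Fa.mkPK_eq]
  rfl

theorem Fa.nxtK_eq : @Fa.nxtK = @Gp.nxt := by
  delta Fa.nxtK
  rw [Fa.adFK_eq, Fa.cjK_eq]
  funext g t st x y fl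
  rw [Fa.nzR]
  rfl

theorem Fa.goK_eq : @Fa.goK = @Gp.go := by
  delta Fa.goK
  rw [Fa.adK_eq, Fa.qK_eq, Fa.nxtK_eq, Fa.covK_eq, Fa.symsK_eq, Fa.covTK_eq, Fa.kilK_eq, Fa.lfKK_eq, Fa.lfMcK_eq, Fa.lfUrK_eq, Fa.lfV1K_eq, Fa.mkSK_eq, Fa.lfInK_eq, Fa.lfRefK_eq, Fa.lfCutK_eq]
  funext g cx c
  simp only [Fa.nzR]
  rfl

theorem Fa.fvDK_eq : @Fa.fvDK = @Gp.fvD := by
  delta Fa.fvDK
  rw [Fa.fvtK_eq, Fa.mkSK_eq]
  rfl

theorem Fa.ntDK_eq : @Fa.ntDK = @Gp.ntD := by
  delta Fa.ntDK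
  rw [Fa.mskK_eq, Fa.mkSK_eq]
  rfl

theorem Fa.cxPK_eq : @Fa.cxPK = @Gp.cxP := by
  delta Fa.cxPK
  rw [Fa.mkSK_eq, Fa.ntDK_eq, Fa.fvDK_eq, Fa.byK_eq]
  rfl

theorem Fa.srchK_eq : @Fa.srchK = @Gp.srch := by
  delta Fa.srchK
  rw [Fa.okNK_eq, Fa.mkSK_eq, Fa.byK_eq, Fa.goK_eq, Fa.cxPK_eq]
  rfl

theorem Fa.symPK_eq : @Fa.symPK = @Gp.symP := by
  delta Fa.symPK
  rw [Fa.stNK_eq, Fa.mkSK_eq, Fa.memK_eq, Fa.gamK_eq, Fa.mskK_eq]
  rfl

theorem Fa.covPK_eq : @Fa.covPK = @Gp.covP := by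
  delta Fa.covPK
  rw [Fa.symPK_eq, Fa.srchK_eq]
  rfl

theorem Fa.cmSK_eq : @Fa.cmSK = @Gp.cmS := by
  delta Fa.cmSK
  rw [Fa.adSK_eq, Fa.cmK_eq, Fa.byK_eq]
  rfl

theorem Fa.nxOfK_eq : @Fa.nxOfK = @Gp.nxOf := by
  delta Fa.nxOfK
  rw [Fa.cmSK_eq, Fa.mkSK_eq, Fa.byK_eq]
  rfl

theorem Fa.nxEK_eq : @Fa.nxEK = @Gp.nxE := by
  delta Fa.nxEK
  rw [Fa.mkSK_eq]
  rfl

theorem Fa.cxEK_eq : @Fa.cxEK = @Gp.cxE := by
  delta Fa.cxEK
  rw [Fa.mkSK_eq]
  rfl

theorem Fa.extOKK_eq : @Fa.extOKK = @Gp.extOK := by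
  delta Fa.extOKK
  rw [Fa.memK_eq, Fa.indK_eq, Fa.cjK_eq, Fa.twK_eq]
  rfl

theorem Fa.extCK_eq : @Fa.extCK = @Gp.extC := by
  delta Fa.extCK
  rw [Fa.extOKK_eq, Fa.mkSK_eq, Fa.mkPK_eq, Fa.derK_eq, Fa.goK_eq, Fa.cxEK_eq]
  rfl

theorem Fa.nNK_eq : @Fa.nNK = @Gp.nN := by
  delta Fa.nNK
  rw [Fa.memK_eq, Fa.cjK_eq]
  rfl

theorem Fa.clMK_eq : @Fa.clMK = @clM := by
  delta Fa.clMK
  rw [Fa.memK_eq]
  rfl

theorem Fa.clsOKK_eq : @Fa.clsOKK = @Gp.clsOK := by
  delta Fa.clsOKK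
  rw [Fa.nNK_eq, Fa.mskK_eq, Fa.memK_eq, Fa.cjK_eq, Fa.clMK_eq, Fa.mkPK_eq]
  rfl

theorem Fa.kdOKK_eq : @Fa.kdOKK = @Gp.kdOK := by
  delta Fa.kdOKK
  rw [Fa.nrmK_eq, Fa.mkPK_eq, Fa.cmsK_eq, Fa.memK_eq, Fa.byK_eq, Fa.mskK_eq, Fa.cosK_eq, Fa.mK_eq, Fa.iK_eq, Fa.qK_eq, Fa.fullK_eq]
  rfl

theorem Fa.node1K_eq : @Fa.node1K = @Gp.node1 := by
  delta Fa.node1K
  rw [Fa.nrmK_eq, Fa.mkSK_eq, Fa.extCK_eq, Fa.clsOKK_eq, Fa.nxEK_eq, Fa.kdOKK_eq, Fa.goK_eq, Fa.cxPK_eq, Fa.covPK_eq]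
  rfl

theorem Fa.nodeK_eq : @Fa.nodeK = @Gp.node := by
  delta Fa.nodeK
  rw [Fa.fullK_eq, Fa.mkSK_eq, Fa.node1K_eq, Fa.nxOfK_eq]
  rfl

theorem Fa.nodesK_eq : @Fa.nodesK = @Gp.nodes := by
  delta Fa.nodesK
  rw [Fa.nodeK_eq]
  rfl

theorem Fa.tgeK_eq : @Fa.tgeK = @Gp.tge := by
  delta Fa.tgeK
  rw [Fa.mskK_eq, Fa.mkSK_eq]
  rfl

theorem Fa.lev1K_eq : @Fa.lev1K = @Gp.lev1 := by
  delta Fa.lev1K
  rw [Fa.nzmK_eq, Fa.cjK_eq, Fa.iK_eq, Fa.tgeK_eq]
  rfl

theorem Fa.lev0K_eq : @Fa.lev0K = @Gp.lev0 := by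
  delta Fa.lev0K
  rw [Fa.lev1K_eq]
  rfl

theorem Fa.levK_eq : @Fa.levK = @Gp.lev := by
  delta Fa.levK
  rw [Fa.lev0K_eq]
  rfl

theorem Fa.alvK_eq : @Fa.alvK = @Gp.alv := by
  delta Fa.alvK
  rw [Fa.levK_eq, Fa.covPK_eq]
  rfl

/-- the data shared by the nodes of a group -/
structure Gh where
  n : ℕ
  R : ℕ
  I : ℕ
  Xs : List (List ℕ)
  AL : List Ds
  dT : Ds
  pf : Bool

/-- the candidates -/
noncomputable def Gh.alv (c : Gh) (DL : List Ds) (C pool : ℕ) (ps : Ct) : Bool :=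
  mkG c.n c.R c.I fun g => an g.ok (Fa.alvK g c.AL DL (fun _ _ _ => false) C pool ps)

/-- some nodes -/
noncomputable def Gh.nodes (c : Gh) (l : List Nd) (cuts : List (List ℕ)) : Bool :=
  mkG c.n c.R c.I fun g => Fa.nodesK g c.pf c.Xs c.AL c.dT l cuts

/-- a group without systems, one node -/
noncomputable def Gh.one (c : Gh) (DL : List Ds) (C pool : ℕ) (ps : Ct) (nd : Nd) : Bool :=
  mkG c.n c.R c.I fun g => an g.ok (an (Fa.alvK g c.AL DL (fun _ _ _ => false) C pool ps)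
    (an (List.beq nd.L []) (Fa.nodeK g c.pf [] c.AL c.dT (fun _ _ _ => false) [] nd)))

end Cfsg.Agent.FS.NB
end

-- part: FS/N/B/Fd
section
/-!
# The certificate checker of part B for S5288: the verdicts on the types (definitions)
-/

set_option autoImplicit false

namespace Cfsg.Agent.FS.NB

open Cfsg Cfsg.FusionSystem Cfsg.Agent.FS.Pc Cfsg.Agent.FS.Sw

/-- the hypothesis of the engine -/
structure Hy {A : Type} [Group A] (pf : Bool) (F : N.Sys A) : Prop extends N.Hy0 F where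
  pf : pf = true → N.hyp F = ⊤

/-- the claim on a group -/
def ClF (n R : ℕ) (pf : Bool) (L : List N.Ent) : Prop := N.ClC n R (fun _ _ F => pf = true → N.hyp F = ⊤) L

/-- The verdict on a type.  `T ≠ 0`: decomposable, with the pair `T`, `R` and one conjugating element per map in `ss`.
`T = 0`: the entry `j`, with the generators `w`, the kernel `S` of the parity and `r` outside; the types `ts` of the entry;
the program `pr` of the invariant table. -/
structure Vd where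
  T : ℕ
  R : ℕ
  ss : ℕ
  j : ℕ
  w : ℕ
  S : ℕ
  r : ℕ
  ts : List ℕ
  pr : ℕ

def vd0 : Vd := ⟨0, 0, 0, 0, 0, 0, 0, [], 0⟩

def en0 : N.Ent × ℕ := (⟨⟨0, 0, 0, 0, 0, []⟩, 0, 0⟩, 0)

noncomputable def anyP (l : PL) (p : ℕ → ℕ → Bool) : Bool := PL.rec false (fun a b _ ih => orr (p a b) ih) l

noncomputable def anyL {α : Type} (L : List α) (p : α → Bool) : Bool := List.rec false (fun a _ ih => orr (p a) ih) L

noncomputable def anyN (n : ℕ) (p : ℕ → Bool) : Bool := Nat.rec false (fun i ih => orr (p i) ih) n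

/-- the table of the parities of the numbers below `2 ^ n` -/
noncomputable def parT (n : ℕ) : ℕ :=
  Nat.rec 0 (fun i X => Nat.add X (Nat.shiftLeft (Nat.xor (ones 16 i) X) (Nat.shiftLeft 16 i))) n

namespace Gp

variable (g : Gp)

/-- the subgroup generated by `T` and `R` -/
noncomputable def jn (T R : PM) : PM := PL.rec T (fun a _ _ ih => g.ad ih a a) R.gs

/-- `s` conjugates the generators of `T` into `R` -/
noncomputable def cjI (s : ℕ) (T R : PM) : Bool := allP T.gs fun a _ => mem R (g.cj s a)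

noncomputable def pairOK (S T R : PM) : Bool :=
  an (nz T.tab) (an (nz R.tab) (an (Nat.beq (Nat.land (g.msk T) (g.msk R)) 1)
    (an (allP T.gs fun a _ => allP R.gs fun b _ => Nat.beq (g.m a b) (g.m b a))
      (allP S.gs fun s _ => orr (an (g.cjI s T T) (g.cjI s R R)) (an (g.cjI s T R) (g.cjI s R T))))))

noncomputable def dec0 (T R U : PM) (a c : ℕ) : Bool :=
  an (mem U (g.m (g.i a) c)) (an (iF (mem T a) (mem T c) (nt (mem T c))) (iF (mem R a) (mem R c) (nt (mem R c))))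

noncomputable def decL (T R U : PM) (L : List ℕ) : ℕ → Bool :=
  List.rec (fun _ => true) (fun s _ ih ss =>
    an (allP (g.mkP s).el fun a b => frc (g.cj0 (g.by' ss 0) b) (g.dec0 T R U a)) (ih (Nat.shiftRight ss 16))) L

/-- the maps of the list respect the pair -/
noncomputable def vdD (S : PM) (L : List ℕ) (v : Vd) : Bool :=
  an (g.pairOK S (g.mkS v.T) (g.mkS v.R)) (g.decL (g.mkS v.T) (g.mkS v.R) (g.jn (g.mkS v.T) (g.mkS v.R)) L v.ss)

/-- the subgroup generated by the elements `a⁻¹ b` for the generating pairs of the maps -/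
noncomputable def foc (L : List ℕ) : PM :=
  List.rec s0 (fun s _ ih => PL.rec ih (fun a b _ K => frc (g.m (g.i a) b) fun c => g.ad K c c) (g.mkP s).gs) L

/-- `K` is the kernel of the parity `lam` and the maps of the list are trivial modulo `K` -/
noncomputable def ker (pa : ℕ) (S K : PM) (L : List ℕ) (D : Real.PcD) (lam w r : ℕ) : Bool :=
  an (nt (mem K r)) (an (Nat.beq (Nat.lor (g.msk K) (g.cos K r)) g.O) (an (g.nrm S K) (an (g.cms S K)
    (an (allL L fun s => allP (g.mkP s).gs fun a b => mem K (g.m (g.i a) b))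
      (allN g.N fun a => Nat.beq (lk pa (Nat.land a lam)) (iF (mem K (Asm.imgT g.m 0 (lk w) D.n a)) 0 1))))))

/-- the sum of the entries of `V` on the mask `X` -/
def sm (V X : ℕ) : ℕ := Nat.mod (Nat.land V (Nat.mul X 65535)) 65535

/-- no automorphism maps the elements `a⁻¹ b` of the maps of the list into the subgroup of index two with the sum `c` -/
noncomputable def exc (pa V c : ℕ) (L : List ℕ) : Bool :=
  allN g.N fun mu => orr (anyL L fun s => anyP (g.mkP s).gs fun a b => nz (lk pa (Nat.land (g.m (g.i a) b) mu)))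
    (orr (anyN g.n fun k => orr (nz (lk pa (Nat.land (g.q (Nat.shiftLeft 1 k)) mu)))
        (anyN k fun j => nz (lk pa (Nat.land (g.cm (Nat.shiftLeft 1 k) (Nat.shiftLeft 1 j)) mu))))
      (ne (sm V (vec g.N fun a => Nat.xor 1 (lk pa (Nat.land a mu)))) c))

/-- the type belongs to an entry and the other types do not -/
noncomputable def vdE (pf : Bool) (pa : ℕ) (S : PM) (Xs : List (List ℕ)) (E : List (N.Ent × ℕ)) (vs : List Vd)
    (L : List ℕ) (v : Vd) (p : N.Ent × ℕ) : Bool :=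
  an (Nat.blt v.j E.length) (an (Nat.beq p.1.D.N g.N) (an (Asm.chkT p.1.D g.m 0 (lk v.w)) (an (Nat.beq v.ts.length p.2)
    (iF (nz p.1.lam)
      (an (nt pf) (an (g.ker pa S (g.mkS v.S) L p.1.D p.1.lam v.w (g.by' v.r 0))
        (frc (g.fvt S v.pr) fun V => frc (sm V (g.msk (g.mkS v.S))) fun c => allN Xs.length fun t =>
          orr (anyL v.ts (Nat.beq t)) (orr (nz (nth vd0 vs t).T) (g.exc pa V c (nth [] Xs t))))))
      (an (orr pf (g.full (g.foc L))) (allN Xs.length fun t =>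
        orr (anyL v.ts (Nat.beq t)) (orr (nz (nth vd0 vs t).T) (nz (nth en0 E (nth vd0 vs t).j).1.lam))))))))

/-- all types -/
noncomputable def vds (pf : Bool) (S : PM) (Xs : List (List ℕ)) (E : List (N.Ent × ℕ)) (vs : List Vd) : Bool :=
  an (g.full S) (frc (parT g.n) fun pa => allN Xs.length fun t => iF (nz (nth vd0 vs t).T)
    (g.vdD S (nth [] Xs t) (nth vd0 vs t))
    (g.vdE pf pa S Xs E vs (nth [] Xs t) (nth vd0 vs t) (nth en0 E (nth vd0 vs t).j)))

end Gp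

/-- the last node has no known maps and the verdicts hold -/
noncomputable def Gh.finR (c : Gh) (cuts : List (List ℕ)) (E : List (N.Ent × ℕ)) (vs : List Vd) : Bool :=
  an (List.beq (nth [1] cuts 0) []) (mkG c.n c.R c.I fun g => g.vds c.pf (g.mkS c.dT.P) c.Xs E vs)

end Cfsg.Agent.FS.NB
end

-- part: FS/N/B/Sp
section
/-!
# The certificate checker of part B for S5288 (port of FS/B to cells of 16 bits): specifications
-/

set_option autoImplicit false

namespace Cfsg.Agent.FS.NB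

open Cfsg Cfsg.FusionSystem Cfsg.Agent.H752 Cfsg.Agent.FS.Th Cfsg.Agent.FS.Pc Cfsg.Agent.FS.Sw Cfsg.Agent.FS.B
open Asm (En)

/-- the pairs as a list -/
noncomputable def PL.ls (l : PL) : List (ℕ × ℕ) := PL.rec [] (fun a b _ ih => (a, b) :: ih) l

theorem PL.ls_cons (a b : ℕ) (l : PL) : (PL.cons a b l).ls = (a, b) :: l.ls := rfl

def gw (r : ℕ) : ℕ := Nat.shiftLeft 16 r

def gS' (n : ℕ) : ℕ := Nat.shiftLeft (Nat.shiftLeft 1 n) 4

noncomputable def gF (n r R : ℕ) : ℕ :=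
  tbF R r (gw r) (msk (gw r)) (msk r) (gS' n) (msk (gS' n)) (Nat.shiftLeft (gS' n) 4) (msk (Nat.shiftLeft (gS' n) 4))
    (Nat.sub n r)

noncomputable def gP (n r : ℕ) : ℕ := Nat.land (idv n) (Nat.mul (msk r) (ones 16 n))

noncomputable def gE (n r X : ℕ) : ℕ := Nat.xor (Nat.mul X (ones 16 r)) (rp2 (gP n r) (gS' n) (Nat.sub n r))

noncomputable def gr (n r E : ℕ) : ℕ → ℕ :=
  rowp E (gS' n) (msk (gS' n)) (Nat.shiftLeft (gS' n) 4) (msk (Nat.shiftLeft (gS' n) 4)) r (msk r) (ones 16 n)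
    (Nat.land E (msk (gS' n)))

noncomputable def gq (n r R I : ℕ) : Gp :=
  ⟨n, Nat.shiftLeft 1 n, Nat.pred (Nat.shiftLeft 1 n), R, gr n r (gE n r (gF n r R)),
    gr n r (gE n r (trE (Nat.add 4 r) (Nat.sub n r) (gF n r R))),
    Nat.xor (Nat.mul (Nat.land I (Nat.mul (Nat.pred (Nat.shiftLeft 1 n)) (ones (gw r) (Nat.sub n r)))) (ones 16 r)) (gP n r),
    Nat.mul (sqv (gr n r (gE n r (gF n r R))) r (Nat.shiftLeft 1 (Nat.sub n r))) (ones 16 r),
    idv n, ones 16 n, Nat.mul 32767 (ones 16 n)⟩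

/-- the tables computed by `mkG` -/
noncomputable def gp (n R I : ℕ) : Gp := gq n (tlr n R) R I

theorem frr_eq {α : Type} (x : ℕ) (f : ℕ → α) : frr x f = f x := rfl

theorem mkG_eq (n R I : ℕ) (k : Gp → Bool) : mkG n R I k = k (gp n R I) := by
  simp only [mkG, frr_eq]
  rfl

/-- the tables are right -/
structure Gp.K (g : Gp) : Prop where
  n9 : g.n ≤ 9
  hN : g.N = 2 ^ g.n
  hmk : g.mk' = g.N - 1
  hO : g.O = ones 16 g.n
  hL : g.L = 32767 * g.O
  r_lt : ∀ a, g.r a < 2 ^ (16 * g.N)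
  c_lt : ∀ a, g.c a < 2 ^ (16 * g.N)
  c_eq : ∀ a, a < g.N → ∀ b, b < g.N → lk (g.c a) b = g.m b a
  sq_lt : g.sq < 2 ^ (16 * g.N)
  sq_eq : ∀ a, a < g.N → g.q a = g.m a a
  id_lt : g.id < 2 ^ (16 * g.N)
  id_eq : ∀ a, a < g.N → lk g.id a = a
  m_lt : ∀ a, a < g.N → ∀ b, b < g.N → g.m a b < g.N
  m_eq : ∀ a, a < g.N → ∀ b, b < g.N → g.m a b = mulT 0 g.n 16 (tab 0 g.n 16 g.R) a b
  m_zero : g.m 0 0 = 0
  i_lt : ∀ a, a < g.N → g.i a < g.N
  m_i : ∀ a, a < g.N → g.m a (g.i a) = 0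
  rel_pw : ∀ k, k < g.n → lk g.R (tri k k) < 2 ^ k
  rel_cj : ∀ k, k < g.n → ∀ j, j < k → lk g.R (tri k j) >>> j = 1
  pc : ∀ (A : Type) [Group A] (e : ℕ → A), En g.m g.N e →
    IsPc (fun i => e (2 ^ i)) 0 g.n 16 g.R ∧ ∀ a, a < g.N → e a = el (fun i => e (2 ^ i)) g.n a

section

variable {A : Type} [Group A]

/-- an injective homomorphism on `D` -/
structure Hm (D : Subgroup A) (φ : A → A) : Prop where
  mul : ∀ x ∈ D, ∀ y ∈ D, φ (x * y) = φ x * φ y
  inj : ∀ x ∈ D, ∀ y ∈ D, φ x = φ y → x = y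

theorem hm_id (D : Subgroup A) : Hm D fun x => x := ⟨fun _ _ _ _ => rfl, fun _ _ _ _ h => h⟩

theorem hm_of_mp {F : FusionSystem (⊤ : Subgroup A)} {D : Subgroup A} {φ : A → A} (h : Mp F D φ) : Hm D φ :=
  ⟨fun _ hx _ hy => h.mul hx hy, fun _ hx _ hy => h.inj hx hy⟩

/-- the first entries -/
def gS (e : ℕ → A) (l : PL) : Set A := {x | ∃ p ∈ l.ls, x = e p.1}

/-- the domain of a partial map -/
def dom (e : ℕ → A) (s : PM) : Subgroup A := Subgroup.closure (gS e s.gs)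

/-- `φ` is defined on the first entries and has the values of the list -/
def Gens (e : ℕ → A) (φ : A → A) (D : Subgroup A) (l : PL) : Prop := ∀ p ∈ l.ls, e p.1 ∈ D ∧ φ (e p.1) = e p.2

/-- the graph and the tables of `s` are those of `φ` on the domain -/
structure Val (g : Gp) (e : ℕ → A) (φ : A → A) (s : PM) : Prop where
  hm : Hm (dom e s) φ
  el : ∀ p ∈ s.el.ls, e p.1 ∈ dom e s ∧ φ (e p.1) = e p.2 ∧ lk s.tab p.1 = p.2 ∧ lk s.itab p.2 = p.1
  cov : ∀ a, a < g.N → e a ∈ dom e s → ∃ b, (a, b) ∈ s.el.ls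
  tab : ∀ a, lk s.tab a ≠ 0 → (a, lk s.tab a) ∈ s.el.ls
  itab : ∀ b, lk s.itab b ≠ 0 → (lk s.itab b, b) ∈ s.el.ls

end

/-- a partial map built by the checker -/
structure WF (g : Gp) (s : PM) : Prop where
  gs : ∀ p ∈ s.gs.ls, p.1 < g.N ∧ p.2 < g.N
  el : ∀ p ∈ s.el.ls, p.1 < g.N ∧ p.2 < g.N
  val : ∀ (A : Type) [Group A] (e : ℕ → A) (φ : A → A) (D : Subgroup A), En g.m g.N e → Hm D φ → Gens e φ D s.gs →
    Val g e φ s

/-- a subgroup built by the checker -/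
structure WS (g : Gp) (s : PM) : Prop extends WF g s where
  dg : ∀ p ∈ s.gs.ls, p.2 = p.1

section

variable {A : Type} [Group A]

/-- the nonzero values of `φ` are values of `f` on `Q` -/
def Lk (g : Gp) (e : ℕ → A) (Q : Subgroup A) (f : A → A) (φ : ℕ → ℕ) : Prop :=
  ∀ a, φ a ≠ 0 → a < g.N ∧ φ a < g.N ∧ e a ∈ Q ∧ f (e a) = e (φ a)

/-- the nonzero values of `ψ` are values of the inverse of `f` -/
def Li (g : Gp) (e : ℕ → A) (Q : Subgroup A) (f : A → A) (ψ : ℕ → ℕ) : Prop :=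
  ∀ b, ψ b ≠ 0 → b < g.N ∧ ψ b < g.N ∧ e (ψ b) ∈ Q ∧ f (e (ψ b)) = e b

/-- the table `V` is invariant under `f` -/
def Inv (g : Gp) (e : ℕ → A) (Q : Subgroup A) (f : A → A) (V : ℕ) : Prop :=
  ∀ a, a < g.N → ∀ b, b < g.N → e a ∈ Q → f (e a) = e b → lk V a = lk V b

/-- the system has a map with the property `M` which is given by the generators of `s` -/
def HM (F : FusionSystem (⊤ : Subgroup A)) (M : Subgroup A → (A → A) → Prop) (e : ℕ → A) (s : PM) : Prop :=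
  ∃ f, Mp F (dom e s) f ∧ M (dom e s) f ∧ Gens e f (dom e s) s.gs

/-- all maps of the list -/
def HL (g : Gp) (F : FusionSystem (⊤ : Subgroup A)) (M : Subgroup A → (A → A) → Prop) (e : ℕ → A) (L : List ℕ) : Prop :=
  ∀ s ∈ L, HM F M e (g.mkP s)

/-- every essential subgroup is conjugate to a member of the list -/
def Alive (g : Gp) (F : FusionSystem (⊤ : Subgroup A)) (CA : List Ds) : Prop :=
  ∀ e : ℕ → A, En g.m g.N e → ∀ Q, F.IsEssential 2 Q → ∃ d ∈ CA, ∃ h, h < g.N ∧ dom (fun a => e (g.cj h a)) (g.mkS d.P) = Q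

end

end Cfsg.Agent.FS.NB
end

-- part: FS/N/B/Bas0
section
/-!
# The checker of part B: Booleans, bytes, tables of the group
-/

set_option autoImplicit false

namespace Cfsg.Agent.FS.NB

open Cfsg Cfsg.FusionSystem Cfsg.Agent.H752 Cfsg.Agent.FS.Th Cfsg.Agent.FS.Pc Cfsg.Agent.FS.Sw Cfsg.Agent.FS.B
open Asm (En)

/-! ### Booleans -/

theorem iF_true {α : Type} (t e : α) : iF true t e = t := rfl

theorem iF_false {α : Type} (t e : α) : iF false t e = e := rfl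

theorem iF_pos {α : Type} {b : Bool} (h : b = true) (t e : α) : iF b t e = t := by rw [h]; rfl

theorem iF_neg {α : Type} {b : Bool} (h : ¬ b = true) (t e : α) : iF b t e = e := by
  rw [Bool.eq_false_iff.2 h]; rfl

theorem an_iff {a b : Bool} : an a b = true ↔ a = true ∧ b = true := by cases a <;> cases b <;> simp [an]

theorem orr_iff {a b : Bool} : orr a b = true ↔ a = true ∨ b = true := by cases a <;> cases b <;> simp [orr]

theorem nt_iff {a : Bool} : nt a = true ↔ ¬ a = true := by cases a <;> simp [nt]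

theorem beq_iff {a b : ℕ} : Nat.beq a b = true ↔ a = b := Nat.beq_eq ▸ Iff.rfl

theorem ble_iff {a b : ℕ} : Nat.ble a b = true ↔ a ≤ b := Nat.ble_eq ▸ Iff.rfl

theorem blt_iff {a b : ℕ} : Nat.blt a b = true ↔ a < b := Nat.blt_eq ▸ Iff.rfl

theorem ne_iff {a b : ℕ} : ne a b = true ↔ a ≠ b := by
  unfold ne
  rw [Ne, ← beq_iff]
  cases Nat.beq a b <;> simp

theorem nz_iff {a : ℕ} : nz a = true ↔ a ≠ 0 := ble_iff.trans Nat.one_le_iff_ne_zero

theorem iF_iff {b t e : Bool} : iF b t e = true ↔ (b = true ∧ t = true) ∨ (¬ b = true ∧ e = true) := by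
  cases b <;> simp [iF]

theorem allN_iff {n : ℕ} {p : ℕ → Bool} : allN n p = true ↔ ∀ i, i < n → p i = true := by
  induction n with
  | zero => exact ⟨fun _ i hi => absurd hi (Nat.not_lt_zero i), fun _ => rfl⟩
  | succ n ih =>
    rw [show allN (n + 1) p = an (p n) (allN n p) from rfl, an_iff, ih]
    exact ⟨fun h i hi => (Nat.lt_succ_iff_lt_or_eq.1 hi).elim (h.2 i) fun h1 => h1 ▸ h.1,
      fun h => ⟨h n (Nat.lt_succ_self n), fun i hi => h i (Nat.lt_succ_of_lt hi)⟩⟩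

theorem allL_iff {α : Type} {L : List α} {p : α → Bool} : allL L p = true ↔ ∀ a ∈ L, p a = true := by
  induction L with
  | nil => exact ⟨fun _ a ha => absurd ha List.not_mem_nil, fun _ => rfl⟩
  | cons a L ih => rw [show allL (a :: L) p = an (p a) (allL L p) from rfl, an_iff, ih, List.forall_mem_cons]

theorem allP_iff {l : PL} {p : ℕ → ℕ → Bool} : allP l p = true ↔ ∀ q ∈ l.ls, p q.1 q.2 = true := by
  induction l with
  | nil => exact ⟨fun _ a ha => absurd ha List.not_mem_nil, fun _ => rfl⟩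
  | cons a b l ih =>
    rw [show allP (.cons a b l) p = an (p a b) (allP l p) from rfl, an_iff, ih, PL.ls_cons, List.forall_mem_cons]

theorem nth_mem {α : Type} (d : α) {L : List α} {i : ℕ} (h : i < L.length) : nth d L i ∈ L := by
  induction L generalizing i with
  | nil => exact absurd h (Nat.not_lt_zero i)
  | cons a L ih =>
    cases i with
    | zero => exact List.mem_cons_self
    | succ i => exact List.mem_cons_of_mem a (ih (Nat.lt_of_succ_lt_succ h))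

theorem nth_or {α : Type} (d : α) (L : List α) (i : ℕ) : nth d L i ∈ L ∨ nth d L i = d := by
  induction L generalizing i with
  | nil => exact Or.inr rfl
  | cons a L ih =>
    cases i with
    | zero => exact Or.inl List.mem_cons_self
    | succ i => exact (ih i).imp_left (List.mem_cons_of_mem a)

theorem lbeq_eq {L L' : List ℕ} (h : List.beq L L' = true) : L = L' := by
  exact eq_of_beq (a := L) (b := L') h

theorem itr_succ (q : ℕ → ℕ) (u a : ℕ) : itr q (u + 1) a = q (itr q u a) := rfl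

/-! ### bytes -/

theorem lk_eq (V i : ℕ) : lk V i = get 16 V i := by
  unfold lk Pc.get
  rw [nland, nshr, shl_eq, Nat.mul_comm, show 65535 = 2 ^ 16 - 1 from rfl, Nat.and_two_pow_sub_one_eq_mod]
  rfl

theorem lk_lt (V i : ℕ) : lk V i < 65536 := by
  rw [lk_eq]
  exact get_lt 16 V i

theorem lk_zero (i : ℕ) : lk 0 i = 0 := by
  rw [lk_eq]
  exact get_eq_zero_of_lt (m := 0) Nat.one_pos (Nat.zero_le i)

theorem lk_lor (V W i : ℕ) : lk (Nat.lor V W) i = lk V i ||| lk W i := by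
  rw [lk_eq, lk_eq, lk_eq, nlor, get_lor]

theorem lk_land (V W i : ℕ) : lk (Nat.land V W) i = lk V i &&& lk W i := by
  rw [lk_eq, lk_eq, lk_eq, nland, get_land]

theorem lk_xor (V W i : ℕ) : lk (Nat.xor V W) i = lk V i ^^^ lk W i := by
  rw [lk_eq, lk_eq, lk_eq, nxor, get_xor]

theorem lk_lor_eq_zero {V W i : ℕ} : lk (Nat.lor V W) i = 0 ↔ lk V i = 0 ∧ lk W i = 0 := by
  rw [lk_lor, Nat.or_eq_zero_iff]

theorem lk_xor_eq_zero {V W i : ℕ} : lk (Nat.xor V W) i = 0 ↔ lk V i = lk W i := by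
  rw [lk_xor, Nat.xor_eq_zero_iff]

theorem lk_pt {v : ℕ} (hv : v < 65536) (i j : ℕ) : lk (pt v i) j = if j = i then v else 0 := by
  rw [lk_eq]
  refine Nat.eq_of_testBit_eq fun k => ?_
  unfold pt
  rw [testBit_get, nshl, shl_eq i, Nat.testBit_shiftLeft]
  by_cases hk : k < 16
  · rcases lt_trichotomy j i with h | rfl | h
    · rw [if_neg h.ne, decide_eq_false (show ¬ 16 * j + k ≥ i * 2 ^ 4 by omega), Nat.zero_testBit, Bool.false_and,
        Bool.and_false]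
    · rw [if_pos rfl, decide_eq_true hk, decide_eq_true (show 16 * j + k ≥ j * 2 ^ 4 by omega),
        show 16 * j + k - j * 2 ^ 4 = k by omega, Bool.true_and, Bool.true_and]
    · rw [if_neg h.ne', Nat.zero_testBit, Nat.testBit_lt_two_pow
        (hv.trans_le (Nat.pow_le_pow_right (n := 2) (by norm_num) (show 16 ≤ 16 * j + k - i * 2 ^ 4 by omega))),
        Bool.and_false, Bool.and_false]
  · rw [decide_eq_false hk, Bool.false_and]
    split_ifs
    · exact (Nat.testBit_lt_two_pow (hv.trans_le (Nat.pow_le_pow_right (n := 2) (by norm_num) (not_lt.1 hk)))).symm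
    · exact (Nat.zero_testBit k).symm

theorem lk_one (j : ℕ) : lk 1 j = if j = 0 then 1 else 0 := by
  exact lk_pt (v := 1) (by norm_num) 0 j

theorem lk_of_lt {V N i : ℕ} (h : V < 2 ^ (16 * N)) (hi : N ≤ i) : lk V i = 0 := by
  rw [lk_eq]
  exact get_eq_zero_of_lt h hi

theorem eq_of_lk {V W N : ℕ} (h1 : V < 2 ^ (16 * N)) (h2 : W < 2 ^ (16 * N)) (h : ∀ i, i < N → lk V i = lk W i) : V = W := by
  refine Nat.eq_of_testBit_eq fun p => ?_
  rw [testBit_eq_get (w := 16) (by norm_num) V, testBit_eq_get (w := 16) (by norm_num) W, ← lk_eq, ← lk_eq]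
  by_cases hp : p / 16 < N
  · rw [h _ hp]
  · rw [lk_of_lt h1 (not_lt.1 hp), lk_of_lt h2 (not_lt.1 hp)]

theorem lk_foN_eq_zero {n : ℕ} {φ : ℕ → ℕ} {s : ℕ} : lk (foN n φ) s = 0 ↔ ∀ i, i < n → lk (φ i) s = 0 := by
  induction n with
  | zero => exact ⟨fun _ i hi => absurd hi (Nat.not_lt_zero i), fun _ => lk_zero s⟩
  | succ n ih =>
    rw [show foN (n + 1) φ = Nat.lor (φ n) (foN n φ) from rfl, lk_lor_eq_zero, ih]
    exact ⟨fun h i hi => (Nat.lt_succ_iff_lt_or_eq.1 hi).elim (h.2 i) fun h1 => h1 ▸ h.1,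
      fun h => ⟨h n (Nat.lt_succ_self n), fun i hi => h i (Nat.lt_succ_of_lt hi)⟩⟩

theorem lk_foN_single {n : ℕ} {φ : ℕ → ℕ} {s j : ℕ} (hj : j < n) (h : ∀ i, i < n → i ≠ j → lk (φ i) s = 0) :
    lk (foN n φ) s = lk (φ j) s := by
  induction n with
  | zero => exact absurd hj (Nat.not_lt_zero j)
  | succ n ih =>
    rw [show foN (n + 1) φ = Nat.lor (φ n) (foN n φ) from rfl, lk_lor]
    rcases Nat.lt_succ_iff_lt_or_eq.1 hj with h1 | rfl
    · rw [h n (Nat.lt_succ_self n) h1.ne', ih h1 fun i hi => h i (Nat.lt_succ_of_lt hi), Nat.zero_or]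
    · rw [lk_foN_eq_zero.2 fun i hi => h i (Nat.lt_succ_of_lt hi) hi.ne, Nat.or_zero]

theorem rn1_eq (l : PL) (V mu : ℕ) (φ : ℕ → ℕ) : rn1 l V mu φ =
    foP l fun a _ => pt (Nat.succ (Nat.mod (Nat.add (Nat.mul (lk V a) mu) (φ a)) 65521)) a := by
  cases V with
  | zero =>
    simp only [lk_zero, nmul, Nat.zero_mul, nadd, Nat.zero_add]
    rfl
  | succ V => rfl

theorem Gp.rnd_eq (g : Gp) (P : PM) (V op c mu : ℕ) : g.rnd P V op c mu =
    foP P.el fun a _ => pt (Nat.succ (Nat.mod (Nat.add (Nat.mul (lk V a) mu) (g.sta (g.msk P) V op c a)) 65521)) a := by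
  unfold Gp.rnd Gp.sta
  simp only [frr_eq, rn1_eq]
  cases nz op
  · rfl
  · cases Nat.beq op 1 <;> rfl

theorem lk_foP_eq_zero {l : PL} {φ : ℕ → ℕ → ℕ} {s : ℕ} : lk (foP l φ) s = 0 ↔ ∀ p ∈ l.ls, lk (φ p.1 p.2) s = 0 := by
  induction l with
  | nil => exact ⟨fun _ a ha => absurd ha List.not_mem_nil, fun _ => lk_zero s⟩
  | cons a b l ih =>
    rw [show foP (.cons a b l) φ = Nat.lor (φ a b) (foP l φ) from rfl, lk_lor_eq_zero, ih, PL.ls_cons,
      List.forall_mem_cons]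

/-- the mask of the values of `γ` -/
theorem lk_foP_pt (l : PL) (γ : ℕ → ℕ) (s : ℕ) [Decidable (∃ p ∈ l.ls, γ p.1 = s)] :
    lk (foP l fun a _ => pt 1 (γ a)) s = if ∃ p ∈ l.ls, γ p.1 = s then 1 else 0 := by
  classical
  have h1 : ∀ l : PL, lk (foP l fun a _ => pt 1 (γ a)) s = if ∃ p ∈ l.ls, γ p.1 = s then 1 else 0 := fun l => by
    induction l with
    | nil => rw [if_neg fun ⟨_, h, _⟩ => absurd h List.not_mem_nil]; exact lk_zero s
    | cons a b l ih =>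
      rw [show (foP (.cons a b l) fun a _ => pt 1 (γ a)) = Nat.lor (pt 1 (γ a)) (foP l fun a _ => pt 1 (γ a)) from rfl,
        lk_lor, ih, lk_pt (by norm_num), PL.ls_cons]
      by_cases h2 : s = γ a
      · rw [if_pos h2, if_pos (show ∃ p ∈ (a, b) :: l.ls, γ p.1 = s from ⟨(a, b), List.mem_cons_self, h2.symm⟩)]
        split_ifs <;> rfl
      · rw [if_neg h2, Nat.zero_or]
        refine if_congr ⟨fun ⟨p, h3, h4⟩ => ⟨p, List.mem_cons_of_mem _ h3, h4⟩, fun ⟨p, h3, h4⟩ => ?_⟩ rfl rfl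
        rcases List.mem_cons.1 h3 with rfl | h3
        · exact absurd h4.symm h2
        · exact ⟨p, h3, h4⟩
  rw [h1 l]
  congr

theorem mem_iff' {s : PM} {a : ℕ} : mem s a = true ↔ lk s.tab a ≠ 0 ∨ a = 0 := by
  unfold mem
  rw [orr_iff, nz_iff, beq_iff]

/-! ### the tables -/

theorem foN_lt {n M : ℕ} {φ : ℕ → ℕ} (h : ∀ i, i < n → φ i < 2 ^ M) : foN n φ < 2 ^ M := by
  induction n with
  | zero => exact Nat.two_pow_pos M
  | succ n ih => exact Nat.or_lt_two_pow (h n (Nat.lt_succ_self n)) (ih fun i hi => h i (Nat.lt_succ_of_lt hi))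

theorem vec_lt (N : ℕ) {φ : ℕ → ℕ} (h : ∀ a, a < N → φ a < 65536) : vec N φ < 2 ^ (16 * N) :=
  foN_lt fun a ha => by
    unfold pt
    rw [shl_eq, shl_eq]
    calc φ a * 2 ^ (a * 2 ^ 4) < 2 ^ 16 * 2 ^ (a * 2 ^ 4) := Nat.mul_lt_mul_of_pos_right (h a ha) (Nat.two_pow_pos _)
      _ ≤ _ := by rw [← pow_add]; exact Nat.pow_le_pow_right (by norm_num) (by omega)

theorem lk_vec (N : ℕ) {φ : ℕ → ℕ} (h : ∀ a, a < N → φ a < 65536) {a : ℕ} (ha : a < N) : lk (vec N φ) a = φ a := by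
  induction N with
  | zero => exact absurd ha (Nat.not_lt_zero a)
  | succ N ih =>
    have h1 := fun i hi => h i (Nat.lt_succ_of_lt hi)
    rw [show vec (N + 1) φ = Nat.lor (pt (φ N) N) (vec N φ) from rfl, lk_lor, lk_pt (h N (Nat.lt_succ_self N))]
    rcases Nat.lt_succ_iff_lt_or_eq.1 ha with h2 | rfl
    · rw [if_neg h2.ne, ih h1 h2, Nat.zero_or]
    · rw [if_pos rfl, lk_of_lt (vec_lt _ h1) le_rfl, Nat.or_zero]

theorem rp2_eq (x w : ℕ) : ∀ k, rp2 x w k = x * ones w k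
  | 0 => (Nat.mul_one x).symm
  | k + 1 => by
    have h : rp2 x w (k + 1) = Nat.add (rp2 x w k) (Nat.shiftLeft (rp2 x w k) (Nat.shiftLeft w k)) := rfl
    rw [h, rp2_eq x w k, shl_eq w, mul_ones_succ]
    rfl

theorem row4_eq (T s a : ℕ) :
    Nat.land (row4 T s (Nat.shiftLeft s 4) (msk (Nat.shiftLeft s 4)) a) (msk s) = Pc.get s T a := by
  have h1 : Nat.land a 15 = a % 16 := Nat.and_two_pow_sub_one_eq_mod a 4
  have h2 : Nat.shiftRight a 4 = a / 16 := Nat.shiftRight_eq_div_pow a 4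
  have h3 := get_get s 16 T (a / 16) (Nat.mod_lt a (by norm_num : 0 < 16))
  rw [Nat.div_add_mod] at h3
  unfold row4 row
  rw [frc_eq, land_msk, land_msk, h1, h2, shl_eq, ← h3]
  rfl

theorem ry_eq (T S r O : ℕ) : ry T S (msk S) (Nat.shiftLeft S 4) (msk (Nat.shiftLeft S 4)) r (msk r) O =
    fun y => Pc.get S T (y >>> r) ^^^ y % 2 ^ r * O := by
  funext y
  unfold ry
  rw [row4_eq, land_msk]
  rfl

theorem gS'_eq (n : ℕ) : gS' n = 16 * 2 ^ n := by
  unfold gS'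
  rw [one_shl, shl_eq]
  exact Nat.mul_comm _ _

theorem gw_eq (r : ℕ) : gw r = 16 * 2 ^ r := shl_eq 16 r

theorem gr_eq (n r E a : ℕ) : gr n r E a = Pc.get (16 * 2 ^ n) E (a >>> r) ^^^ a % 2 ^ r * ones 16 n := by
  rw [← gS'_eq]
  cases a with
  | zero =>
    rw [Nat.zero_mod, Nat.zero_mul, Nat.xor_zero, Nat.zero_shiftRight]
    exact land_msk E _
  | succ k => exact congrFun (ry_eq E (gS' n) r (ones 16 n)) (k + 1)

theorem get_mul {w c : ℕ} : ∀ (i X : ℕ), (∀ j, j ≤ i → Pc.get w X j * c < 2 ^ w) → Pc.get w (X * c) i = Pc.get w X i * c := by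
  have h0 : ∀ X : ℕ, X * c = Pc.get w X 0 * c + ((X >>> w) * c) <<< (w * 1) := fun X => by
    conv_lhs => rw [eq_low_add w X]
    rw [Nat.shiftLeft_eq, Nat.mul_one]
    ring
  intro i
  induction i with
  | zero =>
    intro X h
    rw [h0 X, get_cat_lo _ (by rw [Nat.mul_one]; exact h 0 le_rfl) Nat.one_pos, get_zero_of_lt (h 0 le_rfl)]
  | succ i ih =>
    intro X h
    rw [h0 X, Nat.add_comm i 1, get_cat_hi _ (by rw [Nat.mul_one]; exact h 0 (Nat.zero_le _)),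
      ih _ fun j hj => by rw [get_shiftRight]; exact h _ (Nat.succ_le_succ hj), get_shiftRight, Nat.add_comm i 1]

theorem lt_of_get {w m Y : ℕ} (hw : 0 < w) (h : ∀ j, m ≤ j → Pc.get w Y j = 0) : Y < 2 ^ (w * m) :=
  lt_of_testBit fun p hp => by
    rw [testBit_eq_get hw, h _ ((Nat.le_div_iff_mul_le hw).2 (by rwa [Nat.mul_comm])), Nat.zero_testBit]

theorem split_r (r b : ℕ) : b = 2 ^ r * (b >>> r) + b % 2 ^ r := by
  rw [Nat.shiftRight_eq_div_pow, Nat.div_add_mod]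

/-- each entry is repeated `2 ^ r` times -/
theorem get_mul_Q {r X j : ℕ} (h : ∀ i, i ≤ j >>> r → Pc.get (16 * 2 ^ r) X i < 2 ^ 16) :
    Pc.get 16 (X * ones 16 r) j = Pc.get (16 * 2 ^ r) X (j >>> r) := by
  have h1 : j % 2 ^ r < 2 ^ r := Nat.mod_lt _ (Nat.two_pow_pos r)
  conv_lhs => rw [split_r r j]
  rw [← get_get 16 _ _ _ h1, get_mul _ _ fun i hi => mul_ones_lt (h i hi) r, get_mul_ones (h _ le_rfl) r h1]

theorem mul_Q_lt {r m X : ℕ} (hX : X < 2 ^ (16 * 2 ^ r * m)) (h : ∀ i, Pc.get (16 * 2 ^ r) X i < 2 ^ 16) :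
    X * ones 16 r < 2 ^ (16 * 2 ^ r * m) :=
  lt_of_get (by positivity) fun j hj => by
    rw [get_mul _ _ fun i _ => mul_ones_lt (h i) r, get_eq_zero_of_lt hX hj, Nat.zero_mul]

theorem get_shl_lo {w m : ℕ} (B : ℕ) {i : ℕ} (hi : i < m) : Pc.get w (B <<< (w * m)) i = 0 := by
  have h := get_cat_lo (w := w) (m := m) (A := 0) B (Nat.two_pow_pos _) hi
  rwa [Nat.zero_add, get_eq_zero_of_lt (m := 0) (Nat.two_pow_pos _) (Nat.zero_le _)] at h

theorem get_shl_hi {w m : ℕ} (B i : ℕ) : Pc.get w (B <<< (w * m)) (m + i) = Pc.get w B i := by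
  have h := get_cat_hi (w := w) (m := m) (A := 0) B (Nat.two_pow_pos _) i
  rwa [Nat.zero_add] at h

theorem shl_lt {B s t : ℕ} (h : B < 2 ^ t) : B <<< s < 2 ^ (s + t) := by
  have h1 := cat_lt (A := 0) (s := s) (Nat.two_pow_pos _) h
  rwa [Nat.zero_add] at h1

theorem idv_spec : ∀ n, n ≤ 16 → idv n < 2 ^ (16 * 2 ^ n) ∧ ∀ a, a < 2 ^ n → Pc.get 16 (idv n) a = a
  | 0, _ => ⟨Nat.two_pow_pos _, fun a ha => by rw [Nat.lt_one_iff.1 ha]; rfl⟩
  | n + 1, hn => by
    obtain ⟨h1, h2⟩ := idv_spec n (by omega)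
    have h3 : 2 ^ n < 2 ^ 16 := Nat.pow_lt_pow_right (by norm_num) hn
    have h : idv (n + 1) = idv n + (idv n ^^^ 2 ^ n * ones 16 n) <<< (16 * 2 ^ n) := by
      rw [Nat.mul_comm (2 ^ n), ← shl_eq, ← shl_eq 16]
      rfl
    rw [h]
    refine ⟨?_, fun a ha => ?_⟩
    · rw [Nat.pow_succ, Nat.mul_two, Nat.mul_add]
      exact cat_lt h1 (xor_lt h1 (mul_ones_lt h3 n))
    · by_cases h4 : a < 2 ^ n
      · rw [get_cat_lo _ h1 h4, h2 a h4]
      · obtain ⟨b, rfl⟩ := Nat.exists_eq_add_of_le (not_lt.1 h4)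
        have h5 : b < 2 ^ n := by rw [Nat.pow_succ] at ha; omega
        rw [get_cat_hi _ h1, get_xor, h2 b h5, get_mul_ones h3 n h5, two_pow_add_eq_xor h5]

theorem gP_spec {n r : ℕ} (hn : n ≤ 16) (hr : r ≤ 16) :
    gP n r < 2 ^ (16 * 2 ^ n) ∧ ∀ a, a < 2 ^ n → Pc.get 16 (gP n r) a = a % 2 ^ r := by
  obtain ⟨h1, h2⟩ := idv_spec n hn
  have h3 : msk r < 2 ^ 16 := by
    rw [msk_eq]
    exact (Nat.sub_lt (Nat.two_pow_pos r) Nat.one_pos).trans_le (Nat.pow_le_pow_right (by norm_num) hr)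
  refine ⟨Nat.and_le_left.trans_lt h1, fun a ha => ?_⟩
  show Pc.get 16 (idv n &&& msk r * ones 16 n) a = _
  rw [get_land, h2 a ha, get_mul_ones h3 n ha]
  exact land_msk a r

/-- the entries of a row -/
theorem lk_gr {r u X a b : ℕ} (hn : r + u ≤ 16) (hX : ∀ j, j < 2 ^ u * 2 ^ u → Pc.get (16 * 2 ^ r) X j < 2 ^ 16)
    (ha : a < 2 ^ (r + u)) (hb : b < 2 ^ (r + u)) :
    lk (gr (r + u) r (gE (r + u) r X) a) b = mulT r u (16 * 2 ^ r) X a b := by
  have h1 := shiftRight_lt ha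
  have h2 := shiftRight_lt hb
  have h3 : a % 2 ^ r < 2 ^ 16 :=
    (Nat.mod_lt _ (Nat.two_pow_pos r)).trans_le (Nat.pow_le_pow_right (by norm_num) (by omega))
  obtain ⟨p1, p2⟩ := gP_spec hn (show r ≤ 16 by omega)
  have h4 : (2 ^ (r + u) * (a >>> r) + b) >>> r = 2 ^ u * (a >>> r) + b >>> r := by
    rw [Nat.shiftRight_eq_div_pow (_ + _), Nat.shiftRight_eq_div_pow b, Nat.pow_add, Nat.mul_assoc,
      Nat.mul_add_div (Nat.two_pow_pos r)]
  have h5 : 2 ^ u * (a >>> r) + b >>> r < 2 ^ u * 2 ^ u :=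
    (show _ < 2 ^ u * (a >>> r + 1) by rw [Nat.mul_succ]; omega).trans_le (Nat.mul_le_mul_left _ h1)
  have h6 : gE (r + u) r X = X * ones 16 r ^^^ gP (r + u) r * ones (16 * 2 ^ (r + u)) u := by
    unfold gE
    rw [rp2_eq, gS'_eq, nsub, Nat.add_sub_cancel_left]
    rfl
  rw [gr_eq, lk_eq, get_xor, get_mul_ones h3 _ hb, h6, get_xor, get_xor, get_mul_ones p1 u h1, p2 b hb,
    get_get 16 _ _ _ hb, get_mul_Q fun i hi => hX i (by omega), h4, mulT_eq, Nat.xor_mod_two_pow, Nat.xor_assoc,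
    Nat.xor_comm (b % _)]

theorem gr_lt {n r : ℕ} (hr : r ≤ 16) (E a : ℕ) : gr n r E a < 2 ^ (16 * Nat.shiftLeft 1 n) := by
  rw [gr_eq, one_shl]
  exact xor_lt (get_lt _ _ _) (mul_ones_lt
    ((Nat.mod_lt _ (Nat.two_pow_pos r)).trans_le (Nat.pow_le_pow_right (by norm_num) hr)) n)

theorem sqv_spec {ro : ℕ → ℕ} {r : ℕ} : ∀ c, sqv ro r c < 2 ^ (16 * 2 ^ r * c) ∧
    ∀ h, h < c → Pc.get (16 * 2 ^ r) (sqv ro r c) h = lk (ro (h <<< r)) (h <<< r)
  | 0 => ⟨Nat.two_pow_pos _, fun _ h => absurd h (Nat.not_lt_zero _)⟩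
  | c + 1 => by
    obtain ⟨h1, h2⟩ := sqv_spec (ro := ro) (r := r) c
    have h3 : lk (ro (c <<< r)) (c <<< r) < 2 ^ (16 * 2 ^ r) :=
      (lk_lt _ _).trans_le (Nat.pow_le_pow_right (n := 2) (i := 16) (by norm_num) (Nat.le_mul_of_pos_right _ (Nat.two_pow_pos r)))
    have h : sqv ro r (c + 1) = lk (ro (c <<< r)) (c <<< r) <<< (16 * 2 ^ r * c) ||| sqv ro r c := by
      have : 16 * 2 ^ r * c = Nat.shiftLeft (c <<< r) 4 := by
        rw [shl_eq, Nat.shiftLeft_eq]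
        ring
      rw [this]
      rfl
    rw [h]
    refine ⟨Nat.or_lt_two_pow (by rw [Nat.mul_succ]; exact shl_lt h3)
      (h1.trans_le (Nat.pow_le_pow_right (by norm_num) (Nat.mul_le_mul_left _ (Nat.le_succ c)))), fun j hj => ?_⟩
    rw [get_lor]
    rcases Nat.lt_succ_iff_lt_or_eq.1 hj with h4 | rfl
    · rw [get_shl_lo _ h4, h2 j h4, Nat.zero_or]
    · have h5 := get_shl_hi (w := 16 * 2 ^ r) (m := j) (lk (ro (j <<< r)) (j <<< r)) 0
      rw [Nat.add_zero, get_zero_of_lt h3] at h5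
      rw [h5, get_eq_zero_of_lt h1 le_rfl, Nat.or_zero]

theorem sw1_eq {m j l : ℕ} (hjl : j < l) (hl : l < m) (X : ℕ) :
    sw1 X (swm m j l) (Nat.sub (Nat.shiftLeft 1 l) (Nat.shiftLeft 1 j)) = swp m j l X := by
  have h : swm m j l = Nat.xor (bm m j) (Nat.land (bm m j) (bm m l)) := by
    have h1 : swm m j l = bm l j * ones (2 * 2 ^ l) (m - (l + 1)) := by
      unfold swm bm
      rw [rp2_eq, rp2_eq, rep_eq, shl_eq 2 l]
      rfl
    have h2 : bm l j < 2 ^ (2 * 2 ^ l) := lt_of_testBit fun p hp => by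
      rw [testBit_bm hjl, decide_eq_false (by omega), Bool.false_and]
    have h3 : 2 * 2 ^ l * 2 ^ (m - (l + 1)) = 2 ^ m := by
      rw [← Nat.pow_succ', ← Nat.pow_add]
      congr 1
      omega
    refine Nat.eq_of_testBit_eq fun p => ?_
    rw [h1, testBit_mul_ones (by positivity) h2, h3, testBit_bm hjl, nxor, nland, Nat.testBit_xor, Nat.testBit_and,
      testBit_bm (hjl.trans hl), testBit_bm hl, ← Nat.pow_succ', Nat.testBit_mod_two_pow,
      decide_eq_true (hjl.trans (Nat.lt_succ_self l)), Bool.true_and]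
    have h4 : decide (p % 2 ^ (l + 1) < 2 ^ l) = !p.testBit l := by
      have h5 : p.testBit l = (p % 2 ^ (l + 1)).testBit l := by
        rw [Nat.testBit_mod_two_pow, decide_eq_true (Nat.lt_succ_self l), Bool.true_and]
      have h6 : p % 2 ^ (l + 1) < 2 ^ (l + 1) := Nat.mod_lt _ (Nat.two_pow_pos _)
      rw [h5]
      by_cases h7 : p % 2 ^ (l + 1) < 2 ^ l
      · rw [Nat.testBit_lt_two_pow h7, decide_eq_true h7]
        rfl
      · rw [Nat.testBit_of_two_pow_le_and_two_pow_add_one_gt (not_lt.1 h7) h6, decide_eq_false h7]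
        rfl
    rw [show l.succ = l + 1 from rfl, h4]
    cases decide (p < 2 ^ m) <;> cases p.testBit j <;> cases p.testBit l <;> rfl
  unfold swp
  rw [frc_eq, frc_eq, h]
  rfl

theorem prm_trE (e n T : ℕ) : ∀ c, c ≤ n → Prm (n + n + e)
    (fun i => if e ≤ i ∧ i < e + c then i + n else if e + n ≤ i ∧ i < e + n + c then i - n else i) T
    (Nat.rec T (fun i Y => frr (Nat.add i e) fun j => frr (Nat.add j n) fun l =>
      sw1 Y (swm (Nat.add (Nat.add n n) e) j l) (Nat.sub (Nat.shiftLeft 1 l) (Nat.shiftLeft 1 j))) c)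
  | 0, _ => fun p q hp hq h => Prm.refl _ T p q hp hq fun i hi => by
    rw [h i hi]
    simp only []
    rw [if_neg (by omega), if_neg (by omega)]
    rfl
  | c + 1, hc => fun p q hp hq h => by
    have h1 := (prm_trE e n T c (by omega)).trans (prm_swp (m := n + n + e) (j := c + e) (l := c + e + n) (by omega)
      (by omega) _) fun i hi => by split_ifs <;> omega
    refine Eq.trans ?_ (h1 p q hp hq fun i hi => ?_)
    · rw [← sw1_eq (by omega) (by omega)]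
      rfl
    · rw [h i hi]
      unfold sw
      congr 1
      simp only []
      split_ifs <;> omega

theorem get_trE {e n : ℕ} (T : ℕ) {a b : ℕ} (ha : a < 2 ^ n) (hb : b < 2 ^ n) :
    Pc.get (2 ^ e) (trE e n T) (2 ^ n * a + b) = Pc.get (2 ^ e) T (2 ^ n * b + a) := by
  have h0 : ∀ {a b k : ℕ}, a < 2 ^ n → b < 2 ^ n → k < 2 ^ e → 2 ^ e * (2 ^ n * a + b) + k < 2 ^ (n + n + e) :=
    fun {a b k} ha hb hk => by
      have h1 : 2 ^ n * a + b + 1 ≤ 2 ^ n * 2 ^ n :=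
        (show 2 ^ n * a + b + 1 ≤ 2 ^ n * (a + 1) by rw [Nat.mul_succ]; omega).trans (Nat.mul_le_mul_left _ ha)
      have h2 := Nat.mul_le_mul_left (2 ^ e) h1
      rw [pow_add, pow_add, Nat.mul_comm _ (2 ^ e)]
      rw [Nat.mul_succ] at h2
      omega
  refine Nat.eq_of_testBit_eq fun k => ?_
  rw [testBit_get, testBit_get]
  by_cases hk : k < 2 ^ e
  · congr 1
    refine prm_trE e n T n le_rfl _ _ (h0 ha hb hk) (h0 hb ha hk) fun i hi => ?_
    beta_reduce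
    rw [Nat.testBit_two_pow_mul_add (i := e) _ hk, Nat.testBit_two_pow_mul_add (i := e) _ hk,
      Nat.testBit_two_pow_mul_add _ ha, Nat.testBit_two_pow_mul_add _ hb]
    by_cases h1 : i < e
    · rw [if_pos h1, if_neg (show ¬ (e ≤ i ∧ i < e + n) by omega), if_neg (show ¬ (e + n ≤ i ∧ i < e + n + n) by omega),
        if_pos h1]
    · by_cases h2 : i < e + n
      · rw [if_neg h1, if_pos (show e ≤ i ∧ i < e + n by omega), if_pos (show i - e < n by omega),
          if_neg (show ¬ i + n < e by omega), if_neg (show ¬ i + n - e < n by omega), show i + n - e - n = i - e by omega]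
      · rw [if_neg h1, if_neg (show ¬ (e ≤ i ∧ i < e + n) by omega), if_pos (show e + n ≤ i ∧ i < e + n + n by omega),
          if_neg (show ¬ i - e < n by omega), if_neg (show ¬ i - n < e by omega), if_pos (show i - n - e < n by omega),
          show i - n - e = i - e - n by omega]
  · rw [decide_eq_false hk, Bool.false_and, Bool.false_and]

theorem el_pow {G : Type} [Group G] (y : ℕ → G) {k n : ℕ} (hk : k < n) : el y n (2 ^ k) = y k := by
  rw [el_of_lt y (Nat.pow_lt_pow_right (by norm_num) (Nat.lt_succ_self k)) hk, ← Nat.zero_xor (2 ^ k),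
    el_top y (Nat.two_pow_pos k), el_nil, mul_one]

section

variable {G : Type} [Group G] {g : ℕ → G}

/-- `F` is a correct table of level `k` with rows of `S` bits -/
structure FOK (g : ℕ → G) (r k w S F : ℕ) : Prop where
  lt : F < 2 ^ (S * 2 ^ k)
  row : ∀ a, Pc.get S F a < 2 ^ (w * 2 ^ k)
  mul : ∀ a, a < 2 ^ k → ∀ b, b < 2 ^ k → Pc.get w (Pc.get S F a) b < 2 ^ (r + k) ∧
    el g (r + k) (a <<< r) * el g (r + k) (b <<< r) = el g (r + k) (Pc.get w (Pc.get S F a) b)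

theorem trB_spec {ro ch cl : ℕ → ℕ} {mw S s r k : ℕ} {c : G} (hro : ∀ y, ro y <<< s < 2 ^ S)
    (hnx : ∀ i, i < k → ∀ y, y < 2 ^ (r + k) → (ro y >>> ch i &&& mw) ^^^ cl i < 2 ^ (r + k) ∧
      c * el g (r + k) ((ro y >>> ch i &&& mw) ^^^ cl i) * c⁻¹ = c * el g (r + k) y * c⁻¹ * g (r + i)) :
    ∀ j, j ≤ k → ∀ y, y < 2 ^ (r + k) → trB ro ch cl mw S s j y < 2 ^ (S * 2 ^ j) ∧
      ∀ i, i < 2 ^ j → ∃ y', y' < 2 ^ (r + k) ∧
        c * el g (r + k) y' * c⁻¹ = c * el g (r + k) y * c⁻¹ * el (fun i => g (r + i)) j i ∧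
        Pc.get S (trB ro ch cl mw S s j y) i = ro y' <<< s
  | 0, _, y, hy => by
    refine ⟨by rw [Nat.pow_zero, Nat.mul_one]; exact hro y, fun i hi => ⟨y, hy, by rw [el_zero, mul_one], ?_⟩⟩
    rw [Nat.lt_one_iff.1 hi]
    exact get_zero_of_lt (hro y)
  | j + 1, hj, y, hy => by
    obtain ⟨h1, h2⟩ := hnx j hj y hy
    obtain ⟨a1, a2⟩ := trB_spec hro hnx j (by omega) y hy
    obtain ⟨b1, b2⟩ := trB_spec hro hnx j (by omega) _ h1
    have h : trB ro ch cl mw S s (j + 1) y = trB ro ch cl mw S s j y +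
        trB ro ch cl mw S s j ((ro y >>> ch j &&& mw) ^^^ cl j) <<< (S * 2 ^ j) := by
      rw [← shl_eq S]
      rfl
    rw [h]
    refine ⟨?_, fun i hi => ?_⟩
    · rw [Nat.pow_succ, Nat.mul_two (2 ^ j), Nat.mul_add]
      exact cat_lt a1 b1
    · by_cases h3 : i < 2 ^ j
      · obtain ⟨y', c1, c2, c3⟩ := a2 i h3
        refine ⟨y', c1, ?_, ?_⟩
        · rw [c2, el_of_lt _ h3 (Nat.le_succ j)]
        · rw [get_cat_lo _ a1 h3, c3]
      · obtain ⟨i', rfl⟩ := Nat.exists_eq_add_of_le (not_lt.1 h3)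
        have h4 : i' < 2 ^ j := by rw [Nat.pow_succ] at hi; omega
        obtain ⟨y', c1, c2, c3⟩ := b2 i' h4
        refine ⟨y', c1, ?_, ?_⟩
        · rw [c2, h2, two_pow_add_eq_xor h4, el_top _ h4, mul_assoc _ (g (r + j))]
        · rw [get_cat_hi _ a1, c3]

theorem FOK.step {r k w S F R : ℕ} (ht : Tails g r) (h : FOK g r k w S F) (hw : r + k < w) (hS : w * 2 ^ (k + 1) ≤ S)
    (hC : ∀ i, i < k → Pc.get 16 R (tri (r + k) (r + i)) < 2 ^ (r + k) ∧
      g (r + i) * g (r + k) = g (r + k) * el g (r + k) (Pc.get 16 R (tri (r + k) (r + i))))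
    (hp : Pc.get 16 R (tri (r + k) (r + k)) < 2 ^ (r + k) ∧
      g (r + k) * g (r + k) = el g (r + k) (Pc.get 16 R (tri (r + k) (r + k)))) :
    FOK g r (k + 1) w S
      (stF R r w (msk w) (msk r) S (msk S) (Nat.shiftLeft S 4) (msk (Nat.shiftLeft S 4)) k F) := by
  have hlk : ∀ i, lk (Nat.shiftRight R (Nat.shiftLeft (tri (r + k) r) 4)) i = Pc.get 16 R (tri (r + k) (r + i)) :=
    fun i => by
      rw [lk_eq, shl_eq]
      unfold Pc.get tri
      rw [nshr, ← Nat.shiftRight_add]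
      congr 2
      ring
  generalize hC' : Nat.shiftRight R (Nat.shiftLeft (tri (r + k) r) 4) = C at hlk
  generalize hro : (fun y => Pc.get S F (y >>> r) ^^^ y % 2 ^ r * ones w k) = ro
  have e : stF R r w (msk w) (msk r) S (msk S) (Nat.shiftLeft S 4) (msk (Nat.shiftLeft S 4)) k F =
      ((F ^^^ trB ro (chf C r w) (clf C (msk r)) (msk w) S (w * 2 ^ k) k 0) ^^^
        (2 ^ (r + k) * ones w k) <<< (w * 2 ^ k) * ones S k) +
      ((F ^^^ trB ro (chf C r w) (clf C (msk r)) (msk w) S (w * 2 ^ k) k (lk C k)) ^^^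
        2 ^ (r + k) * ones w k * ones S k) <<< (S * 2 ^ k) := by
    unfold stF
    simp only [frr_eq]
    rw [ry_eq, hro, rp2_eq, shl_eq w, shl_eq S k, shl_eq (ones w k), nadd r k, hC', Nat.mul_comm (ones w k),
      Nat.shiftLeft_eq (2 ^ (r + k) * ones w k), Nat.mul_right_comm _ (2 ^ (w * 2 ^ k)), ← shl_eq (_ * ones S k)]
    rfl
  have hss : w * 2 ^ (k + 1) = w * 2 ^ k + w * 2 ^ k := by rw [Nat.pow_succ, Nat.mul_two, Nat.mul_add]
  have hle : ∀ {x : ℕ}, x < 2 ^ (w * 2 ^ k + w * 2 ^ k) → x < 2 ^ S := fun hx =>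
    hx.trans_le (Nat.pow_le_pow_right (by norm_num) (hss ▸ hS))
  have hle' : ∀ {x : ℕ}, x < 2 ^ (w * 2 ^ k) → x < 2 ^ (w * 2 ^ k + w * 2 ^ k) := fun hx =>
    hx.trans_le (Nat.pow_le_pow_right (by norm_num) (Nat.le_add_right _ _))
  have hhi : 2 ^ (r + k) < 2 ^ w := Nat.pow_lt_pow_right (by norm_num) hw
  have hH := mul_ones_lt hhi k
  have hlo : ∀ y, y % 2 ^ r < 2 ^ r := fun y => Nat.mod_lt _ (Nat.two_pow_pos r)
  have hlo' : ∀ y, y % 2 ^ r < 2 ^ (r + k) := fun y =>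
    (hlo y).trans_le (Nat.pow_le_pow_right (by norm_num) (Nat.le_add_right _ _))
  have r1 : ∀ y, ro y < 2 ^ (w * 2 ^ k) := fun y => hro ▸ xor_lt (h.row _) (mul_ones_lt ((hlo' y).trans hhi) k)
  have r2 : ∀ {y b : ℕ}, y < 2 ^ (r + k) → b < 2 ^ k → Pc.get w (ro y) b < 2 ^ (r + k) ∧
      el g (r + k) (Pc.get w (ro y) b) = el g (r + k) y * el g (r + k) (b <<< r) := by
    intro y b hy hb
    obtain ⟨c1, c2⟩ := h.mul _ (shiftRight_lt hy) b hb
    rw [← hro]
    beta_reduce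
    rw [get_xor, get_mul_ones ((hlo' y).trans hhi) k hb]
    refine ⟨xor_lt c1 (hlo' y), ?_⟩
    rw [ht.el_xor k _ (hlo y), ← c2, el_hi_lo g r k y, mul_assoc, mul_assoc, ht.comm _ _ r le_rfl]
  have hnx : ∀ i, i < k → ∀ y, y < 2 ^ (r + k) → (ro y >>> chf C r w i &&& msk w) ^^^ clf C (msk r) i < 2 ^ (r + k) ∧
      g (r + k) * el g (r + k) ((ro y >>> chf C r w i &&& msk w) ^^^ clf C (msk r) i) * (g (r + k))⁻¹ =
        g (r + k) * el g (r + k) y * (g (r + k))⁻¹ * g (r + i) := by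
    intro i hi y hy
    obtain ⟨c1, c2⟩ := hC i hi
    rw [← hlk] at c1 c2
    obtain ⟨d1, d2⟩ := r2 hy (shiftRight_lt c1)
    have e1 : (ro y >>> chf C r w i &&& msk w) = Pc.get w (ro y) (lk C i >>> r) := land_msk _ w
    have e2 : clf C (msk r) i = lk C i % 2 ^ r := land_msk _ r
    rw [e1, e2]
    refine ⟨xor_lt d1 (hlo' _), ?_⟩
    have h6 : g (r + i) = g (r + k) * el g (r + k) (lk C i) * (g (r + k))⁻¹ := by rw [← c2, mul_inv_cancel_right]
    rw [ht.el_xor k _ (hlo _), d2, mul_assoc (el g (r + k) y), ← el_hi_lo, h6]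
    group
  obtain ⟨a1, a2⟩ := trB_spec (fun y => hle (shl_lt (r1 y))) hnx k le_rfl 0 (Nat.two_pow_pos _)
  obtain ⟨b1, b2⟩ := trB_spec (fun y => hle (shl_lt (r1 y))) hnx k le_rfl (lk C k) (by rw [hlk]; exact hp.1)
  have A1 := xor_lt (xor_lt h.lt a1) (mul_ones_lt (hle (shl_lt hH)) k)
  have A2 := xor_lt (xor_lt h.lt b1) (mul_ones_lt (hle (hle' hH)) k)
  have hsplit : ∀ {a : ℕ}, a < 2 ^ (k + 1) → a < 2 ^ k ∨ ∃ a', a' < 2 ^ k ∧ a = 2 ^ k + a' := fun {a} ha => by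
    by_cases h3 : a < 2 ^ k
    · exact Or.inl h3
    · obtain ⟨a', rfl⟩ := Nat.exists_eq_add_of_le (not_lt.1 h3)
      exact Or.inr ⟨a', by rw [Nat.pow_succ] at ha; omega, rfl⟩
  have hlt : ∀ {e : ℕ}, e < 2 ^ (r + k) → e < 2 ^ (r + (k + 1)) := fun he =>
    he.trans_le (Nat.pow_le_pow_right (by norm_num) (by omega))
  have hlt' : ∀ {e : ℕ}, e < 2 ^ (r + k) → e ^^^ 2 ^ (r + k) < 2 ^ (r + (k + 1)) := fun he =>
    xor_lt (hlt he) (Nat.pow_lt_pow_right (by norm_num) (by omega))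
  have hup : ∀ {e : ℕ}, e < 2 ^ (r + k) → el g (r + (k + 1)) e = el g (r + k) e := fun he =>
    el_of_lt g he (by omega)
  have htop : ∀ {e : ℕ}, e < 2 ^ (r + k) → el g (r + (k + 1)) (e ^^^ 2 ^ (r + k)) = g (r + k) * el g (r + k) e :=
    fun he => el_top g he
  have hF := cat_lt A1 A2
  rw [← Nat.mul_add, ← Nat.mul_two, ← Nat.pow_succ] at hF
  rw [e]
  refine ⟨hF, fun a => ?_, fun a0 ha0 b0 hb0 => ?_⟩
  · by_cases ha0 : a < 2 ^ (k + 1)
    · rw [hss]
      rcases hsplit ha0 with ha | ⟨a, ha, rfl⟩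
      · obtain ⟨y, -, -, c3⟩ := a2 a ha
        rw [get_cat_lo _ A1 ha, get_xor, get_xor, c3, get_mul_ones (hle (shl_lt hH)) k ha]
        exact xor_lt (xor_lt (hle' (h.row _)) (shl_lt (r1 y))) (shl_lt hH)
      · obtain ⟨y, -, -, c3⟩ := b2 a ha
        rw [get_cat_hi _ A1, get_xor, get_xor, c3, get_mul_ones (hle (hle' hH)) k ha]
        exact xor_lt (xor_lt (hle' (h.row _)) (shl_lt (r1 y))) (hle' hH)
    · rw [get_eq_zero_of_lt hF (not_lt.1 ha0)]
      exact Nat.two_pow_pos _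
  · rcases hsplit ha0 with ha | ⟨a, ha, rfl⟩
    · obtain ⟨y, c1, c2, c3⟩ := a2 a0 ha
      rw [get_cat_lo _ A1 ha, get_xor S, get_xor S, c3, get_mul_ones (hle (shl_lt hH)) k ha, get_xor, get_xor]
      rw [el_nil, mul_one, mul_inv_cancel, one_mul, ← el_shift] at c2
      rcases hsplit hb0 with hb | ⟨b, hb, rfl⟩
      · obtain ⟨d1, d2⟩ := h.mul a0 ha b0 hb
        rw [get_shl_lo _ hb, get_shl_lo _ hb, Nat.xor_zero, Nat.xor_zero, el_shift_lo g ha, el_shift_lo g hb, hup d1]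
        exact ⟨hlt d1, d2⟩
      · obtain ⟨d1, d2⟩ := r2 c1 hb
        rw [get_shl_hi, get_shl_hi, get_eq_zero_of_lt (h.row _) (Nat.le_add_right _ _), Nat.zero_xor,
          get_mul_ones hhi k hb, el_shift_lo g ha, el_shift_top g hb, htop d1, d2, ← c2]
        exact ⟨hlt' d1, by group⟩
    · obtain ⟨y, c1, c2, c3⟩ := b2 a ha
      rw [get_cat_hi _ A1, get_xor S, get_xor S, c3, get_mul_ones (hle (hle' hH)) k ha, get_xor, get_xor]
      rw [hlk, ← hp.2, ← el_shift] at c2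
      rcases hsplit hb0 with hb | ⟨b, hb, rfl⟩
      · obtain ⟨d1, d2⟩ := h.mul a ha b0 hb
        rw [get_shl_lo _ hb, Nat.xor_zero, get_mul_ones hhi k hb, el_shift_top g ha, el_shift_lo g hb, htop d1,
          mul_assoc, d2]
        exact ⟨hlt' d1, rfl⟩
      · obtain ⟨d1, d2⟩ := r2 c1 hb
        rw [get_shl_hi, get_eq_zero_of_lt (h.row _) (Nat.le_add_right _ _), Nat.zero_xor,
          get_eq_zero_of_lt hH (Nat.le_add_right _ _), Nat.xor_zero, el_shift_top g ha, el_shift_top g hb, hup d1, d2]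
        refine ⟨hlt d1, ?_⟩
        have h5 : el g (r + k) y = (g (r + k))⁻¹ * (g (r + k) * el g (r + k) y * (g (r + k))⁻¹) * g (r + k) := by group
        rw [h5, c2]
        group

theorem tbF_ok {r u w R : ℕ} (ht : Tails g r) (hy : IsPc g 0 (r + u) 16 R) (hw : r + u ≤ w)
    (hR : ∀ k, k < r + u → ∀ j, j ≤ k → Pc.get 16 R (tri k j) < 2 ^ k) :
    ∀ k, k ≤ u → FOK g r k w (w * 2 ^ u) (tbF R r w (msk w) (msk r) (w * 2 ^ u) (msk (w * 2 ^ u))
      (Nat.shiftLeft (w * 2 ^ u) 4) (msk (Nat.shiftLeft (w * 2 ^ u) 4)) k)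
  | 0, _ => by
    have h0 : ∀ w a, Pc.get w 0 a = 0 := fun w a => get_eq_zero_of_lt (m := 0) (Nat.two_pow_pos _) (Nat.zero_le _)
    refine ⟨Nat.two_pow_pos _, fun a => (h0 _ a).trans_lt (Nat.two_pow_pos _), fun a ha b hb => ?_⟩
    show Pc.get w (Pc.get _ 0 a) b < _ ∧ _ = el g _ (Pc.get w (Pc.get _ 0 a) b)
    rw [h0, h0, Nat.lt_one_iff.1 ha, Nat.lt_one_iff.1 hb, Nat.zero_shiftLeft, el_nil, mul_one]
    exact ⟨Nat.two_pow_pos _, rfl⟩
  | k + 1, hk => by
    refine (tbF_ok ht hy hw hR k (by omega)).step ht (by omega)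
      (Nat.mul_le_mul_left _ (Nat.pow_le_pow_right (by norm_num) hk)) (fun i hi => ⟨hR _ (by omega) _ (by omega), ?_⟩)
      ⟨hR _ (by omega) _ le_rfl, ?_⟩
    · have h1 := hy.cj (r + k) (by omega) (r + i) (by omega)
      rwa [Nat.zero_add, Nat.zero_add] at h1
    · have h1 := hy.pw (r + k) (by omega)
      rwa [Nat.zero_add] at h1

theorem tlr_spec (n R : ℕ) : tlr n R ≤ 3 ∧ ∀ i, i < tlr n R → tlc n R i = true := by
  unfold tlr
  cases h0 : tlc n R 0
  · exact ⟨Nat.zero_le _, fun _ h => absurd h (Nat.not_lt_zero _)⟩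
  · cases h1 : tlc n R 1
    · exact ⟨(by decide : 1 ≤ 3), fun i h => by rw [Nat.lt_one_iff.1 h, h0]⟩
    · cases h2 : tlc n R 2
      · refine ⟨by decide, fun i (h : i < 2) => ?_⟩
        interval_cases i <;> assumption
      · refine ⟨by decide, fun i (h : i < 3) => ?_⟩
        interval_cases i <;> assumption

theorem tails_tlr {n R : ℕ} (hy : IsPc g 0 n 16 R) (hs : ∀ x, ∃ a, a < 2 ^ n ∧ x = el g n a) :
    tlr n R ≤ n ∧ Tails g (tlr n R) := by
  have h : ∀ i, i < tlr n R → i < n ∧ g i * g i = 1 ∧ ∀ k, k < n → i < k → g i * g k = g k * g i := fun i hi => by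
    have h1 := (tlr_spec n R).2 i hi
    unfold tlc at h1
    simp only [an_iff, allN_iff, orr_iff, ble_iff, blt_iff, beq_iff, one_shl, lk_eq] at h1
    refine ⟨h1.1, ?_, fun k hk hik => ?_⟩
    · have h2 := hy.pw i h1.1
      rwa [Nat.zero_add, h1.2.1, el_nil] at h2
    · have h2 := hy.cj k hk i hik
      rwa [Nat.zero_add, Nat.zero_add, (h1.2.2 k hk).resolve_left (by omega), el_pow g hik] at h2
  refine ⟨?_, fun i hi => (h i hi).2.1, fun i hi x => ?_⟩
  · by_contra h1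
    exact lt_irrefl _ (h n (not_le.1 h1)).1
  · obtain ⟨a, -, rfl⟩ := hs x
    have h2 : el g n a ∈ Subgroup.centralizer {g i} := el_mem a n fun k hk => by
      rw [Subgroup.mem_centralizer_singleton_iff]
      rcases lt_trichotomy k i with h3 | rfl | h3
      · exact (h k (h3.trans hi)).2.2 i (h i hi).1 h3
      · rfl
      · exact ((h i hi).2.2 k hk h3).symm
    exact (Subgroup.mem_centralizer_singleton_iff.1 h2).symm

end

/-- the tables of a presentation which has a model -/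
theorem gp_K {n R I : ℕ} (hok : (gp n R I).ok = true) {A : Type} [Group A] (hA : Nat.card A = 2 ^ n) {y : ℕ → A}
    (hy : IsPc y 0 n 16 R) (hs : ∀ g, ∃ a, a < 2 ^ n ∧ g = el y n a) :
    (gp n R I).K ∧ En (gp n R I).m (gp n R I).N (el y n) := by
  unfold Gp.ok at hok
  simp only [an_iff, allN_iff, ble_iff, blt_iff, beq_iff, nshr, one_shl, frr_eq] at hok
  obtain ⟨h8, hi, hr⟩ := hok
  replace h8 : n ≤ 9 := h8
  have hN : (gp n R I).N = 2 ^ n := one_shl n
  have hcj : ∀ k, k < n → ∀ j, j < k → Pc.get 16 R (tri k j) < 2 ^ k := fun k hk j hj => by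
    have h1 := (hr k hk).2 j hj
    rw [lk_eq, Nat.shiftRight_eq_div_pow] at h1
    have h2 := Nat.lt_mul_div_succ (Pc.get 16 R (tri k j)) (Nat.two_pow_pos j)
    rw [show Pc.get 16 R (tri k j) / 2 ^ j = 1 from h1] at h2
    exact h2.trans_le (Nat.pow_le_pow_right (n := 2) (by norm_num) (show j + 1 ≤ k from hj))
  have hpw : ∀ k, k < n → Pc.get 16 R (tri k k) < 2 ^ k := fun k hk => lk_eq R _ ▸ (hr k hk).1
  have h256 : 2 ^ n ≤ 65536 := Nat.pow_le_pow_right (n := 2) (by norm_num) (show n ≤ 16 by omega)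
  have main : En (gp n R I).m (2 ^ n) (el y n) ∧
      (∀ a, a < 2 ^ n → ∀ b, b < 2 ^ n → lk ((gp n R I).c a) b = (gp n R I).m b a) ∧
      (gp n R I).sq < 2 ^ (16 * 2 ^ n) ∧ (∀ a, a < 2 ^ n → (gp n R I).q a = (gp n R I).m a a) ∧
      ∀ a, a < 2 ^ n → (gp n R I).i a < 2 ^ n ∧ (gp n R I).m a ((gp n R I).i a) = 0 := by
    obtain ⟨t1, ht⟩ := tails_tlr hy hs
    have hi' : ∀ h, h < 2 ^ n >>> tlr n R → (gp n R I).m (h <<< tlr n R) ((gp n R I).i (h <<< tlr n R)) = 0 :=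
      fun h hh => hi h (hN ▸ hh)
    unfold gp at hi' ⊢
    generalize tlr n R = r at t1 ht hi' ⊢
    obtain ⟨u, rfl⟩ := Nat.exists_eq_add_of_le t1
    have e1 : 16 * 2 ^ (r + u) = 16 * 2 ^ r * 2 ^ u := by rw [Nat.pow_add, Nat.mul_assoc]
    have e2 : 2 ^ (Nat.add 4 r) = 16 * 2 ^ r := Nat.pow_add 2 4 r
    have e3 : Nat.sub (r + u) r = u := Nat.add_sub_cancel_left r u
    have hF : FOK y r u (16 * 2 ^ r) (16 * 2 ^ r * 2 ^ u) (gF (r + u) r R) := by
      unfold gF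
      rw [gw_eq, gS'_eq, e1, e3]
      exact tbF_ok ht hy (by have := Nat.two_pow_pos r; omega)
        (fun k hk j hj => hj.lt_or_eq.elim (hcj k hk j) fun e => e ▸ hpw j (e ▸ hk)) u le_rfl
    generalize hF' : gF (r + u) r R = F at hF
    have hT : TabOK y r u (16 * 2 ^ r) F := fun a ha b hb => by
      rw [← get_get _ _ _ _ hb]
      exact hF.mul a ha b hb
    have hdm : ∀ j, j < 2 ^ u * 2 ^ u → ∃ a, a < 2 ^ u ∧ ∃ b, b < 2 ^ u ∧ j = 2 ^ u * a + b := fun j hj =>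
      ⟨j / 2 ^ u, Nat.div_lt_of_lt_mul hj, j % 2 ^ u, Nat.mod_lt _ (Nat.two_pow_pos u), (Nat.div_add_mod j _).symm⟩
    have htr : ∀ {a b : ℕ}, a < 2 ^ u → b < 2 ^ u → Pc.get (16 * 2 ^ r) (trE (Nat.add 4 r) u F) (2 ^ u * a + b) =
        Pc.get (16 * 2 ^ r) F (2 ^ u * b + a) := fun ha hb => e2 ▸ get_trE F ha hb
    have hm : ∀ a, a < 2 ^ (r + u) → ∀ b, b < 2 ^ (r + u) → (gq (r + u) r R I).m a b = mulT r u (16 * 2 ^ r) F a b :=
      fun a ha b hb => hF' ▸ lk_gr (by omega) (fun j hj => by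
        obtain ⟨a, ha, b, hb, rfl⟩ := hdm j hj
        rw [hF']
        exact (hT a ha b hb).1.trans_le h256) ha hb
    have hlo : ∀ a, a % 2 ^ r < 2 ^ r := fun a => Nat.mod_lt _ (Nat.two_pow_pos r)
    have hsh : ∀ {a : ℕ}, a < 2 ^ (r + u) → (a >>> r) <<< r < 2 ^ (r + u) := fun {a} ha => by
      rw [Nat.shiftLeft_eq, Nat.shiftRight_eq_div_pow]
      exact (Nat.div_mul_le_self _ _).trans_lt ha
    have hs0 : ∀ h : ℕ, h <<< r % 2 ^ r = 0 := fun h => by rw [Nat.shiftLeft_eq, Nat.mul_mod_left]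
    refine ⟨⟨fun a ha b hb => hm a ha b hb ▸ (hT.mul ht ha hb).1, fun a ha b hb => hm a ha b hb ▸ (hT.mul ht ha hb).2.symm,
      fun g => (hs g).imp fun a h => ⟨h.1, h.2.symm⟩, hA⟩, fun a ha b hb => ?_, ?_, fun a ha => ?_, fun a ha => ?_⟩
    · rw [hm b hb a ha]
      refine (lk_gr (X := trE (Nat.add 4 r) (Nat.sub (r + u) r) (gF (r + u) r R)) (by omega) (fun j hj => ?_) ha hb).trans ?_
      · obtain ⟨a, ha, b, hb, rfl⟩ := hdm j hj
        rw [hF', e3, htr ha hb]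
        exact (hT b hb a ha).1.trans_le h256
      · rw [hF', e3, mulT_eq, mulT_eq, htr (shiftRight_lt ha) (shiftRight_lt hb), Nat.xor_comm a]
    · obtain ⟨s1, s2⟩ := sqv_spec (ro := gr (r + u) r (gE (r + u) r (gF (r + u) r R))) (r := r) (2 ^ u)
      show Nat.mul (sqv _ r (Nat.shiftLeft 1 (Nat.sub (r + u) r))) (ones 16 r) < _
      rw [e3, one_shl, e1]
      refine mul_Q_lt s1 fun i => ?_
      by_cases h1 : i < 2 ^ u
      · rw [s2 i h1]
        exact lk_lt _ _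
      · rw [get_eq_zero_of_lt s1 (not_lt.1 h1)]
        exact Nat.two_pow_pos _
    · obtain ⟨s1, s2⟩ := sqv_spec (ro := gr (r + u) r (gE (r + u) r (gF (r + u) r R))) (r := r) (2 ^ u)
      have h1 := shiftRight_lt ha
      show lk (Nat.mul (sqv _ r (Nat.shiftLeft 1 (Nat.sub (r + u) r))) (ones 16 r)) a = _
      rw [e3, one_shl, lk_eq, nmul, get_mul_Q fun i hi => by rw [s2 i (hi.trans_lt h1)]; exact lk_lt _ _, s2 _ h1]
      refine (hm _ (hsh ha) _ (hsh ha)).trans ?_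
      rw [hm a ha a ha, mulT_eq, mulT_eq, Nat.shiftLeft_shiftRight, Nat.xor_self, Nat.xor_self]
    · obtain ⟨p1, p2⟩ := gP_spec (n := r + u) (r := r) (by omega) (by omega)
      have h0 : 2 ^ (r + u) - 1 < 2 ^ (r + u) := Nat.sub_lt (Nat.two_pow_pos _) Nat.one_pos
      have h16 : 2 ^ 16 ≤ 2 ^ (16 * 2 ^ r) :=
        Nat.pow_le_pow_right (by norm_num) (Nat.le_mul_of_pos_right _ (Nat.two_pow_pos r))
      have hJ : ∀ j, j < 2 ^ u → Pc.get (16 * 2 ^ r) (I &&& (2 ^ (r + u) - 1) * ones (16 * 2 ^ r) u) j < 2 ^ (r + u) :=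
        fun j hj => by
          rw [get_land, get_mul_ones ((h0.trans_le h256).trans_le h16) u hj]
          exact Nat.and_le_right.trans_lt h0
      have hiv : ∀ a, a < 2 ^ (r + u) → (gq (r + u) r R I).i a =
          Pc.get (16 * 2 ^ r) (I &&& (2 ^ (r + u) - 1) * ones (16 * 2 ^ r) u) (a >>> r) ^^^ a % 2 ^ r := fun a ha => by
        show lk (Nat.xor (Nat.mul (Nat.land I (Nat.mul (Nat.pred (Nat.shiftLeft 1 (r + u))) (ones (gw r) (Nat.sub (r + u) r))))
          (ones 16 r)) (gP (r + u) r)) a = _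
        rw [e3, one_shl, gw_eq, lk_eq, nxor, get_xor, p2 a ha]
        exact congrArg (· ^^^ a % 2 ^ r) (get_mul_Q fun i hi => (hJ i (hi.trans_lt (shiftRight_lt ha))).trans_le h256)
      have h1 := shiftRight_lt ha
      have h2 := hJ _ h1
      have h3 := hi' (a >>> r) (by rwa [Nat.shiftRight_eq_div_pow (2 ^ _), Nat.pow_add, Nat.mul_div_cancel_left _ (Nat.two_pow_pos r)])
      rw [hiv _ (hsh ha), Nat.shiftLeft_shiftRight, hs0, Nat.xor_zero, hm _ (hsh ha) _ h2, mulT_eq, Nat.shiftLeft_shiftRight,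
        Nat.xor_mod_two_pow, hs0, Nat.zero_xor] at h3
      have h4 := xor_lt h2 ((hlo a).trans_le (Nat.pow_le_pow_right (by norm_num) (Nat.le_add_right r u)))
      rw [hiv a ha]
      refine ⟨h4, ?_⟩
      rw [hm a ha _ h4, mulT_eq, Nat.shiftRight_xor_distrib, Nat.shiftRight_eq_zero _ r (hlo a), Nat.xor_zero,
        Nat.xor_mod_two_pow, Nat.xor_mod_two_pow, Nat.mod_mod, Nat.xor_comm (a % _), Nat.xor_assoc _ (a % _), Nat.xor_self,
        Nat.xor_zero, h3]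
  obtain ⟨he, k1, k2, k3, k4⟩ := main
  have hm : ∀ a, a < 2 ^ n → ∀ b, b < 2 ^ n → (gp n R I).m a b = mulT 0 n 16 (tab 0 n 16 R) a b := fun a ha b hb => by
    have h1 := hy.mul (by omega) (x := a) (y := b) (by rwa [Nat.zero_add]) (by rwa [Nat.zero_add])
    rw [Nat.zero_add] at h1
    exact he.inj (he.lt a ha b hb) h1.1 ((he.mul a ha b hb).trans h1.2)
  have hp : ∀ {k : ℕ}, k < n → 2 ^ k < 2 ^ n := fun h => Nat.pow_lt_pow_right (by norm_num) h
  have h0 : (gp n R I).m 0 0 = 0 := he.inj (he.lt 0 (Nat.two_pow_pos n) 0 (Nat.two_pow_pos n)) (Nat.two_pow_pos n) (by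
    rw [he.mul 0 (Nat.two_pow_pos n) 0 (Nat.two_pow_pos n), el_nil, mul_one])
  have h3 : tlr n R ≤ 16 := (tlr_spec n R).1.trans (by norm_num)
  obtain ⟨i1, i2⟩ := idv_spec n (by omega)
  rw [hN]
  refine ⟨⟨h8, hN, rfl, rfl, rfl, fun a => gr_lt h3 _ a, fun a => gr_lt h3 _ a, hN ▸ k1, hN ▸ k2, hN ▸ k3, hN ▸ i1,
    fun a ha => (lk_eq _ a).trans (i2 a (hN ▸ ha)), hN ▸ he.lt, hN ▸ hm, h0, fun a ha => hN ▸ (k4 a (hN ▸ ha)).1,
    fun a ha => (k4 a (hN ▸ ha)).2, fun k hk => (hr k hk).1, fun k hk => (hr k hk).2, fun A' _ e he' => ?_⟩, he⟩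
  · rw [hN] at he' ⊢
    have h1 : e 0 = 1 := by
      have h2 := he'.mul 0 (Nat.two_pow_pos n) 0 (Nat.two_pow_pos n)
      rw [h0] at h2
      exact left_eq_mul.1 h2
    have h2 : ∀ k, k ≤ n → ∀ a, a < 2 ^ k → e a = el (fun i => e (2 ^ i)) k a := fun k => by
      induction k with
      | zero => exact fun _ a ha => by rw [Nat.lt_one_iff.1 ha, h1, el_zero]
      | succ k ih =>
        intro hk a ha
        by_cases h3 : a < 2 ^ k
        · rw [el_of_lt _ h3 (Nat.le_succ k), ih (by omega) a h3]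
        · obtain ⟨b, rfl⟩ := Nat.exists_eq_add_of_le (not_lt.1 h3)
          have h4 : b < 2 ^ k := by rw [pow_succ] at ha; omega
          have h5 := h4.trans (hp hk)
          have h6 := ha.trans_le (Nat.pow_le_pow_right (by norm_num) hk)
          have h7 : (gp n R I).m (2 ^ k) b = 2 ^ k + b := he.inj (he.lt _ (hp hk) _ h5) h6 (by
            rw [he.mul _ (hp hk) _ h5, el_pow y hk, el_of_lt y ha hk, two_pow_add_eq_xor h4, el_top y h4,
              el_of_lt y h4 (Nat.le_of_succ_le hk)])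
          rw [← h7, he'.mul _ (hp hk) _ h5, h7, two_pow_add_eq_xor h4, el_top _ h4, ih (by omega) b h4]
    refine ⟨⟨fun i hi => absurd hi (Nat.not_lt_zero i), fun i hi => absurd hi (Nat.not_lt_zero i), fun k hk => ?_,
      fun k hk j hj => ?_⟩, h2 n le_rfl⟩
    · replace hk : k < n := hk
      have h3 := hy.pw k hk
      have h4 := (hpw k hk).trans (hp hk)
      rw [Nat.zero_add] at h3 ⊢
      show e _ * e _ = el _ k (Pc.get 16 R (tri k k))
      rw [← h2 k hk.le _ (hpw k hk), ← he'.mul _ (hp hk) _ (hp hk)]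
      refine congrArg e (he.inj (he.lt _ (hp hk) _ (hp hk)) h4 ?_)
      rw [he.mul _ (hp hk) _ (hp hk), el_pow y hk, h3, el_of_lt y (hpw k hk) hk.le]
    · replace hk : k < n := hk
      have h3 := hy.cj k hk j hj
      have h4 := (hcj k hk j hj).trans (hp hk)
      have h5 := hp (hj.trans hk)
      rw [Nat.zero_add, Nat.zero_add] at h3 ⊢
      show e _ * e _ = e _ * el _ k (Pc.get 16 R (tri k j))
      rw [← h2 k hk.le _ (hcj k hk j hj), ← he'.mul _ h5 _ (hp hk), ← he'.mul _ (hp hk) _ h4]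
      refine congrArg e (he.inj (he.lt _ h5 _ (hp hk)) (he.lt _ (hp hk) _ h4) ?_)
      rw [he.mul _ h5 _ (hp hk), he.mul _ (hp hk) _ h4, el_pow y hk, el_pow y (hj.trans hk), h3,
        el_of_lt y (hcj k hk j hj) hk.le]

namespace Gp.K

variable {g : Gp} (hK : g.K)
include hK

theorem N_pos : 0 < g.N := by
  rw [hK.hN]
  exact Nat.two_pow_pos _

theorem N_le9 : g.N ≤ 512 := by
  rw [hK.hN]
  exact Nat.pow_le_pow_right (n := 2) (by norm_num) hK.n9

theorem N_le : g.N ≤ 65536 := hK.N_le9.trans (by norm_num)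

theorem by_lt (w i : ℕ) : g.by' w i < g.N := by
  unfold Gp.by'
  rw [hK.hmk, hK.hN, nland, Nat.and_two_pow_sub_one_eq_mod]
  exact Nat.mod_lt _ (Nat.two_pow_pos _)

theorem m_ge (a : ℕ) {b : ℕ} (hb : g.N ≤ b) : g.m a b = 0 := by
  exact lk_of_lt (hK.r_lt a) hb

theorem q_lt {a : ℕ} (ha : a < g.N) : g.q a < g.N := by
  rw [hK.sq_eq a ha]
  exact hK.m_lt a ha a ha

theorem cj_eq {s x : ℕ} (hs : s < g.N) (hx : x < g.N) : g.cj s x = g.m (g.m s x) (g.i s) :=
  hK.c_eq _ (hK.i_lt s hs) _ (hK.m_lt s hs x hx)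

theorem cj_lt {s x : ℕ} (hs : s < g.N) (hx : x < g.N) : g.cj s x < g.N := by
  rw [hK.cj_eq hs hx]
  exact hK.m_lt _ (hK.m_lt s hs x hx) _ (hK.i_lt s hs)

theorem cj0_eq {s x : ℕ} (hs : s < g.N) (hx : x < g.N) {A : Type} [Group A] {e : ℕ → A} (he : En g.m g.N e) :
    g.cj0 s x = g.cj s x := by
  unfold Gp.cj0
  by_cases h : nz s = true
  · rw [iF_pos h]
  · rw [iF_neg h]
    have h1 : s = 0 := by
      by_contra h2
      exact h (nz_iff.2 h2)
    have h2 : e 0 = 1 := by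
      have h3 := he.mul 0 hK.N_pos 0 hK.N_pos
      rw [hK.m_zero] at h3
      exact left_eq_mul.1 h3
    have h3 := he.mul s hs _ (hK.i_lt s hs)
    refine he.inj hx (hK.cj_lt hs hx) ?_
    rw [hK.m_i s hs, h2] at h3
    rw [hK.cj_eq hs hx, he.mul _ (hK.m_lt s hs x hx) _ (hK.i_lt s hs), he.mul s hs x hx,
      eq_inv_of_mul_eq_one_right h3.symm, h1, h2, one_mul, inv_one, mul_one]

theorem cj0_lt {s x : ℕ} (hs : s < g.N) (hx : x < g.N) : g.cj0 s x < g.N := by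
  unfold Gp.cj0
  by_cases h : nz s = true
  · rw [iF_pos h]
    exact hK.cj_lt hs hx
  · rwa [iF_neg h]

theorem cm_eq {a b : ℕ} (ha : a < g.N) (hb : b < g.N) : g.cm a b = g.m (g.cj a b) (g.i b) :=
  hK.c_eq _ (hK.i_lt b hb) _ (hK.cj_lt ha hb)

theorem cm_lt {a b : ℕ} (ha : a < g.N) (hb : b < g.N) : g.cm a b < g.N := by
  rw [hK.cm_eq ha hb]
  exact hK.m_lt _ (hK.cj_lt ha hb) _ (hK.i_lt b hb)

theorem O_lt : g.O < 2 ^ (16 * g.N) := by
  have h := mul_ones_lt (v := 1) (w := 16) (by norm_num) g.n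
  rwa [Nat.one_mul, ← hK.hO, ← hK.hN] at h

theorem lk_O {s : ℕ} (hs : s < g.N) : lk g.O s = 1 := by
  have h := get_mul_ones (v := 1) (w := 16) (by norm_num) g.n (hK.hN ▸ hs)
  rwa [Nat.one_mul, ← hK.hO, ← lk_eq] at h

theorem lk_mul_O {c s : ℕ} (hc : c < 65536) (hs : s < g.N) : lk (Nat.mul c g.O) s = c := by
  rw [lk_eq, hK.hO, nmul]
  exact get_mul_ones (w := 16) hc g.n (hK.hN ▸ hs)

theorem nzm_lt (X : ℕ) : g.nzm X < 2 ^ (16 * g.N) := by
  unfold Gp.nzm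
  rw [hK.hO, hK.hN]
  exact rnz_lt 15 g.n _ X

theorem lk_nzm (X : ℕ) {s : ℕ} (hs : s < g.N) : lk (g.nzm X) s = if lk X s = 0 then 0 else 1 := by
  unfold Gp.nzm
  rw [hK.hL, hK.hO, lk_eq, lk_eq]
  refine (get_rnz (s := 15) (hK.hN ▸ hs)).trans ?_
  by_cases h : Pc.get 16 X s = 0
  · rw [if_pos h, decide_eq_false (not_not.2 h)]
    rfl
  · rw [if_neg h, decide_eq_true h]
    rfl

theorem zm_lt (X : ℕ) : g.zm X < 2 ^ (16 * g.N) := by
  exact Nat.xor_lt_two_pow hK.O_lt (hK.nzm_lt X)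

theorem lk_zm (X : ℕ) {s : ℕ} (hs : s < g.N) : lk (g.zm X) s = if lk X s = 0 then 1 else 0 := by
  show lk (Nat.xor g.O (g.nzm X)) s = _
  rw [lk_xor, hK.lk_O hs, hK.lk_nzm X hs]
  split_ifs <;> rfl

theorem msk_lt (s : PM) : g.msk s < 2 ^ (16 * g.N) := by
  exact Nat.or_lt_two_pow (hK.nzm_lt _) (Nat.one_lt_two_pow (by have := hK.N_pos; omega))

theorem lk_msk (s : PM) {a : ℕ} (ha : a < g.N) : lk (g.msk s) a = if mem s a = true then 1 else 0 := by
  unfold Gp.msk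
  rw [lk_lor, hK.lk_nzm _ ha, lk_one]
  by_cases h : mem s a = true
  · rw [if_pos h]
    rcases mem_iff'.1 h with h1 | h1
    · rw [if_neg h1]
      split_ifs <;> rfl
    · rw [if_pos h1]
      split_ifs <;> rfl
  · rw [if_neg h]
    rw [mem_iff', not_or, not_not] at h
    rw [if_pos h.1, if_neg h.2]
    rfl

theorem full_mem {s : PM} (h : g.full s = true) {a : ℕ} (ha : a < g.N) : mem s a = true := by
  have h1 := hK.lk_msk s ha
  rw [beq_iff.1 h, hK.lk_O ha] at h1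
  by_contra h2
  rw [if_neg h2] at h1
  exact one_ne_zero h1

theorem full_of_mem {s : PM} (h : ∀ a, a < g.N → mem s a = true) : g.full s = true := by
  exact beq_iff.2 (eq_of_lk (hK.msk_lt s) hK.O_lt fun a ha => by rw [hK.lk_msk s ha, if_pos (h a ha), hK.lk_O ha])

theorem ind_ex {V : ℕ} (h : g.ind V = true) : ∃ s, s < g.N ∧ lk V s = 0 := by
  by_contra h1
  refine ne_iff.1 h (eq_of_lk (hK.nzm_lt V) hK.O_lt fun a ha => ?_)
  rw [hK.lk_nzm V ha, if_neg fun h2 => h1 ⟨a, ha, h2⟩, hK.lk_O ha]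

theorem nzm_O {V : ℕ} (h : g.nzm V = g.O) {s : ℕ} (hs : s < g.N) : lk V s ≠ 0 := by
  intro h1
  have h2 := hK.lk_nzm V hs
  rw [h, hK.lk_O hs, if_pos h1] at h2
  exact one_ne_zero h2

/-- some member of `J` is a zero of `V` -/
theorem land_ne {V : ℕ} {J : PM} (h : Nat.land (g.nzm V) (g.msk J) ≠ g.msk J) :
    ∃ s, s < g.N ∧ mem J s = true ∧ lk V s = 0 := by
  by_contra h1
  refine h (eq_of_lk (Nat.and_lt_two_pow _ (hK.msk_lt J)) (hK.msk_lt J) fun a ha => ?_)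
  rw [lk_land, hK.lk_nzm V ha, hK.lk_msk J ha]
  by_cases h2 : mem J a = true
  · rw [if_neg fun h3 => h1 ⟨a, ha, h2, h3⟩, if_pos h2]
    rfl
  · rw [if_neg h2, Nat.and_zero]

theorem land_eq {V : ℕ} {J : PM} (h : Nat.land (g.nzm V) (g.msk J) = g.msk J) {s : ℕ} (hs : s < g.N)
    (hm : mem J s = true) : lk V s ≠ 0 := by
  intro h1
  have h2 := congrArg (fun X => lk X s) h
  simp only [lk_land, hK.lk_nzm V hs, hK.lk_msk J hs, if_pos h1, if_pos hm] at h2
  exact absurd h2 (by decide)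

/-- the members of the mask `pm` with the value `c` -/
theorem lk_cls (P : PM) (V : ℕ) {c a : ℕ} (hc : c < 65536) (ha : a < g.N) :
    lk (g.cls (g.msk P) V c) a = if mem P a = true ∧ lk V a = c then 1 else 0 := by
  unfold Gp.cls
  rw [lk_land, hK.lk_zm _ ha, hK.lk_msk P ha]
  simp only [lk_xor_eq_zero, hK.lk_mul_O hc ha]
  by_cases h1 : mem P a = true <;> by_cases h2 : lk V a = c <;> simp [h1, h2]

variable {A : Type} [Group A] {e : ℕ → A} (he : En g.m g.N e)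
include he

theorem e_zero : e 0 = 1 := by
  have h := he.mul 0 hK.N_pos 0 hK.N_pos
  rw [hK.m_zero] at h
  exact left_eq_mul.1 h

theorem e_eq_one {a : ℕ} (ha : a < g.N) : e a = 1 ↔ a = 0 := by
  exact ⟨fun h => he.inj ha hK.N_pos (h.trans (hK.e_zero he).symm), fun h => h ▸ hK.e_zero he⟩

theorem pgroup : Finite A ∧ IsPGroup 2 A := by
  exact ⟨Nat.finite_of_card_ne_zero (he.card ▸ hK.N_pos.ne'), IsPGroup.of_card (he.card.trans hK.hN)⟩

theorem e_i {a : ℕ} (ha : a < g.N) : e (g.i a) = (e a)⁻¹ := by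
  have h := he.mul a ha _ (hK.i_lt a ha)
  rw [hK.m_i a ha, hK.e_zero he] at h
  exact eq_inv_of_mul_eq_one_right h.symm

theorem e_q {a : ℕ} (ha : a < g.N) : e (g.q a) = e a * e a := by
  rw [hK.sq_eq a ha, he.mul a ha a ha]

theorem e_cj {s x : ℕ} (hs : s < g.N) (hx : x < g.N) : e (g.cj s x) = e s * e x * (e s)⁻¹ := by
  rw [hK.cj_eq hs hx, he.mul _ (hK.m_lt s hs x hx) _ (hK.i_lt s hs), he.mul s hs x hx, hK.e_i he hs]

theorem e_cj0 {s x : ℕ} (hs : s < g.N) (hx : x < g.N) : e (g.cj0 s x) = e s * e x * (e s)⁻¹ := by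
  rw [hK.cj0_eq hs hx he, hK.e_cj he hs hx]

theorem e_cm {a b : ℕ} (ha : a < g.N) (hb : b < g.N) : e (g.cm a b) = e a * e b * (e a)⁻¹ * (e b)⁻¹ := by
  rw [hK.cm_eq ha hb, he.mul _ (hK.cj_lt ha hb) _ (hK.i_lt b hb), hK.e_cj he ha hb, hK.e_i he hb]

theorem cj_eq_zero {s x : ℕ} (hs : s < g.N) (hx : x < g.N) : g.cj s x = 0 ↔ x = 0 := by
  rw [← hK.e_eq_one he (hK.cj_lt hs hx), ← hK.e_eq_one he hx, hK.e_cj he hs hx, conj_eq_one_iff]

theorem cj0_eq_zero {s x : ℕ} (hs : s < g.N) (hx : x < g.N) : g.cj0 s x = 0 ↔ x = 0 := by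
  rw [hK.cj0_eq hs hx he, hK.cj_eq_zero he hs hx]

theorem tw_zero {a b s : ℕ} (ha : a < g.N) (hb : b < g.N) (hs : s < g.N) :
    lk (g.tw a b) s = 0 ↔ e s * e a = e b * e s := by
  unfold Gp.tw
  rw [lk_xor_eq_zero, hK.c_eq a ha s hs, ← he.mul s hs a ha, ← he.mul b hb s hs]
  exact ⟨fun h => congrArg e h, fun h => he.inj (hK.m_lt s hs a ha) (hK.m_lt b hb s hs) h⟩

/-- conjugation gives a new enumeration -/
theorem en_cj {h : ℕ} (hh : h < g.N) : En g.m g.N fun a => e (g.cj h a) := by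
  refine ⟨he.lt, fun a ha b hb => ?_, fun x => ?_, he.card⟩
  · rw [hK.e_cj he hh (he.lt a ha b hb), hK.e_cj he hh ha, hK.e_cj he hh hb, he.mul a ha b hb]
    group
  · obtain ⟨a, ha, h1⟩ := he.surj ((e h)⁻¹ * x * e h)
    refine ⟨a, ha, ?_⟩
    rw [hK.e_cj he hh ha, h1]
    group

end Gp.K

end Cfsg.Agent.FS.NB
end

-- part: FS/N/B/Bas
section
/-!
# The checker of part B: endomorphisms given by the images of the generators
-/

set_option autoImplicit false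

namespace Cfsg.Agent.FS.NB

open Cfsg Cfsg.FusionSystem Cfsg.Agent.H752 Cfsg.Agent.FS.Th Cfsg.Agent.FS.Pc Cfsg.Agent.FS.Sw Cfsg.Agent.FS.B
open Asm (En)

namespace Gp.K

variable {g : Gp} (hK : g.K)
include hK

theorem atr_spec (B : ℕ) : ∀ j y, y < g.N → g.atr B j y < 2 ^ (16 * 2 ^ j) ∧ ∀ a, a < 2 ^ j → lk (g.atr B j y) a < g.N ∧
    ∀ (A : Type) [Group A] (e : ℕ → A), En g.m g.N e → e (lk (g.atr B j y) a) = e y * el (fun i => e (g.by' B i)) j a := by
  intro j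
  induction j with
  | zero =>
    intro y hy
    have h1 : y < 2 ^ 16 := hy.trans_le hK.N_le
    refine ⟨h1, fun a ha => ?_⟩
    rw [Nat.lt_one_iff.1 ha, lk_eq, show g.atr B 0 y = y from rfl, get_zero_of_lt h1]
    exact ⟨hy, fun A _ e _ => by rw [el_zero, mul_one]⟩
  | succ j ih =>
    intro y hy
    have h0 := hK.by_lt B j
    have h1 : g.atr B (j + 1) y = g.atr B j y + (g.atr B j (g.m y (g.by' B j))) <<< (16 * 2 ^ j) := by
      rw [← hK.c_eq _ h0 y hy, ← shl_eq 16 j]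
      rfl
    obtain ⟨h2, h3⟩ := ih y hy
    obtain ⟨h4, h5⟩ := ih _ (hK.m_lt y hy _ h0)
    rw [h1]
    refine ⟨by rw [pow_succ, Nat.mul_two, Nat.mul_add]; exact cat_lt h2 h4, fun a ha => ?_⟩
    by_cases h6 : a < 2 ^ j
    · rw [lk_eq, get_cat_lo _ h2 h6, ← lk_eq]
      exact ⟨(h3 a h6).1, fun A _ e he => by rw [(h3 a h6).2 A e he, el_of_lt _ h6 (Nat.le_succ j)]⟩
    · obtain ⟨b, rfl⟩ := Nat.exists_eq_add_of_le (not_lt.1 h6)
      have h7 : b < 2 ^ j := by rw [pow_succ] at ha; omega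
      rw [lk_eq, get_cat_hi _ h2, ← lk_eq]
      exact ⟨(h5 b h7).1, fun A _ e he => by
        rw [(h5 b h7).2 A e he, two_pow_add_eq_xor h7, el_top _ h7, he.mul y hy _ h0, mul_assoc]⟩

theorem atq_spec (B k : ℕ) : ∀ j y, y < g.N → g.atq B k (Pc.msk (Nat.shiftLeft 16 k)) j y < 2 ^ (16 * 2 ^ k * 2 ^ j) ∧
    ∀ a, a < 2 ^ j → ∃ z, z < g.N ∧
      Pc.get (16 * 2 ^ k) (g.atq B k (Pc.msk (Nat.shiftLeft 16 k)) j y) a = Pc.get (16 * 2 ^ k) (g.r z) 0 ∧
      ∀ (A : Type) [Group A] (e : ℕ → A), En g.m g.N e → e z = e y * el (fun i => e (g.by' B (k + i))) j a := by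
  intro j
  induction j with
  | zero =>
    intro y hy
    have h1 : g.atq B k (Pc.msk (Nat.shiftLeft 16 k)) 0 y = Pc.get (16 * 2 ^ k) (g.r y) 0 := by
      rw [← shl_eq 16 k]
      exact land_msk _ _
    rw [h1, Nat.pow_zero, Nat.mul_one]
    exact ⟨get_lt _ _ _, fun a ha => ⟨y, hy, by rw [Nat.lt_one_iff.1 ha, get_zero_of_lt (get_lt _ _ _)],
      fun A _ e _ => by rw [el_zero, mul_one]⟩⟩
  | succ j ih =>
    intro y hy
    have h0 := hK.by_lt B (k + j)
    have h1 : g.atq B k (Pc.msk (Nat.shiftLeft 16 k)) (j + 1) y = g.atq B k (Pc.msk (Nat.shiftLeft 16 k)) j y +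
        (g.atq B k (Pc.msk (Nat.shiftLeft 16 k)) j (g.m y (g.by' B (k + j)))) <<< (16 * 2 ^ k * 2 ^ j) := by
      rw [← hK.c_eq _ h0 y hy, ← shl_eq 16 k, ← shl_eq _ j]
      rfl
    obtain ⟨h2, h3⟩ := ih y hy
    obtain ⟨h4, h5⟩ := ih _ (hK.m_lt y hy _ h0)
    rw [h1]
    refine ⟨by rw [pow_succ, Nat.mul_two, Nat.mul_add]; exact cat_lt h2 h4, fun a ha => ?_⟩
    by_cases h6 : a < 2 ^ j
    · obtain ⟨z, z1, z2, z3⟩ := h3 a h6
      exact ⟨z, z1, by rw [get_cat_lo _ h2 h6, z2], fun A _ e he => by rw [z3 A e he, el_of_lt _ h6 (Nat.le_succ j)]⟩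
    · obtain ⟨b, rfl⟩ := Nat.exists_eq_add_of_le (not_lt.1 h6)
      have h7 : b < 2 ^ j := by rw [pow_succ] at ha; omega
      obtain ⟨z, z1, z2, z3⟩ := h5 b h7
      exact ⟨z, z1, by rw [get_cat_hi _ h2, z2], fun A _ e he => by
        rw [z3 A e he, two_pow_add_eq_xor h7, el_top _ h7, he.mul y hy _ h0, mul_assoc]⟩

/-- `V` is the table of the endomorphism with the images `B` -/
def At (g : Gp) (B V : ℕ) : Prop := ∀ a, a < g.N → lk V a < g.N ∧
  ∀ (A : Type) [Group A] (e : ℕ → A), En g.m g.N e → e (lk V a) = e 0 * el (fun i => e (g.by' B i)) g.n a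

theorem at_atr (B : ℕ) : At g B (g.atr B g.n 0) := fun a ha => (hK.atr_spec B g.n 0 hK.N_pos).2 a (hK.hN ▸ ha)

theorem at_aut1 (B : ℕ) {k V : ℕ} (hk : k ≤ g.n) (hV : At g B V) : At g B (g.aut1 B k V) := by
  unfold Gp.aut1
  by_cases h : Nat.beq (Nat.land (g.atr B k 0) (Nat.mul (Pc.msk k) (ones 16 k))) (g.atr B k 0) = true
  swap
  · rwa [iF_neg h]
  rw [iF_pos h]
  intro a ha
  obtain ⟨j, hj⟩ := Nat.exists_eq_add_of_le hk
  have h9 := hK.n9
  have hp := Nat.two_pow_pos k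
  have h0 : a % 2 ^ k < 2 ^ k := Nat.mod_lt _ hp
  have h1 : a >>> k < 2 ^ j := shiftRight_lt (by rwa [← hj, ← hK.hN])
  have h2 : Pc.msk k < 2 ^ 16 := by
    rw [msk_eq]
    exact (Nat.sub_lt hp Nat.one_pos).trans_le (Nat.pow_le_pow_right (by norm_num) (by omega))
  obtain ⟨t1, t2⟩ := (hK.atr_spec B k 0 hK.N_pos).2 _ h0
  have t3 : lk (g.atr B k 0) (a % 2 ^ k) < 2 ^ k := by
    rw [← beq_iff.1 h, lk_land, lk_eq (Nat.mul _ _), nmul, get_mul_ones h2 k h0]
    exact (land_msk _ k).trans_lt (Nat.mod_lt _ hp)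
  generalize g.atr B k 0 = T at t1 t2 t3
  obtain ⟨z, z1, z2, z3⟩ := (hK.atq_spec B k j 0 hK.N_pos).2 _ h1
  have e1 : Nat.sub g.n k = j := by rw [hj]; exact Nat.add_sub_cancel_left k j
  have hM : ∀ q, q < 2 ^ j → ∀ ρ, ρ < 2 ^ k →
      Pc.get 16 (65535 * ones (16 * 2 ^ k) j) (2 ^ k * q + ρ) = Pc.get 16 65535 ρ := fun q hq ρ hρ => by
    rw [← get_get 16 _ _ _ hρ, get_mul_ones ((by norm_num : 65535 < 2 ^ 16).trans_le
      (Nat.pow_le_pow_right (by norm_num) (Nat.le_mul_of_pos_right _ hp))) j hq]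
  have key : lk (g.gth B k T) a = g.m z (lk T (a % 2 ^ k)) := by
    unfold Gp.gth
    rw [frr_eq, e1, one_shl, shl_eq 16 k] at *
    generalize g.atq B k (Pc.msk (16 * 2 ^ k)) j 0 = X at z2
    have hs : ∀ i, Nat.shiftLeft i 4 = 16 * i := fun i => (shl_eq i 4).trans (Nat.mul_comm _ _)
    have ha' := split_r k a
    rw [lk_foN_single h0 fun i hi hne => ?_]
    · rw [lk_eq, hs, hs, nshl]
      conv_lhs => arg 3; rw [ha', Nat.add_comm]
      have h5 := hM _ h1 0 hp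
      rw [Nat.add_zero] at h5
      rw [get_shl_hi, nland, get_land, nmul, h5, show Pc.get 16 65535 0 = 2 ^ 16 - 1 from rfl,
        Nat.and_two_pow_sub_one_eq_mod, Nat.mod_eq_of_lt (get_lt _ _ _)]
      have h6 : ∀ t u, Pc.get 16 (Nat.shiftRight X (16 * t)) u = Pc.get 16 X (u + t) := fun t u => by
        unfold Pc.get
        rw [nshr, ← Nat.shiftRight_add, ← Nat.mul_add, Nat.add_comm]
      rw [h6, ← hs (a % 2 ^ k)]
      show Pc.get 16 X (2 ^ k * a >>> k + lk T (a % 2 ^ k)) = lk (g.r z) _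
      rw [← get_get 16 _ _ _ t3, z2, get_get 16 _ _ _ t3, Nat.mul_zero, Nat.zero_add, lk_eq (g.r z)]
    · rw [lk_eq, hs i, nshl]
      by_cases h5 : a < i
      · exact get_shl_lo _ h5
      · obtain ⟨t, ht⟩ := Nat.exists_eq_add_of_le (not_lt.1 h5)
        have h6 : t >>> k < 2 ^ j := shiftRight_lt (by rw [← hj, ← hK.hN]; omega)
        have h7 : t % 2 ^ k ≠ 0 := fun h7 => hne (by
          rw [ht, Nat.add_mod, h7, Nat.add_zero, Nat.mod_mod, Nat.mod_eq_of_lt hi])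
        have h8 := hM _ h6 _ (Nat.mod_lt t hp)
        rw [← split_r, get_eq_zero_of_lt (m := 1) (by norm_num) (Nat.pos_of_ne_zero h7)] at h8
        rw [ht, get_shl_hi, nland, get_land, nmul, h8, Nat.and_zero]
  rw [key]
  refine ⟨hK.m_lt z z1 _ t1, fun A _ e he => ?_⟩
  have h3 : e 0 = 1 := hK.e_zero he
  rw [he.mul z z1 _ t1, z3 A e he, t2 A e he, h3, one_mul, one_mul, one_mul, el_mod, hj, el_split]

theorem at_aut0 (B : ℕ) : At g (sl B) (g.aut0 B) := by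
  show At g (sl B) (g.aut2 (sl B))
  unfold Gp.aut2
  by_cases h : Nat.ble 6 g.n = true
  · have h1 := ble_iff.1 h
    rw [iF_pos h]
    exact hK.at_aut1 _ (by omega) (hK.at_aut1 _ (by omega) (hK.at_aut1 _ (by omega) (hK.at_atr _)))
  · rw [iF_neg h]
    exact hK.at_atr _

theorem aut_lt (B : ℕ) {a : ℕ} (ha : a < g.N) : lk (g.aut B) a < g.N := by
  unfold Gp.aut
  rw [frc_eq]
  exact (hK.at_aut0 B a ha).1

variable {A : Type} [Group A] {e : ℕ → A} (he : En g.m g.N e)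
include he

/-- an endomorphism given by images of the generators -/
theorem aut_spec {B : ℕ} (h : g.autOK B = true) : En g.m g.N fun a => e (lk (g.aut B) a) := by
  have h0 : g.aut B = g.aut0 B := frc_eq _ _
  have h1 : ∀ a, a < g.N → e (lk (g.aut B) a) = el (fun i => e (g.by' (sl B) i)) g.n a := fun a ha => by
    rw [h0]
    exact ((hK.at_aut0 B a ha).2 A e he).trans (by rw [hK.e_zero he, one_mul])
  unfold Gp.autOK Gp.autOK0 at h
  simp only [frc_eq, an_iff, allN_iff, beq_iff, ← h0] at h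
  obtain ⟨h2, h3⟩ := h
  have hp : ∀ {k : ℕ}, k ≤ g.n → 2 ^ k ≤ g.N := fun h => hK.hN ▸ Nat.pow_le_pow_right (by norm_num) h
  have h4 : IsPc (fun i => e (g.by' (sl B) i)) 0 g.n 16 g.R := by
    refine ⟨fun i hi => absurd hi (Nat.not_lt_zero i), fun i hi => absurd hi (Nat.not_lt_zero i), fun k hk => ?_,
      fun k hk j hj => ?_⟩
    · have h5 := hK.rel_pw k hk
      rw [Nat.zero_add, ← lk_eq, ← el_of_lt _ h5 hk.le, ← h1 _ (h5.trans_le (hp hk.le)), ← (h3 k hk).1,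
        hK.e_q he (hK.by_lt (sl B) k)]
    · have h5 : lk g.R (tri k j) < 2 ^ k := by
        have h6 := hK.rel_cj k hk j hj
        have h7 := Nat.lt_mul_div_succ (lk g.R (tri k j)) (Nat.two_pow_pos j)
        rw [← Nat.shiftRight_eq_div_pow, h6] at h7
        exact h7.trans_le (Nat.pow_le_pow_right (n := 2) (by norm_num) (show j + 1 ≤ k from hj))
      have h6 := h5.trans_le (hp hk.le)
      rw [Nat.zero_add, Nat.zero_add, ← lk_eq, ← el_of_lt _ h5 hk.le, ← h1 _ h6,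
        ← he.mul _ (hK.by_lt (sl B) j) _ (hK.by_lt (sl B) k), ← he.mul _ (hK.by_lt (sl B) k) _ (hK.aut_lt B h6), (h3 k hk).2 j hj]
  have h5 : ∀ a, a < g.N → ∀ b, b < g.N → e (lk (g.aut B) (g.m a b)) = e (lk (g.aut B) a) * e (lk (g.aut B) b) :=
    fun a ha b hb => by
      have h6 := (h4.mul (by have := hK.n9; omega) (x := a) (y := b) (by rwa [Nat.zero_add, ← hK.hN])
        (by rwa [Nat.zero_add, ← hK.hN])).2
      rw [Nat.zero_add] at h6
      rw [h1 _ (hK.m_lt a ha b hb), h1 a ha, h1 b hb, h6, hK.m_eq a ha b hb]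
  have h6 : ∀ a, a < g.N → e (lk (g.aut B) a) = 1 → a = 0 := fun a ha h7 => by
    have h8 := congrArg (fun X => lk X a) h2
    by_contra h9
    simp only [lk_lor, hK.lk_nzm _ ha, lk_one, hK.lk_O ha, if_neg h9,
      if_pos ((hK.e_eq_one he (hK.aut_lt B ha)).1 h7)] at h8
    exact absurd h8 (by decide)
  have h7 : Function.Injective fun a : Fin g.N => e (lk (g.aut B) a) := fun a b hab => by
    have h8 := hK.i_lt b b.2
    have h9 := h5 b b.2 _ h8
    have h10 := h5 a a.2 _ h8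
    have h11 := h5 0 hK.N_pos 0 hK.N_pos
    rw [hK.m_zero] at h11
    rw [hK.m_i b b.2, left_eq_mul.1 h11] at h9
    rw [show e (lk (g.aut B) a) = e (lk (g.aut B) b) from hab, ← h9] at h10
    have h12 := he.mul a a.2 _ h8
    rw [h6 _ (hK.m_lt a a.2 _ h8) h10, hK.e_zero he, hK.e_i he b.2] at h12
    exact Fin.ext (he.inj a.2 b.2 (mul_inv_eq_one.1 h12.symm))
  obtain ⟨_, -⟩ := hK.pgroup he
  refine ⟨he.lt, h5, fun x => ?_, he.card⟩
  obtain ⟨a, ha⟩ := ((Nat.bijective_iff_injective_and_card _).2 ⟨h7, by rw [he.card, Nat.card_fin]⟩).2 x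
  exact ⟨a, a.2, ha⟩

end Gp.K

end Cfsg.Agent.FS.NB
end

-- part: FS/N/B/Val
section
/-!
# The checker of part B for S5288 (port of FS/B to cells of 16 bits): partial maps
-/

set_option autoImplicit false

namespace Cfsg.Agent.FS.NB

open Cfsg Cfsg.FusionSystem Cfsg.Agent.H752 Cfsg.Agent.FS.Th Cfsg.Agent.FS.Pc Cfsg.Agent.FS.Sw Cfsg.Agent.FS.B
open Asm (En)

namespace ValAux

section

variable {A : Type} [Group A] {D : Subgroup A} {φ : A → A}

theorem hm_one (h : Hm D φ) : φ 1 = 1 := by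
  have h1 := h.mul 1 D.one_mem 1 D.one_mem
  rw [mul_one] at h1
  exact (left_eq_mul.1 h1)

theorem hm_inv (h : Hm D φ) {x : A} (hx : x ∈ D) : φ x⁻¹ = (φ x)⁻¹ := by
  have h1 := h.mul x hx x⁻¹ (D.inv_mem hx)
  rw [mul_inv_cancel, hm_one h] at h1
  exact eq_inv_of_mul_eq_one_right h1.symm

theorem hm_mono (h : Hm D φ) {D' : Subgroup A} (hle : D' ≤ D) : Hm D' φ :=
  ⟨fun x hx y hy => h.mul x (hle hx) y (hle hy), fun x hx y hy => h.inj x (hle hx) y (hle hy)⟩

theorem closure_le_of_gens {e : ℕ → A} {l : PL} (h : Gens e φ D l) : Subgroup.closure (gS e l) ≤ D := by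
  rw [Subgroup.closure_le]
  rintro _ ⟨p, hp, rfl⟩
  exact (h p hp).1

theorem mem_gS {e : ℕ → A} {l : PL} {p : ℕ × ℕ} (hp : p ∈ l.ls) : e p.1 ∈ Subgroup.closure (gS e l) :=
  Subgroup.subset_closure ⟨p, hp, rfl⟩

theorem closure_le_of {e : ℕ → A} {l : PL} {X : Subgroup A} (h : ∀ p ∈ l.ls, e p.1 ∈ X) :
    Subgroup.closure (gS e l) ≤ X := by
  rw [Subgroup.closure_le]
  rintro _ ⟨p, hp, rfl⟩
  exact h p hp

/-- a subgroup together with one coset -/
def dblS (X : Subgroup A) (a : A) (h1 : ∀ x ∈ X, a * x * a⁻¹ ∈ X) (h2 : a * a ∈ X) : Subgroup A where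
  carrier := {y | y ∈ X ∨ a⁻¹ * y ∈ X}
  one_mem' := Or.inl X.one_mem
  mul_mem' := by
    have h3 : ∀ x ∈ X, a⁻¹ * x * a ∈ X := fun x hx => by
      have h4 := X.mul_mem (X.mul_mem (X.inv_mem h2) (h1 x hx)) h2
      simpa [mul_assoc] using h4
    rintro x y (hx | hx) (hy | hy)
    · exact Or.inl (X.mul_mem hx hy)
    · right
      have h4 := X.mul_mem (h3 x hx) hy
      simpa [mul_assoc] using h4
    · right
      have h4 := X.mul_mem hx hy
      simpa [mul_assoc] using h4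
    · left
      have h4 := X.mul_mem (X.mul_mem (h1 _ hx) h2) hy
      simpa [mul_assoc] using h4
  inv_mem' := by
    rintro x (hx | hx)
    · exact Or.inl (X.inv_mem hx)
    · right
      have h4 := X.mul_mem (X.inv_mem h2) (h1 _ (X.inv_mem hx))
      simpa [mul_assoc] using h4

end

/-- the tables describe the graph -/
structure Tb (l : PL) (t it : ℕ) : Prop where
  el : ∀ p ∈ l.ls, lk t p.1 = p.2 ∧ lk it p.2 = p.1
  tab : ∀ a, lk t a ≠ 0 → (a, lk t a) ∈ l.ls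
  itab : ∀ b, lk it b ≠ 0 → (lk it b, b) ∈ l.ls

theorem Tb.cons {el : PL} {t it u v : ℕ} (h : Tb el t it) (hu : u < 65536) (hv : v < 65536)
    (hc : ∀ p ∈ el.ls, p.1 = u ↔ p.2 = v) : Tb (.cons u v el) (Nat.lor t (pt v u)) (Nat.lor it (pt u v)) := by
  have h1 : lk (Nat.lor t (pt v u)) u = v := by
    rw [lk_lor, lk_pt hv, if_pos rfl]
    by_cases h0 : lk t u = 0
    · rw [h0, Nat.zero_or]
    · rw [show lk t u = v from (hc _ (h.tab u h0)).1 rfl, Nat.or_self]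
  have h2 : lk (Nat.lor it (pt u v)) v = u := by
    rw [lk_lor, lk_pt hu, if_pos rfl]
    by_cases h0 : lk it v = 0
    · rw [h0, Nat.zero_or]
    · rw [show lk it v = u from (hc _ (h.itab v h0)).2 rfl, Nat.or_self]
  have h3 : ∀ i, i ≠ u → lk (Nat.lor t (pt v u)) i = lk t i := fun i hi => by
    rw [lk_lor, lk_pt hv, if_neg hi, Nat.or_zero]
  have h4 : ∀ i, i ≠ v → lk (Nat.lor it (pt u v)) i = lk it i := fun i hi => by
    rw [lk_lor, lk_pt hu, if_neg hi, Nat.or_zero]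
  refine ⟨fun p hp => ?_, fun a ha => ?_, fun b hb => ?_⟩
  · rw [PL.ls_cons, List.mem_cons] at hp
    rcases hp with rfl | hp
    · exact ⟨h1, h2⟩
    · by_cases h5 : p.1 = u
      · rw [h5, (hc p hp).1 h5]
        exact ⟨h1, h2⟩
      · rw [h3 _ h5, h4 _ fun h6 => h5 ((hc p hp).2 h6)]
        exact h.el p hp
  · rw [PL.ls_cons, List.mem_cons]
    by_cases h5 : a = u
    · rw [h5, h1]
      exact Or.inl rfl
    · rw [h3 _ h5] at ha ⊢
      exact Or.inr (h.tab a ha)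
  · rw [PL.ls_cons, List.mem_cons]
    by_cases h5 : b = v
    · rw [h5, h2]
      exact Or.inl rfl
    · rw [h4 _ h5] at hb ⊢
      exact Or.inr (h.itab b hb)

/-- the loop of `dbl` -/
noncomputable def aux (g : Gp) (G : PL) (a b : ℕ) (l : PL) : PL → ℕ → ℕ → PM :=
  PL.rec (motive := fun _ => PL → ℕ → ℕ → PM) (fun el t it => ⟨G, el, t, it⟩)
    (fun h k _ ih el t it => ih (.cons (lk (g.r a) h) (lk (g.r b) k) el)
      (Nat.lor t (pt (lk (g.r b) k) (lk (g.r a) h))) (Nat.lor it (pt (lk (g.r a) h) (lk (g.r b) k)))) l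

theorem dbl_eq (g : Gp) (s : PM) (a b : ℕ) : g.dbl s a b = aux g (.cons a b s.gs) a b s.el s.el s.tab s.itab := rfl

theorem aux_cons (g : Gp) (G : PL) (a b h k : ℕ) (l el : PL) (t it : ℕ) : aux g G a b (.cons h k l) el t it =
    aux g G a b l (.cons (g.m a h) (g.m b k) el) (Nat.lor t (pt (g.m b k) (g.m a h)))
      (Nat.lor it (pt (g.m a h) (g.m b k))) := rfl

theorem aux_gs (g : Gp) (G : PL) (a b : ℕ) (l : PL) : ∀ el t it, (aux g G a b l el t it).gs = G := by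
  induction l with
  | nil => exact fun _ _ _ => rfl
  | cons h k l ih => exact fun _ _ _ => ih _ _ _

theorem aux_el (g : Gp) (G : PL) (a b : ℕ) (l : PL) : ∀ el t it p, p ∈ (aux g G a b l el t it).el.ls ↔
    p ∈ el.ls ∨ ∃ q ∈ l.ls, p = (g.m a q.1, g.m b q.2) := by
  induction l with
  | nil => exact fun el _ _ p => ⟨Or.inl, fun h => h.elim id fun ⟨q, hq, _⟩ => absurd hq List.not_mem_nil⟩
  | cons h k l ih =>
    intro el t it p
    rw [aux_cons, ih, PL.ls_cons, PL.ls_cons, List.mem_cons]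
    constructor
    · rintro ((h1 | h1) | ⟨q, hq, h1⟩)
      · exact Or.inr ⟨(h, k), List.mem_cons_self, h1⟩
      · exact Or.inl h1
      · exact Or.inr ⟨q, List.mem_cons_of_mem _ hq, h1⟩
    · rintro (h1 | ⟨q, hq, h1⟩)
      · exact Or.inl (Or.inr h1)
      · rcases List.mem_cons.1 hq with rfl | hq
        · exact Or.inl (Or.inl h1)
        · exact Or.inr ⟨q, hq, h1⟩

theorem aux_tb (g : Gp) (G : PL) (a b : ℕ) {R : ℕ × ℕ → Prop} (hR : ∀ p q, R p → R q → (p.1 = q.1 ↔ p.2 = q.2))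
    (l : PL) : (∀ q ∈ l.ls, R (g.m a q.1, g.m b q.2)) → ∀ (el : PL) (t it : ℕ), (∀ p ∈ el.ls, R p) → Tb el t it →
      Tb (aux g G a b l el t it).el (aux g G a b l el t it).tab (aux g G a b l el t it).itab := by
  induction l with
  | nil => exact fun _ _ _ _ _ h => h
  | cons h k l ih =>
    intro hl el t it h1 h2
    have h3 := hl (h, k) List.mem_cons_self
    rw [aux_cons]
    refine ih (fun q hq => hl q (List.mem_cons_of_mem _ hq)) _ _ _ (fun p hp => ?_)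
      (h2.cons (lk_lt _ _) (lk_lt _ _) fun p hp => hR p _ (h1 p hp) h3)
    rcases List.mem_cons.1 hp with rfl | hp
    · exact h3
    · exact h1 p hp

theorem scan_cases (g : Gp) (t a b : ℕ) (kf : ℕ → ℕ → PM) (kd : PM) (l : PL) :
    (g.scan t a b l kf kd = kd ∧ ∀ p ∈ l.ls, lk t (g.cj a p.1) ≠ 0) ∨
      ∃ p ∈ l.ls, g.scan t a b l kf kd = kf (g.cj a p.1) (g.cj b p.2) := by
  induction l with
  | nil => exact Or.inl ⟨rfl, fun _ hp => absurd hp List.not_mem_nil⟩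
  | cons h k l ih =>
    have h1 : g.scan t a b (.cons h k l) kf kd =
        iF (nz (lk t (g.cj a h))) (g.scan t a b l kf kd) (kf (g.cj a h) (g.cj b k)) := rfl
    by_cases h2 : nz (lk t (g.cj a h)) = true
    · rw [h1, iF_pos h2]
      rcases ih with ⟨h3, h4⟩ | ⟨p, hp, h3⟩
      · refine Or.inl ⟨h3, fun p hp => ?_⟩
        rcases List.mem_cons.1 hp with rfl | hp
        · exact nz_iff.1 h2
        · exact h4 p hp
      · exact Or.inr ⟨p, List.mem_cons_of_mem _ hp, h3⟩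
    · rw [h1, iF_neg h2]
      exact Or.inr ⟨(h, k), List.mem_cons_self, rfl⟩

theorem adF_succ (g : Gp) (fu : ℕ) (s : PM) (a b : ℕ) : g.adF (fu + 1) s a b = iF (mem s a) s
    (g.scan s.tab a b s.gs (fun x y => fin s a b (g.adF fu (g.adF fu s x y) a b))
      (iF (mem s (g.q a)) (g.dbl s a b) (fin s a b (g.adF fu (g.adF fu s (g.q a) (g.q b)) a b)))) := rfl

variable {g : Gp} (hK : g.K)
include hK

theorem mem_val' {A : Type} [Group A] {e : ℕ → A} (he : En g.m g.N e) {s : PM} {φ : A → A} (hv : Val g e φ s) {a : ℕ}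
    (ha : a < g.N) : mem s a = true ↔ e a ∈ dom e s := by
  rw [mem_iff']
  constructor
  · rintro (h | h)
    · exact (hv.el _ (hv.tab a h)).1
    · rw [h, hK.e_zero he]
      exact Subgroup.one_mem _
  · intro h
    obtain ⟨b, hb⟩ := hv.cov a ha h
    obtain ⟨-, h1, h2, -⟩ := hv.el _ hb
    by_cases h0 : b = 0
    · right
      rw [h0, hK.e_zero he, ← hm_one hv.hm] at h1
      exact (hK.e_eq_one he ha).1 (hv.hm.inj _ h _ (Subgroup.one_mem _) h1)
    · left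
      rwa [h2]

theorem wf_dbl {s : PM} (hs : WF g s) {a b : ℕ} (ha : a < g.N) (hb : b < g.N)
    (h1 : ∀ p ∈ s.gs.ls, lk s.tab (g.cj a p.1) ≠ 0) (h2 : mem s (g.q a) = true) : WF g (g.dbl s a b) := by
  have hgs : (g.dbl s a b).gs = .cons a b s.gs := by rw [dbl_eq, aux_gs]
  have hel : ∀ p, p ∈ (g.dbl s a b).el.ls ↔ p ∈ s.el.ls ∨ ∃ q ∈ s.el.ls, p = (g.m a q.1, g.m b q.2) := fun p => by
    rw [dbl_eq, aux_el]
  refine ⟨fun p hp => ?_, fun p hp => ?_, fun A _ e φ D he hφ hg => ?_⟩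
  · rw [hgs] at hp
    rcases List.mem_cons.1 hp with rfl | hp
    · exact ⟨ha, hb⟩
    · exact hs.gs p hp
  · rcases (hel p).1 hp with hp | ⟨q, hq, rfl⟩
    · exact hs.el p hp
    · exact ⟨hK.m_lt a ha _ (hs.el q hq).1, hK.m_lt b hb _ (hs.el q hq).2⟩
  have hD : dom e (g.dbl s a b) ≤ D := closure_le_of_gens hg
  rw [hgs] at hg
  have hab := hg (a, b) List.mem_cons_self
  have hv := hs.val A e φ D he hφ fun p hp => hg p (List.mem_cons_of_mem _ hp)
  have hle : dom e s ≤ dom e (g.dbl s a b) := closure_le_of fun p hp =>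
    mem_gS (by rw [hgs]; exact List.mem_cons_of_mem _ hp)
  have haD : e a ∈ dom e (g.dbl s a b) := mem_gS (p := (a, b)) (by rw [hgs]; exact List.mem_cons_self)
  have hR : ∀ p ∈ (g.dbl s a b).el.ls,
      p.1 < g.N ∧ p.2 < g.N ∧ e p.1 ∈ dom e (g.dbl s a b) ∧ φ (e p.1) = e p.2 := fun p hp => by
    rcases (hel p).1 hp with hp | ⟨q, hq, rfl⟩
    · exact ⟨(hs.el p hp).1, (hs.el p hp).2, hle (hv.el p hp).1, (hv.el p hp).2.1⟩
    · refine ⟨hK.m_lt a ha _ (hs.el q hq).1, hK.m_lt b hb _ (hs.el q hq).2, ?_, ?_⟩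
      · rw [he.mul a ha _ (hs.el q hq).1]
        exact Subgroup.mul_mem _ haD (hle (hv.el q hq).1)
      · rw [he.mul a ha _ (hs.el q hq).1, he.mul b hb _ (hs.el q hq).2, hφ.mul _ hab.1 _ (hD (hle (hv.el q hq).1)),
          hab.2, (hv.el q hq).2.1]
  have hT := aux_tb g (.cons a b s.gs) a b
    (R := fun p => p.1 < g.N ∧ p.2 < g.N ∧ e p.1 ∈ dom e (g.dbl s a b) ∧ φ (e p.1) = e p.2)
    (fun p q hp hq => ⟨fun h => he.inj hp.2.1 hq.2.1 (by rw [← hp.2.2.2, ← hq.2.2.2, h]),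
      fun h => he.inj hp.1 hq.1 (hφ.inj _ (hD hp.2.2.1) _ (hD hq.2.2.1) (by rw [hp.2.2.2, hq.2.2.2, h]))⟩)
    s.el (fun q hq => hR _ ((hel _).2 (Or.inr ⟨q, hq, rfl⟩))) s.el s.tab s.itab
    (fun p hp => hR p ((hel p).2 (Or.inl hp))) ⟨fun p hp => (hv.el p hp).2.2, hv.tab, hv.itab⟩
  rw [← dbl_eq] at hT
  refine ⟨hm_mono hφ hD, fun p hp => ⟨(hR p hp).2.2.1, (hR p hp).2.2.2, hT.el p hp⟩, fun c hc hcD => ?_, hT.tab,
    hT.itab⟩
  have n1 : ∀ x ∈ dom e s, e a * x * (e a)⁻¹ ∈ dom e s := fun x hx =>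
    closure_le_of (X := (dom e s).comap (MulAut.conj (e a)).toMonoidHom) (fun p hp => by
      have h3 := (hv.el _ (hv.tab _ (h1 p hp))).1
      rwa [hK.e_cj he ha (hs.gs p hp).1] at h3) hx
  have n2 : e a * e a ∈ dom e s := by
    rw [← hK.e_q he ha]
    exact (mem_val' hK he hv (hK.q_lt ha)).1 h2
  have h3 : dom e (g.dbl s a b) ≤ dblS (dom e s) (e a) n1 n2 := closure_le_of fun p hp => by
    rw [hgs] at hp
    rcases List.mem_cons.1 hp with rfl | hp
    · exact Or.inr (by rw [inv_mul_cancel]; exact Subgroup.one_mem _)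
    · exact Or.inl (mem_gS hp)
  rcases h3 hcD with h4 | h4
  · obtain ⟨d, hd⟩ := hv.cov c hc h4
    exact ⟨d, (hel _).2 (Or.inl hd)⟩
  · obtain ⟨h, hh, h5⟩ := he.surj ((e a)⁻¹ * e c)
    obtain ⟨k, hk⟩ := hv.cov h hh (h5 ▸ h4)
    refine ⟨g.m b k, (hel _).2 (Or.inr ⟨(h, k), hk, ?_⟩)⟩
    rw [he.inj hc (hK.m_lt a ha h hh) (by rw [he.mul a ha h hh, h5, mul_inv_cancel_left])]

theorem wf_fin {s s' : PM} (hs : WF g s) (hs' : WF g s') {a b x y : ℕ} (ha : a < g.N) (hb : b < g.N)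
    (h1 : ∀ p ∈ s.gs.ls, p ∈ s'.gs.ls) (h2 : ∀ p ∈ s'.gs.ls, p = (a, b) ∨ p = (x, y) ∨ p ∈ s.gs.ls)
    (hxy : ∀ (A : Type) [Group A] (e : ℕ → A) (φ : A → A) (D : Subgroup A), En g.m g.N e → Hm D φ →
      Gens e φ D (.cons a b s.gs) → e x ∈ D ∧ φ (e x) = e y) :
    WF g (fin s a b s') ∧ (fin s a b s' = s ∨ (fin s a b s').gs = .cons a b s.gs) := by
  unfold fin
  by_cases h3 : mem s' a = true
  · rw [iF_pos h3]
    refine ⟨⟨fun p hp => ?_, hs'.el, fun A _ e φ D he hφ hg => ?_⟩, Or.inr rfl⟩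
    · rcases List.mem_cons.1 hp with rfl | hp
      · exact ⟨ha, hb⟩
      · exact hs.gs p hp
    have hD : Subgroup.closure (gS e (.cons a b s.gs)) ≤ D := closure_le_of_gens hg
    have hg' : Gens e φ (Subgroup.closure (gS e (.cons a b s.gs))) (.cons a b s.gs) := fun p hp =>
      ⟨mem_gS hp, (hg p hp).2⟩
    have h4 : Gens e φ (Subgroup.closure (gS e (.cons a b s.gs))) s'.gs := fun p hp => by
      rcases h2 p hp with rfl | rfl | hp
      · exact hg' _ List.mem_cons_self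
      · exact hxy A e φ _ he (hm_mono hφ hD) hg'
      · exact hg' p (List.mem_cons_of_mem _ hp)
    have hv := hs'.val A e φ _ he (hm_mono hφ hD) h4
    have h5 : Subgroup.closure (gS e (.cons a b s.gs)) = dom e s' := by
      refine le_antisymm (closure_le_of fun p hp => ?_) (closure_le_of_gens h4)
      rcases List.mem_cons.1 hp with rfl | hp
      · exact (mem_val' hK he hv ha).1 h3
      · exact mem_gS (h1 p hp)
    have h6 : dom e ⟨.cons a b s.gs, s'.el, s'.tab, s'.itab⟩ = dom e s' := h5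
    exact ⟨h6 ▸ hv.hm, fun p hp => h6 ▸ hv.el p hp, fun c hc h => hv.cov c hc (h6 ▸ h), hv.tab, hv.itab⟩
  · rw [iF_neg h3]
    exact ⟨hs, Or.inl rfl⟩

theorem adF_spec (fu : ℕ) : ∀ (s : PM) (a b : ℕ), WF g s → a < g.N → b < g.N →
    WF g (g.adF fu s a b) ∧ (g.adF fu s a b = s ∨ (g.adF fu s a b).gs = .cons a b s.gs) := by
  induction fu with
  | zero => exact fun s a b hs _ _ => ⟨hs, Or.inl rfl⟩
  | succ fu ih =>
    intro s a b hs ha hb
    have key : ∀ x y, x < g.N → y < g.N → (∀ (A : Type) [Group A] (e : ℕ → A) (φ : A → A) (D : Subgroup A),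
        En g.m g.N e → Hm D φ → Gens e φ D (.cons a b s.gs) → e x ∈ D ∧ φ (e x) = e y) →
        WF g (fin s a b (g.adF fu (g.adF fu s x y) a b)) ∧ (fin s a b (g.adF fu (g.adF fu s x y) a b) = s ∨
          (fin s a b (g.adF fu (g.adF fu s x y) a b)).gs = .cons a b s.gs) := fun x y hx hy hxy => by
      obtain ⟨w1, e1⟩ := ih s x y hs hx hy
      obtain ⟨w2, e2⟩ := ih _ a b w1 ha hb
      refine wf_fin hK hs w2 ha hb (fun p hp => ?_) (fun p hp => ?_) hxy
      · have h1 : p ∈ (g.adF fu s x y).gs.ls := by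
          rcases e1 with e1 | e1 <;> rw [e1]
          · exact hp
          · exact List.mem_cons_of_mem _ hp
        rcases e2 with e2 | e2 <;> rw [e2]
        · exact h1
        · exact List.mem_cons_of_mem _ h1
      · have h1 : p = (a, b) ∨ p ∈ (g.adF fu s x y).gs.ls := by
          rcases e2 with e2 | e2 <;> rw [e2] at hp
          · exact Or.inr hp
          · exact List.mem_cons.1 hp
        refine h1.imp_right fun h1 => ?_
        rcases e1 with e1 | e1 <;> rw [e1] at h1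
        · exact Or.inr h1
        · exact List.mem_cons.1 h1
    rw [adF_succ]
    by_cases h1 : mem s a = true
    · rw [iF_pos h1]
      exact ⟨hs, Or.inl rfl⟩
    rw [iF_neg h1]
    rcases scan_cases g s.tab a b (fun x y => fin s a b (g.adF fu (g.adF fu s x y) a b))
      (iF (mem s (g.q a)) (g.dbl s a b) (fin s a b (g.adF fu (g.adF fu s (g.q a) (g.q b)) a b))) s.gs with
      ⟨h2, h3⟩ | ⟨p, hp, h2⟩
    · rw [h2]
      by_cases h4 : mem s (g.q a) = true
      · rw [iF_pos h4]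
        exact ⟨wf_dbl hK hs ha hb h3 h4, Or.inr (by rw [dbl_eq, aux_gs])⟩
      · rw [iF_neg h4]
        refine key _ _ (hK.q_lt ha) (hK.q_lt hb) fun A _ e φ D he hφ hg => ?_
        have h5 := hg (a, b) List.mem_cons_self
        rw [hK.e_q he ha, hK.e_q he hb, hφ.mul _ h5.1 _ h5.1, h5.2]
        exact ⟨D.mul_mem h5.1 h5.1, rfl⟩
    · rw [h2]
      refine key _ _ (hK.cj_lt ha (hs.gs p hp).1) (hK.cj_lt hb (hs.gs p hp).2) fun A _ e φ D he hφ hg => ?_
      have h5 := hg (a, b) List.mem_cons_self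
      have h6 := hg p (List.mem_cons_of_mem _ hp)
      rw [hK.e_cj he ha (hs.gs p hp).1, hK.e_cj he hb (hs.gs p hp).2,
        hφ.mul _ (D.mul_mem h5.1 h6.1) _ (D.inv_mem h5.1), hφ.mul _ h5.1 _ h6.1, hm_inv hφ h5.1, h5.2, h6.2]
      exact ⟨D.mul_mem (D.mul_mem h5.1 h6.1) (D.inv_mem h5.1), rfl⟩

end ValAux

open ValAux

namespace Gp.K

variable {g : Gp} (hK : g.K)
include hK

theorem ws_s0 : WS g s0 := by
  have hel : ∀ p ∈ s0.el.ls, p = (0, 0) := fun p hp => List.mem_singleton.1 hp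
  refine ⟨⟨fun p hp => absurd hp List.not_mem_nil, fun p hp => ?_, fun A _ e φ D he hφ _ => ?_⟩,
    fun p hp => absurd hp List.not_mem_nil⟩
  · rw [hel p hp]
    exact ⟨hK.N_pos, hK.N_pos⟩
  have hb : ∀ X : Subgroup A, dom e s0 ≤ X := fun X => closure_le_of fun p hp => absurd hp List.not_mem_nil
  refine ⟨hm_mono hφ (hb D), fun p hp => ?_, fun a ha h => ⟨0, ?_⟩, fun a h => absurd (lk_zero a) h,
    fun a h => absurd (lk_zero a) h⟩
  · rw [hel p hp, hK.e_zero he]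
    exact ⟨Subgroup.one_mem _, hm_one hφ, lk_zero 0, lk_zero 0⟩
  · rw [(hK.e_eq_one he ha).1 (Subgroup.mem_bot.1 (hb ⊥ h))]
    exact List.mem_cons_self

theorem ad_spec {s : PM} (hs : WF g s) {a b : ℕ} (ha : a < g.N) (hb : b < g.N) :
    WF g (g.ad s a b) ∧ (g.ad s a b = s ∨ (g.ad s a b).gs = .cons a b s.gs) :=
  adF_spec hK 10 s a b hs ha hb

theorem adS_spec {K : PM} (hs : WS g K) {φ : ℕ → ℕ} (hφ : ∀ i, φ i < g.N) (k : ℕ) :
    WS g (g.adS K φ k) ∧ (∀ p ∈ K.gs.ls, p ∈ (g.adS K φ k).gs.ls) ∧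
      ∀ p ∈ (g.adS K φ k).gs.ls, p ∈ K.gs.ls ∨ ∃ i, i < k ∧ p.1 = φ i := by
  induction k with
  | zero => exact ⟨hs, fun _ hp => hp, fun _ hp => Or.inl hp⟩
  | succ k ih =>
    obtain ⟨h1, h2, h3⟩ := ih
    have h4 : g.adS K φ (k + 1) = g.ad (g.adS K φ k) (φ k) (φ k) := rfl
    obtain ⟨h5, h6⟩ := hK.ad_spec h1.toWF (hφ k) (hφ k)
    have h7 : ∀ p ∈ (g.adS K φ k).gs.ls, p ∈ K.gs.ls ∨ ∃ i, i < k + 1 ∧ p.1 = φ i := fun p hp =>
      (h3 p hp).imp_right fun ⟨i, hi, h⟩ => ⟨i, Nat.lt_succ_of_lt hi, h⟩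
    rw [h4]
    rcases h6 with h6 | h6
    · rw [h6]
      exact ⟨h1, h2, h7⟩
    · refine ⟨⟨h5, fun p hp => ?_⟩, fun p hp => ?_, fun p hp => ?_⟩
      · rw [h6] at hp
        rcases List.mem_cons.1 hp with rfl | hp
        · rfl
        · exact h1.dg p hp
      · rw [h6]
        exact List.mem_cons_of_mem _ (h2 p hp)
      · rw [h6] at hp
        rcases List.mem_cons.1 hp with rfl | hp
        · exact Or.inr ⟨k, Nat.lt_succ_self k, rfl⟩
        · exact h7 p hp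

theorem ws_mkS (w : ℕ) : WS g (g.mkS w) := by
  rw [Gp.mkS, frc_eq, Gp.mkS0, Gp.mkS1]
  exact (hK.adS_spec hK.ws_s0 (hK.by_lt (sl w)) _).1

theorem wf_mkP (w : ℕ) : WF g (g.mkP w) := by
  rw [Gp.mkP, frc_eq, Gp.mkP0, Gp.mkP1]
  generalize len2 (sl w) = k
  induction k with
  | zero => exact hK.ws_s0.toWF
  | succ k ih => exact (hK.ad_spec ih (hK.by_lt _ _) (hK.by_lt _ _)).1

theorem mkP_zero : g.mkP 0 = s0 := by
  have h1 : ∀ i, g.by' 0 i = 0 := fun i => by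
    change (0 >>> _) &&& g.mk' = 0
    rw [Nat.zero_shiftRight, Nat.zero_and]
  have h2 : g.mkP0 0 = g.ad s0 (g.by' 0 (Nat.add 0 0)) (g.by' 0 (Nat.succ (Nat.add 0 0))) := rfl
  have _ := hK
  rw [Gp.mkP, frc_eq, h2, h1, h1, Gp.ad, adF_succ, iF_pos (mem_iff'.2 (Or.inr rfl))]

variable {A : Type} [Group A] {e : ℕ → A} (he : En g.m g.N e)
include he

omit hK in
theorem val_ws {s : PM} (hs : WS g s) : Val g e (fun x => x) s :=
  hs.val A e _ ⊤ he (hm_id ⊤) fun p hp => ⟨Subgroup.mem_top _, by rw [hs.dg p hp]⟩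

theorem mem_val {s : PM} (hs : WF g s) {φ : A → A} (hv : Val g e φ s) {a : ℕ} (ha : a < g.N) :
    mem s a = true ↔ e a ∈ dom e s :=
  have _ := hs
  mem_val' hK he hv ha

theorem mem_ws {s : PM} (hs : WS g s) {a : ℕ} (ha : a < g.N) : mem s a = true ↔ e a ∈ dom e s :=
  hK.mem_val he hs.toWF (val_ws he hs) ha

omit hK he in
theorem blk0_spec (P : PM) : ∀ c j, Gp.blk0 P c j ≤ j + c ∧
    ∀ i, j ≤ i → i < Gp.blk0 P c j → mem P (2 ^ i) = true := by
  intro c
  induction c with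
  | zero => exact fun j => ⟨le_rfl, fun i h1 h2 => absurd h1 (not_le.2 h2)⟩
  | succ c ih =>
    intro j
    have h0 : Gp.blk0 P (c + 1) j = iF (mem P (Nat.shiftLeft 1 j)) (Gp.blk0 P c (j + 1)) j := rfl
    rw [h0, one_shl]
    by_cases h : mem P (2 ^ j) = true
    · rw [iF_pos h]
      refine ⟨(ih _).1.trans (by omega), fun i h1 h2 => ?_⟩
      rcases h1.eq_or_lt with rfl | h1
      · exact h
      · exact (ih _).2 i h1 h2
    · rw [iF_neg h]
      exact ⟨Nat.le_add_right _ _, fun i h1 h2 => absurd h1 (not_le.2 h2)⟩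

omit hK he in
theorem blk_le (P : PM) : g.blk P ≤ g.n := (blk0_spec P g.n 0).1.trans_eq (Nat.zero_add _)

omit he in
theorem blk_hi {k a : ℕ} (hk : k ≤ g.n) (ha : a < g.N) :
    a >>> k < Nat.shiftRight g.N k ∧ Nat.shiftLeft (a >>> k) k < g.N ∧ Nat.shiftLeft (a >>> k) k >>> k = a >>> k := by
  obtain ⟨j, hj⟩ := Nat.exists_eq_add_of_le hk
  refine ⟨?_, ?_, Nat.shiftLeft_shiftRight _ _⟩
  · rw [hK.hN, hj] at ha ⊢
    rw [nshr, Nat.shiftRight_eq_div_pow (2 ^ _), Nat.pow_add, Nat.mul_div_cancel_left _ (Nat.two_pow_pos k)]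
    exact shiftRight_lt ha
  · rw [shl_eq, Nat.shiftRight_eq_div_pow]
    exact (Nat.div_mul_le_self _ _).trans_lt ha

/-- two elements of one block -/
theorem blk_cos {P : PM} (hP : WS g P) {a b : ℕ} (ha : a < g.N) (hb : b < g.N) (h : a >>> g.blk P = b >>> g.blk P) :
    (e a)⁻¹ * e b ∈ dom e P := by
  have hi : g.blk P ≤ g.n := blk_le P
  have h2 : ∀ i, i < g.blk P → e (2 ^ i) ∈ dom e P := fun i h3 =>
    (hK.mem_ws he hP (hK.hN ▸ Nat.pow_lt_pow_right (by norm_num) (h3.trans_le hi))).1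
      ((blk0_spec P g.n 0).2 i (Nat.zero_le i) h3)
  generalize g.blk P = k at h hi h2
  have h0 := (hK.pc A e he).2
  have h1 : ∀ c, c < g.N → e c = el (fun j => e (2 ^ (k + j))) (g.n - k) (c >>> k) * el (fun i => e (2 ^ i)) k c :=
    fun c hc => by rw [h0 c hc, ← el_split (fun i => e (2 ^ i)), Nat.add_sub_cancel' hi]
  have h3 : ∀ c j, j ≤ k → el (fun i => e (2 ^ i)) j c ∈ dom e P := fun c j => by
    induction j with
    | zero => exact fun _ => Subgroup.one_mem _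
    | succ j ih =>
      intro hj
      rw [el_succ]
      refine Subgroup.mul_mem _ ?_ (ih (Nat.le_of_succ_le hj))
      cases c.testBit j
      · exact Subgroup.one_mem _
      · exact h2 j hj
  rw [h1 a ha, h1 b hb, h, mul_inv_rev, mul_assoc, inv_mul_cancel_left]
  exact Subgroup.mul_mem _ (Subgroup.inv_mem _ (h3 a k le_rfl)) (h3 b k le_rfl)

omit hK he in
theorem lk_pt_ones (k b a : ℕ) : lk (pt (ones 16 k) (Nat.shiftLeft b k)) a = if a >>> k = b then 1 else 0 := by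
  have hp := Nat.two_pow_pos k
  unfold pt
  rw [lk_eq, shl_eq _ 4, shl_eq b k, Nat.mul_comm _ (2 ^ 4), nshl, Nat.shiftRight_eq_div_pow]
  show Pc.get 16 (ones 16 k <<< (16 * (b * 2 ^ k))) a = _
  by_cases h : a < b * 2 ^ k
  · rw [get_shl_lo _ h, if_neg (Nat.div_lt_of_lt_mul (by rwa [Nat.mul_comm])).ne]
  · obtain ⟨t, rfl⟩ := Nat.exists_eq_add_of_le (not_lt.1 h)
    rw [get_shl_hi, Nat.add_comm, Nat.add_mul_div_right _ _ hp, ← Nat.one_mul (ones 16 k)]
    by_cases h1 : t < 2 ^ k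
    · rw [get_mul_ones (by norm_num) k h1, Nat.div_eq_of_lt h1, Nat.zero_add, if_pos rfl]
    · have h2 : 0 < t / 2 ^ k := Nat.div_pos (not_lt.1 h1) hp
      rw [get_eq_zero_of_lt (mul_ones_lt (by norm_num) k) (not_lt.1 h1), if_neg (by omega)]

/-- the table on the domain -/
theorem tab_val {s : PM} (hs : WF g s) {φ : A → A} (hv : Val g e φ s) {a : ℕ} (ha : a < g.N) (h : e a ∈ dom e s) :
    lk s.tab a < g.N ∧ φ (e a) = e (lk s.tab a) := by
  have _ := hK
  have _ := he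
  obtain ⟨b, hb⟩ := hv.cov a ha h
  obtain ⟨-, h1, h2, -⟩ := hv.el _ hb
  rw [show lk s.tab a = b from h2]
  exact ⟨(hs.el _ hb).2, h1⟩

omit hK he in
theorem lk_val {s : PM} (hs : WF g s) {φ : A → A} (hv : Val g e φ s) {Q : Subgroup A} (hQ : dom e s ≤ Q) :
    Lk g e Q φ (lk s.tab) ∧ Li g e Q φ (lk s.itab) :=
  ⟨fun a h => ⟨(hs.el _ (hv.tab a h)).1, (hs.el _ (hv.tab a h)).2, hQ (hv.el _ (hv.tab a h)).1,
      (hv.el _ (hv.tab a h)).2.1⟩,
    fun b h => ⟨(hs.el _ (hv.itab b h)).2, (hs.el _ (hv.itab b h)).1, hQ (hv.el _ (hv.itab b h)).1,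
      (hv.el _ (hv.itab b h)).2.1⟩⟩

end Gp.K

end Cfsg.Agent.FS.NB
end

private theorem dce_cfdd3b9ca854 : _root_.True := by
  try have : _root_.True := by simp only [_root_.Cfsg.Agent.FS.NB.iF.eq_1]
  try have : _root_.True := by simp only [_root_.Cfsg.Agent.FS.NB.gp.eq_1]
  try have : _root_.True := by simp only [_root_.Cfsg.Agent.FS.NB.Gp.mkS.eq_1]
  try have : _root_.True := by simp only [_root_.Cfsg.Agent.FS.NB.orr.eq_1]
  try have : _root_.True := by simp only [_root_.Cfsg.Agent.FS.NB.Gp.mkS1.eq_1]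
  try have : _root_.True := by simp only [_root_.Cfsg.Agent.FS.NB.an.eq_1]
  try have : _root_.True := by simp only [_root_.Cfsg.Agent.FS.NB.Gp.ad.eq_1]
  try have : _root_.True := by simp only [_root_.Cfsg.Agent.FS.NB.Gp.mkP1.eq_1]
  try have : _root_.True := by simp only [_root_.Cfsg.Agent.FS.NB.mkG.eq_1]
  try have : _root_.True := by simp only [_root_.Cfsg.Agent.FS.NB.Gp.mkS0.eq_1]
  try have : _root_.True := by simp only [_root_.Cfsg.Agent.FS.NB.Gp.mkP.eq_1]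
  try have : _root_.True := by simp only [_root_.Cfsg.Agent.FS.NB.Gp.mkP0.eq_1]
  try have : _root_.True := by simp only [_root_.Cfsg.Agent.FS.NB.nt.eq_1]
  exact _root_.True.intro
end

-- part: FS/N/B/Go
section
prune_inst 0x20100000700000000000000020001c2292000000000b00000040000004c8080000400620a20003000000080400340008130000000200000000000000411c01a0000000028008a000210000008000000000000000000000000000000000000000000000000
set_option linter.all false
open scoped Cfsg.Agent.FastGrp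

-- part: FS/N/B/Inv
section
/-!
# The checker of part B: invariant tables (statement helper80, proof helper98; project FS)
-/

set_option autoImplicit false

namespace Cfsg.Agent.FS.NB

open Cfsg Cfsg.FusionSystem Cfsg.Agent.H752 Cfsg.Agent.FS.Th Cfsg.Agent.FS.Pc Cfsg.Agent.FS.Sw Cfsg.Agent.FS.B
open Asm (En)

namespace InvAux

theorem mod_sum : ∀ (N X : ℕ), X < 2 ^ (16 * N) → X % 65535 = (∑ s ∈ Finset.range N, lk X s) % 65535
  | 0, X, h => by
    have h1 : X = 0 := by simpa using h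
    rw [h1, Finset.sum_range_zero]
  | N + 1, X, h => by
    have h1 := mod_sum N (X / 65536) (by
      rw [Nat.div_lt_iff_lt_mul (by norm_num)]
      rwa [Nat.mul_succ, Nat.pow_add] at h)
    have h2 : ∀ s, lk X (s + 1) = lk (X / 65536) s := fun s => by
      rw [lk_eq, lk_eq]
      unfold Pc.get
      rw [Nat.mul_succ, Nat.add_comm, Nat.shiftRight_add, Nat.shiftRight_eq_div_pow X 16]
    have h3 : lk X 0 = X % 65536 := by rw [lk_eq]; rfl
    rw [Finset.sum_range_succ', h3]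
    simp only [h2]
    omega

theorem lk_vec (φ : ℕ → ℕ) (hφ : ∀ a, φ a < 65536) (s : ℕ) :
    ∀ l : PL, (∃ p ∈ l.ls, p.1 = s) → lk (foP l fun a _ => pt (φ a) a) s = φ s := fun l => by
  have h0 : ∀ l : PL, lk (foP l fun a _ => pt (φ a) a) s = φ s ∨ lk (foP l fun a _ => pt (φ a) a) s = 0 := fun l => by
    induction l with
    | nil => exact Or.inr (lk_zero s)
    | cons a b l ih =>
      show lk (Nat.lor _ _) s = _ ∨ lk (Nat.lor _ _) s = _
      rw [lk_lor, lk_pt (hφ a)]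
      split_ifs with h
      · rw [← h]
        rcases ih with h1 | h1
        · exact Or.inl ((congrArg _ h1).trans (Nat.or_self _))
        · exact Or.inl ((congrArg _ h1).trans (Nat.or_zero _))
      · rw [Nat.zero_or]
        exact ih
  rintro ⟨p, hp, rfl⟩
  refine (h0 l).elim id fun h => ?_
  have h1 := lk_foP_eq_zero.1 h p hp
  rw [lk_pt (hφ _), if_pos rfl] at h1
  rw [h, h1]

theorem sum_inv {g : Gp} {A : Type} [Group A] {e : ℕ → A} (he : En g.m g.N e) {Q : Subgroup A} {f : A → A}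
    (hf : Hm Q f) (hm : ∀ x ∈ Q, f x ∈ Q) {φ ψ : ℕ → ℕ} (h1 : ∀ s, s < g.N → e s ∉ Q → φ s = 0)
    (h2 : ∀ s, s < g.N → e s ∉ Q → ψ s = 0) (h : ∀ s, s < g.N → ∀ t, t < g.N → e s ∈ Q → f (e s) = e t → φ s = ψ t) :
    ∑ s ∈ Finset.range g.N, φ s = ∑ s ∈ Finset.range g.N, ψ s := by
  classical
  choose σ h3 h4 using fun s => he.surj (f (e s))
  have h5 : ∀ χ : ℕ → ℕ, (∀ s, s < g.N → e s ∉ Q → χ s = 0) →
      ∑ s ∈ (Finset.range g.N).filter (fun s => e s ∈ Q), χ s = ∑ s ∈ Finset.range g.N, χ s := fun χ hχ =>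
    Finset.sum_filter_of_ne fun s hs h5 => by_contra fun h6 => h5 (hχ s (Finset.mem_range.1 hs) h6)
  have h6 : ∀ s, s ∈ (Finset.range g.N).filter (fun s => e s ∈ Q) ↔ s < g.N ∧ e s ∈ Q := fun s => by
    rw [Finset.mem_filter, Finset.mem_range]
  have h7 : Set.MapsTo σ ((Finset.range g.N).filter fun s => e s ∈ Q) ((Finset.range g.N).filter fun s => e s ∈ Q) :=
    fun s hs => (h6 _).2 ⟨h3 s, h4 s ▸ hm _ ((h6 s).1 hs).2⟩
  have h8 : Set.InjOn σ ((Finset.range g.N).filter fun s => e s ∈ Q) := fun s hs t ht hst =>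
    he.inj ((h6 s).1 hs).1 ((h6 t).1 ht).1 (hf.inj _ ((h6 s).1 hs).2 _ ((h6 t).1 ht).2 (by rw [← h4, ← h4, hst]))
  rw [← h5 φ h1, ← h5 ψ h2]
  exact Finset.sum_nbij σ h7 h8 (Finset.surjOn_of_injOn_of_card_le σ h7 h8 le_rfl) fun s hs =>
    h s ((h6 s).1 hs).1 _ (h3 s) ((h6 s).1 hs).2 (h4 s).symm

end InvAux

open InvAux

namespace Gp.K

variable {g : Gp} (hK : g.K) {A : Type} [Group A] {e : ℕ → A} (he : En g.m g.N e) {P : PM} (hP : WS g P)
  {f : A → A} (hf : Hm (dom e P) f) (hm : ∀ x ∈ dom e P, f x ∈ dom e P) {V : ℕ} (hV : Inv g e (dom e P) f V)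
include hK he hP hf hm hV

theorem sta_inv (op : ℕ) {c a b : ℕ} (hc : c < 65536) (ha : a < g.N) (hb : b < g.N) (h1 : e a ∈ dom e P)
    (h2 : f (e a) = e b) : g.sta (g.msk P) V op c a = g.sta (g.msk P) V op c b := by
  unfold Gp.sta
  cases nz op
  · refine hV _ (hK.q_lt ha) _ (hK.q_lt hb) ?_ ?_
    · rw [hK.e_q he ha]
      exact (dom e P).mul_mem h1 h1
    · rw [hK.e_q he ha, hK.e_q he hb, hf.mul _ h1 _ h1, h2]
  have h3 : ∀ a, Nat.land (iF (Nat.beq op 1) (g.nzm (g.tw a a)) (g.zm (Nat.xor g.sq (Nat.mul a g.O))))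
      (iF (nz c) (g.cls (g.msk P) V c) (g.msk P)) < 2 ^ (16 * g.N) := fun a => by
    refine Nat.and_le_left.trans_lt ?_
    cases Nat.beq op 1
    · exact hK.zm_lt _
    · exact hK.nzm_lt _
  have h4 : ∀ a s, s < g.N → e s ∉ dom e P → lk (Nat.land (iF (Nat.beq op 1) (g.nzm (g.tw a a))
      (g.zm (Nat.xor g.sq (Nat.mul a g.O)))) (iF (nz c) (g.cls (g.msk P) V c) (g.msk P))) s = 0 := fun a s hs h4 => by
    rw [← hK.mem_ws he hP hs] at h4
    have h5 : lk (iF (nz c) (g.cls (g.msk P) V c) (g.msk P)) s = 0 := by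
      cases nz c
      · rw [iF_false, hK.lk_msk P hs, if_neg h4]
      · rw [iF_true, hK.lk_cls P V hc hs, if_neg fun h => h4 h.1]
    rw [lk_land, h5, Nat.and_zero]
  rw [iF_true, iF_true, nmod, nmod, mod_sum _ _ (h3 a), mod_sum _ _ (h3 b),
    sum_inv he hf hm (h4 a) (h4 b) fun s hs t ht h5 h6 => ?_]
  have h7 := (hK.mem_ws he hP hs).2 h5
  have h8 := (hK.mem_ws he hP ht).2 (h6 ▸ hm _ h5)
  rw [lk_land, lk_land]
  congr 1
  · cases Nat.beq op 1
    · have h9 : ∀ a s, a < g.N → s < g.N → (lk (Nat.xor g.sq (Nat.mul a g.O)) s = 0 ↔ e s * e s = e a) :=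
        fun a s ha hs => by
          rw [lk_xor_eq_zero, hK.lk_mul_O (ha.trans_le hK.N_le) hs, ← hK.e_q he hs]
          exact ⟨fun h => congrArg e h, fun h => he.inj (hK.q_lt hs) ha h⟩
      rw [iF_false, iF_false, hK.lk_zm _ hs, hK.lk_zm _ ht]
      refine if_congr ?_ rfl rfl
      rw [h9 a s ha hs, h9 b t hb ht, ← h2, ← h6, ← hf.mul _ h5 _ h5]
      exact ⟨fun h => congrArg f h, hf.inj _ ((dom e P).mul_mem h5 h5) _ h1⟩
    · rw [iF_true, iF_true, hK.lk_nzm _ hs, hK.lk_nzm _ ht]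
      refine if_congr ?_ rfl rfl
      rw [hK.tw_zero he ha ha hs, hK.tw_zero he hb hb ht, ← h2, ← h6, ← hf.mul _ h5 _ h1, ← hf.mul _ h1 _ h5]
      exact ⟨fun h => congrArg f h, hf.inj _ ((dom e P).mul_mem h5 h1) _ ((dom e P).mul_mem h1 h5)⟩
  · cases nz c
    · rw [iF_false, hK.lk_msk P hs, hK.lk_msk P ht, if_pos h7, if_pos h8]
    · rw [iF_true, hK.lk_cls P V hc hs, hK.lk_cls P V hc ht, hV s hs t ht h5 h6]
      exact if_congr (and_congr_left fun _ => iff_of_true h7 h8) rfl rfl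

theorem rnd_inv (op : ℕ) {c : ℕ} (hc : c < 65536) (mu : ℕ) : Inv g e (dom e P) f (g.rnd P V op c mu) := by
  intro a ha b hb h1 h2
  have hv := val_ws he hP
  obtain ⟨a', h3⟩ := hv.cov a ha h1
  obtain ⟨b', h4⟩ := hv.cov b hb (h2 ▸ hm _ h1)
  have h5 := InvAux.lk_vec (fun a => Nat.succ (Nat.mod (Nat.add (Nat.mul (lk V a) mu) (g.sta (g.msk P) V op c a)) 65521))
    fun a => Nat.succ_lt_succ ((Nat.mod_lt _ (by norm_num)).trans (by norm_num))
  rw [Gp.rnd_eq]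
  rw [h5 a _ ⟨_, h3, rfl⟩, h5 b _ ⟨_, h4, rfl⟩, hV a ha b hb h1 h2, hK.sta_inv he hP hf hm hV op hc ha hb h1 h2]

end Gp.K

theorem Gp.K.fvt_inv {g : Gp} (hK : g.K) {A : Type} [Group A] {e : ℕ → A} (he : En g.m g.N e) {P : PM} (hP : WS g P)
    {f : A → A} (hf : Hm (dom e P) f) (hm : ∀ x ∈ dom e P, f x ∈ dom e P) (pr : ℕ) :
    Inv g e (dom e P) f (g.fvt P pr) := by
  unfold Gp.fvt
  cases nz pr
  · intro a ha b hb h1 h2
    rw [iF_false, hK.lk_msk P ha, hK.lk_msk P hb, if_pos ((hK.mem_ws he hP ha).2 h1),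
      if_pos ((hK.mem_ws he hP hb).2 (h2 ▸ hm _ h1))]
  rw [iF_true]
  unfold Gp.fvt0
  generalize lenK 64 pr = k
  induction k with
  | zero => exact fun a _ b _ _ _ => (lk_zero a).trans (lk_zero b).symm
  | succ k ih => exact hK.rnd_inv he hP hf hm ih _ (lk_lt _ _) _

end Cfsg.Agent.FS.NB
end

-- part: FS/N/B/Wd
section
/-!
# The checker of part B: words and symmetries (statements helper80, proofs helper98; project FS)
-/

set_option autoImplicit false

namespace Cfsg.Agent.FS.NB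

open Cfsg Cfsg.FusionSystem Cfsg.Agent.H752 Cfsg.Agent.FS.Th Cfsg.Agent.FS.Pc Cfsg.Agent.FS.Sw Cfsg.Agent.FS.B
open Asm (En)

theorem wd_id {A : Type} [Group A] {F : FusionSystem (⊤ : Subgroup A)} {M : Subgroup A → (A → A) → Prop}
    (hM : Closed F M) (P : Subgroup A) : M P fun x => x :=
  hM.congr _ _ _ (mp_conj F le_top (Subgroup.mem_top 1)) (hM.conj P le_top 1 (Subgroup.mem_top 1)) fun x _ => by
    rw [one_mul, inv_one, mul_one]

theorem wd_hom {A B : Type} [Group A] [Group B] (θ : A →* B) {X : Set A} {K : Subgroup B} (h : ∀ x ∈ X, θ x ∈ K) :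
    ∀ x ∈ Subgroup.closure X, θ x ∈ K := fun _ hx => (Subgroup.closure_le (K.comap θ)).2 h hx

theorem wd_conj {A : Type} [Group A] (s : A) {X : Set A} {K : Subgroup A} (h : ∀ x ∈ X, s * x * s⁻¹ ∈ K) :
    ∀ x ∈ Subgroup.closure X, s * x * s⁻¹ ∈ K := wd_hom (MulAut.conj s).toMonoidHom h

theorem wd_gen {A : Type} [Group A] (e : ℕ → A) {s : PM} {p : ℕ × ℕ} (hp : p ∈ s.gs.ls) : e p.1 ∈ dom e s :=
  Subgroup.subset_closure ⟨p, hp, rfl⟩

theorem hm_s0 {A : Type} [Group A] {F : FusionSystem (⊤ : Subgroup A)} {M : Subgroup A → (A → A) → Prop}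
    (hM : Closed F M) (e : ℕ → A) : HM F M e s0 :=
  ⟨fun x => x, mp_id F le_top, wd_id hM _, fun _ hp => absurd hp List.not_mem_nil⟩

namespace Gp.K

variable {g : Gp} (hK : g.K) {A : Type} [Group A] {e : ℕ → A} (he : En g.m g.N e)
  {F : FusionSystem (⊤ : Subgroup A)} {M : Subgroup A → (A → A) → Prop}
include hK he

omit hK in
theorem wd_tabs (hM : Closed F M) {s : PM} (hs : WF g s) (h0 : HM F M e s) :
    (∃ D ψ, Mp F D ψ ∧ M D ψ ∧ Lk g e D ψ (lk s.tab)) ∧ ∃ D ψ, Mp F D ψ ∧ M D ψ ∧ Lk g e D ψ (lk s.itab) := by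
  obtain ⟨f, h1, h2, h3⟩ := h0
  obtain ⟨h4, h5⟩ := lk_val hs (hs.val A e f _ he (hm_of_mp h1) h3) le_rfl
  obtain ⟨R, χ, h6, h7, h8⟩ := word_inv hM h1 h2
  refine ⟨⟨_, f, h1, h2, h4⟩, R, χ, h6, h7, fun b hb => ?_⟩
  obtain ⟨a1, a2, a3, a4⟩ := h5 b hb
  exact ⟨a1, a2, a4 ▸ (h8 _ a3).1, by rw [← a4, (h8 _ a3).2]⟩

theorem wd_tb (hM : Closed F M) {L : List ℕ} (hL : HL g F M e L) {st : PM} (hs : WF g st) (h0 : HM F M e st) (j : ℕ) :
    ∃ D ψ, Mp F D ψ ∧ M D ψ ∧ Lk g e D ψ (lk (g.tb L st j)) := by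
  have h1 := wd_tabs he hM hs h0
  have h2 : ∀ i, HM F M e (g.mkP (nth 0 L i)) := fun i => by
    rcases nth_or 0 L i with h | h
    · exact hL _ h
    · rw [h, hK.mkP_zero]
      exact hm_s0 hM e
  have h3 := fun i => wd_tabs he hM (hK.wf_mkP (nth 0 L i)) (h2 i)
  unfold Gp.tb
  cases Nat.ble j 2
  · rw [iF_false, frc_eq]
    unfold Gp.tbL
    cases nz (Nat.land j 1)
    · exact (h3 _).2
    · exact (h3 _).1
  · rw [iF_true]
    cases nz j
    · refine ⟨⊤, fun x => x, mp_id F le_top, wd_id hM _, fun a ha => ?_⟩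
      rw [iF_false] at ha ⊢
      have h4 : a < g.N := lt_of_not_ge fun h => ha (lk_of_lt hK.id_lt h)
      rw [hK.id_eq a h4]
      exact ⟨h4, h4, Subgroup.mem_top _, rfl⟩
    · rw [iF_true]
      cases Nat.beq j 1
      · exact h1.2
      · exact h1.1

theorem wd_evk (hM : Closed F M) {L : List ℕ} (hL : HL g F M e L) {st : PM} (hs : WF g st) (h0 : HM F M e st) (w : ℕ)
    {X : Set ℕ} (k : ℕ) (hX : ∀ a ∈ X, a < g.N ∧ g.evk L st w k a ≠ 0) :
    ∃ ψ, Mp F (Subgroup.closure (e '' X)) ψ ∧ M (Subgroup.closure (e '' X)) ψ ∧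
      ∀ a ∈ X, g.evk L st w k a < g.N ∧ ψ (e a) = e (g.evk L st w k a) := by
  induction k with
  | zero => exact ⟨fun x => x, mp_id F le_top, wd_id hM _, fun a ha => ⟨(hX a ha).1, rfl⟩⟩
  | succ k ih =>
    obtain ⟨D, χ, h1, h2, h3⟩ := hK.wd_tb he hM hL hs h0 (lk w (Nat.succ (Nat.add k k)))
    have hs' := hK.by_lt w (Nat.add k k)
    have h4 : ∀ a, g.evk L st w (k + 1) a =
      lk (g.tb L st (lk w (Nat.succ (Nat.add k k)))) (g.cj0 (g.by' w (Nat.add k k)) (g.evk L st w k a)) := fun _ => rfl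
    obtain ⟨φ, h5, h6, h7⟩ := ih fun a ha => ⟨(hX a ha).1, fun h => by
      have h5 := (hX a ha).2
      rw [h4, h, (hK.cj0_eq_zero he hs' hK.N_pos).2 rfl] at h5
      obtain ⟨-, a2, -, a4⟩ := h3 0 h5
      rw [hK.e_zero he, h1.one] at a4
      exact h5 ((hK.e_eq_one he a2).1 a4.symm)⟩
    have h8 : ∀ a ∈ X, e (g.by' w (Nat.add k k)) * φ (e a) * (e (g.by' w (Nat.add k k)))⁻¹ =
        e (g.cj0 (g.by' w (Nat.add k k)) (g.evk L st w k a)) := fun a ha => by
      rw [hK.e_cj0 he hs' (h7 a ha).1, (h7 a ha).2]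
    obtain ⟨h9, h10⟩ := word_step hM rfl h5 h6 h1 h2 (s := e (g.by' w (Nat.add k k))) (by
      rintro _ ⟨a, ha, rfl⟩
      rw [h8 a ha]
      exact (h3 _ (hX a ha).2).2.2.1)
    refine ⟨_, h9, h10, fun a ha => ⟨(h3 _ (hX a ha).2).2.1, ?_⟩⟩
    show χ _ = _
    rw [h8 a ha]
    exact (h3 _ (hX a ha).2).2.2.2

/-- a word in the known maps, evaluated on the set `X` -/
theorem ev_spec (hM : Closed F M) {L : List ℕ} (hL : HL g F M e L) {st : PM} (hs : WF g st) (h0 : HM F M e st) (w : ℕ)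
    {X : Set ℕ} (hX : ∀ a ∈ X, a < g.N ∧ g.ev L st w a ≠ 0) :
    ∃ ψ, Mp F (Subgroup.closure (e '' X)) ψ ∧ M (Subgroup.closure (e '' X)) ψ ∧
      ∀ a ∈ X, g.ev L st w a < g.N ∧ ψ (e a) = e (g.ev L st w a) :=
  hK.wd_evk he hM hL hs h0 w (len2 w) hX

theorem wd_der1 (hM : Closed F M) {L : List ℕ} (hL : HL g F M e L) {st : PM} (hs : WF g st) (h0 : HM F M e st)
    {β : ℕ → ℕ} (hβ : ∀ a, a < g.N → β a < g.N) {s w : ℕ} (h : g.der1 L st β s w = true) :
    HM F M (fun a => e (β a)) (g.mkP s) := by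
  have h1 : ∀ p ∈ (g.mkP s).gs.ls, β p.2 ≠ 0 ∧ g.ev L st w (β p.1) = β p.2 := fun p hp => by
    have h1 := allP_iff.1 h p hp
    rwa [an_iff, nz_iff, beq_iff] at h1
  obtain ⟨ψ, h2, h3, h4⟩ := hK.ev_spec he hM hL hs h0 w (X := {a | ∃ p ∈ (g.mkP s).gs.ls, a = β p.1}) (by
    rintro _ ⟨p, hp, rfl⟩
    exact ⟨hβ _ ((hK.wf_mkP s).gs p hp).1, by rw [(h1 p hp).2]; exact (h1 p hp).1⟩)
  have h5 : Subgroup.closure (e '' {a | ∃ p ∈ (g.mkP s).gs.ls, a = β p.1}) = dom (fun a => e (β a)) (g.mkP s) := by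
    refine congrArg Subgroup.closure (Set.ext fun x => ⟨?_, ?_⟩)
    · rintro ⟨_, ⟨p, hp, rfl⟩, rfl⟩
      exact ⟨p, hp, rfl⟩
    · rintro ⟨p, hp, rfl⟩
      exact ⟨_, ⟨p, hp, rfl⟩, rfl⟩
  rw [h5] at h2 h3
  refine ⟨ψ, h2, h3, fun p hp => ⟨wd_gen (fun a => e (β a)) hp, ?_⟩⟩
  show ψ (e (β p.1)) = e (β p.2)
  rw [(h4 _ ⟨p, hp, rfl⟩).2, (h1 p hp).2]

theorem der_spec (hM : Closed F M) {L : List ℕ} (hL : HL g F M e L) {st : PM} (hs : WF g st) (h0 : HM F M e st)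
    {β : ℕ → ℕ} (hβ : ∀ a, a < g.N → β a < g.N) {Lt : List ℕ} {ws : ℕ} (h : g.der L st β Lt ws = true) :
    HL g F M (fun a => e (β a)) Lt := by
  induction Lt generalizing ws with
  | nil => exact fun _ hp => absurd hp List.not_mem_nil
  | cons s Lt ih =>
    obtain ⟨h1, h2⟩ := an_iff.1 h
    intro t ht
    rcases List.mem_cons.1 ht with rfl | ht
    · exact hK.wd_der1 he hM hL hs h0 hβ h1
    · exact ih h2 t ht

theorem hm_cj (hM : Closed F M) {s : PM} (hs : WF g s) (h0 : HM F M e s) {h : ℕ} (hh : h < g.N) :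
    HM F M (fun a => e (g.cj h a)) s := by
  obtain ⟨f, h1, h2, h3⟩ := h0
  obtain ⟨h4, h5⟩ := word_conj hM h1 h2 (e h) (P' := dom (fun a => e (g.cj h a)) s) fun y hy => by
    have h4 := wd_conj (e h)⁻¹ (K := dom e s) (by
      rintro _ ⟨p, hp, rfl⟩
      show (e h)⁻¹ * e (g.cj h p.1) * (e h)⁻¹⁻¹ ∈ _
      rw [hK.e_cj he hh (hs.gs p hp).1, show (e h)⁻¹ * (e h * e p.1 * (e h)⁻¹) * (e h)⁻¹⁻¹ = e p.1 by group]
      exact (h3 p hp).1) y hy
    rwa [inv_inv] at h4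
  refine ⟨_, h4, h5, fun p hp => ⟨wd_gen (fun a => e (g.cj h a)) hp, ?_⟩⟩
  show e h * f ((e h)⁻¹ * e (g.cj h p.1) * e h) * (e h)⁻¹ = e (g.cj h p.2)
  rw [hK.e_cj he hh (hs.gs p hp).1, hK.e_cj he hh (hs.gs p hp).2,
    show (e h)⁻¹ * (e h * e p.1 * (e h)⁻¹) * e h = e p.1 by group, (h3 p hp).2]

omit hK he in
/-- only the values below `N` matter -/
theorem dom_congr {e' : ℕ → A} (h : ∀ a, a < g.N → e' a = e a) {s : PM} (hs : WF g s) : dom e' s = dom e s :=
  congrArg Subgroup.closure (Set.ext fun _ => exists_congr fun p => and_congr_right fun hp => by rw [h _ (hs.gs p hp).1])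

omit hK he in
theorem hm_congr {e' : ℕ → A} (h : ∀ a, a < g.N → e' a = e a) {s : PM} (hs : WF g s) (h0 : HM F M e s) :
    HM F M e' s := by
  obtain ⟨f, h1, h2, h3⟩ := h0
  rw [← dom_congr h hs] at h1 h2 h3
  exact ⟨f, h1, h2, fun p hp => by rw [h _ (hs.gs p hp).1, h _ (hs.gs p hp).2]; exact h3 p hp⟩

omit hK in
theorem en_congr {e' : ℕ → A} (h : ∀ a, a < g.N → e' a = e a) : En g.m g.N e' :=
  ⟨he.lt, fun a ha b hb => by rw [h _ (he.lt a ha b hb), h a ha, h b hb, he.mul a ha b hb], fun x => by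
    obtain ⟨a, ha, h1⟩ := he.surj x
    exact ⟨a, ha, (h a ha).trans h1⟩, he.card⟩

omit he in
theorem gam_lt (x : Nx) (w : ℕ) {a : ℕ} (ha : a < g.N) : g.gam x w a < g.N := by
  refine hK.cj0_lt (hK.by_lt w 0) ?_
  cases nz (Nat.shiftRight w 32)
  · exact ha
  · exact hK.aut_lt _ ha

/-- the automorphism with the code `w` preserves the known maps -/
theorem gam_spec (hM : Closed F M) {x : Nx} (hL : HL g F M e x.L) {w : ℕ} (h : g.good x (Nat.shiftRight w 32) = true) :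
    En g.m g.N (fun a => e (g.gam x w a)) ∧ HL g F M (fun a => e (g.gam x w a)) x.L := by
  obtain ⟨β, h1, h2, h3, h4⟩ : ∃ β : ℕ → ℕ, (∀ a, a < g.N → β a < g.N) ∧ En g.m g.N (fun a => e (β a)) ∧
      HL g F M (fun a => e (β a)) x.L ∧ ∀ a, g.gam x w a = g.cj0 (g.by' w 0) (β a) := by
    unfold Gp.good at h
    unfold Gp.gam
    revert h
    cases nz (Nat.shiftRight w 32)
    · exact fun _ => ⟨fun a => a, fun _ h => h, he, hL, fun _ => rfl⟩
    · intro h
      rw [iF_true, frc_eq] at h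
      obtain ⟨h1, h2⟩ := an_iff.1 h
      exact ⟨_, fun _ => hK.aut_lt _, hK.aut_spec he h1,
        hK.der_spec he hM hL hK.ws_s0.toWF (hm_s0 hM e) (fun _ => hK.aut_lt _) h2, fun _ => rfl⟩
  obtain ⟨c, hc, h5⟩ := h2.surj (e (g.by' w 0))
  have h6 : ∀ a, a < g.N → e (g.gam x w a) = e (β (g.cj c a)) := fun a ha => by
    rw [h4, hK.e_cj0 he (hK.by_lt w 0) (h1 a ha), ← h5]
    exact (hK.e_cj h2 hc ha).symm
  exact ⟨en_congr (hK.en_cj h2 hc) h6, fun s hs =>
    hm_congr h6 (hK.wf_mkP s) (hK.hm_cj h2 hM (hK.wf_mkP s) (h3 s hs) hc)⟩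

/-- a subgroup which is mapped into itself -/
theorem dom_stab {γ : ℕ → ℕ} (hγ : ∀ a, a < g.N → γ a < g.N) (he' : En g.m g.N fun a => e (γ a)) {s : PM} (hs : WS g s)
    (h : (allP s.gs fun a _ => mem s (γ a)) = true) : dom (fun a => e (γ a)) s = dom e s := by
  have := (hK.pgroup he).1
  obtain ⟨θ, hθ⟩ := he.exists_aut he'
  have h1 : dom (fun a => e (γ a)) s = (dom e s).map θ.toMonoidHom := by
    unfold dom
    rw [MonoidHom.map_closure]
    refine congrArg Subgroup.closure (Set.ext fun x => ⟨?_, ?_⟩)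
    · rintro ⟨p, hp, rfl⟩
      exact ⟨_, ⟨p, hp, rfl⟩, hθ _ (hs.gs p hp).1⟩
    · rintro ⟨_, ⟨p, hp, rfl⟩, rfl⟩
      exact ⟨p, hp, hθ _ (hs.gs p hp).1⟩
  refine Subgroup.eq_of_le_of_card_ge ((Subgroup.closure_le _).2 ?_) ?_
  · rintro _ ⟨p, hp, rfl⟩
    exact (hK.mem_ws he hs (hγ _ (hs.gs p hp).1)).1 (allP_iff.1 h p hp)
  · rw [h1, Subgroup.card_map_of_injective θ.injective]

theorem okN_spec {P : PM} (hP : WS g P) {r : ℕ} (hr : r < g.N) (h : g.okN P r = true) : Nq (dom e P) (e r) := by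
  unfold Gp.okN at h
  rw [frc_eq] at h
  obtain ⟨h1, h2⟩ := an_iff.1 h
  obtain ⟨h2, h3⟩ := an_iff.1 h2
  refine ⟨wd_conj _ ?_, fun h4 => nt_iff.1 h1 ((hK.mem_ws he hP hr).2 h4), ?_⟩
  · rintro _ ⟨p, hp, rfl⟩
    rw [← hK.e_cj he hr (hP.gs p hp).1]
    exact (hK.mem_ws he hP (hK.cj_lt hr (hP.gs p hp).1)).1 (allP_iff.1 h3 p hp)
  · rw [← hK.e_q he hr]
    exact (hK.mem_ws he hP (hK.q_lt hr)).1 h2

theorem full_top {S : PM} (hS : WF g S) {φ : A → A} (hv : Val g e φ S) (h : g.full S = true) : dom e S = ⊤ := by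
  refine top_le_iff.1 fun y _ => ?_
  obtain ⟨a, ha, rfl⟩ := he.surj y
  exact (hK.mem_val he hS hv ha).1 (hK.full_mem h ha)

/-- `W` is normal -/
theorem nrm_spec {S W : PM} (hS : WS g S) (hW : WS g W) (hf : g.full S = true) (h : g.nrm S W = true) :
    ∀ s, ∀ x ∈ dom e W, s * x * s⁻¹ ∈ dom e W := by
  have := (hK.pgroup he).1
  have h1 : dom e S ≤ Subgroup.normalizer (dom e W : Set A) := (Subgroup.closure_le _).2 (by
    rintro _ ⟨p, hp, rfl⟩
    refine Subgroup.mem_normalizer_fintype (wd_conj _ ?_)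
    rintro _ ⟨q, hq, rfl⟩
    rw [← hK.e_cj he (hS.gs p hp).1 (hW.gs q hq).1]
    exact (hK.mem_ws he hW (hK.cj_lt (hS.gs p hp).1 (hW.gs q hq).1)).1 (allP_iff.1 (allP_iff.1 h p hp) q hq))
  rw [hK.full_top he hS.toWF (val_ws he hS) hf] at h1
  exact fun s x hx => (h1 (Subgroup.mem_top s) x).1 hx

theorem cms_spec {S W : PM} (hS : WS g S) (hW : WS g W) (hf : g.full S = true) (h : g.nrm S W = true)
    (hc : g.cms S W = true) : ∀ x y, x * y * x⁻¹ * y⁻¹ ∈ dom e W := by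
  have hn : (dom e W).Normal := ⟨fun x hx s => hK.nrm_spec he hS hW hf h s x hx⟩
  have ht := hK.full_top he hS.toWF (val_ws he hS) hf
  let π := QuotientGroup.mk' (dom e W)
  have h1 : ∀ x y, x * y * x⁻¹ * y⁻¹ ∈ dom e W ↔ π y ∈ Subgroup.centralizer {π x} := fun x y => by
    rw [Subgroup.mem_centralizer_singleton_iff, ← QuotientGroup.eq_one_iff]
    show π _ = 1 ↔ _
    rw [map_mul, map_mul, map_mul, map_inv, map_inv, mul_inv_eq_one, mul_inv_eq_iff_eq_mul, eq_comm]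
  have h2 : ∀ x y, π y ∈ Subgroup.centralizer {π x} → π x ∈ Subgroup.centralizer {π y} := fun x y => by
    rw [Subgroup.mem_centralizer_singleton_iff, Subgroup.mem_centralizer_singleton_iff]
    exact Eq.symm
  intro x y
  refine (h1 x y).2 (wd_hom π (X := gS e S.gs) ?_ y (by rw [← dom, ht]; exact Subgroup.mem_top y))
  rintro _ ⟨q, hq, rfl⟩
  refine h2 _ _ (wd_hom π (X := gS e S.gs) ?_ x (by rw [← dom, ht]; exact Subgroup.mem_top x))
  rintro _ ⟨p, hp, rfl⟩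
  refine (h1 _ _).1 ?_
  rw [← hK.e_cm he (hS.gs q hq).1 (hS.gs p hp).1]
  exact (hK.mem_ws he hW (hK.cm_lt (hS.gs q hq).1 (hS.gs p hp).1)).1 (allP_iff.1 (allP_iff.1 hc q hq) p hp)

theorem nrmz_spec {T K : PM} (hT : WS g T) (hK' : WS g K) (h : g.nrmz T K = true) :
    ∀ s, (∀ x ∈ gS e T.gs, s * x * s⁻¹ ∈ dom e T) → s ∈ dom e K := by
  intro s hs
  obtain ⟨a, ha, rfl⟩ := he.surj s
  rcases orr_iff.1 (allN_iff.1 h a ha) with h1 | h1
  · exact (hK.mem_ws he hK' ha).1 h1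
  · refine absurd (allP_iff.2 fun p hp => ?_) (nt_iff.1 h1)
    refine (hK.mem_ws he hT (hK.cj_lt ha (hT.gs p hp).1)).2 ?_
    rw [hK.e_cj he ha (hT.gs p hp).1]
    exact hs _ ⟨p, hp, rfl⟩

/-- the mask of the coset `t P` -/
theorem lk_cos {P : PM} (hP : WS g P) {t a : ℕ} (ht : t < g.N) (ha : a < g.N) :
    lk (g.cos P t) a ≠ 0 ↔ (e t)⁻¹ * e a ∈ dom e P := by
  classical
  have hv := val_ws he hP
  unfold Gp.cos
  rw [frr_eq]
  by_cases h0 : Nat.ble 4 (g.blk P) = true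
  · obtain ⟨b1, b2, b3⟩ := hK.blk_hi (blk_le P) ha
    have h1 := hK.blk_cos he hP b2 ha b3
    have h2 := hK.i_lt t ht
    rw [iF_pos h0, frr_eq, frr_eq]
    delta Gp.cosB
    rw [lk_foN_single b1 fun i _ hne => ?_, ← hK.e_i he ht,
      ← mul_inv_cancel_left (e (Nat.shiftLeft (a >>> g.blk P) (g.blk P))) (e a), ← mul_assoc,
      Subgroup.mul_mem_cancel_right _ h1, ← he.mul _ h2 _ b2, ← hK.mem_ws he hP (hK.m_lt _ h2 _ b2)]
    · show lk (iF (mem P (g.m _ _)) _ _) a ≠ 0 ↔ _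
      by_cases h3 : mem P (g.m (g.i t) (Nat.shiftLeft (a >>> g.blk P) (g.blk P))) = true
      · rw [iF_pos h3, lk_pt_ones, if_pos rfl]
        exact iff_of_true one_ne_zero h3
      · rw [iF_neg h3, lk_zero]
        exact iff_of_false (fun h => h rfl) h3
    · cases mem P (lk (g.r (g.i t)) (Nat.shiftLeft i (g.blk P)))
      · exact lk_zero a
      · exact (lk_pt_ones _ _ _).trans (if_neg hne.symm)
  rw [iF_neg h0]
  delta Gp.cos0
  rw [lk_foP_pt P.el (g.m t) a]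
  constructor
  · intro h
    obtain ⟨p, hp, rfl⟩ : ∃ p ∈ P.el.ls, g.m t p.1 = a := by
      by_contra h1
      exact h (if_neg h1)
    rw [he.mul t ht _ (hP.el p hp).1, inv_mul_cancel_left]
    exact (hv.el p hp).1
  · intro h
    obtain ⟨b, hb, h1⟩ := he.surj ((e t)⁻¹ * e a)
    obtain ⟨c, hc⟩ := hv.cov b hb (h1 ▸ h)
    rw [if_pos ⟨_, hc, he.inj (he.lt t ht b hb) ha (by rw [he.mul t ht b hb, h1, mul_inv_cancel_left])⟩]
    exact one_ne_zero

theorem dom_of_tab {P P' : PM} (hP : WS g P) (hP' : WS g P') (h : P.tab = P'.tab) : dom e P = dom e P' := by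
  ext y
  obtain ⟨a, ha, rfl⟩ := he.surj y
  rw [← hK.mem_ws he hP ha, ← hK.mem_ws he hP' ha, mem_iff', mem_iff', h]

end Gp.K

end Cfsg.Agent.FS.NB
end

-- part: FS/N/B/Cs
section
/-!
# The checker of part B for S5288: closed families of subgroups (nodes of the kind `5`; helper49)
-/

set_option autoImplicit false

namespace Cfsg.Agent.FS.NB

open Cfsg Cfsg.FusionSystem Cfsg.Agent.H752 Cfsg.Agent.FS.Th Cfsg.Agent.FS.Pc Cfsg.Agent.FS.Sw Cfsg.Agent.FS.B
open Asm (En)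

variable {A : Type} [Group A]

/-- `Y` is the image of `X` -/
def Im (f : A → A) (X Y : Subgroup A) : Prop := ∀ y, y ∈ Y ↔ ∃ x ∈ X, f x = y

/-- the map keeps the family `C` and its complement -/
def clsP (C : Subgroup A → Prop) (P : Subgroup A) (f : A → A) : Prop := ∀ X Y, X ≤ P → Im f X Y → (C X ↔ C Y)

variable {C : Subgroup A → Prop} {P Q R X Y Z : Subgroup A} {f k : A → A}

theorem Im.eq (h : Im f X Y) (h' : Im f X Z) : Y = Z := Subgroup.ext fun y => (h y).trans (h' y).symm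

theorem im_map (θ : A →* A) (X : Subgroup A) : Im θ X (X.map θ) := fun _ => Subgroup.mem_map

theorem clsP.congr (h : clsP C P f) (h1 : ∀ x ∈ P, k x = f x) : clsP C P k := fun X Y hX h2 =>
  h X Y hX fun y => (h2 y).trans (exists_congr fun x => and_congr_right fun hx => by rw [h1 x (hX hx)])

theorem clsP.comp (hf : ∀ X, X ≤ P → ∃ Z, Im f X Z) (h1 : clsP C P f) (h2 : clsP C Q k) (h : ∀ x ∈ P, f x ∈ Q) :
    clsP C P fun x => k (f x) := fun X Y hX h3 => by
  obtain ⟨Z, hZ⟩ := hf X hX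
  refine (h1 X Z hX hZ).trans (h2 Z Y (fun z hz => ?_) fun y => (h3 y).trans ⟨?_, ?_⟩)
  · obtain ⟨x, hx, rfl⟩ := (hZ z).1 hz
    exact h x (hX hx)
  · rintro ⟨x, hx, rfl⟩
    exact ⟨_, (hZ _).2 ⟨x, hx, rfl⟩, rfl⟩
  · rintro ⟨z, hz, rfl⟩
    obtain ⟨x, hx, rfl⟩ := (hZ z).1 hz
    exact ⟨x, hx, rfl⟩

theorem clsP.inv (h1 : clsP C P f) (h : ∀ y ∈ R, ∃ x ∈ P, f x = y ∧ k y = x) : clsP C R k := fun X Y hX h2 => by
  refine (h1 Y X (fun y hy => ?_) fun x => ⟨fun hx => ?_, ?_⟩).symm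
  · obtain ⟨x, hx, rfl⟩ := (h2 y).1 hy
    obtain ⟨u, hu, -, h3⟩ := h x (hX hx)
    exact h3 ▸ hu
  · obtain ⟨u, -, h3, h4⟩ := h x (hX hx)
    exact ⟨u, (h2 u).2 ⟨x, hx, h4⟩, h3⟩
  · rintro ⟨y, hy, rfl⟩
    obtain ⟨x, hx, rfl⟩ := (h2 y).1 hy
    obtain ⟨u, -, h3, h4⟩ := h x (hX hx)
    rwa [h4, h3]

theorem closed_clsP (F : FusionSystem (⊤ : Subgroup A)) (h : ∀ s : A, clsP C ⊤ fun x => s * x * s⁻¹) :
    Closed F (clsP C) :=
  ⟨fun _ _ _ _ h1 h2 => h1.congr h2,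
    fun _ _ _ _ h1 _ h2 h3 h4 => clsP.comp (fun _ hX => (h1.exists_image hX).imp fun _ h5 => h5.1) h2 h3 h4,
    fun _ _ _ _ _ h1 _ h2 _ => h1.inv h2, fun _ _ s _ X Y _ h1 => h s X Y le_top h1⟩

theorem cls_conj {S : Set A} (hS : Subgroup.closure S = ⊤) (h : ∀ s ∈ S, clsP C ⊤ fun x => s * x * s⁻¹) (s : A) :
    clsP C ⊤ fun x => s * x * s⁻¹ := by
  have hs : s ∈ Subgroup.closure S := hS ▸ Subgroup.mem_top s
  induction hs using Subgroup.closure_induction with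
  | mem s hs => exact h s hs
  | one => exact fun X Y _ h1 => by rw [h1.eq (Z := X) fun y => by simp]
  | mul s t _ _ h1 h2 =>
    exact (clsP.comp (fun X _ => ⟨_, im_map (MulAut.conj t).toMonoidHom X⟩) h2 h1 fun _ _ => Subgroup.mem_top _).congr
      fun x _ => by show _ = s * (t * x * t⁻¹) * s⁻¹; group
  | inv s _ h1 => exact h1.inv fun y _ => ⟨s⁻¹ * y * s⁻¹⁻¹, Subgroup.mem_top _, by group, rfl⟩

theorem im_of_le [Finite A] (hf : Set.InjOn f P) (hX : X ≤ P) (h : ∀ x ∈ X, f x ∈ Y) (hc : Nat.card X = Nat.card Y) :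
    Im f X Y := fun y => ⟨fun hy => by
  obtain ⟨x, hx⟩ := ((Nat.bijective_iff_injective_and_card fun x : X => (⟨f x, h x x.2⟩ : Y)).2
    ⟨fun a b hab => Subtype.ext (hf (hX a.2) (hX b.2) (congrArg Subtype.val hab)), hc⟩).2 ⟨y, hy⟩
  exact ⟨x, x.2, congrArg Subtype.val hx⟩, fun ⟨x, hx, h1⟩ => h1 ▸ h x hx⟩

/-- an automorphism which maps members into members -/
theorem cls_of [Finite A] (hc : ∀ X Y, C X → C Y → Nat.card X = Nat.card Y) (hf : Set.InjOn f Q) (hm : ∀ x ∈ Q, f x ∈ Q)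
    (h : ∀ X, C X → X ≤ Q → ∃ Y, C Y ∧ ∀ x ∈ X, f x ∈ Y) : clsP C Q f := by
  have h0 : ∀ X, C X → X ≤ Q → ∃ Y, C Y ∧ Im f X Y := fun X h1 h2 =>
    (h X h1 h2).imp fun Y h3 => ⟨h3.1, im_of_le hf h2 h3.2 (hc X Y h1 h3.1)⟩
  have h1 : ∀ {X Y : Subgroup A}, Im f X Y → f '' (X : Set A) = Y := fun h1 => Set.ext fun y => (h1 y).symm
  have h2 : ∀ {X Y : Subgroup A}, X ≤ Q → Im f X Y → Y ≤ Q := fun h2 h3 y hy => by
    obtain ⟨x, hx, rfl⟩ := (h3 y).1 hy
    exact hm x (h2 hx)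
  refine fun X Y hX hXY => ⟨fun h3 => ?_, fun h3 => ?_⟩
  · obtain ⟨Z, h4, h5⟩ := h0 X h3 hX
    rwa [hXY.eq h5]
  · have h4 : Set.MapsTo (Set.image f) {s : Set A | ∃ X : Subgroup A, C X ∧ X ≤ Q ∧ (X : Set A) = s}
        {s : Set A | ∃ X : Subgroup A, C X ∧ X ≤ Q ∧ (X : Set A) = s} := by
      rintro _ ⟨U, h4, h5, rfl⟩
      obtain ⟨V, h6, h7⟩ := h0 U h4 h5
      exact ⟨V, h6, h2 h5 h7, (h1 h7).symm⟩
    obtain ⟨_, ⟨U, h5, h6, rfl⟩, h7⟩ := (((Set.toFinite _).injOn_iff_bijOn_of_mapsTo h4).1 (by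
      rintro _ ⟨U, -, h5, rfl⟩ _ ⟨V, -, h6, rfl⟩ h7
      exact (hf.image_eq_image_iff h5 h6).1 h7)).surjOn ⟨Y, h3, h2 hX hXY, rfl⟩
    rwa [SetLike.coe_injective ((hf.image_eq_image_iff hX h6).1 ((h1 hXY).trans h7.symm))]

/-- all maps keep the family: a member with the largest normalizer is fully normalized -/
theorem fn_of_cls {F : FusionSystem (⊤ : Subgroup A)} (h : ∀ P f, Mp F P f → clsP C P f) {T : Subgroup A} (hT : C T)
    (hN : ∀ X, C X → Nat.card (normalizerIn ⊤ X) ≤ Nat.card (normalizerIn ⊤ T)) : F.IsFullyNormalized T := by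
  refine ⟨le_top, ?_⟩
  rintro _ ⟨φ, hφ, rfl⟩
  refine hN _ ((h T _ (mp_ex hφ) T _ le_rfl fun y => ⟨?_, ?_⟩).1 hT)
  · rintro ⟨x, rfl⟩
    exact ⟨x, x.2, ex_coe φ x⟩
  · rintro ⟨x, hx, rfl⟩
    exact ⟨⟨x, hx⟩, (ex_apply φ hx).symm⟩

/-- The extension axiom: `f` maps `U` onto the fully normalized subgroup `T`; `Y` generates `R`. -/
theorem ext_gens' [Finite A] (hA : IsPGroup 2 A) {F : FusionSystem (⊤ : Subgroup A)} (hF : F.IsSaturated 2)
    {X Y : Set A} {U T R : Subgroup A} (hU : U = Subgroup.closure X) (hT : F.IsFullyNormalized T) (hg : Mp F U f)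
    (h1 : ∀ y, y ∈ T ↔ ∃ x ∈ U, f x = y) (hR : R = Subgroup.closure Y) (hUR : U ≤ R)
    (h2 : ∀ s ∈ Y, (∀ x ∈ X, s * x * s⁻¹ ∈ U) ∧ ∃ s', ∀ x ∈ X, s' * f x = f (s * x * s⁻¹) * s') :
    ∃ k, Mp F R k ∧ ∀ x ∈ U, k x = f x := by
  have : Fact (Nat.Prime 2) := ⟨Nat.prime_two⟩
  refine H754.mp_extend (H802.isReceptive_of_isFullyNormalized (hA.to_subgroup ⊤) hF hT) hg h1 hUR fun s hs => ?_
  obtain ⟨h3, s', h4⟩ := conj_gens hU hg h2 s (hR ▸ hs)
  exact ⟨Subgroup.mem_top s, Subgroup.mem_normalizer_fintype h3, s', Subgroup.mem_top _, h4⟩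

/-! ### the checks -/

theorem exL_iff {α : Type} {L : List α} {p : α → Bool} : exL L p = true ↔ ∃ a ∈ L, p a = true := by
  induction L with
  | nil => exact ⟨fun h => absurd h Bool.false_ne_true, fun ⟨_, h, _⟩ => absurd h List.not_mem_nil⟩
  | cons a L ih => rw [show exL (a :: L) p = orr (p a) (exL L p) from rfl, orr_iff, ih]; simp

theorem inC_iff {cl : List PM} {X : PM} {p : PM → ℕ → Bool} :
    inC cl X p = true ↔ ∃ Y ∈ cl, ∀ q ∈ X.gs.ls, p Y q.1 = true := by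
  unfold inC
  simp only [exL_iff, allP_iff]

theorem cnN_eq (p : ℕ → Bool) : ∀ n, cnN n p = ((Finset.range n).filter fun i => p i = true).card := by
  intro n
  induction n with
  | zero => rfl
  | succ n ih =>
    show iF (p n) (Nat.succ (cnN n p)) (cnN n p) = _
    rw [Finset.range_add_one, Finset.filter_insert, ih]
    by_cases h : p n = true
    · rw [iF_pos h, if_pos h, Finset.card_insert_of_notMem (by simp)]
    · rw [iF_neg h, if_neg h]

variable {g : Gp} {e : ℕ → A}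

theorem card_sub (he : En g.m g.N e) {p : ℕ → Bool} (h : ∀ a, a < g.N → (p a = true ↔ e a ∈ X)) :
    ((Finset.range g.N).filter fun a => p a = true).card = Nat.card X := by
  rw [← Nat.card_eq_finsetCard]
  have h1 : ∀ i : ((Finset.range g.N).filter fun a => p a = true), i.1 < g.N := fun i =>
    Finset.mem_range.1 (Finset.mem_filter.1 i.2).1
  refine Nat.card_eq_of_bijective (fun i => (⟨e i.1, (h _ (h1 i)).1 (Finset.mem_filter.1 i.2).2⟩ : X))
    ⟨fun i j hij => Subtype.ext (he.inj (h1 i) (h1 j) (congrArg Subtype.val hij)), fun x => ?_⟩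
  obtain ⟨a, ha, h2⟩ := he.surj x
  exact ⟨⟨a, Finset.mem_filter.2 ⟨Finset.mem_range.2 ha, (h a ha).2 (h2 ▸ x.2)⟩⟩, Subtype.ext h2⟩

theorem msk_card (hK : g.K) (he : En g.m g.N e) {X : PM} (hX : WS g X) : g.msk X % 65535 = Nat.card (dom e X) := by
  have h1 := card_sub he fun a ha => hK.mem_ws he hX ha
  rw [InvAux.mod_sum _ _ (hK.msk_lt X), Finset.sum_congr rfl fun s hs => hK.lk_msk X (Finset.mem_range.1 hs),
    ← Finset.card_filter, ← h1]
  refine Nat.mod_eq_of_lt ((Finset.card_filter_le _ _).trans_lt ?_)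
  rw [Finset.card_range]
  exact hK.N_le9.trans_lt (by norm_num)

theorem nN_card (hK : g.K) (he : En g.m g.N e) {X : PM} (hX : WS g X) :
    g.nN X = Nat.card (normalizerIn ⊤ (dom e X)) := by
  have := (hK.pgroup he).1
  unfold Gp.nN
  rw [cnN_eq]
  refine card_sub he fun s hs => ?_
  rw [allP_iff]
  refine ⟨fun h => ⟨Subgroup.mem_top _, Subgroup.mem_normalizer_fintype (wd_conj _ ?_)⟩, fun h p hp => ?_⟩
  · rintro _ ⟨p, hp, rfl⟩
    rw [← hK.e_cj he hs (hX.gs p hp).1]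
    exact (hK.mem_ws he hX (hK.cj_lt hs (hX.gs p hp).1)).1 (h p hp)
  · rw [hK.mem_ws he hX (hK.cj_lt hs (hX.gs p hp).1), hK.e_cj he hs (hX.gs p hp).1]
    exact (h.2 _).1 (wd_gen e hp)

/-- the family of the list -/
def CL (e : ℕ → A) (cl : List PM) (C : Subgroup A → Prop) : Prop := ∀ Y, C Y ↔ ∃ X ∈ cl, dom e X = Y

/-- another enumeration gives the same family -/
theorem CL.tr {cl : List PM} (h : CL e cl C) (hw : ∀ X ∈ cl, WS g X) {e' : ℕ → A} {θ : MulAut A}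
    (hθ : ∀ a, a < g.N → θ (e a) = e' a) (h1 : clsP C ⊤ θ) : CL e' cl C := by
  have h2 : ∀ X ∈ cl, Im θ (dom e X) (dom e' X) := fun X hX => by
    have h2 : dom e' X = (dom e X).map θ.toMonoidHom := by
      unfold dom
      rw [MonoidHom.map_closure]
      refine congrArg Subgroup.closure (Set.ext fun x => ⟨?_, ?_⟩)
      · rintro ⟨p, hp, rfl⟩
        exact ⟨_, ⟨p, hp, rfl⟩, hθ _ ((hw X hX).gs p hp).1⟩
      · rintro ⟨_, ⟨p, hp, rfl⟩, rfl⟩
        exact ⟨p, hp, hθ _ ((hw X hX).gs p hp).1⟩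
    rw [h2]
    exact im_map θ.toMonoidHom _
  refine fun Y => ⟨fun h3 => ?_, ?_⟩
  · have h4 : Im θ (Y.comap θ.toMonoidHom) Y := fun y => ⟨fun hy => ⟨θ.symm y, by
      show θ (θ.symm y) ∈ Y
      rwa [θ.apply_symm_apply], θ.apply_symm_apply y⟩, fun ⟨_, hx, h4⟩ => h4 ▸ hx⟩
    obtain ⟨X, hX, h5⟩ := (h _).1 ((h1 _ _ le_top h4).2 h3)
    exact ⟨X, hX, (h2 X hX).eq (h5 ▸ h4)⟩
  · rintro ⟨X, hX, rfl⟩
    exact (h1 _ _ le_top (h2 X hX)).1 ((h _).2 ⟨X, hX, rfl⟩)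

/-- an automorphism which is checked on the generators -/
theorem CL.aut (hK : g.K) (he : En g.m g.N e) {cl : List PM} (h : CL e cl C) (hw : ∀ X ∈ cl, WS g X)
    (hc : ∀ X Y, C X → C Y → Nat.card X = Nat.card Y) {γ : ℕ → ℕ} (hγ : ∀ a, a < g.N → γ a < g.N) (θ : MulAut A)
    (hθ : ∀ a, a < g.N → θ (e a) = e (γ a)) (h1 : ∀ X ∈ cl, (inC cl X fun Y a => mem Y (γ a)) = true) :
    clsP C ⊤ θ := by
  have := (hK.pgroup he).1
  refine cls_of hc θ.injective.injOn (fun _ _ => Subgroup.mem_top _) fun X hX _ => ?_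
  obtain ⟨X, h2, rfl⟩ := (h X).1 hX
  obtain ⟨Y, h3, h4⟩ := inC_iff.1 (h1 X h2)
  refine ⟨_, (h _).2 ⟨Y, h3, rfl⟩, wd_hom θ.toMonoidHom ?_⟩
  rintro _ ⟨p, hp, rfl⟩
  have h5 := ((hw X h2).gs p hp).1
  show θ (e p.1) ∈ _
  rw [hθ _ h5]
  exact (hK.mem_ws he (hw Y h3) (hγ _ h5)).1 (h4 p hp)

/-- a known map -/
theorem CL.map (hK : g.K) (he : En g.m g.N e) {cl : List PM} (h : CL e cl C) (hw : ∀ X ∈ cl, WS g X)
    (hc : ∀ X Y, C X → C Y → Nat.card X = Nat.card Y) {F : FusionSystem (⊤ : Subgroup A)} {s : PM} (hs : WF g s)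
    (hf : Mp F (dom e s) f) (hg : Gens e f (dom e s) s.gs)
    (h1 : ∀ X ∈ cl, clM cl X s.tab = true ∧ clM cl X s.itab = true) : clsP C (dom e s) f := by
  have := (hK.pgroup he).1
  have hv := hs.val A e f _ he (hm_of_mp hf) hg
  refine fun X Y hX hXY => ⟨fun h2 => ?_, fun h2 => ?_⟩
  · obtain ⟨X, h3, rfl⟩ := (h X).1 h2
    have h4 : ∀ p ∈ X.gs.ls, p.1 < g.N ∧ e p.1 ∈ dom e s := fun p hp => ⟨((hw X h3).gs p hp).1, hX (wd_gen e hp)⟩
    obtain ⟨Z, h5, h6⟩ := inC_iff.1 ((orr_iff.1 (h1 X h3).1).resolve_left fun h5 => nt_iff.1 h5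
      (allP_iff.2 fun p hp => (hK.mem_val he hs hv (h4 p hp).1).2 (h4 p hp).2))
    have h7 := (h _).2 ⟨Z, h5, rfl⟩
    rwa [hXY.eq (im_of_le (fun _ hx _ hy => hf.inj hx hy) hX (mem_of_gens (X := gS e X.gs)
      (fun _ ⟨p, hp, h8⟩ => h8 ▸ (h4 p hp).2) hf ?_) (hc _ _ h2 h7))]
    rintro _ ⟨p, hp, rfl⟩
    obtain ⟨h8, h9⟩ := hK.tab_val he hs hv (h4 p hp).1 (h4 p hp).2
    exact h9 ▸ (hK.mem_ws he (hw Z h5) h8).1 (h6 p hp)
  · obtain ⟨Y, h3, rfl⟩ := (h Y).1 h2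
    obtain ⟨k, h4, h5, h6⟩ := hf.exists_symm hX hXY
    have h7 : ∀ p ∈ Y.gs.ls, lk s.itab p.1 < g.N ∧ k (e p.1) = e (lk s.itab p.1) := fun p hp => by
      obtain ⟨h7, h8⟩ := h6 _ (wd_gen e hp)
      obtain ⟨a, ha, h9⟩ := he.surj (k (e p.1))
      obtain ⟨b, hb⟩ := hv.cov a ha (h9 ▸ hX h7)
      obtain ⟨-, h10, -, h11⟩ := hv.el _ hb
      have h12 : b = p.1 := he.inj (hs.el _ hb).2 ((hw Y h3).gs p hp).1 (h10.symm.trans (h9 ▸ h8))
      rw [← h12, show lk s.itab b = a from h11, h12]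
      exact ⟨ha, h9.symm⟩
    obtain ⟨Z, h8, h9⟩ := inC_iff.1 ((orr_iff.1 (h1 Y h3).2).resolve_left fun h8 => nt_iff.1 h8
      (allP_iff.2 fun p hp => orr_iff.2 (or_iff_not_imp_left.2 fun h9 => beq_iff.2 (by
        have h10 := (h7 p hp).2
        rw [not_not.1 fun h11 => h9 (nz_iff.2 h11), hK.e_zero he, ← h4.one] at h10
        exact (hK.e_eq_one he ((hw Y h3).gs p hp).1).1 (h4.inj (wd_gen e hp) (Subgroup.one_mem _) h10)))))
    have h10 := (h _).2 ⟨Z, h8, rfl⟩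
    have h11 : Im k (dom e Y) X := fun x => ⟨fun hx => ⟨_, (hXY _).2 ⟨x, hx, rfl⟩, h5 x hx⟩,
      fun ⟨y, hy, h11⟩ => h11 ▸ (h6 y hy).1⟩
    rwa [h11.eq (im_of_le (fun _ hx _ hy => h4.inj hx hy) le_rfl (mem_of_gens (X := gS e Y.gs)
      (fun _ hx => Subgroup.subset_closure hx) h4 ?_) (hc _ _ h2 h10))]
    rintro _ ⟨p, hp, rfl⟩
    exact (h7 p hp).2 ▸ (hK.mem_ws he (hw Z h8) (h7 p hp).1).1 (h9 p hp)

/-- the check of the family -/
theorem clsOK_spec (hK : g.K) (he : En g.m g.N e) {x : Nx} (h : CL e x.cl C) (hw : ∀ X ∈ x.cl, WS g X) {S T : PM}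
    (hS : WS g S) (hf : g.full S = true) (hT : WS g T) (hl : g.clsOK S x T = true) :
    C (dom e T) ∧ (∀ X Y, C X → C Y → Nat.card X = Nat.card Y) ∧ (∀ s : A, clsP C ⊤ fun x => s * x * s⁻¹) ∧
      (∀ X, C X → Nat.card (normalizerIn ⊤ X) ≤ Nat.card (normalizerIn ⊤ (dom e T))) ∧
      ∀ s ∈ x.L, ∀ X ∈ x.cl, clM x.cl X (g.mkP s).tab = true ∧ clM x.cl X (g.mkP s).itab = true := by
  unfold Gp.clsOK at hl
  simp only [an_iff, frc_eq, exL_iff, allL_iff, allP_iff, beq_iff, ble_iff] at hl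
  obtain ⟨⟨Y, h1, h2⟩, hl⟩ := hl
  have hc : ∀ X Y, C X → C Y → Nat.card X = Nat.card Y := fun X Y h3 h4 => by
    obtain ⟨X, h5, rfl⟩ := (h X).1 h3
    obtain ⟨Y, h6, rfl⟩ := (h Y).1 h4
    rw [← msk_card hK he (hw X h5), ← msk_card hK he (hw Y h6)]
    exact (hl X h5).1.trans (hl Y h6).1.symm
  refine ⟨(h _).2 ⟨Y, h1, hK.dom_of_tab he (hw Y h1) hT h2⟩, hc,
    cls_conj (hK.full_top he hS.toWF (Gp.K.val_ws he hS) hf) ?_, fun X h3 => ?_, fun s hs X hX => (hl X hX).2.2.2 s hs⟩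
  · rintro _ ⟨p, hp, rfl⟩
    have h3 := (hS.gs p hp).1
    exact h.aut hK he hw hc (fun _ ha => hK.cj_lt h3 ha) (MulAut.conj (e p.1)) (fun _ ha => (hK.e_cj he h3 ha).symm)
      fun X hX => (hl X hX).2.2.1 p hp
  · obtain ⟨X, h4, rfl⟩ := (h X).1 h3
    rw [← nN_card hK he (hw X h4), ← nN_card hK he hT]
    exact (hl X h4).2.1

end Cfsg.Agent.FS.NB
end

-- part: FS/N/B/Cl
section
/-!
# The checker of part B: the claims of a search
-/

set_option autoImplicit false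

namespace Cfsg.Agent.FS.NB

open Cfsg Cfsg.FusionSystem Cfsg.Agent.H752 Cfsg.Agent.FS.Th Cfsg.Agent.FS.Pc Cfsg.Agent.FS.Sw Cfsg.Agent.FS.B
open Asm (En)

/-- the abstract data of a node -/
structure Ab (A : Type) [Group A] where
  F : FusionSystem (⊤ : Subgroup A)
  M : Subgroup A → (A → A) → Prop
  W : Subgroup A
  z : A
  G : Prop
  C : Subgroup A → Prop

variable {A : Type} [Group A]

/-- no condition -/
def Tv (_ : Subgroup A) (_ : A → A) : Prop := True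

theorem closed_tv (F : FusionSystem (⊤ : Subgroup A)) : Closed F Tv :=
  ⟨fun _ _ _ _ _ _ => trivial, fun _ _ _ _ _ _ _ _ _ => trivial, fun _ _ _ _ _ _ _ _ _ => trivial,
    fun _ _ _ _ => trivial⟩

theorem HL.tv {g : Gp} {F : FusionSystem (⊤ : Subgroup A)} {M : Subgroup A → (A → A) → Prop} {e : ℕ → A} {L : List ℕ}
    (h : HL g F M e L) : HL g F Tv e L := fun s hs => by
  obtain ⟨f, h1, -, h2⟩ := h s hs
  exact ⟨f, h1, trivial, h2⟩

structure AbOK (g : Gp) (x : Nx) (a : Ab A) : Prop where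
  sat : a.F.IsSaturated 2
  cl : Closed a.F a.M
  wW : WS g x.W
  z_lt : x.z < g.N
  k1 : x.kd = 1 → ∀ P f, Mp a.F P f → a.W ≤ P → (∀ w ∈ a.W, f w ∈ a.W) → a.M P f
  k2 : x.kd = 2 → (∀ u v, u ∉ a.W → v ∉ a.W → u⁻¹ * v ∈ a.W) ∧ (∀ s, ∀ y ∈ a.W, s * y * s⁻¹ ∈ a.W) ∧
    ∀ P f, Mp a.F P f → focP a.W P f → a.M P f
  k3 : x.kd = 3 → ∀ P f, Mp a.F P f → (∃ y ∈ P, a.z⁻¹ * y ∈ a.W ∧ a.z⁻¹ * f y ∈ a.W) → a.M P f
  cuts : ∀ L ∈ x.cuts, ∀ e : ℕ → A, En g.m g.N e → HL g a.F Tv e L → a.G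
  wC : ∀ X ∈ x.cl, WS g X
  cC : ∀ X Y, a.C X → a.C Y → Nat.card X = Nat.card Y
  jC : ∀ s : A, clsP a.C ⊤ fun u => s * u * s⁻¹
  k5 : x.kd = 5 → ∀ P f, clsP a.C P f → a.M P f
  k6 : x.kd = 6 → a.F.IsFullyNormalized a.W

/-- an enumeration which fits the data of the node -/
structure RN (g : Gp) (x : Nx) (a : Ab A) (e : ℕ → A) : Prop where
  en : En g.m g.N e
  hl : HL g a.F a.M e x.L
  W : dom e x.W = a.W
  z : a.z⁻¹ * e x.z ∈ a.W
  C : CL e x.cl a.C

structure CxOK (g : Gp) (cx : Cx) : Prop where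
  wP : WS g cx.P
  t0 : cx.t0 < g.N
  ex : cx.ex = true → cx.t0 = 0 ∧ cx.ntg = 0 ∧ cx.fv = 0
  nex : ¬ cx.ex = true → cx.ntg = Nat.xor g.O (g.msk cx.P) ∧ ∃ pr, cx.fv = g.fvt cx.P pr

/-- the enumeration `e` and the unknown map `f` on `Q` -/
structure Hb (g : Gp) (cx : Cx) (a : Ab A) (Q : Subgroup A) (τ : A) (t : ℕ) (e : ℕ → A) (f : A → A) : Prop where
  rn : RN g cx.nx a e
  P : dom e cx.P = Q
  t0 : τ * (e cx.t0)⁻¹ ∈ Q
  mp : Mp a.F Q f
  au : ¬ cx.ex = true → Au a.F a.M Q f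
  di : cx.t0 ≠ 0 → Di a.F Q τ f
  t : t ≠ 0 → cx.t0 ≠ 0 ∧ e t = τ

/-- the claim at a state of the search -/
def Cl (g : Gp) (cx : Cx) (a : Ab A) (Q : Subgroup A) (τ : A) (t : ℕ) (st : PM) : Prop :=
  ∀ e f, Hb g cx a Q τ t e f → Gens e f Q st.gs → a.G

/-- the claim for the value `y` -/
def Cy (g : Gp) (cx : Cx) (a : Ab A) (Q : Subgroup A) (τ : A) (t : ℕ) (st : PM) (x y : ℕ) : Prop :=
  ∀ e f, Hb g cx a Q τ t e f → Gens e f Q st.gs → (x ≠ 0 → f (e x) = e y) → (x = 0 → cx.t0 ≠ 0 ∧ e y = τ) → a.G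

theorem gS_mem {e : ℕ → A} {s : PM} {p : ℕ × ℕ} (hp : p ∈ s.gs.ls) : e p.1 ∈ dom e s :=
  Subgroup.subset_closure ⟨p, hp, rfl⟩

theorem Gens.le {e : ℕ → A} {f : A → A} {Q : Subgroup A} {s : PM} (h : Gens e f Q s.gs) : dom e s ≤ Q :=
  (Subgroup.closure_le Q).2 fun _ ⟨p, hp, h1⟩ => h1 ▸ (h p hp).1

theorem dom_le {e : ℕ → A} {Q : Subgroup A} {s : PM} (h : ∀ p ∈ s.gs.ls, e p.1 ∈ Q) : dom e s ≤ Q :=
  (Subgroup.closure_le Q).2 fun _ ⟨p, hp, h1⟩ => h1 ▸ h p hp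

section

variable {g : Gp} {cx : Cx} {a : Ab A} {Q : Subgroup A} {τ : A} {t : ℕ} {e : ℕ → A} {f : A → A}

theorem Hb.val (h : Hb g cx a Q τ t e f) {st : PM} (hs : WF g st) (hg : Gens e f Q st.gs) : Val g e f st :=
  hs.val A e f Q h.rn.en (hm_of_mp h.mp) hg

theorem Hb.lk (h : Hb g cx a Q τ t e f) {st : PM} (hs : WF g st) (hg : Gens e f Q st.gs) :
    Lk g e Q f (lk st.tab) ∧ Li g e Q f (lk st.itab) := Gp.K.lk_val hs (h.val hs hg) hg.le

theorem Hb.mem (hK : g.K) (hc : CxOK g cx) (h : Hb g cx a Q τ t e f) {x : ℕ} (hx : x < g.N) :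
    mem cx.P x = true ↔ e x ∈ Q := h.P ▸ hK.mem_ws h.rn.en hc.wP hx

theorem Hb.inv (hK : g.K) (hc : CxOK g cx) (h : Hb g cx a Q τ t e f) : Inv g e Q f cx.fv := by
  by_cases hx : cx.ex = true
  · intro _ _ _ _ _ _
    rw [(hc.ex hx).2.2, lk_zero, lk_zero]
  · obtain ⟨pr, h1⟩ := (hc.nex hx).2
    have h2 := hK.fvt_inv h.rn.en hc.wP (f := f) (h.P ▸ hm_of_mp h.mp) (h.P ▸ (h.au hx).mem) pr
    rwa [h.P, ← h1] at h2

theorem CxOK.nex' (hc : CxOK g cx) (h : cx.t0 ≠ 0) : ¬ cx.ex = true := fun h1 => h (hc.ex h1).1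

theorem Hb.hm (h : Hb g cx a Q τ t e f) {st : PM} (hg : Gens e f Q st.gs) : HM a.F Tv e st :=
  ⟨f, h.mp.res hg.le, trivial, fun p hp => ⟨gS_mem hp, (hg p hp).2⟩⟩

theorem Lk.zero (hK : g.K) (he : En g.m g.N e) (hf : Hm Q f) {φ : ℕ → ℕ} (h : Lk g e Q f φ) : φ 0 = 0 := by
  by_contra h0
  obtain ⟨-, h1, -, h2⟩ := h 0 h0
  rw [hK.e_zero he] at h2
  have h3 : f 1 = 1 := by
    have h4 := hf.mul 1 Q.one_mem 1 Q.one_mem
    rw [mul_one] at h4
    exact left_eq_mul.1 h4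
  exact h0 ((hK.e_eq_one he h1).1 (h2.symm.trans h3))

theorem Hm.one (hf : Hm Q f) : f 1 = 1 := by
  have h4 := hf.mul 1 Q.one_mem 1 Q.one_mem
  rw [mul_one] at h4
  exact left_eq_mul.1 h4

theorem Li.zero (hK : g.K) (he : En g.m g.N e) (hf : Hm Q f) {ψ : ℕ → ℕ} (h : Li g e Q f ψ) : ψ 0 = 0 := by
  by_contra h0
  obtain ⟨-, h1, h2, h3⟩ := h 0 h0
  rw [hK.e_zero he, ← hf.one] at h3
  exact h0 ((hK.e_eq_one he h1).1 (hf.inj _ h2 _ Q.one_mem h3))

theorem Lk.lt (hK : g.K) {φ : ℕ → ℕ} (h : Lk g e Q f φ) (x : ℕ) : φ x < g.N := by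
  by_cases h0 : φ x = 0
  · rw [h0]; exact hK.N_pos
  · exact (h x h0).2.1

theorem Li.lt (hK : g.K) {φ : ℕ → ℕ} (h : Li g e Q f φ) (x : ℕ) : φ x < g.N := by
  by_cases h0 : φ x = 0
  · rw [h0]; exact hK.N_pos
  · exact (h x h0).2.1

/-- iterates: a nonzero value is a true value -/
theorem Lk.itr {φ : ℕ → ℕ} (h : Lk g e Q f φ) (h0 : φ 0 = 0) (x : ℕ) :
    ∀ u, itr φ (u + 1) x ≠ 0 → x < g.N ∧ itr φ (u + 1) x < g.N ∧ e x ∈ Q ∧ f^[u + 1] (e x) = e (itr φ (u + 1) x) := by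
  intro u
  induction u with
  | zero => exact fun h1 => h x h1
  | succ u ih =>
    intro h1
    rw [itr_succ] at h1 ⊢
    have h2 : NB.itr φ (u + 1) x ≠ 0 := fun h3 => h1 (by rw [h3, h0])
    obtain ⟨h3, -, h4, h5⟩ := ih h2
    obtain ⟨-, h6, -, h7⟩ := h _ h1
    exact ⟨h3, h6, h4, by rw [Function.iterate_succ_apply', h5, h7]⟩

theorem itr_zero' {φ : ℕ → ℕ} (h0 : φ 0 = 0) : ∀ u, itr φ u 0 = 0
  | 0 => rfl
  | u + 1 => by rw [itr_succ, itr_zero' h0 u, h0]

theorem Lk.iter {φ : ℕ → ℕ} (h : Lk g e Q f φ) (h0 : φ 0 = 0) {u : ℕ} (hu : u ≠ 0) :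
    Lk g e Q f^[u] (NB.itr φ u) := by
  obtain ⟨v, rfl⟩ := Nat.exists_eq_succ_of_ne_zero hu
  exact fun x => h.itr h0 x v

end

end Cfsg.Agent.FS.NB
end

-- part: FS/N/B/Lf
section
/-!
# The checker of part B: the leaves which look up values
-/

set_option autoImplicit false

namespace Cfsg.Agent.FS.NB

open Cfsg Cfsg.FusionSystem Cfsg.Agent.H752 Cfsg.Agent.FS.Th Cfsg.Agent.FS.Pc Cfsg.Agent.FS.Sw Cfsg.Agent.FS.B
open Asm (En)

variable {A : Type} [Group A] {g : Gp} {cx : Cx} {a : Ab A} {Q : Subgroup A} {τ : A} {t : ℕ} {e : ℕ → A} {f : A → A}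
  {φ ψ : ℕ → ℕ}

/-- the pair given by the inversion -/
theorem Hb.pair (hK : g.K) (hc : CxOK g cx) (h : Hb g cx a Q τ t e f) (ht : t < g.N) (h0 : t ≠ 0) {x y : ℕ}
    (hx : x < g.N) (hy : y < g.N) (hQ : e x ∈ Q) (hxy : f (e x) = e y) :
    e (g.cj t y) ∈ Q ∧ f (e (g.cj t y)) = e (g.cj t x) := by
  obtain ⟨h1, h2⟩ := h.t h0
  have hd := h.di h1
  rw [hK.e_cj h.rn.en ht hy, hK.e_cj h.rn.en ht hx, h2, ← hxy]
  exact ⟨hd.tN _ ((h.au (hc.nex' h1)).mem _ hQ), hd.inv _ hQ⟩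

theorem lfCf_false (hK : g.K) (hc : CxOK g cx) (h : Hb g cx a Q τ t e f) (ht : t < g.N) (hφ : Lk g e Q f φ)
    (hψ : Li g e Q f ψ) {md x y : ℕ} (hl : g.lfCf cx t φ ψ md x y = true) : False := by
  have he := h.rn.en
  unfold Gp.lfCf at hl
  simp only [an_iff, iF_iff, orr_iff, nz_iff, ne_iff, beq_iff] at hl
  obtain ⟨h0, hl⟩ := hl
  obtain ⟨hx, hx', hxQ, hfx⟩ := hφ x h0
  rcases hl with ⟨-, ⟨-, h1, hl⟩ | ⟨-, hl⟩⟩ | ⟨-, h1, hl⟩
  · obtain ⟨h2, h3⟩ := h.pair hK hc ht h1 hx hx' hxQ hfx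
    rcases hl with ⟨h4, h5⟩ | ⟨h4, h5⟩
    · obtain ⟨-, h6, -, h7⟩ := hφ _ h4
      exact h5 (he.inj h6 (hK.cj_lt ht hx) (h7.symm.trans h3))
    · obtain ⟨-, h6, h7, h8⟩ := hψ _ h4
      exact h5 (he.inj h6 (hK.cj_lt ht hx') (h.mp.inj h7 h2 (h8.trans h3.symm)))
  · exact hl (h.inv hK hc x hx _ hx' hxQ hfx)
  · obtain ⟨hy, hy', hyQ, hfy⟩ := hφ y h1
    have h2 : f (e (g.m x y)) = e (g.m (φ x) (φ y)) := by
      rw [he.mul x hx y hy, he.mul _ hx' _ hy', h.mp.mul hxQ hyQ, hfx, hfy]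
    have h3 : e (g.m x y) ∈ Q := by
      rw [he.mul x hx y hy]
      exact Q.mul_mem hxQ hyQ
    rcases hl with ⟨h4, h5 | ⟨h5, h6⟩⟩ | ⟨h4, h5⟩
    · rw [h5, hK.e_zero he, ← h.mp.one] at h2
      exact h4 ((hK.e_eq_one he (he.lt x hx y hy)).1 (h.mp.inj h3 Q.one_mem h2))
    · obtain ⟨-, h7, -, h8⟩ := hφ _ h5
      exact h6 (he.inj h7 (he.lt _ hx' _ hy') (h8.symm.trans h2))
    · rw [not_not.1 h4, hK.e_zero he, h.mp.one] at h2
      exact h5 ((hK.e_eq_one he (he.lt _ hx' _ hy')).1 h2.symm)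

theorem Lk.zero' (hK : g.K) (he : En g.m g.N e) (hf : f 1 = 1) (h : Lk g e Q f φ) : φ 0 = 0 := by
  by_contra h0
  obtain ⟨-, h1, -, h2⟩ := h 0 h0
  rw [hK.e_zero he] at h2
  exact h0 ((hK.e_eq_one he h1).1 (h2.symm.trans hf))

theorem oddMod_one {J : Subgroup A} {q : A → A} (h : OddMod J Q q) : q 1 = 1 := by
  have h4 := h.mul 1 Q.one_mem 1 Q.one_mem
  rw [mul_one] at h4
  exact left_eq_mul.1 h4

theorem odd_false (hK : g.K) (he : En g.m g.N e) {P : PM} (hP : WS g P) (hQ : dom e P = Q) {q : A → A}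
    (ho : OddMod Q Q q) (hq : Lk g e Q q φ) {u xs : ℕ} (hu : u ≠ 0) (h : g.odd φ (g.msk P) u xs = true) : False := by
  unfold Gp.odd at h
  rw [an_iff, ne_iff, beq_iff] at h
  obtain ⟨k, hk, hkP, h1⟩ := hK.land_ne h.1
  have h0 := hq.zero' hK he (oddMod_one ho)
  have hi := hq.iter h0 hu
  have h2 : ∀ i, i < len1 xs → e (g.by' xs i) ∈ Q ∧ q^[u] (e (g.by' xs i)) = e (itr φ u (g.by' xs i)) ∧
      q^[u] (q^[u] (e (g.by' xs i))) = e k * e (g.by' xs i) * (e k)⁻¹ := by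
    intro i hi'
    have h3 := lk_foN_eq_zero.1 h1 i hi'
    by_cases h4 : itr φ u (itr φ u (g.by' xs i)) = 0
    · rw [iF_neg (by rw [nz_iff]; exact not_not.2 h4), hK.lk_O hk] at h3
      exact absurd h3 one_ne_zero
    · rw [iF_pos (nz_iff.2 h4)] at h3
      obtain ⟨-, h5, -, h6⟩ := hi _ h4
      have h7 : itr φ u (g.by' xs i) ≠ 0 := fun h8 => h4 (by rw [h8, itr_zero' h0])
      obtain ⟨-, -, h8, h9⟩ := hi _ h7
      refine ⟨h8, h9, ?_⟩
      rw [h9, h6, (hK.tw_zero he (hK.by_lt _ _) h5 hk).1 h3, mul_inv_cancel_right]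
  obtain ⟨k', hk', h3⟩ := ho.half (X := {x | ∃ i, i < len1 xs ∧ x = e (g.by' xs i)}) (u := u)
    (fun _ ⟨i, hi', h4⟩ => h4 ▸ (h2 i hi').1)
    ⟨e k, hQ ▸ (hK.mem_ws he hP hk).1 hkP, fun _ ⟨i, hi', h4⟩ => h4 ▸ (h2 i hi').2.2⟩
  obtain ⟨j, hj, rfl⟩ := he.surj k'
  refine hK.land_eq h.2 hj ((hK.mem_ws he hP hj).2 (hQ ▸ hk')) (lk_foN_eq_zero.2 fun i hi' => ?_)
  rw [hK.tw_zero he (hK.by_lt _ _) (hi.lt hK _) hj, ← (h2 i hi').2.1, h3 _ ⟨i, hi', rfl⟩, inv_mul_cancel_right]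

theorem lfOd_false (hK : g.K) (hc : CxOK g cx) (h : Hb g cx a Q τ t e f) (hφ : Lk g e Q f φ) (hψ : Li g e Q f ψ)
    {r s u xs : ℕ} (hr : r < g.N) (hs : s < g.N) (hl : g.lfOd cx φ ψ r s u xs = true) : False := by
  have he := h.rn.en
  unfold Gp.lfOd at hl
  simp only [an_iff, iF_iff, nt_iff, nz_iff, ne_iff, beq_iff] at hl
  obtain ⟨hx, hu, hl⟩ := hl
  have hA := h.au hx
  have h0 := hφ.zero hK he (hm_of_mp h.mp)
  rcases hl with ⟨-, h1, h2, h3, hl⟩ | ⟨-, ⟨-, hl⟩ | ⟨-, h1, h2, h3⟩⟩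
  · obtain ⟨q, h4, h5⟩ := (h.di h1).se (e r) (e s) (h.P ▸ hK.okN_spec he hc.wP hr h2) (h.P ▸ hK.okN_spec he hc.wP hs h3)
    refine odd_false hK he hc.wP h.P h5 (fun x h6 => ?_) hu hl
    have h7 : φ (g.cj s (ψ x)) ≠ 0 := fun h8 => h6 ((hK.cj_eq_zero he hr (hφ.lt hK _)).2 h8)
    have h8 : ψ x ≠ 0 := fun h9 => h7 (by rw [(hK.cj_eq_zero he hs (hψ.lt hK _)).2 h9, h0])
    obtain ⟨h9, h10, h11, h12⟩ := hψ x h8
    obtain ⟨-, h13, -, h14⟩ := hφ _ h7
    refine ⟨h9, hK.cj_lt hr h13, h12 ▸ hA.mem _ h11, ?_⟩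
    rw [← h12, h4 _ h11, ← hK.e_cj he hs h10, h14, hK.e_cj he hr h13]
  · exact odd_false hK he hc.wP h.P hA.oddMod hφ hu hl
  · have hi := hφ.iter h0 hu
    have h7 : itr φ u xs ≠ 0 := fun h8 => h1 (by rw [h8, itr_zero' h0])
    obtain ⟨-, -, -, h6⟩ := hi _ h1
    obtain ⟨h8, h9, h10, h11⟩ := hi _ h7
    obtain ⟨k, hk, h12⟩ := hA.oddMod_bot.half (X := {e xs}) (u := u) (fun _ h4 => h4 ▸ h10)
      ⟨1, Subgroup.one_mem _, fun _ h4 => by rw [h4, h11, h6, h2, one_mul, inv_one, mul_one]⟩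
    have h13 := h12 _ rfl
    rw [Subgroup.mem_bot.1 hk, one_mul, inv_one, mul_one, h11] at h13
    exact h3 (he.inj h9 h8 h13)

theorem lfK_false (hK : g.K) (hc : CxOK g cx) (h : Hb g cx a Q τ t e f) (ht : t < g.N) (hφ : Lk g e Q f φ)
    (hψ : Li g e Q f ψ) {d : ℕ} (hl : g.lfK cx t φ ψ d = true) : False := by
  unfold Gp.lfK at hl
  rcases iF_iff.1 hl with ⟨-, hl⟩ | ⟨-, hl⟩
  · exact lfCf_false hK hc h ht hφ hψ hl
  · exact lfOd_false hK hc h hφ hψ (hK.by_lt _ _) (hK.by_lt _ _) hl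

theorem Lk.ext (hK : g.K) (he : En g.m g.N e) (hf : Hm Q f) (hφ : Lk g e Q f φ) {x y : ℕ} (hx : x < g.N) (hy : y < g.N)
    (hQ : e x ∈ Q) (hxy : f (e x) = e y) : Lk g e Q f (g.ext φ x y) := by
  intro b hb
  unfold Gp.ext at hb ⊢
  by_cases h1 : orr (nz (φ b)) (Nat.beq b 0) = true
  · rw [iF_pos h1] at hb ⊢
    exact hφ b hb
  rw [iF_neg h1] at hb ⊢
  by_cases h2 : nz (φ (g.m (g.i x) b)) = true
  · rw [iF_pos h2] at hb ⊢
    have h3 : b < g.N := by
      by_contra h4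
      rw [hK.m_ge _ (not_lt.1 h4), hφ.zero hK he hf] at h2
      exact nz_iff.1 h2 rfl
    obtain ⟨-, h4, h5, h6⟩ := hφ _ (nz_iff.1 h2)
    rw [he.mul _ (hK.i_lt x hx) b h3, hK.e_i he hx] at h5 h6
    have h7 : e b = e x * ((e x)⁻¹ * e b) := (mul_inv_cancel_left _ _).symm
    refine ⟨h3, he.lt _ hy _ h4, h7 ▸ Q.mul_mem hQ h5, ?_⟩
    rw [he.mul _ hy _ h4, ← h6, ← hxy, ← hf.mul _ hQ _ h5, ← h7]
  rw [iF_neg h2] at hb ⊢
  by_cases h3 : Nat.beq b x = true
  · rw [iF_pos h3, beq_iff.1 h3]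
    exact ⟨hx, hy, hQ, hxy⟩
  · rw [iF_neg h3] at hb
    exact absurd rfl hb

theorem Li.ext (hK : g.K) (he : En g.m g.N e) (hf : Hm Q f) (hψ : Li g e Q f ψ) {x y : ℕ} (hx : x < g.N) (hy : y < g.N)
    (hQ : e x ∈ Q) (hxy : f (e x) = e y) : Li g e Q f (g.ext ψ y x) := by
  intro b hb
  unfold Gp.ext at hb ⊢
  by_cases h1 : orr (nz (ψ b)) (Nat.beq b 0) = true
  · rw [iF_pos h1] at hb ⊢
    exact hψ b hb
  rw [iF_neg h1] at hb ⊢
  by_cases h2 : nz (ψ (g.m (g.i y) b)) = true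
  · rw [iF_pos h2] at hb ⊢
    have h3 : b < g.N := by
      by_contra h4
      rw [hK.m_ge _ (not_lt.1 h4), hψ.zero hK he hf] at h2
      exact nz_iff.1 h2 rfl
    obtain ⟨-, h4, h5, h6⟩ := hψ _ (nz_iff.1 h2)
    rw [he.mul _ (hK.i_lt y hy) b h3, hK.e_i he hy] at h6
    refine ⟨h3, he.lt _ hx _ h4, ?_, ?_⟩
    · rw [he.mul _ hx _ h4]
      exact Q.mul_mem hQ h5
    · rw [he.mul _ hx _ h4, hf.mul _ hQ _ h5, hxy, h6, mul_inv_cancel_left]
  rw [iF_neg h2] at hb ⊢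
  by_cases h3 : Nat.beq b y = true
  · rw [iF_pos h3, beq_iff.1 h3]
    exact ⟨hy, hx, hQ, hxy⟩
  · rw [iF_neg h3] at hb
    exact absurd rfl hb

theorem kil_false (hK : g.K) (hc : CxOK g cx) (h : Hb g cx a Q τ t e f) (ht : t < g.N) {st : PM} (hs : WF g st)
    (hg : Gens e f Q st.gs) {x y fl d : ℕ} (hx : x < g.N) (hy : y < g.N) (hQ : e x ∈ Q) (hxy : x ≠ 0 → f (e x) = e y)
    (hl : g.kil cx t st x y fl d = true) : False := by
  have he := h.rn.en
  have hf := hm_of_mp h.mp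
  unfold Gp.kil at hl
  rw [an_iff, nz_iff, iF_iff, an_iff, nz_iff, nz_iff] at hl
  obtain ⟨h0, hl⟩ := hl
  obtain ⟨h1, h2⟩ := h.lk hs hg
  have h3 := h1.ext hK he hf hx hy hQ (hxy h0)
  have h4 := h2.ext hK he hf hx hy hQ (hxy h0)
  rcases hl with ⟨⟨-, h5⟩, hl⟩ | ⟨-, hl⟩
  · obtain ⟨h6, h7⟩ := h.pair hK hc ht h5 hx hy hQ (hxy h0)
    exact lfK_false hK hc h ht (h3.ext hK he hf (hK.cj_lt ht hy) (hK.cj_lt ht hx) h6 h7)
      (h4.ext hK he hf (hK.cj_lt ht hy) (hK.cj_lt ht hx) h6 h7) hl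
  · exact lfK_false hK hc h ht h3 h4 hl

end Cfsg.Agent.FS.NB
end

-- part: FS/N/B/Lg
section
/-!
# The checker of part B: the other leaves
-/

set_option autoImplicit false

namespace Cfsg.Agent.FS.NB

open Cfsg Cfsg.FusionSystem Cfsg.Agent.H752 Cfsg.Agent.FS.Th Cfsg.Agent.FS.Pc Cfsg.Agent.FS.Sw Cfsg.Agent.FS.B
open Asm (En)

variable {A : Type} [Group A] {g : Gp} {cx : Cx} {a : Ab A} {Q : Subgroup A} {τ : A} {t : ℕ} {e : ℕ → A} {f : A → A}
  {st : PM}

theorem Hb.clA (hK : g.K) (hc : CxOK g cx) (h : Hb g cx a Q τ t e f) {x y : ℕ} (hy : y < g.N) (hQ : e y ∈ Q)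
    (hv : NB.lk cx.fv x = NB.lk cx.fv y) : NB.lk (g.clA cx x) y = 1 := by
  unfold Gp.clA
  rw [hK.lk_cls _ _ (lk_lt _ _) hy, if_pos ⟨(h.mem hK hc hy).2 hQ, hv.symm⟩]

/-- the image of an element of `Q` lies in its class -/
theorem Hb.img (hK : g.K) (hc : CxOK g cx) (h : Hb g cx a Q τ t e f) (hx : ¬ cx.ex = true) {x : ℕ} (hx' : x < g.N)
    (hQ : e x ∈ Q) : ∃ y, y < g.N ∧ f (e x) = e y ∧ NB.lk (g.clA cx x) y = 1 := by
  obtain ⟨y, hy, h1⟩ := h.rn.en.surj (f (e x))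
  exact ⟨y, hy, h1.symm, h.clA hK hc hy (h1 ▸ (h.au hx).mem _ hQ) (h.inv hK hc x hx' y hy hQ h1.symm)⟩

theorem clIn_mem (hK : g.K) {K : PM} {x y : ℕ} (hy : y < g.N) (h1 : lk (g.clA cx x) y = 1) (h : g.clIn cx K x = true) :
    mem K y = true := by
  unfold Gp.clIn at h
  have h2 := congrArg (fun V => lk V y) (beq_iff.1 h)
  simp only [lk_land, h1, hK.lk_msk K hy] at h2
  by_contra h3
  rw [if_neg h3] at h2
  exact absurd h2 (by decide)

theorem clOut (hK : g.K) {K : PM} {x y : ℕ} (hy : y < g.N) (h1 : lk (g.clA cx x) y = 1)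
    (h : Nat.land (g.clA cx x) (g.msk K) = 0) : ¬ mem K y = true := by
  intro h3
  have h2 := congrArg (fun V => lk V y) h
  simp only [lk_land, h1, hK.lk_msk K hy, lk_zero, if_pos h3] at h2
  exact absurd h2 (by decide)

theorem Hb.imIn (hK : g.K) (hc : CxOK g cx) (h : Hb g cx a Q τ t e f) (hx : ¬ cx.ex = true) (hs : WF g st)
    (hg : Gens e f Q st.gs) {K : PM} (hK' : WS g K) {x : ℕ} (hx' : x < g.N) (hQ : e x ∈ Q)
    (hl : g.imIn cx st K x = true) : f (e x) ∈ dom e K := by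
  unfold Gp.imIn at hl
  rcases iF_iff.1 hl with ⟨h1, h2⟩ | ⟨-, h2⟩
  · obtain ⟨-, h3, -, h4⟩ := (h.lk hs hg).1 x (nz_iff.1 h1)
    exact h4 ▸ (hK.mem_ws h.rn.en hK' h3).1 h2
  · obtain ⟨y, hy, h3, h4⟩ := h.img hK hc hx hx' hQ
    exact h3 ▸ (hK.mem_ws h.rn.en hK' hy).1 (clIn_mem hK hy h4 h2)

theorem lfMc_false (hK : g.K) (hc : CxOK g cx) (ha : AbOK g cx.nx a) (h : Hb g cx a Q τ t e f) (hs : WF g st)
    (hg : Gens e f Q st.gs) {w : ℕ} (hl : g.lfMc cx st w = true) : False := by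
  have he := h.rn.en
  unfold Gp.lfMc at hl
  simp only [an_iff, iF_iff, nt_iff, nz_iff, beq_iff, allP_iff, orr_iff, allL_iff, inC_iff] at hl
  obtain ⟨hx, hl⟩ := hl
  have hw := hK.ws_mkS w
  have hW : ∀ {y : ℕ}, y < g.N → (mem cx.nx.W y = true ↔ e y ∈ a.W) := fun hy => h.rn.W ▸ hK.mem_ws he ha.wW hy
  refine (h.au hx).nm ?_
  rcases hl with ⟨h1, h2, hl⟩ | ⟨-, ⟨h1, h2, hl⟩ | ⟨-, ⟨h1, hl⟩ | ⟨-, h1, h2, h3, h4⟩⟩⟩
  · have h3 : dom e (g.mkS w) = a.W := (hK.dom_of_tab he hw ha.wW h2).trans h.rn.W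
    have h4 : ∀ p ∈ (g.mkS w).gs.ls, e p.1 ∈ Q := fun p hp => (h.mem hK hc (hw.gs p hp).1).1 (hl p hp).1
    refine ha.k1 h1 Q f h.mp (h3 ▸ dom_le h4) ?_
    rw [← h3]
    refine mem_of_gens (X := gS e (g.mkS w).gs) (fun _ ⟨p, hp, h5⟩ => h5 ▸ h4 p hp) h.mp ?_
    rintro _ ⟨p, hp, rfl⟩
    rw [h3, ← h.rn.W]
    exact h.imIn hK hc hx hs hg ha.wW (hw.gs p hp).1 (h4 p hp) (hl p hp).2
  · obtain ⟨h5, h6, h7⟩ := ha.k2 h1
    have h3 : dom e (g.mkS w) = Q := (hK.dom_of_tab he hw hc.wP h2).trans h.P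
    refine h7 Q f h.mp (focP_of_gens h6 h.mp (X := gS e (g.mkS w).gs) h3.symm ?_)
    rintro _ ⟨p, hp, rfl⟩
    have hp' := (hw.gs p hp).1
    have hQ : e p.1 ∈ Q := h3 ▸ gS_mem hp
    rcases hl p hp with ⟨h8, h9⟩ | ⟨-, h9⟩
    · obtain ⟨-, h10, -, h11⟩ := (h.lk hs hg).1 _ h8
      rw [h11, ← hK.e_i he hp', ← he.mul _ (hK.i_lt _ hp') _ h10]
      exact (hW (he.lt _ (hK.i_lt _ hp') _ h10)).1 h9
    · obtain ⟨y, hy, h10, h11⟩ := h.img hK hc hx hp' hQ
      have h12 := h.clA hK hc hp' hQ rfl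
      rw [h10]
      rcases h9 with h9 | h9
      · exact a.W.mul_mem (a.W.inv_mem ((hW hp').1 (clIn_mem hK hp' h12 h9))) ((hW hy).1 (clIn_mem hK hy h11 h9))
      · exact h5 _ _ (fun h13 => clOut hK hp' h12 h9 ((hW hp').2 h13)) fun h13 => clOut hK hy h11 h9 ((hW hy).2 h13)
  · have := (hK.pgroup he).1
    refine ha.k5 h1 Q f (cls_of ha.cC (fun _ hu _ hv => h.mp.inj hu hv) (h.au hx).mem fun X h2 h3 => ?_)
    obtain ⟨X, h4, rfl⟩ := (h.rn.C X).1 h2
    have h5 : ∀ p ∈ X.gs.ls, p.1 < g.N ∧ e p.1 ∈ Q := fun p hp => ⟨((ha.wC X h4).gs p hp).1, h3 (gS_mem hp)⟩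
    obtain ⟨Y, h6, h7⟩ := (hl X h4).resolve_left (not_not.2 fun p hp => (h.mem hK hc (h5 p hp).1).2 (h5 p hp).2)
    refine ⟨_, (h.rn.C _).2 ⟨Y, h6, rfl⟩,
      mem_of_gens (X := gS e X.gs) (fun _ ⟨p, hp, h8⟩ => h8 ▸ (h5 p hp).2) h.mp ?_⟩
    rintro _ ⟨p, hp, rfl⟩
    exact h.imIn hK hc hx hs hg (ha.wC Y h6) (h5 p hp).1 (h5 p hp).2 (h7 p hp)
  · obtain ⟨h5, h6, h7, h8⟩ := (h.lk hs hg).1 _ h2
    have h9 : ∀ {y : ℕ}, y < g.N → mem cx.nx.W (g.m (g.i cx.nx.z) y) = true → a.z⁻¹ * e y ∈ a.W := fun {y} hy h10 => by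
      have h11 := (hW (he.lt _ (hK.i_lt _ ha.z_lt) _ hy)).1 h10
      rw [he.mul _ (hK.i_lt _ ha.z_lt) _ hy, hK.e_i he ha.z_lt] at h11
      have h12 := a.W.mul_mem h.rn.z h11
      rwa [mul_assoc, mul_inv_cancel_left] at h12
    exact ha.k3 h1 Q f h.mp ⟨e w, h7, h9 h5 h3, h8 ▸ h9 h6 h4⟩

theorem urS_spec (hK : g.K) (hc : CxOK g cx) (h : Hb g cx a Q τ t e f) (hx : ¬ cx.ex = true) (hs : WF g st)
    (hg : Gens e f Q st.gs) {K K' : PM} (h1 : WS g K) (h2 : WS g K') (hle : ∀ p ∈ K.gs.ls, p ∈ K'.gs.ls)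
    (hT : Tr Q f (dom e K ⊔ Sq Q)) {md x : ℕ} (hl : g.urS cx st K K' md x = true) : Tr Q f (dom e K' ⊔ Sq Q) := by
  have he := h.rn.en
  obtain ⟨_, hA⟩ := hK.pgroup he
  have hle' : dom e K ⊔ Sq Q ≤ dom e K' ⊔ Sq Q := sup_le_sup_right (dom_le fun p hp => gS_mem (hle p hp)) _
  have hm : ∀ {y : ℕ}, y < g.N → mem K y = true → e y ∈ dom e K ⊔ Sq Q := fun hy h3 =>
    Subgroup.mem_sup_left ((hK.mem_ws he h1 hy).1 h3)
  unfold Gp.urS at hl
  simp only [an_iff, iF_iff, nz_iff, beq_iff, allP_iff, orr_iff] at hl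
  rcases hl with ⟨-, h3, hl⟩ | ⟨-, hl⟩
  · refine Tr.step_inv hA (h.au hx) (h.di h3) h.t0 hT hle' (Y := gS e K'.gs) rfl ?_ ?_
    · rintro _ ⟨p, hp, rfl⟩
      rcases (hl p hp).1 with h4 | h4
      · exact hT.le (hm (h2.gs p hp).1 h4)
      · exact (h.mem hK hc (h2.gs p hp).1).1 h4.1
    · rintro _ ⟨p, hp, rfl⟩
      have hp' := (h2.gs p hp).1
      refine ⟨(hl p hp).1.imp (hm hp') fun h4 =>
        Subgroup.mem_sup_left (h.imIn hK hc hx hs hg h2 hp' ((h.mem hK hc hp').1 h4.1) h4.2), ?_⟩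
      rw [← hK.e_cm he hc.t0 hp']
      exact hm (hK.cm_lt hc.t0 hp') (hl p hp).2
  · have hQ : ∀ y ∈ gS e K'.gs, y ∈ Q := by
      rintro _ ⟨p, hp, rfl⟩
      rcases hl p hp with h4 | h4
      · exact hT.le (hm (h2.gs p hp).1 h4)
      · exact (h.mem hK hc (h2.gs p hp).1).1 h4.1
    by_cases h3 : md = 0
    · refine Tr.step_two hA (h.au hx) hT hle' (Y := gS e K'.gs) rfl hQ (x := e x) ?_
      rintro _ ⟨p, hp, rfl⟩
      have hp' := (h2.gs p hp).1
      refine (hl p hp).imp (hm hp') fun h4 =>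
        ⟨Subgroup.mem_sup_left (h.imIn hK hc hx hs hg h2 hp' ((h.mem hK hc hp').1 h4.1) h4.2.1), ?_⟩
      rcases h4.2.2 with h5 | h5
      · exact absurd h3 h5.1
      · rw [h5.2]
    · refine Tr.step hA (h.au hx) hT hle' (Y := gS e K'.gs) rfl hQ ?_
      rintro _ ⟨p, hp, rfl⟩
      have hp' := (h2.gs p hp).1
      refine (hl p hp).imp (hm hp') fun h4 =>
        ⟨Subgroup.mem_sup_left (h.imIn hK hc hx hs hg h2 hp' ((h.mem hK hc hp').1 h4.1) h4.2.1), ?_⟩
      rcases h4.2.2 with h5 | h5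
      · obtain ⟨-, h6, -, h7⟩ := (h.lk hs hg).1 _ h5.2.1
        rw [h7, ← hK.e_i he hp', ← he.mul _ h6 _ (hK.i_lt _ hp')]
        exact hm (he.lt _ h6 _ (hK.i_lt _ hp')) h5.2.2
      · exact absurd h3 h5.1

theorem urG_succ (fu : ℕ) (K : PM) (ch : ℕ) : g.urG cx st (fu + 1) K ch = iF (nz ch)
    (an (g.urS cx st K (g.adS K (g.by' (Nat.shiftRight ch 16)) (Nat.land ch 15)) (Nat.land (Nat.shiftRight ch 4) 15)
        (g.by' ch 1))
      (g.urG cx st fu (g.adS K (g.by' (Nat.shiftRight ch 16)) (Nat.land ch 15))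
        (Nat.shiftRight ch (Nat.shiftLeft (Nat.succ (Nat.land ch 15)) 4))))
    (allP cx.P.gs fun a _ => mem K a) := rfl

theorem urG_false (hK : g.K) (hc : CxOK g cx) (h : Hb g cx a Q τ t e f) (hx : ¬ cx.ex = true) (hs : WF g st)
    (hg : Gens e f Q st.gs) : ∀ (fu : ℕ) (K : PM) (ch : ℕ), WS g K → Tr Q f (dom e K ⊔ Sq Q) →
      g.urG cx st fu K ch = true → False := by
  have he := h.rn.en
  obtain ⟨_, hA⟩ := hK.pgroup he
  intro fu
  induction fu with
  | zero => exact fun _ _ _ _ hl => Bool.false_ne_true hl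
  | succ fu ih =>
    intro K ch h1 hT hl
    rw [urG_succ, iF_iff, an_iff, allP_iff] at hl
    rcases hl with ⟨-, h2, h3⟩ | ⟨-, h2⟩
    · obtain ⟨h4, h5, -⟩ := hK.adS_spec h1 (hK.by_lt (Nat.shiftRight ch 16)) (Nat.land ch 15)
      exact ih _ _ h4 (urS_spec hK hc h hx hs hg h1 h4 h5 hT h2) h3
    · refine hT.false hA (h.au hx) (le_trans ?_ le_sup_left)
      rw [← h.P]
      exact dom_le fun p hp => (hK.mem_ws he h1 (hc.wP.gs p hp).1).1 (h2 p hp)

theorem lfUr_false (hK : g.K) (hc : CxOK g cx) (h : Hb g cx a Q τ t e f) (hs : WF g st) (hg : Gens e f Q st.gs)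
    {ch : ℕ} (hl : g.lfUr cx st ch = true) : False := by
  have he := h.rn.en
  unfold Gp.lfUr Gp.phOK at hl
  rw [an_iff, an_iff, nt_iff, allN_iff] at hl
  obtain ⟨hx, h1, hl⟩ := hl
  obtain ⟨h2, -, h3⟩ := hK.adS_spec hK.ws_s0 (φ := fun i => g.q (g.by' cx.ph i)) (fun i => hK.q_lt (hK.by_lt _ _))
    (len1 cx.ph)
  refine urG_false hK hc h hx hs hg 10 _ ch h2 ?_ hl
  have h4 : dom e (g.adS s0 (fun i => g.q (g.by' cx.ph i)) (len1 cx.ph)) ≤ Sq Q := dom_le fun p hp => by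
    rcases h3 p hp with h5 | ⟨i, hi, h5⟩
    · exact absurd h5 List.not_mem_nil
    · rw [h5, hK.e_q he (hK.by_lt _ _)]
      exact sq_mem ((h.mem hK hc (hK.by_lt _ _)).1 (h1 i hi))
  rw [sup_eq_right.2 h4]
  exact (h.au hx).tr_sq

omit [Group A] in
theorem image_gs (e : ℕ → A) (l : PL) : e '' {x | ∃ p ∈ l.ls, x = p.1} = gS e l := by
  ext y
  constructor
  · rintro ⟨_, ⟨p, hp, rfl⟩, rfl⟩
    exact ⟨p, hp, rfl⟩
  · rintro ⟨p, hp, rfl⟩
    exact ⟨_, ⟨p, hp, rfl⟩, rfl⟩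

/-- a word, evaluated on the generators of `T` -/
theorem ev_gs (hK : g.K) (he : En g.m g.N e) {F : FusionSystem (⊤ : Subgroup A)} {M : Subgroup A → (A → A) → Prop}
    (hM : Closed F M) {L : List ℕ} (hL : HL g F M e L) (hs : WF g st) (h0 : HM F M e st) (w : ℕ) {T : PM}
    (hT : WF g T) (hX : ∀ p ∈ T.gs.ls, g.ev L st w p.1 ≠ 0) : ∃ ψ, Mp F (dom e T) ψ ∧ M (dom e T) ψ ∧
      ∀ p ∈ T.gs.ls, g.ev L st w p.1 < g.N ∧ ψ (e p.1) = e (g.ev L st w p.1) := by
  obtain ⟨ψ, h1, h2, h3⟩ := hK.ev_spec he hM hL hs h0 w (X := {x | ∃ p ∈ T.gs.ls, x = p.1})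
    fun _ ⟨p, hp, h4⟩ => h4 ▸ ⟨(hT.gs p hp).1, hX p hp⟩
  rw [image_gs] at h1 h2
  exact ⟨ψ, h1, h2, fun p hp => h3 _ ⟨p, hp, rfl⟩⟩

theorem psi_spec (hK : g.K) (φ : ℕ → ℕ) : ∀ l : PL, (∀ p ∈ l.ls, p.1 < g.N ∧ φ p.1 < g.N) →
    WF g (PL.rec s0 (fun a _ _ ih => g.ad ih a (φ a)) l : PM) ∧
      ∀ q ∈ (PL.rec s0 (fun a _ _ ih => g.ad ih a (φ a)) l : PM).gs.ls, ∃ p ∈ l.ls, q = (p.1, φ p.1) := by
  intro l
  induction l with
  | nil => exact fun _ => ⟨hK.ws_s0.toWF, fun q hq => absurd hq List.not_mem_nil⟩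
  | cons x y l ih =>
    intro h
    obtain ⟨h1, h2⟩ := ih fun p hp => h p (List.mem_cons_of_mem _ hp)
    obtain ⟨h3, h4⟩ := h (x, y) List.mem_cons_self
    obtain ⟨h5, h6⟩ := hK.ad_spec h1 h3 h4
    refine ⟨h5, fun q hq => ?_⟩
    have hq' : q ∈ (g.ad (PL.rec s0 (fun a _ _ ih => g.ad ih a (φ a)) l : PM) x (φ x)).gs.ls := hq
    rcases h6 with h6 | h6
    · rw [h6] at hq'
      obtain ⟨p, hp, h7⟩ := h2 q hq'
      exact ⟨p, List.mem_cons_of_mem _ hp, h7⟩
    · rw [h6, PL.ls_cons] at hq'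
      rcases List.mem_cons.1 hq' with h7 | h7
      · exact ⟨(x, y), List.mem_cons_self, h7⟩
      · obtain ⟨p, hp, h8⟩ := h2 q h7
        exact ⟨p, List.mem_cons_of_mem _ hp, h8⟩

/-- a zero of the combined table -/
theorem ind_spec (hK : g.K) (he : En g.m g.N e) {l : PL} {u v : ℕ → ℕ → ℕ} (hu : ∀ p ∈ l.ls, u p.1 p.2 < g.N)
    (hv : ∀ p ∈ l.ls, v p.1 p.2 < g.N) (h : g.ind (foP l fun x y => iF (nz (v x y)) (g.tw (u x y) (v x y)) g.O) = true) :
    ∃ s, ∀ p ∈ l.ls, v p.1 p.2 ≠ 0 ∧ s * e (u p.1 p.2) = e (v p.1 p.2) * s := by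
  obtain ⟨s, hs, h1⟩ := hK.ind_ex h
  refine ⟨e s, fun p hp => ?_⟩
  have h2 := lk_foP_eq_zero.1 h1 p hp
  by_cases h3 : v p.1 p.2 = 0
  · rw [iF_neg (by rw [nz_iff]; exact not_not.2 h3), hK.lk_O hs] at h2
    exact absurd h2 one_ne_zero
  · rw [iF_pos (nz_iff.2 h3)] at h2
    exact ⟨h3, (hK.tw_zero he (hu p hp) (hv p hp) hs).1 h2⟩

theorem lfV1_false (hK : g.K) (hc : CxOK g cx) (ha : AbOK g cx.nx a) (h : Hb g cx a Q τ t e f) (hs : WF g st)
    (hg : Gens e f Q st.gs) {T K : PM} (hT : WS g T) (hK' : WS g K) {w k : ℕ} (hl : g.lfV1 cx st T K w k = true) :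
    False := by
  have he := h.rn.en
  obtain ⟨_, hA⟩ := hK.pgroup he
  unfold Gp.lfV1 Gp.v1c at hl
  simp only [an_iff, nz_iff, beq_iff, allP_iff, orr_iff] at hl
  obtain ⟨h1, hk, h2, h3, h4, h5⟩ := hl
  have hTl := (Gp.K.lk_val hT.toWF (Gp.K.val_ws he hT) le_rfl).1
  have h6 : ∀ p ∈ T.gs.ls, g.ev cx.nx.L st w p.1 ≠ 0 := fun p hp h7 => h2 p hp (by
    rw [h7]; exact hTl.zero hK he (hm_id _))
  obtain ⟨ψ, h7, -, h8⟩ := ev_gs hK he (closed_tv a.F) h.rn.hl.tv hs (h.hm hg) w hT.toWF h6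
  obtain ⟨h9, h10⟩ := psi_spec hK (g.ev cx.nx.L st w) T.gs fun p hp => ⟨(hT.gs p hp).1, (h8 p hp).1⟩
  have h11 : Gens e ψ (dom e T) (g.psi T (g.ev cx.nx.L st w)).gs := fun q hq => by
    obtain ⟨p, hp, rfl⟩ := h10 q hq
    exact ⟨gS_mem (p := p) hp, (h8 p hp).2⟩
  have h12 := (Gp.K.lk_val h9 (h9.val A e ψ _ he (hm_of_mp h7) h11) h11.le).1
  have h13 := h12.zero hK he (hm_of_mp h7)
  have h14 := h12.iter h13 hk
  have h15 := itr_zero' h13 k
  change Lk g e (dom e T) ψ^[k] (itr (lk (g.psi T (g.ev cx.nx.L st w)).tab) k) at h14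
  change itr (lk (g.psi T (g.ev cx.nx.L st w)).tab) k 0 = 0 at h15
  generalize itr (lk (g.psi T (g.ev cx.nx.L st w)).tab) k = φ at h3 h4 h5 h14 h15
  obtain ⟨s, h16⟩ := ind_spec hK he (u := fun x _ => x) (v := fun x _ => φ (φ x)) (fun p hp => (hT.gs p hp).1)
    (fun p _ => h14.lt hK _) h4
  have h17 : ∀ p ∈ T.gs.ls, ψ^[k] (e p.1) = e (φ p.1) := fun p hp =>
    (h14 _ fun h18 => (h16 p hp).1 (by rw [h18, h15])).2.2.2
  have h18 : ∀ y ∈ gS e K.gs, (∀ x ∈ gS e T.gs, y * x * y⁻¹ ∈ dom e T) ∧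
      ∃ s', ∀ x ∈ gS e T.gs, s' * ψ^[k] x = ψ^[k] (y * x * y⁻¹) * s' := by
    rintro _ ⟨q, hq, rfl⟩
    have hq' := (hK'.gs q hq).1
    obtain ⟨s', h19⟩ := ind_spec hK he (u := fun x _ => φ x) (v := fun x _ => φ (g.cj q.1 x)) (fun p _ => h14.lt hK _)
      (fun p _ => h14.lt hK _) (h5 q hq)
    refine ⟨?_, s', ?_⟩
    · rintro _ ⟨p, hp, rfl⟩
      rw [← hK.e_cj he hq' (hT.gs p hp).1]
      exact (h14 _ (h19 p hp).1).2.2.1
    · rintro _ ⟨p, hp, rfl⟩
      rw [← hK.e_cj he hq' (hT.gs p hp).1, (h14 _ (h19 p hp).1).2.2.2, h17 p hp]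
      exact (h19 p hp).2
  have h19 : a.F.IsFullyNormalized (dom e T) ∧
      ∀ s, (∀ x ∈ gS e T.gs, s * x * s⁻¹ ∈ dom e T) → s ∈ Subgroup.closure (gS e K.gs) := by
    rcases h1 with h1 | ⟨⟨h1, h20⟩ | ⟨h1, h20⟩, h21⟩
    · have h20 : Subgroup.closure (gS e K.gs) = ⊤ := hK.full_top he hK'.toWF (Gp.K.val_ws he hK') h1
      exact ⟨(fn_of_gens a.F rfl h20 fun y hy => (h18 y hy).1).2, fun _ _ => h20 ▸ Subgroup.mem_top _⟩
    · refine ⟨?_, hK.nrmz_spec he hT hK' h21⟩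
      rw [hK.dom_of_tab he hT hc.wP h20, h.P]
      exact (h.di h1).fn
    · refine ⟨?_, hK.nrmz_spec he hT hK' h21⟩
      rw [hK.dom_of_tab he hT ha.wW h20, h.rn.W]
      exact ha.k6 h1
  obtain ⟨s', h20⟩ := v1_gens hA ha.sat (X := gS e T.gs) (Y := gS e K.gs) rfl h19.1 h7 (by
    rintro _ ⟨p, hp, rfl⟩
    rw [(h8 p hp).2]
    exact (hTl _ (h2 p hp)).2.2.1) h19.2 (k := k) h18 ⟨s, by
    rintro _ ⟨p, hp, rfl⟩
    rw [h17 p hp, (h14 _ (h16 p hp).1).2.2.2]
    exact (h16 p hp).2⟩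
  obtain ⟨j, hj, rfl⟩ := he.surj s'
  refine hK.nzm_O h3 hj (lk_foP_eq_zero.2 fun p hp => ?_)
  rw [hK.tw_zero he (hT.gs p hp).1 (h14.lt hK _) hj, ← h17 p hp]
  exact h20 _ ⟨p, hp, rfl⟩

theorem lfIn_false (hK : g.K) (hc : CxOK g cx) (ha : AbOK g cx.nx a) (h : Hb g cx a Q τ t e f) (hs : WF g st)
    (hg : Gens e f Q st.gs) {w : ℕ} (hl : g.lfIn cx st w = true) : False := by
  have he := h.rn.en
  unfold Gp.lfIn at hl
  simp only [an_iff, nz_iff, beq_iff, allP_iff, nt_iff] at hl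
  obtain ⟨hx, hl⟩ := hl
  obtain ⟨ψ, h1, h2, h3⟩ := ev_gs hK he ha.cl h.rn.hl hK.ws_s0.toWF (hm_s0 ha.cl e) w hc.wP.toWF
    fun p hp => (hl p hp).2 ▸ (hl p hp).1
  rw [h.P] at h1 h2
  refine (h.au hx).nm (ha.cl.congr Q ψ f h1 h2 (eq_of_gens (X := gS e cx.P.gs) h.P.symm h.mp h1 ?_))
  rintro _ ⟨p, hp, rfl⟩
  rw [(h3 p hp).2, (hl p hp).2]
  exact ((h.lk hs hg).1 _ (hl p hp).1).2.2.2

theorem lfRef_goal (hK : g.K) (ha : AbOK g cx.nx a) (h : Hb g cx a Q τ t e f) (hs : WF g st)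
    (hg : Gens e f Q st.gs) {k B ws : ℕ} (hl : g.lfRef cx st k B ws = true) : a.G := by
  have he := h.rn.en
  unfold Gp.lfRef at hl
  rw [an_iff, an_iff, blt_iff] at hl
  exact ha.cuts _ (nth_mem [] hl.1) _ (hK.aut_spec he hl.2.1)
    (hK.der_spec he (closed_tv a.F) h.rn.hl.tv hs (h.hm hg) (fun _ hx => hK.aut_lt B hx) hl.2.2)

theorem lfCut_goal (hcu : ∀ t w, cx.cu t w = true → Cl g cx a Q τ t (g.mkP w)) (h : Hb g cx a Q τ t e f) (hs : WF g st)
    (hg : Gens e f Q st.gs) {w : ℕ} (hl : g.lfCut cx t st w = true) : a.G := by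
  unfold Gp.lfCut at hl
  simp only [an_iff, nz_iff, beq_iff, allP_iff] at hl
  refine hcu t w hl.1 e f h fun p hp => ?_
  obtain ⟨h1, h2⟩ := hl.2 p hp
  obtain ⟨-, -, h3, h4⟩ := (h.lk hs hg).1 p.1 (h2 ▸ h1)
  exact ⟨h3, h2 ▸ h4⟩

end Cfsg.Agent.FS.NB
end

-- part: FS/N/B/Go
section
/-!
# The checker of part B: the search
-/

set_option autoImplicit false

namespace Cfsg.Agent.FS.NB

open Cfsg Cfsg.FusionSystem Cfsg.Agent.H752 Cfsg.Agent.FS.Th Cfsg.Agent.FS.Pc Cfsg.Agent.FS.Sw Cfsg.Agent.FS.B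
open Asm (En)

variable {A : Type} [Group A] {g : Gp} {cx : Cx} {a : Ab A} {Q : Subgroup A} {τ : A} {t : ℕ} {e : ℕ → A} {f : A → A}
  {st : PM}

theorem ad_gens (hK : g.K) (hs : WF g st) {x y : ℕ} (hx : x < g.N) (hy : y < g.N) (hg : Gens e f Q st.gs)
    (hQ : e x ∈ Q) (hxy : f (e x) = e y) : Gens e f Q (g.ad st x y).gs := by
  rcases (hK.ad_spec hs hx hy).2 with h | h
  · rwa [h]
  · rw [h]
    intro p hp
    rcases List.mem_cons.1 hp with rfl | hp
    · exact ⟨hQ, hxy⟩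
    · exact hg p hp

theorem nxt_wf (hK : g.K) (hs : WF g st) (ht : t < g.N) {x y : ℕ} (hx : x < g.N) (hy : y < g.N) (fl : ℕ) :
    WF g (g.nxt t st x y fl) := by
  unfold Gp.nxt
  cases an (nz fl) (nz t)
  · exact (hK.ad_spec hs hx hy).1
  · exact (hK.ad_spec (hK.ad_spec hs hx hy).1 (hK.cj_lt ht hy) (hK.cj_lt ht hx)).1

theorem nxt_gens (hK : g.K) (hc : CxOK g cx) (h : Hb g cx a Q τ t e f) (hs : WF g st) (ht : t < g.N) {x y : ℕ}
    (hx : x < g.N) (hy : y < g.N) (fl : ℕ) (hg : Gens e f Q st.gs) (hQ : e x ∈ Q) (hxy : f (e x) = e y) :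
    Gens e f Q (g.nxt t st x y fl).gs := by
  unfold Gp.nxt
  by_cases h1 : an (nz fl) (nz t) = true
  · rw [iF_pos h1]
    obtain ⟨h2, h3⟩ := h.pair hK hc ht (nz_iff.1 (an_iff.1 h1).2) hx hy hQ hxy
    exact ad_gens hK (hK.ad_spec hs hx hy).1 (hK.cj_lt ht hy) (hK.cj_lt ht hx) (ad_gens hK hs hx hy hg hQ hxy) h2 h3
  · rw [iF_neg h1]
    exact ad_gens hK hs hx hy hg hQ hxy

theorem stN_spec (hK : g.K) {x : Nx} (ha : AbOK g x a) (h : RN g x a e) {w : ℕ} (hl : g.stN x w = true) :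
    RN g x a fun b => e (g.gam x w b) := by
  unfold Gp.stN at hl
  rw [an_iff, an_iff, an_iff, allL_iff] at hl
  obtain ⟨h1, h2⟩ := hK.gam_spec h.en ha.cl h.hl hl.1
  obtain ⟨θ, hθ⟩ := h.en.exists_aut h1
  refine ⟨h1, h2, (hK.dom_stab h.en (fun _ hb => hK.gam_lt x w hb) h1 ha.wW hl.2.1).trans h.W, ?_,
    h.C.tr ha.wC hθ (h.C.aut hK h.en ha.wC ha.cC (fun _ hb => hK.gam_lt x w hb) θ hθ hl.2.2.2)⟩
  have h3 := hK.gam_lt x w ha.z_lt
  have h4 := (hK.mem_ws h.en ha.wW (h.en.lt _ (hK.i_lt _ ha.z_lt) _ h3)).1 hl.2.2.1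
  rw [h.en.mul _ (hK.i_lt _ ha.z_lt) _ h3, hK.e_i h.en ha.z_lt, h.W] at h4
  have h5 := a.W.mul_mem h.z h4
  rwa [mul_assoc, mul_inv_cancel_left] at h5

theorem dyn_spec (hK : g.K) (hc : CxOK g cx) (ha : AbOK g cx.nx a) (hs : WF g st) {x y w : ℕ} (hy : y < g.N)
    (hl : g.dyn cx t st x w = true) (h0 : Cy g cx a Q τ t st x y) :
    Cy g cx a Q τ t st x (g.cj0 (g.by' w 1) (g.gam cx.nx w y)) := by
  intro e f h hg hx1 hx0
  have he := h.rn.en
  unfold Gp.dyn Gp.stC at hl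
  simp only [an_iff, nz_iff, beq_iff, allP_iff, orr_iff] at hl
  obtain ⟨⟨h1, h2, h3, h4⟩, h5, h6, h7⟩ := hl
  have hγ : ∀ b, b < g.N → g.gam cx.nx w b < g.N := fun _ hb => hK.gam_lt _ w hb
  have hc' := hK.by_lt w 1
  have h8 := stN_spec hK ha h.rn h1
  have h9 : ¬ cx.ex = true → e (g.by' w 1) = 1 := fun h10 => by rw [h4.resolve_right h10, hK.e_zero he]
  have h10 : ¬ cx.ex = true → (fun u => (e (g.by' w 1))⁻¹ * f u * e (g.by' w 1)) = f := fun h10 => by
    funext u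
    rw [h9 h10, inv_one, one_mul, mul_one]
  refine h0 (fun b => e (g.gam cx.nx w b)) (fun u => (e (g.by' w 1))⁻¹ * f u * e (g.by' w 1))
    ⟨h8, (hK.dom_stab he hγ h8.en hc.wP (allP_iff.2 h2)).trans h.P, ?_, ?_, fun h11 => ?_, fun h11 => ?_,
      fun h11 => ?_⟩ (fun p hp => ?_) (fun h11 => ?_) fun h11 => ?_
  · have h11 := (h.mem hK hc (he.lt _ hc.t0 _ (hK.i_lt _ (hγ _ hc.t0)))).1 h3
    rw [he.mul _ hc.t0 _ (hK.i_lt _ (hγ _ hc.t0)), hK.e_i he (hγ _ hc.t0)] at h11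
    have h12 := Q.mul_mem h.t0 h11
    rwa [mul_assoc, inv_mul_cancel_left] at h12
  · exact (h.mp.comp (mp_conj a.F le_top (Subgroup.mem_top (e (g.by' w 1))⁻¹)) fun _ _ => Subgroup.mem_top _).congr
      fun u _ => by rw [inv_inv]
  · rw [h10 h11]
    exact h.au h11
  · rw [h10 (hc.nex' h11)]
    exact h.di h11
  · show _ ∧ e (g.gam cx.nx w t) = τ
    rw [h5]
    exact h.t h11
  · obtain ⟨h11, h12⟩ := h7 p hp
    have h13 := hγ _ (hs.gs p hp).2
    obtain ⟨-, -, h14, h15⟩ := (h.lk hs hg).1 (g.gam cx.nx w p.1) (by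
      rw [h12]
      exact fun h14 => h11 ((hK.cj0_eq_zero he hc' h13).1 h14))
    refine ⟨h14, ?_⟩
    show (e (g.by' w 1))⁻¹ * f (e (g.gam cx.nx w p.1)) * e (g.by' w 1) = e (g.gam cx.nx w p.2)
    rw [h15, h12, hK.e_cj0 he hc' h13]
    group
  · show (e (g.by' w 1))⁻¹ * f (e (g.gam cx.nx w x)) * e (g.by' w 1) = e (g.gam cx.nx w y)
    rw [h6, hx1 h11, hK.e_cj0 he hc' (hγ _ hy)]
    group
  · obtain ⟨h12, h13⟩ := hx0 h11
    refine ⟨h12, ?_⟩
    rw [hK.e_cj0 he hc' (hγ _ hy), h9 (hc.nex' h12), one_mul, inv_one, mul_one] at h13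
    exact h13

/-- the values of the mask are settled -/
def Ms (g : Gp) (cx : Cx) (a : Ab A) (Q : Subgroup A) (τ : A) (t : ℕ) (st : PM) (x M : ℕ) : Prop :=
  ∀ y, y < g.N → lk M y ≠ 0 → Cy g cx a Q τ t st x y

theorem Ms.lor {x M M' : ℕ} (h : Ms g cx a Q τ t st x M) (h' : Ms g cx a Q τ t st x M') :
    Ms g cx a Q τ t st x (Nat.lor M M') := fun y hy h1 => by
  by_cases h2 : lk M y = 0
  · exact h' y hy fun h3 => h1 (lk_lor_eq_zero.2 ⟨h2, h3⟩)
  · exact h y hy h2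

theorem ms_zero {x : ℕ} : Ms g cx a Q τ t st x 0 := fun y _ h => absurd (lk_zero y) h

theorem ms_pt {x y : ℕ} (h : y < g.N → Cy g cx a Q τ t st x y) : Ms g cx a Q τ t st x (pt 1 y) := fun z hz h1 => by
  rw [lk_pt (by norm_num)] at h1
  by_cases h2 : z = y
  · exact h2 ▸ h (h2 ▸ hz)
  · rw [if_neg h2] at h1
    exact absurd rfl h1

theorem ms_iF {x y : ℕ} {b : Bool} (h : b = true → y < g.N → Cy g cx a Q τ t st x y) :
    Ms g cx a Q τ t st x (iF b (pt 1 y) 0) := by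
  cases b
  · exact ms_zero
  · exact ms_pt (h rfl)

theorem syms_spec (hK : g.K) (hc : CxOK g cx) (ha : AbOK g cx.nx a) (hs : WF g st) {x gv sy M : ℕ}
    (h : Ms g cx a Q τ t st x M) : ∀ k, Ms g cx a Q τ t st x (g.syms cx t st x gv sy M k) := by
  intro k
  induction k with
  | zero => exact h
  | succ k ih =>
    show Ms g cx a Q τ t st x (frc _ (g.sym1 cx t st x (g.syms cx t st x gv sy M k) (g.by' sy (Nat.add k k))))
    rw [frc_eq]
    unfold Gp.sym1
    generalize Nat.land _ 18446744073709551615 = w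
    by_cases h1 : an (nz (lk (g.syms cx t st x gv sy M k) (g.by' sy (Nat.add k k)))) (g.dyn cx t st x w) = true
    · rw [iF_pos h1]
      rw [an_iff, nz_iff] at h1
      exact ih.lor (ms_pt fun _ => dyn_spec hK hc ha hs (hK.by_lt _ _) h1.2 (ih _ (hK.by_lt _ _) h1.1))
    · rw [iF_neg h1]
      exact ih

/-- the true image is not excluded -/
theorem flt_zero (hK : g.K) (hc : CxOK g cx) (h : Hb g cx a Q τ t e f) (hs : WF g st) (hg : Gens e f Q st.gs)
    {x y : ℕ} (hx : x < g.N) (hy : y < g.N) (hQ : e x ∈ Q) (hxy : f (e x) = e y) : lk (g.flt cx st x) y = 0 := by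
  have he := h.rn.en
  have hv := h.val hs hg
  unfold Gp.flt
  rw [lk_lor_eq_zero, lk_lor_eq_zero, lk_xor_eq_zero, hK.lk_mul_O (lk_lt _ _) hy, lk_foP_eq_zero]
  refine ⟨(h.inv hK hc x hx y hy hQ hxy).symm, ?_, fun p hp => ?_⟩
  · by_cases h1 : mem st (g.q x) = true
    · rw [iF_pos h1, lk_xor_eq_zero, hK.lk_mul_O (lk_lt _ _) hy]
      obtain ⟨h2, h3⟩ := hK.tab_val he hs hv (hK.q_lt hx) ((hK.mem_val he hs hv (hK.q_lt hx)).1 h1)
      refine he.inj (hK.q_lt hy) h2 ?_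
      rw [← h3, hK.e_q he hx, h.mp.mul hQ hQ, hxy]
      exact hK.e_q he hy
    · rw [iF_neg h1, lk_zero]
  · by_cases h1 : nz (lk st.tab (g.cj x p.1)) = true
    · rw [iF_pos h1]
      obtain ⟨-, h2, h3, h4⟩ := (h.lk hs hg).1 _ (nz_iff.1 h1)
      rw [hK.tw_zero he (hs.gs p hp).2 h2 hy, ← h4, ← hxy, ← (hg p hp).2, ← h.mp.mul hQ (hg p hp).1,
        ← h.mp.mul h3 hQ, hK.e_cj he hx (hs.gs p hp).1, inv_mul_cancel_right]
    · rw [iF_neg h1, lk_zero]

theorem cov_lt (hK : g.K) (hc : CxOK g cx) (he : En g.m g.N e) {x M : ℕ} (hl : g.cov cx st x M = true) :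
    x < g.N ∧ mem cx.P x = true ∧ x ≠ 0 := by
  unfold Gp.cov at hl
  rw [an_iff, nz_iff] at hl
  have h1 := (Gp.K.lk_val hc.wP.toWF (Gp.K.val_ws he hc.wP) le_rfl).1
  exact ⟨(h1 x hl.1).1, mem_iff'.2 (Or.inl hl.1), fun h2 => hl.1 (by rw [h2]; exact h1.zero hK he (hm_id _))⟩

theorem cov_spec (hK : g.K) (hc : CxOK g cx) (h : Hb g cx a Q τ t e f) (hs : WF g st) (hg : Gens e f Q st.gs)
    {x M : ℕ} (hl : g.cov cx st x M = true) (hM : Ms g cx a Q τ t st x M) : a.G := by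
  have he := h.rn.en
  obtain ⟨hx, h1, h0⟩ := cov_lt hK hc he hl
  have hQ := (h.mem hK hc hx).1 h1
  unfold Gp.cov at hl
  rw [an_iff, an_iff, beq_iff, beq_iff] at hl
  obtain ⟨-, h2, h3⟩ := hl
  obtain ⟨y, hy, hxy⟩ := he.surj (f (e x))
  refine hM y hy (fun h4 => ?_) e f h hg (fun _ => hxy.symm) fun h4 => absurd h4 h0
  have h5 : lk (Nat.lor (Nat.lor (g.nzm (Nat.lor (g.flt cx st x) st.itab)) 1) (Nat.lor cx.ntg M)) y = 0 := by
    rw [lk_lor_eq_zero, lk_lor_eq_zero, lk_lor_eq_zero, hK.lk_nzm _ hy, lk_one]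
    refine ⟨⟨if_pos (lk_lor_eq_zero.2 ⟨flt_zero hK hc h hs hg hx hy hQ hxy.symm, ?_⟩), if_neg fun h5 => ?_⟩, ?_, h4⟩
    · by_contra h5
      have hv := h.val hs hg
      obtain ⟨-, h6, h7, h8⟩ := (h.lk hs hg).2 y h5
      have h9 : lk st.itab y = x := he.inj h6 hx (h.mp.inj h7 hQ (h8.trans hxy))
      have h10 := (hv.el _ (hv.itab y h5)).2.2.1
      rw [h9, h2] at h10
      have h11 : y = 0 := h10.symm
      rw [h11, hK.e_zero he, ← h.mp.one] at hxy
      exact h0 ((hK.e_eq_one he hx).1 (h.mp.inj hQ Q.one_mem hxy.symm))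
    · rw [h5, hK.e_zero he, ← h.mp.one] at hxy
      exact h0 ((hK.e_eq_one he hx).1 (h.mp.inj hQ Q.one_mem hxy.symm))
    · by_cases h5 : cx.ex = true
      · rw [(hc.ex h5).2.1, lk_zero]
      · rw [(hc.nex h5).1, lk_xor_eq_zero, hK.lk_O hy, hK.lk_msk _ hy,
          if_pos ((h.mem hK hc hy).2 (hxy ▸ (h.au h5).mem _ hQ))]
  rw [h3, hK.lk_O hy] at h5
  exact one_ne_zero h5

theorem covT_spec (hK : g.K) (hc : CxOK g cx) (h : Hb g cx a Q τ t e f) (hg : Gens e f Q st.gs)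
    {M : ℕ} (hl : g.covT cx M = true) (hM : Ms g cx a Q τ t st 0 M) : a.G := by
  have he := h.rn.en
  unfold Gp.covT at hl
  rw [an_iff, nz_iff, beq_iff] at hl
  obtain ⟨y, hy, h1⟩ := he.surj τ
  refine hM y hy (fun h2 => ?_) e f h hg (fun h2 => absurd rfl h2) fun _ => ⟨hl.1, h1⟩
  have hd := h.di hl.1
  refine (hK.lk_cos he hc.wP hc.t0 hy).2 ?_ ?_
  · rw [h.P, h1]
    have h3 := Q.mul_mem (Q.mul_mem (Q.inv_mem hd.tsq) (hd.tN _ h.t0)) hd.tsq
    have h4 : (τ * τ)⁻¹ * (τ * (τ * (e cx.t0)⁻¹) * τ⁻¹) * (τ * τ) = (e cx.t0)⁻¹ * τ := by group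
    rwa [h4] at h3
  · rw [← hl.2, lk_land, h2, Nat.and_zero]

theorem go_spec (hK : g.K) (hc : CxOK g cx) (ha : AbOK g cx.nx a)
    (hcu : ∀ t w, cx.cu t w = true → Cl g cx a Q τ t (g.mkP w)) (c : Ct) : ∀ t st, t < g.N → WF g st →
      ((g.go cx c).1 t st = true → Cl g cx a Q τ t st) ∧
        ∀ x, x < g.N → mem cx.P x = true → Ms g cx a Q τ t st x ((g.go cx c).2 t st x) := by
  induction c with
  | nil => exact fun t st _ _ => ⟨fun h => absurd h Bool.false_ne_true, fun _ _ _ => ms_zero⟩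
  | cons y fl sub rest ih1 ih2 =>
    refine fun t st ht hs => ⟨fun h => absurd h Bool.false_ne_true, fun x hx hP => ?_⟩
    refine Ms.lor (ms_iF fun h1 hy e f h hg hx1 hx0 => ?_) ((ih2 t st ht hs).2 x hx hP)
    rcases iF_iff.1 h1 with ⟨h2, h3⟩ | ⟨h2, h3⟩
    · exact (ih1 t _ ht (nxt_wf hK hs ht hx hy fl)).1 h3 e f h
        (nxt_gens hK hc h hs ht hx hy fl hg ((h.mem hK hc hx).1 hP) (hx1 (nz_iff.1 h2)))
    · obtain ⟨h4, h5⟩ := hx0 (not_not.1 fun h4 => h2 (nz_iff.2 h4))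
      have h6 : e (g.q y) = τ * τ := by rw [hK.e_q h.rn.en hy, h5]
      exact (ih1 y _ hy (hK.ad_spec hs (hK.q_lt hy) (hK.q_lt hy)).1).1 h3 e f
        ⟨h.rn, h.P, h.t0, h.mp, h.au, h.di, fun _ => ⟨h4, h5⟩⟩
        (ad_gens hK hs (hK.q_lt hy) (hK.q_lt hy) hg (h6 ▸ (h.di h4).tsq) (h6 ▸ (h.di h4).fix))
  | br x gv sy kids ih =>
    refine fun t st ht hs => ⟨fun h1 e f h hg => ?_, fun _ _ _ => ms_zero⟩
    rcases iF_iff.1 h1 with ⟨-, h3⟩ | ⟨h2, h3⟩
    · obtain ⟨h4, h5, -⟩ := cov_lt hK hc h.rn.en h3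
      exact cov_spec hK hc h hs hg h3 (syms_spec hK hc ha hs ((ih t st ht hs).2 x h4 h5) _)
    · have h4 : x = 0 := not_not.1 fun h4 => h2 (nz_iff.2 h4)
      subst h4
      exact covT_spec hK hc h hg h3
        (syms_spec hK hc ha hs ((ih t st ht hs).2 0 hK.N_pos (mem_iff'.2 (Or.inr rfl))) _)
  | kil y fl d rest ih =>
    refine fun t st ht hs => ⟨fun h => absurd h Bool.false_ne_true, fun x hx hP => ?_⟩
    exact Ms.lor (ms_iF fun h1 hy e f h hg hx1 _ =>
      (kil_false hK hc h ht hs hg hx hy ((h.mem hK hc hx).1 hP) hx1 h1).elim) ((ih t st ht hs).2 x hx hP)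
  | lf d =>
    exact fun t st ht hs => ⟨fun h1 e f h hg => (lfK_false hK hc h ht (h.lk hs hg).1 (h.lk hs hg).2 h1).elim,
      fun _ _ _ => ms_zero⟩
  | mc w => exact fun t st _ hs => ⟨fun h1 e f h hg => (lfMc_false hK hc ha h hs hg h1).elim, fun _ _ _ => ms_zero⟩
  | ur ch => exact fun t st _ hs => ⟨fun h1 e f h hg => (lfUr_false hK hc h hs hg h1).elim, fun _ _ _ => ms_zero⟩
  | v1 T K w k =>
    exact fun t st _ hs => ⟨fun h1 e f h hg => (lfV1_false hK hc ha h hs hg (hK.ws_mkS T) (hK.ws_mkS K) h1).elim,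
      fun _ _ _ => ms_zero⟩
  | ine w => exact fun t st _ hs => ⟨fun h1 e f h hg => (lfIn_false hK hc ha h hs hg h1).elim, fun _ _ _ => ms_zero⟩
  | ref k B ws => exact fun t st _ hs => ⟨fun h1 e f h hg => lfRef_goal hK ha h hs hg h1, fun _ _ _ => ms_zero⟩
  | cut w => exact fun t st _ hs => ⟨fun h1 e f h hg => lfCut_goal hcu h hs hg h1, fun _ _ _ => ms_zero⟩

end Cfsg.Agent.FS.NB
end

private theorem dce_1d31cb13d337 : _root_.True := by
  try have : _root_.True := by simp only [_root_.Cfsg.Agent.FS.NB.dom.eq_1]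
  exact _root_.True.intro
end

-- part: FS/N/B/Main
section
prune_inst 0x30000500700000000000000020001c6292000002000b00010040000004c8080100400e20b200030001200024083c802813000009421000002a008200411801a0040020c28008b00021000040c800000000000000000000000000000000000000000000000
set_option linter.all false
open scoped Cfsg.Agent.FastGrp

-- part: FS/N/B/Lev
section
/-!
# The checker of part B: the candidates for essential subgroups (statement helper80, proof helper98; project FS)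
-/

set_option autoImplicit false

namespace Cfsg.Agent.FS.NB

open Cfsg Cfsg.FusionSystem Cfsg.Agent.H752 Cfsg.Agent.FS.Th Cfsg.Agent.FS.Pc Cfsg.Agent.FS.Sw Cfsg.Agent.FS.B
open Asm (En)

namespace LevAux

theorem land_hi : ∀ i, i < 16 → ∀ x, x < 65536 → (x &&& (65536 - 1 <<< i) = 0 ↔ x >>> i = 0) := by
  have h0 : ∀ i, i < 16 → ∀ k, k < 16 → (65536 - 1 <<< i).testBit k = decide (i ≤ k) := by decide +kernel
  intro i hi x hx
  refine ⟨fun h => Nat.eq_of_testBit_eq fun k => ?_, fun h => Nat.eq_of_testBit_eq fun k => ?_⟩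
  · rw [Nat.testBit_shiftRight, Nat.zero_testBit]
    by_cases hk : i + k < 16
    · have h1 := congrArg (fun z => Nat.testBit z (i + k)) h
      simp only [Nat.testBit_and, h0 i hi _ hk, Nat.zero_testBit, Nat.le_add_right, decide_true, Bool.and_true] at h1
      exact h1
    · exact Nat.testBit_lt_two_pow (hx.trans_le (Nat.pow_le_pow_right (n := 2) (by norm_num) (not_lt.1 hk)))
  · rw [Nat.testBit_and, Nat.zero_testBit]
    by_cases hk : k < i
    · rw [h0 i hi k (by omega), decide_eq_false (by omega), Bool.and_false]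
    · have h1 := congrArg (fun z => Nat.testBit z (k - i)) h
      simp only [Nat.testBit_shiftRight, Nat.zero_testBit] at h1
      rw [show i + (k - i) = k by omega] at h1
      rw [h1, Bool.false_and]

variable {A : Type} [Group A] {y : ℕ → A} {n R : ℕ}

/-- the series of a presentation -/
def Ser (y : ℕ → A) (n : ℕ) (Z : ℕ → Subgroup A) : Prop :=
  ∀ i, i ≤ n → ∀ x, x ∈ Z i ↔ ∃ a, a < 2 ^ i ∧ x = el y i a

theorem exists_ser [Finite A] (h : IsPc y 0 n 16 R) (hn : n ≤ 16) : ∃ Z, Ser y n Z := by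
  have h1 : ∀ i, ∃ Z : Subgroup A, i ≤ n → ∀ x, x ∈ Z ↔ ∃ a, a < 2 ^ i ∧ x = el y i a := fun i => by
    by_cases hi : i ≤ n
    swap
    · exact ⟨⊤, fun h2 => absurd h2 hi⟩
    let S : Submonoid A :=
      { carrier := {x | ∃ a, a < 2 ^ i ∧ x = el y i a}
        one_mem' := ⟨0, Nat.two_pow_pos i, (el_nil y i).symm⟩
        mul_mem' := by
          rintro _ _ ⟨a, ha, rfl⟩ ⟨b, hb, rfl⟩
          obtain ⟨h2, h3⟩ := h.tab_ok' (by omega) i hi a ha b hb
          rw [Nat.zero_add] at h2 h3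
          exact ⟨_, h2, h3⟩ }
    refine ⟨⟨S, fun {x} hx => ?_⟩, fun _ _ => Iff.rfl⟩
    have h2 : x⁻¹ = x ^ (orderOf x - 1) := by
      rw [inv_eq_iff_mul_eq_one, ← pow_succ', Nat.sub_add_cancel (orderOf_pos x), pow_orderOf_eq_one]
    rw [h2]
    exact S.pow_mem hx _
  choose Z hZ using h1
  exact ⟨Z, hZ⟩

variable {Z : ℕ → Subgroup A}

theorem Ser.el_mem (h : Ser y n Z) {i : ℕ} (hi : i ≤ n) (a : ℕ) : el y i a ∈ Z i :=
  (h i hi _).2 ⟨_, Nat.mod_lt _ (Nat.two_pow_pos i), (el_mod y i a).symm⟩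

theorem Ser.zero (h : Ser y n Z) : Z 0 = ⊥ := by
  refine le_bot_iff.1 fun x hx => ?_
  obtain ⟨a, -, rfl⟩ := (h 0 (Nat.zero_le n) x).1 hx
  exact Subgroup.one_mem _

theorem Ser.succ (h : Ser y n Z) {i : ℕ} (hi : i < n) (x : A) : x ∈ Z (i + 1) ↔ x ∈ Z i ∨ (y i)⁻¹ * x ∈ Z i := by
  constructor
  · intro hx
    obtain ⟨a, -, rfl⟩ := (h _ hi x).1 hx
    rw [el_succ]
    cases a.testBit i
    · rw [cond_false, one_mul]
      exact Or.inl (h.el_mem hi.le a)
    · rw [cond_true, inv_mul_cancel_left]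
      exact Or.inr (h.el_mem hi.le a)
  · rintro (hx | hx)
    · obtain ⟨a, ha, rfl⟩ := (h _ hi.le x).1 hx
      rw [← el_of_lt y ha (Nat.le_succ i)]
      exact h.el_mem hi a
    · obtain ⟨a, ha, h1⟩ := (h _ hi.le _).1 hx
      rw [inv_mul_eq_iff_eq_mul, ← el_top y ha] at h1
      rw [h1]
      exact h.el_mem hi _

theorem Ser.gen (h : Ser y n Z) {k i : ℕ} (hk : k < i) (hi : i ≤ n) : y k ∈ Z i := by
  have h1 := el_top y (Nat.two_pow_pos k)
  rw [el_nil, mul_one, Nat.zero_xor,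
    ← el_of_lt y (Nat.pow_lt_pow_right (by norm_num) (Nat.lt_succ_self k)) (show k + 1 ≤ i from hk)] at h1
  rw [← h1]
  exact h.el_mem hi _

theorem Ser.cen (h : Ser y n Z) (hp : IsPc y 0 n 16 R) (hR : ∀ k, k < n → ∀ j, j < k → get 16 R (tri k j) >>> j = 1)
    (ht : Z n = ⊤) {i : ℕ} (hi : i < n) (hN : (Z i).Normal) (g : A) : g * y i * g⁻¹ * (y i)⁻¹ ∈ Z i := by
  let π := QuotientGroup.mk' (Z i)
  have h1 : ∀ x, π x = 1 ↔ x ∈ Z i := fun x => QuotientGroup.eq_one_iff x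
  obtain ⟨a, -, rfl⟩ := (h n le_rfl g).1 (ht ▸ Subgroup.mem_top g)
  have h2 : el y n a ∈ (Subgroup.centralizer {π (y i)}).comap π := Pc.el_mem a n fun k hk => by
    rw [Subgroup.mem_comap, Subgroup.mem_centralizer_singleton_iff]
    rcases lt_trichotomy k i with h2 | rfl | h2
    · rw [(h1 _).2 (h.gen h2 hi.le), one_mul, mul_one]
    · rfl
    · have h3 := hp.cj k hk i h2
      have h4 := hR k hk i h2
      generalize get 16 R (tri k i) = b at h3 h4
      have h5 : b = (b % 2 ^ i) ^^^ 2 ^ i := by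
        rw [← two_pow_add_eq_xor (Nat.mod_lt _ (Nat.two_pow_pos i))]
        rw [Nat.shiftRight_eq_div_pow] at h4
        have h6 := Nat.div_add_mod b (2 ^ i)
        rw [h4, Nat.mul_one] at h6
        exact h6.symm
      have h6 : b < 2 ^ (i + 1) := by
        rw [Nat.shiftRight_eq_div_pow] at h4
        rw [Nat.pow_succ]
        exact Nat.lt_mul_of_div_lt (by omega) (Nat.two_pow_pos i) |>.trans_eq (Nat.mul_comm _ _)
      simp only [Nat.zero_add] at h3
      rw [el_of_lt y h6 (show i + 1 ≤ k from h2), h5, el_top y (Nat.mod_lt _ (Nat.two_pow_pos i))] at h3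
      rw [← map_mul, ← map_mul, h3, map_mul π _ (_ * _), map_mul π (y i), (h1 _).2 (h.el_mem hi.le _), mul_one, map_mul]
  rw [Subgroup.mem_comap, Subgroup.mem_centralizer_singleton_iff] at h2
  rw [← h1, map_mul, map_mul, map_mul, h2, map_inv, map_inv, mul_inv_cancel_right, mul_inv_cancel]

theorem Ser.normal (h : Ser y n Z) (hp : IsPc y 0 n 16 R) (hR : ∀ k, k < n → ∀ j, j < k → get 16 R (tri k j) >>> j = 1)
    (ht : Z n = ⊤) : ∀ i, i ≤ n → (Z i).Normal
  | 0, _ => by rw [h.zero]; infer_instance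
  | i + 1, hi => by
    have h1 := h.normal hp hR ht i (by omega)
    refine ⟨fun x hx g => (h.succ hi _).2 (((h.succ hi x).1 hx).imp (fun h2 => h1.conj_mem x h2 g) fun h2 => ?_)⟩
    rw [show (y i)⁻¹ * (g * x * g⁻¹) = (y i)⁻¹ * (g * y i * g⁻¹ * (y i)⁻¹) * (y i)⁻¹⁻¹ * (g * ((y i)⁻¹ * x) * g⁻¹) by group]
    exact (Z i).mul_mem (h1.conj_mem _ (h.cen hp hR ht hi h1 g) _) (h1.conj_mem _ h2 g)

end LevAux

open LevAux

namespace Gp.K

variable {g : Gp} (hK : g.K) {A : Type} [Group A] {e : ℕ → A} (he : En g.m g.N e) {Z : ℕ → Subgroup A}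
  (hZ : Ser (fun i => e (2 ^ i)) g.n Z)
include hK he hZ

theorem lev_cos {i a b : ℕ} (hi : i ≤ g.n) (ha : a < g.N) (hb : b < g.N) :
    (e a)⁻¹ * e b ∈ Z i ↔ a >>> i = b >>> i := by
  have h0 := (hK.pc A e he).2
  have h1 : ∀ c, c < g.N → e c = el (fun j => e (2 ^ (i + j))) (g.n - i) (c >>> i) * el (fun i => e (2 ^ i)) i c :=
    fun c hc => by rw [h0 c hc, ← el_split (fun i => e (2 ^ i)), Nat.add_sub_cancel' hi]
  constructor
  · intro h
    obtain ⟨c, hc, h2⟩ := (hZ i hi _).1 ((Z i).mul_mem (hZ.el_mem hi a) h)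
    have h3 : (2 ^ i * (a / 2 ^ i) + c) / 2 ^ i = a / 2 ^ i := by
      rw [Nat.mul_add_div (Nat.two_pow_pos i), Nat.div_eq_of_lt hc, Nat.add_zero]
    have h4 : 2 ^ i * (a / 2 ^ i) + c < g.N := by
      have h5 : g.N = 2 ^ (g.n - i) * 2 ^ i := by rw [hK.hN, ← Nat.pow_add, Nat.sub_add_cancel hi]
      rw [h5] at ha ⊢
      rw [← Nat.div_lt_iff_lt_mul (Nat.two_pow_pos i)] at ha ⊢
      rwa [h3]
    have h5 : e (2 ^ i * (a / 2 ^ i) + c) = e b := by
      rw [h1 _ h4, Nat.shiftRight_eq_div_pow, h3, ← el_mod _ i, Nat.mul_add_mod, el_mod, ← h2,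
        ← Nat.shiftRight_eq_div_pow, ← mul_assoc, ← h1 a ha, mul_inv_cancel_left]
    rw [← he.inj h4 hb h5, Nat.shiftRight_eq_div_pow, Nat.shiftRight_eq_div_pow, h3]
  · intro h
    rw [h1 a ha, h1 b hb, h, mul_inv_rev, mul_assoc, inv_mul_cancel_left]
    exact (Z i).mul_mem ((Z i).inv_mem (hZ.el_mem hi a)) (hZ.el_mem hi b)

theorem lev_mem {i a : ℕ} (hi : i ≤ g.n) (ha : a < g.N) : e a ∈ Z i ↔ a >>> i = 0 := by
  have h := hK.lev_cos he hZ hi hK.N_pos ha
  rwa [hK.e_zero he, inv_one, one_mul, Nat.zero_shiftRight, eq_comm] at h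

theorem lev_cmi {i u s : ℕ} (hi : i < g.n) (hu : u < g.N) (hs : s < g.N) :
    lk (g.cmi i u) s ≠ 0 ↔ (e s * e u)⁻¹ * (e u * e s) ∈ Z i := by
  have h8 := hK.n9
  have h1 : lk (g.tw u u) s = g.m s u ^^^ g.m u s := by
    unfold Gp.tw
    rw [lk_xor, hK.c_eq u hu s hs]
    rfl
  have h2 : Nat.sub 65536 (Nat.shiftLeft 1 i) < 65536 := by
    rw [one_shl]
    exact Nat.sub_lt (by norm_num) (Nat.two_pow_pos i)
  rw [← he.mul s hs u hu, ← he.mul u hu s hs, hK.lev_cos he hZ hi.le (he.lt s hs u hu) (he.lt u hu s hs),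
    ← Nat.xor_eq_zero_iff, ← Nat.shiftRight_xor_distrib, ← h1, ← land_hi i (by omega) _ (lk_lt _ _)]
  unfold Gp.cmi
  rw [hK.lk_zm _ hs, lk_land, hK.lk_mul_O h2 hs]
  show (if lk (g.tw u u) s &&& 65536 - 1 <<< i = 0 then 1 else 0) ≠ 0 ↔ _
  split_ifs with h3
  · exact iff_of_true one_ne_zero h3
  · exact iff_of_false (fun h => h rfl) h3

end Gp.K

theorem lev0_spec {g : Gp} {CA : List Ds} {i i4 M Q C : ℕ} : ∀ c, g.lev0 CA i i4 M Q C c = true → ∀ v, v < c →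
    Nat.land (Nat.shiftRight Q (Nat.shiftLeft v i4)) 65535 ≠ 0 ∨
      (frr (Nat.shiftLeft v i) fun u => g.lev1 CA M C u v) = true
  | 0, _, _, hv => absurd hv (Nat.not_lt_zero _)
  | c + 1, h, v, hv => by
    have h1 : (Nat.rec (motive := fun _ => Bool) (an (frr (Nat.shiftLeft c i) fun u => g.lev1 CA M C u c)
      (g.lev0 CA i i4 M Q C c)) (fun _ _ => g.lev0 CA i i4 M Q C c)
      (Nat.land (Nat.shiftRight Q (Nat.shiftLeft c i4)) 65535)) = true := h
    cases h2 : Nat.land (Nat.shiftRight Q (Nat.shiftLeft c i4)) 65535 with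
    | zero =>
      rw [h2] at h1
      obtain ⟨h3, h4⟩ := an_iff.1 h1
      rcases Nat.lt_succ_iff_lt_or_eq.1 hv with h5 | rfl
      · exact lev0_spec c h4 v h5
      · exact Or.inr h3
    | succ k =>
      rw [h2] at h1
      rcases Nat.lt_succ_iff_lt_or_eq.1 hv with h5 | rfl
      · exact lev0_spec c h1 v h5
      · exact Or.inl (h2 ▸ Nat.succ_ne_zero k)

theorem lev1_spec {g : Gp} {CA : List Ds} {M C u v : ℕ} (h : g.lev1 CA M C u v = true) : g.cmw M u = 0 ∨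
    ∃ w, g.nzm (Nat.rec (motive := fun _ => ℕ) (g.cmw M u)
      (fun h _ => frr (g.cj (g.i (Nat.succ h)) u) (g.cmw M)) (Nat.land w g.mk')) = g.tge CA w := by
  unfold Gp.lev1 at h
  by_cases h1 : g.cmw M u = 0
  · exact Or.inl h1
  · obtain ⟨k, hk⟩ := Nat.exists_eq_succ_of_ne_zero h1
    refine Or.inr ⟨Nat.land (Nat.shiftRight C (Nat.shiftLeft v 5)) 4294967295, beq_iff.1 ?_⟩
    rw [hk] at h ⊢
    exact h

theorem Gp.K.lev_spec {g : Gp} (hK : g.K) {CA : List Ds} {C : ℕ} (h : g.lev CA C = true) {A : Type} [Group A]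
    {F : FusionSystem (⊤ : Subgroup A)} (hF : F.IsSaturated 2) : Alive g F CA := by
  intro e he Q hQ
  obtain ⟨_, hA⟩ := hK.pgroup he
  obtain ⟨hp, h0⟩ := hK.pc A e he
  obtain ⟨Z, hZ⟩ := exists_ser hp (hK.n9.trans (by norm_num))
  have ht : Z g.n = ⊤ := top_le_iff.1 fun x _ => by
    obtain ⟨a, ha, rfl⟩ := he.surj x
    rw [h0 a ha]
    exact hZ.el_mem le_rfl a
  have hR : ∀ k, k < g.n → ∀ j, j < k → get 16 g.R (tri k j) >>> j = 1 := fun k hk j hj => by
    rw [← lk_eq]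
    exact hK.rel_cj k hk j hj
  have hN := hZ.normal hp hR ht
  obtain ⟨hne, i, hi, v, hv⟩ := level hA hF hQ hZ.zero ht (fun i hi => hZ.succ hi)
    fun i hi => hZ.cen hp hR ht hi (hN i hi.le)
  obtain ⟨a, ha, rfl⟩ := he.surj v
  have hu : (a >>> i) <<< i < g.N := by
    rw [Nat.shiftLeft_eq, Nat.shiftRight_eq_div_pow]
    exact (Nat.div_mul_le_self _ _).trans_lt ha
  obtain ⟨h1, h2, h3⟩ := hv (e ((a >>> i) <<< i)) ((hK.lev_cos he hZ hi.le hu ha).2 (Nat.shiftLeft_shiftRight _ _))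
  have h4 : a >>> i < Nat.shiftRight g.N i := by
    have h5 : g.N = 2 ^ (g.n - i) * 2 ^ i := by rw [hK.hN, ← Nat.pow_add, Nat.sub_add_cancel hi.le]
    rw [nshr, Nat.shiftRight_eq_div_pow, Nat.shiftRight_eq_div_pow, Nat.div_lt_iff_lt_mul (Nat.two_pow_pos i), h5,
      Nat.mul_div_cancel _ (Nat.two_pow_pos i), ← h5]
    exact ha
  have h8 := hK.n9
  have hc : ∀ u, g.cmi i u = Nat.xor g.O (g.nzm (g.cmw (Nat.mul (Nat.sub 65536 (Nat.shiftLeft 1 i)) g.O) u)) := fun _ => rfl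
  rcases lev0_spec _ (allN_iff.1 h i hi) _ h4 with h5 | h5
  · have e1 : Nat.shiftLeft (a >>> i) (Nat.add i 4) = Nat.shiftLeft ((a >>> i) <<< i) 4 :=
      Nat.shiftLeft_add _ _ _
    rw [e1] at h5
    replace h5 : lk _ ((a >>> i) <<< i) ≠ 0 := h5
    by_cases h6 : a >>> i ≤ 1
    · refine absurd ((hK.lev_mem he hZ hi hu).2 ?_) h1
      rw [Nat.succ_eq_add_one, Nat.shiftRight_add, Nat.shiftLeft_shiftRight, Nat.shiftRight_one]
      exact Nat.div_eq_of_lt (Nat.lt_succ_of_le h6)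
    · have h7 : 2 ^ i < (a >>> i) <<< i := by
        rw [Nat.shiftLeft_eq]
        exact lt_mul_of_one_lt_left (Nat.two_pow_pos i) (not_le.1 h6)
      have h9 : Nat.sub 65536 (Nat.shiftLeft 1 i) < 65536 := by
        rw [one_shl]
        exact Nat.sub_lt (by norm_num) (Nat.two_pow_pos i)
      rw [lk_lor, lk_lor, lk_pt (by norm_num), lk_one, if_neg (Nat.ne_zero_of_lt h7), if_neg (by rw [one_shl]; exact h7.ne'), Nat.or_zero,
        Nat.or_zero, lk_land, hK.lk_mul_O h9 hu] at h5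
      rw [← hK.e_q he hu, hK.lev_mem he hZ hi.le (hK.q_lt hu)] at h2
      exact absurd ((land_hi i (by omega) _ (lk_lt _ _)).2 h2) h5
  rw [frr_eq, nshl (a >>> i) i] at h5
  generalize (a >>> i) <<< i = u at hu h1 h2 h3 h5
  rcases lev1_spec h5 with h7 | ⟨w, h7⟩
  · refine absurd (top_le_iff.1 fun x _ => ?_) hne
    obtain ⟨s, hs, rfl⟩ := he.surj x
    rw [h3, ← hK.lev_cmi he hZ hi hu hs, hc, h7]
    show lk (g.zm 0) s ≠ 0
    rw [hK.lk_zm _ hs, lk_zero, if_pos rfl]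
    exact one_ne_zero
  have hh : Nat.land w g.mk' < g.N := hK.by_lt w 0
  generalize Nat.land w g.mk' = c at hh h7
  replace h7 : g.nzm (g.cmw (Nat.mul (Nat.sub 65536 (Nat.shiftLeft 1 i)) g.O) (g.cj (g.i c) u)) = g.tge CA w := by
    cases c with
    | zero =>
      rw [he.inj (hK.cj_lt (hK.i_lt 0 hh) hu) hu (by
        rw [hK.e_cj he (hK.i_lt 0 hh) hu, hK.e_i he hh, hK.e_zero he, inv_one, inv_one, one_mul, mul_one])]
      exact h7
    | succ c => exact h7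
  unfold Gp.tge at h7
  rw [frr_eq] at h7
  generalize Nat.shiftRight w 16 = j at h7
  by_cases h8 : Nat.blt j CA.length = true
  swap
  · have h9 := congrArg (fun X => lk X 0) h7
    simp only [iF_neg h8, hK.lk_nzm _ hK.N_pos] at h9
    split_ifs at h9 <;> exact absurd h9 (by decide)
  have h9 : g.cmi i (g.cj (g.i c) u) = g.msk (g.mkS (nth ⟨0, 0, 0, 0⟩ CA j).P) := by
    rw [hc, h7, iF_pos h8, nxor, nxor, ← Nat.xor_assoc, Nat.xor_self, Nat.zero_xor]
  refine ⟨_, nth_mem ⟨0, 0, 0, 0⟩ (blt_iff.1 h8), c, hh, ?_⟩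
  have he' := hK.en_cj he hh
  ext x
  obtain ⟨s, hs, rfl⟩ := he'.surj x
  have h10 := hK.lev_cmi he hZ hi (hK.cj_lt (hK.i_lt c hh) hu) hs
  rw [h9, hK.lk_msk _ hs, hK.e_cj he (hK.i_lt c hh) hu, hK.e_i he hh] at h10
  refine (hK.mem_ws he' (hK.ws_mkS _) hs).symm.trans ?_
  show _ ↔ e (g.cj c s) ∈ Q
  rw [h3, hK.e_cj he hh hs, show (e c * e s * (e c)⁻¹ * e u)⁻¹ * (e u * (e c * e s * (e c)⁻¹)) =
    e c * ((e s * ((e c)⁻¹ * e u * (e c)⁻¹⁻¹))⁻¹ * ((e c)⁻¹ * e u * (e c)⁻¹⁻¹ * e s)) * (e c)⁻¹ by group,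
    (hN i hi.le).mem_comm_iff, inv_mul_cancel_left, ← h10]
  split_ifs with h11
  · exact iff_of_true h11 one_ne_zero
  · exact iff_of_false h11 fun h => h rfl

end Cfsg.Agent.FS.NB
end

-- part: FS/N/B/Node
section
/-!
# The checker of part B for S5288 (port of FS/B to cells of 16 bits): the nodes
-/

set_option autoImplicit false

namespace Cfsg.Agent.FS.NB

open Cfsg Cfsg.FusionSystem Cfsg.Agent.H752 Cfsg.Agent.FS.Th Cfsg.Agent.FS.Pc Cfsg.Agent.FS.Sw Cfsg.Agent.FS.B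
open Asm (En TyL)

variable {A : Type} [Group A] {g : Gp} {x : Nx} {a : Ab A} {e : ℕ → A} {cu : ℕ → ℕ → ℕ → Bool}

/-- the claim for a candidate -/
def PCl (g : Gp) (x : Nx) (a : Ab A) (P : ℕ) : Prop :=
  ∀ e, RN g x a e → EssF a.F a.M (dom e (g.mkS P)) → a.G

/-- the parts of the search for `d` which are checked elsewhere -/
def CuOK (g : Gp) (a : Ab A) (cx : Cx) : Prop :=
  ∀ Q τ t w, cx.cu t w = true → Cl g cx a Q τ t (g.mkP w)

theorem cxP_ok (hK : g.K) (d : Ds) : CxOK g (g.cxP x cu d) :=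
  ⟨hK.ws_mkS _, hK.by_lt _ _, fun h => absurd h Bool.false_ne_true, fun _ => ⟨rfl, d.pr, rfl⟩⟩

theorem cxE_ok (hK : g.K) (R : ℕ) : CxOK g (g.cxE x cu R) :=
  ⟨hK.ws_mkS _, hK.N_pos, fun _ => ⟨rfl, rfl, rfl⟩, fun h => absurd rfl h⟩

theorem gens_s0 {f : A → A} {Q : Subgroup A} : Gens e f Q s0.gs := fun _ h => absurd h List.not_mem_nil

theorem dom_s0 : dom e s0 = ⊥ := le_bot_iff.1 (dom_le fun _ h => absurd h List.not_mem_nil)

theorem srch_spec (hK : g.K) (ha : AbOK g x a) {d : Ds} (hcu : CuOK g a (g.cxP x cu d)) {c : Ct}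
    (h : g.srch x cu d c = true) : PCl g x a d.P := by
  intro e he hE
  unfold Gp.srch at h
  rw [an_iff] at h
  obtain ⟨τ, f, h1, h2, h3⟩ := hE _ (hK.okN_spec he.en (hK.ws_mkS _) (hK.by_lt _ _) h.1)
  exact (go_spec (cx := g.cxP x cu d) hK (cxP_ok hK d) ha (hcu _ τ) c 0 s0 hK.N_pos hK.ws_s0.toWF).1 h.2 e f
    ⟨he, rfl, h1, h2.mp, fun _ => h2, fun _ => h3, fun h4 => absurd rfl h4⟩ gens_s0

theorem symP_spec (hK : g.K) (ha : AbOK g x a) {d : Ds} {P w : ℕ} (h : g.symP x d P w = true) (h0 : PCl g x a P) :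
    PCl g x a d.P := by
  intro e he hE
  unfold Gp.symP at h
  rw [an_iff, an_iff, beq_iff] at h
  have h1 := stN_spec hK ha he h.1
  refine h0 _ h1 ?_
  have := (hK.pgroup he.en).1
  have hP := hK.ws_mkS P
  have h2 : dom (fun a => e (g.gam x w a)) (g.mkS P) = dom e (g.mkS d.P) := by
    refine Subgroup.eq_of_le_of_card_ge ((Subgroup.closure_le _).2 ?_) (le_of_eq ?_)
    · rintro _ ⟨p, hp, rfl⟩
      exact (hK.mem_ws he.en (hK.ws_mkS _) (hK.gam_lt x w (hP.gs p hp).1)).1 (allP_iff.1 h.2.1 p hp)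
    · rw [← msk_card hK he.en (hK.ws_mkS _), ← msk_card hK h1.en hP]
      exact h.2.2.symm
  rwa [h2]

theorem covP_spec (hK : g.K) (ha : AbOK g x a) : ∀ (AL : List Ds), (∀ d ∈ AL, CuOK g a (g.cxP x cu d)) →
    ∀ (c : Ct) (dn : List ℕ), (∀ P ∈ dn, PCl g x a P) → g.covP x cu AL c dn = true → ∀ d ∈ AL, PCl g x a d.P := by
  intro AL
  induction AL with
  | nil => exact fun _ _ _ _ _ d hd => absurd hd List.not_mem_nil
  | cons d AL ih =>
    intro hcu c dn hdn h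
    cases c with
    | cons w j sub rest =>
      have h' : an (iF (nz w) (an (Nat.blt j dn.length) (frc w (g.symP x d (nth 0 dn j)))) (g.srch x cu d sub))
        (g.covP x cu AL rest (d.P :: dn)) = true := h
      rw [an_iff, iF_iff, an_iff, frc_eq, blt_iff] at h'
      have h1 : PCl g x a d.P := by
        rcases h'.1 with ⟨-, h1, h2⟩ | ⟨-, h1⟩
        · exact symP_spec hK ha h2 (hdn _ (nth_mem 0 h1))
        · exact srch_spec hK ha (hcu d List.mem_cons_self) h1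
      intro d' hd'
      rcases List.mem_cons.1 hd' with rfl | hd'
      · exact h1
      · exact ih (fun d hd => hcu d (List.mem_cons_of_mem _ hd)) rest _
          (fun P hP => (List.mem_cons.1 hP).elim (fun h2 => h2 ▸ h1) (hdn P)) h'.2 d' hd'
    | _ => exact absurd h Bool.false_ne_true

theorem top_spec (hK : g.K) (ha : AbOK g x a) {d : Ds} (hcu : CuOK g a (g.cxP x cu d)) (hf : g.full (g.mkS d.P) = true)
    (h0 : d.t0 = 0) {c : Ct} (h : (g.go (g.cxP x cu d) c).1 0 s0 = true) (he : RN g x a e) {f : A → A}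
    (h1 : Au a.F a.M ⊤ f) : a.G := by
  have h2 : (g.cxP x cu d).t0 = 0 := by
    show g.by' d.t0 0 = 0
    rw [h0]
    exact Nat.zero_and _
  exact (go_spec (cx := g.cxP x cu d) hK (cxP_ok hK d) ha (hcu _ 1) c 0 s0 hK.N_pos hK.ws_s0.toWF).1 h e f
    ⟨he, hK.full_top he.en (hK.ws_mkS _).toWF (Gp.K.val_ws he.en (hK.ws_mkS _)) hf, Subgroup.mem_top _, h1.mp,
      fun _ => h1, fun h3 => absurd h2 h3, fun h4 => absurd rfl h4⟩ gens_s0

theorem RN.cj (hK : g.K) (ha : AbOK g x a) (he : RN g x a e) (hn : ∀ s, ∀ y ∈ a.W, s * y * s⁻¹ ∈ a.W) (hz : x.z = 0)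
    {h : ℕ} (hh : h < g.N) : RN g x a fun b => e (g.cj h b) := by
  refine ⟨hK.en_cj he.en hh, fun s hs => hK.hm_cj he.en ha.cl (hK.wf_mkP s) (he.hl s hs) hh,
    (hK.dom_stab he.en (fun _ hb => hK.cj_lt hh hb) (hK.en_cj he.en hh) ha.wW (allP_iff.2 fun p hp => ?_)).trans he.W, ?_,
    he.C.tr ha.wC (θ := MulAut.conj (e h)) (fun _ hb => (hK.e_cj he.en hh hb).symm) (ha.jC _)⟩
  · rw [hK.mem_ws he.en ha.wW (hK.cj_lt hh (ha.wW.gs p hp).1), hK.e_cj he.en hh (ha.wW.gs p hp).1, he.W]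
    exact hn _ _ (he.W ▸ gS_mem hp)
  · have h1 := he.z
    rw [hz] at h1 ⊢
    show a.z⁻¹ * e (g.cj h 0) ∈ a.W
    rwa [(hK.cj_eq_zero he.en hh hK.N_pos).2 rfl]

theorem cl_nil {e : ℕ → A} : CL e [] fun _ => False := fun _ => ⟨False.elim, fun ⟨_, h, _⟩ => absurd h List.not_mem_nil⟩

theorem cls_false {P : Subgroup A} {f : A → A} : clsP (fun _ => False) P f := fun _ _ _ _ => Iff.rfl

/-- a map without the property gives the goal -/
theorem fail_spec (hK : g.K) (ha : AbOK g x a) (he : RN g x a e) (hn : ∀ s, ∀ y ∈ a.W, s * y * s⁻¹ ∈ a.W) (hz : x.z = 0)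
    {AL : List Ds} (hA : Alive g a.F AL) (h1 : ∀ f, Au a.F a.M ⊤ f → a.G) (h2 : ∀ d ∈ AL, PCl g x a d.P)
    {P : Subgroup A} {f : A → A} (hf : Mp a.F P f) (hM : ¬ a.M P f) : a.G := by
  obtain ⟨_, hp⟩ := hK.pgroup he.en
  rcases exists_fail hp ha.sat ha.cl hf hM with ⟨f', h3⟩ | ⟨Q, h3, h4⟩
  · exact h1 f' h3
  · obtain ⟨d, hd, h, hh, h5⟩ := hA e he.en Q h3
    exact h2 d hd _ (he.cj hK ha hn hz hh) (h5 ▸ h4)

theorem alv_spec (hK : g.K) {F : FusionSystem (⊤ : Subgroup A)} (hF : F.IsSaturated 2) {AL DL : List Ds} {C pool : ℕ}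
    {ps : Ct} (h : g.alv AL DL (fun _ _ _ => false) C pool ps = true) : Alive g F AL := by
  unfold Gp.alv at h
  rw [an_iff] at h
  intro e he Q hQ
  obtain ⟨_, hp⟩ := hK.pgroup he
  obtain ⟨d, hd, s, hs, h1⟩ := hK.lev_spec h.1 hF e he Q hQ
  rcases List.mem_append.1 hd with hd | hd
  · exact ⟨d, hd, s, hs, h1⟩
  · have ha : AbOK g ⟨[], [], 0, s0, 0, 176, pool, []⟩ ⟨F, Inn0, ⊥, 1, False, fun _ => False⟩ :=
      ⟨hF, closed_inn0 F, hK.ws_s0, hK.N_pos, fun h => absurd h Nat.zero_ne_one,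
        fun h => absurd h (show ¬ 0 = 2 by decide), fun h => absurd h (show ¬ 0 = 3 by decide), fun _ h => absurd h List.not_mem_nil,
        fun _ h => absurd h List.not_mem_nil, fun _ _ h => h.elim, fun _ => cls_false,
        fun h => absurd h (show ¬ 0 = 5 by decide), fun h => absurd h (show ¬ 0 = 6 by decide)⟩
    refine (covP_spec (cu := fun _ _ _ => false) hK ha DL (fun _ _ _ _ _ _ h => absurd h Bool.false_ne_true) ps []
      (fun _ h => absurd h List.not_mem_nil) h.2 d hd _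
      ⟨hK.en_cj he hs, fun _ h => absurd h List.not_mem_nil, dom_s0, ?_, cl_nil⟩ (h1 ▸ essF_of_ess hp hF hQ)).elim
    show (1 : A)⁻¹ * e (g.cj s 0) ∈ (⊥ : Subgroup A)
    rw [(hK.cj_eq_zero he hs hK.N_pos).2 rfl, hK.e_zero he, inv_one, mul_one]
    exact Subgroup.one_mem _

/-- the maps of a list as lists of pairs -/
noncomputable def Gp.ty (g : Gp) (L : List ℕ) : List (List (ℕ × ℕ)) := L.map fun s => (g.mkP s).gs.ls

/-- the system has one of the types -/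
def Goal (g : Gp) (F : FusionSystem (⊤ : Subgroup A)) (Xs : List (List ℕ)) : Prop :=
  ∃ e : ℕ → A, En g.m g.N e ∧ ∃ t, t < Xs.length ∧ TyL F e (g.ty (nth [] Xs t))

/-- the claim of a node -/
def NC (g : Gp) (F : FusionSystem (⊤ : Subgroup A)) (Xs : List (List ℕ)) (L : List ℕ) : Prop :=
  ∀ e : ℕ → A, En g.m g.N e → HL g F Tv e L → Goal g F Xs

/-- the maps generated by the list -/
def ME (F : FusionSystem (⊤ : Subgroup A)) (e : ℕ → A) (X : List (List (ℕ × ℕ))) (P : Subgroup A) (f : A → A) : Prop :=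
  ∀ M, Closed F M → (∀ L ∈ X, ∀ f, Mp F (Subgroup.closure {x | ∃ p ∈ L, x = e p.1}) f →
    (∀ p ∈ L, f (e p.1) = e p.2) → M (Subgroup.closure {x | ∃ p ∈ L, x = e p.1}) f) → M P f

theorem closed_ME (F : FusionSystem (⊤ : Subgroup A)) (e : ℕ → A) (X : List (List (ℕ × ℕ))) : Closed F (ME F e X) :=
  ⟨fun P f k h1 h2 h3 M hM h => hM.congr P f k h1 (h2 M hM h) h3,
    fun P Q f k h1 h2 h3 h4 h5 M hM h => hM.comp P Q f k h1 h2 (h3 M hM h) (h4 M hM h) h5,
    fun P R f k h1 h2 h3 h4 h5 M hM h => hM.inv P R f k h1 (h2 M hM h) h3 h4 h5,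
    fun P h1 s hs _ hM _ => hM.conj P h1 s hs⟩

theorem ext_spec (hK : g.K) (he : En g.m g.N e) {F : FusionSystem (⊤ : Subgroup A)} (hF : F.IsSaturated 2)
    {T h R : PM} (hT : WS g T) (h1 : F.IsFullyNormalized (dom e T)) (hh : WF g h) (hR : WS g R)
    (h0 : HM F Tv e h) (hl : g.extOK T h R = true) : ∃ k, Mp F (dom e R) k ∧ Gens e k (dom e R) h.gs := by
  obtain ⟨_, hp⟩ := hK.pgroup he
  unfold Gp.extOK at hl
  simp only [an_iff, nz_iff, allP_iff] at hl
  obtain ⟨h2, h3, h4⟩ := hl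
  obtain ⟨f, h5, -, h6⟩ := h0
  obtain ⟨h7, h8⟩ := Gp.K.lk_val hh (hh.val A e f _ he (hm_of_mp h5) h6) le_rfl
  have h9 : dom e h ≤ dom e R := dom_le fun p hp => (hK.mem_ws he hR (hh.gs p hp).1).1 (h2 p hp).2
  refine (ext_gens' hp hF (X := gS e h.gs) (Y := gS e R.gs) (U := dom e h) (T := dom e T) (R := dom e R)
    rfl h1 h5 (fun y => ⟨fun hy => ?_, ?_⟩) rfl h9 ?_).imp fun k h10 =>
      ⟨h10.1, fun p hp => ⟨h9 (gS_mem hp), (h10.2 _ (gS_mem hp)).trans (h6 p hp).2⟩⟩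
  · induction hy using Subgroup.closure_induction with
    | mem y hy =>
      obtain ⟨p, hp, rfl⟩ := hy
      exact ⟨_, (h8 _ (h3 p hp)).2.2⟩
    | one => exact ⟨1, Subgroup.one_mem _, h5.one⟩
    | mul y z _ _ h12 h13 =>
      obtain ⟨u, hu, rfl⟩ := h12
      obtain ⟨v, hv, rfl⟩ := h13
      exact ⟨u * v, Subgroup.mul_mem _ hu hv, h5.mul hu hv⟩
    | inv y _ h12 =>
      obtain ⟨u, hu, rfl⟩ := h12
      exact ⟨u⁻¹, Subgroup.inv_mem _ hu, h5.inv hu⟩
  · rintro ⟨u, hu, rfl⟩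
    refine mem_of_gens (X := gS e h.gs) (fun _ h12 => Subgroup.subset_closure h12) h5 ?_ u hu
    rintro _ ⟨p, hp, rfl⟩
    rw [(h6 p hp).2]
    exact (hK.mem_ws he hT (hh.gs p hp).2).1 (h2 p hp).1
  · rintro _ ⟨q, hq, rfl⟩
    have hq' := (hR.gs q hq).1
    obtain ⟨s', h12⟩ := ind_spec hK he (u := fun _ b => b) (v := fun a _ => lk h.tab (g.cj q.1 a))
      (fun p hp => (hh.gs p hp).2) (fun p _ => h7.lt hK _) (h4 q hq)
    refine ⟨?_, s', ?_⟩
    · rintro _ ⟨p, hp, rfl⟩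
      rw [← hK.e_cj he hq' (hh.gs p hp).1]
      exact (h7 _ (h12 p hp).1).2.2.1
    · rintro _ ⟨p, hp, rfl⟩
      rw [← hK.e_cj he hq' (hh.gs p hp).1, (h7 _ (h12 p hp).1).2.2.2, (h6 p hp).2]
      exact (h12 p hp).2

theorem cmS_spec (hK : g.K) (w : ℕ) : WS g (g.cmS w) ∧
    ∀ p ∈ (g.cmS w).gs.ls, ∃ u v, u < g.N ∧ v < g.N ∧ p.1 = g.cm u v := by
  obtain ⟨h1, -, h2⟩ := hK.adS_spec hK.ws_s0
    (φ := fun i => g.cm (g.by' w (Nat.add i i)) (g.by' w (Nat.succ (Nat.add i i))))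
    (fun i => hK.cm_lt (hK.by_lt _ _) (hK.by_lt _ _)) (len2 w)
  refine ⟨h1, fun p hp => ?_⟩
  rcases h2 p hp with h3 | ⟨i, -, h3⟩
  · exact absurd h3 List.not_mem_nil
  · exact ⟨_, _, hK.by_lt _ _, hK.by_lt _ _, h3⟩

theorem extC_spec (hK : g.K) (ha : AbOK g x a) (he : RN g x a e) {nd : Nd} (hL : HL g a.F Tv e nd.L)
    (hcu : CuOK g a (g.cxE x cu nd.z)) (hT : a.F.IsFullyNormalized (dom e (g.mkS nd.W))) {c : Ct}
    (h : g.extC cu nd x c = true) : a.G := by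
  unfold Gp.extC at h
  rw [an_iff, an_iff] at h
  have h1 := hK.der_spec he.en (closed_tv a.F) hL hK.ws_s0.toWF (hm_s0 (closed_tv a.F) e) (β := lk g.id)
    (fun b hb => by rwa [hK.id_eq b hb]) h.2.1 nd.a1 List.mem_cons_self
  obtain ⟨k, h2, h3⟩ := ext_spec hK he.en ha.sat (hK.ws_mkS _) hT (hK.wf_mkP _) (hK.ws_mkS _)
    (Gp.K.hm_congr (e := fun b => e (lk g.id b)) (fun b hb => by rw [hK.id_eq b hb]) (hK.wf_mkP _) h1) h.1
  exact (go_spec (cx := g.cxE x cu nd.z) hK (cxE_ok hK _) ha (hcu _ 1) c 0 _ hK.N_pos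
    (hK.wf_mkP _)).1 h.2.2 e k ⟨he, rfl, by
      show 1 * (e 0)⁻¹ ∈ _
      rw [hK.e_zero he.en, inv_one, mul_one]
      exact Subgroup.one_mem _, h2, fun h5 => absurd rfl h5, fun h5 => absurd rfl h5, fun h5 => absurd rfl h5⟩ h3

theorem ws_cl (hK : g.K) : ∀ l : List ℕ, ∀ X ∈ (List.rec [] (fun a _ ih => g.mkS a :: ih) l : List PM), WS g X
  | [], _, h => absurd h List.not_mem_nil
  | _ :: l, X, h => (List.mem_cons.1 h).elim (fun h1 => h1 ▸ hK.ws_mkS _) (ws_cl hK l X)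

theorem node_spec (hK : g.K) {pf : Bool} {F : FusionSystem (⊤ : Subgroup A)} (hF : Hy pf F) {Xs cuts : List (List ℕ)}
    {AL : List Ds} (hA : Alive g F AL) (hc : ∀ L ∈ cuts, NC g F Xs L) {dT : Ds} {nd : Nd}
    (hcu : ∀ M W z C, AbOK g (g.nxOf cuts nd) ⟨F, M, W, z, Goal g F Xs, C⟩ →
      CuOK g ⟨F, M, W, z, Goal g F Xs, C⟩ (g.cxE (g.nxOf cuts nd) cu nd.z) ∧
      ∀ d ∈ dT :: AL, CuOK g ⟨F, M, W, z, Goal g F Xs, C⟩ (g.cxP (g.nxOf cuts nd) cu d))
    (h : g.node pf Xs AL dT cu cuts nd = true) : NC g F Xs nd.L := by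
  intro e he hL
  obtain ⟨_, hp⟩ := hK.pgroup he
  unfold Gp.node Gp.node1 at h
  have hkd : (g.nxOf cuts nd).kd = nd.kd := rfl
  have hxL : (g.nxOf cuts nd).L = nd.L := rfl
  have hxc : (g.nxOf cuts nd).cuts = cuts := rfl
  have hxW : (g.nxOf cuts nd).W =
    iF (Nat.beq nd.kd 3) (g.cmS nd.W) (iF (Nat.ble 4 nd.kd) s0 (g.mkS nd.W)) := rfl
  have hxC : (g.nxOf cuts nd).cl = iF (Nat.beq nd.kd 5) (List.rec [] (fun a _ ih => g.mkS a :: ih) nd.cl) [] := rfl
  have hxz : (g.nxOf cuts nd).z = iF (Nat.beq nd.kd 3) (g.by' nd.z 0) 0 := rfl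
  generalize g.nxOf cuts nd = x at h hcu hkd hxL hxc hxW hxz hxC
  have hS := hK.ws_mkS dT.P
  have hW : WS g x.W := by
    rw [hxW]
    cases Nat.beq nd.kd 3
    · cases Nat.ble 4 nd.kd
      · exact hK.ws_mkS _
      · exact hK.ws_s0
    · exact (cmS_spec hK _).1
  have hz : x.z < g.N := by
    rw [hxz]
    cases Nat.beq nd.kd 3
    · exact hK.N_pos
    · exact hK.by_lt _ _
  have hz0 : nd.kd ≠ 3 → x.z = 0 := fun h1 => by rw [hxz, iF_neg fun h2 => h1 (beq_iff.1 h2)]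
  have hzz : (e x.z)⁻¹ * e x.z ∈ dom e x.W := by
    rw [inv_mul_cancel]
    exact Subgroup.one_mem _
  have hc' : ∀ L ∈ x.cuts, ∀ e : ℕ → A, En g.m g.N e → HL g F Tv e L → Goal g F Xs := hxc ▸ hc
  have hwC : ∀ X ∈ x.cl, WS g X := by
    rw [hxC]
    cases Nat.beq nd.kd 5
    · exact fun _ h => absurd h List.not_mem_nil
    · exact ws_cl hK _
  have hC0 : nd.kd ≠ 5 → CL e x.cl fun _ => False := fun h1 => by
    rw [hxC, iF_neg fun h2 => h1 (beq_iff.1 h2)]
    exact cl_nil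
  have ha0 : ∀ M, Closed F M → x.kd = 0 ∨ x.kd = 4 →
      AbOK g x ⟨F, M, dom e x.W, e x.z, Goal g F Xs, fun _ => False⟩ := fun M hM h0 =>
    ⟨hF.sat, hM, hW, hz, fun h1 => by omega, fun h1 => by omega, fun h1 => by omega, hc', hwC, fun _ _ h => h.elim,
      fun _ => cls_false, fun h1 => by omega, fun h1 => by omega⟩
  rw [an_iff, orr_iff, an_iff, ne_iff, ne_iff, an_iff, an_iff, beq_iff, iF_iff, beq_iff] at h
  obtain ⟨hpf, hf, ht, ⟨h4, h⟩ | ⟨h4, h⟩⟩ := h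
  · rw [an_iff] at h
    exact extC_spec hK (ha0 Tv (closed_tv F) (by omega)) ⟨he, hxL ▸ hL, rfl, hzz, hC0 (by omega)⟩ hL
      (hcu _ _ _ _ (ha0 Tv (closed_tv F) (by omega))).1
      (isFullyNormalized_of_normal F le_top fun s _ => hK.nrm_spec he hS (hK.ws_mkS _) hf h.1 s) h.2
  rw [an_iff, an_iff, orr_iff, beq_iff, iF_iff, beq_iff] at h
  obtain ⟨h1, h2, h3⟩ := h
  have key0 : ∀ M C, AbOK g x ⟨F, M, dom e x.W, e x.z, Goal g F Xs, C⟩ → HL g F M e x.L → nd.kd ≠ 3 → CL e x.cl C →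
      (∀ s, ∀ y ∈ dom e x.W, s * y * s⁻¹ ∈ dom e x.W) →
      ∀ P f, Mp F P f → ¬ M P f → Goal g F Xs := fun M C ha h5 h6 hC hn' P f h7 h8 =>
    fail_spec hK ha ⟨he, h5, rfl, hzz, hC⟩ hn' (hz0 h6) hA
      (fun _ h9 => top_spec hK ha ((hcu _ _ _ _ ha).2 dT List.mem_cons_self) hf ht h2 ⟨he, h5, rfl, hzz, hC⟩ h9)
      (covP_spec hK ha AL (fun d hd => (hcu _ _ _ _ ha).2 d (List.mem_cons_of_mem _ hd)) nd.ps []
        (fun _ h => absurd h List.not_mem_nil) (h3.resolve_left h6)) h7 h8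
  rcases h1 with ⟨h5, h1⟩ | ⟨hk5, h1⟩
  · rw [an_iff] at h1
    have hC : CL e x.cl fun Y => ∃ X ∈ x.cl, dom e X = Y := fun _ => Iff.rfl
    generalize (fun Y => ∃ X ∈ x.cl, dom e X = Y) = C at hC
    obtain ⟨h6, h7, h8, h9, h10⟩ := clsOK_spec hK he hC hwC hS hf (hK.ws_mkS _) h1.1
    by_cases h11 : ∀ P f, Mp F P f → clsP C P f
    · have h12 := fn_of_cls h11 h6 h9
      refine extC_spec (cu := fun _ _ _ => false) (x := g.nxE x.cuts nd) (a := ⟨F, Tv, dom e (g.mkS nd.W), 1, Goal g F Xs, fun _ => False⟩) hK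
        ⟨hF.sat, closed_tv F, hK.ws_mkS _, hK.N_pos, fun h => absurd h (show ¬ 6 = 1 by decide),
          fun h => absurd h (show ¬ 6 = 2 by decide), fun h => absurd h (show ¬ 6 = 3 by decide), hc',
          fun _ h => absurd h List.not_mem_nil, fun _ _ h => h.elim, fun _ => cls_false,
          fun h => absurd h (show ¬ 6 = 5 by decide), fun _ => h12⟩ ⟨he, hL, rfl, ?_, cl_nil⟩ hL
        (fun _ _ _ _ h => absurd h Bool.false_ne_true) h12 h1.2
      show (1 : A)⁻¹ * e 0 ∈ _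
      rw [hK.e_zero he, inv_one, mul_one]
      exact Subgroup.one_mem _
    · simp only [not_forall] at h11
      obtain ⟨P, f, h12, h13⟩ := h11
      refine key0 (clsP C) C ⟨hF.sat, closed_clsP F h8, hW, hz, fun h1 => by omega, fun h1 => by omega,
        fun h1 => by omega, hc', hwC, h7, h8, fun _ _ _ h14 => h14, fun h1 => by omega⟩ (fun s hs => ?_) (by omega) hC
        (fun s y hy => ?_) P f h12 h13
      · obtain ⟨k, h14, -, h15⟩ := hL s (hxL ▸ hs)
        exact ⟨k, h14, hC.map hK he hwC h7 (hK.wf_mkP s) h14 h15 (h10 s hs), h15⟩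
      · rw [hxW, h5, show iF (Nat.beq 5 3) (g.cmS nd.W) (iF (Nat.ble 4 5) s0 (g.mkS nd.W)) = s0 from rfl, dom_s0,
          Subgroup.mem_bot] at hy ⊢
        rw [hy, mul_one, mul_inv_cancel]
  unfold Gp.kdOK at h1
  simp only [an_iff, iF_iff, nz_iff, beq_iff, allP_iff, allL_iff, orr_iff, nt_iff, blt_iff] at h1
  obtain ⟨hn, h1⟩ := h1
  have hn' := hK.nrm_spec he hS hW hf hn
  have hm : ∀ {b : ℕ}, b < g.N → (mem x.W b = true ↔ e b ∈ dom e x.W) := fun hb => hK.mem_ws he hW hb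
  have key : ∀ M, AbOK g x ⟨F, M, dom e x.W, e x.z, Goal g F Xs, fun _ => False⟩ → HL g F M e x.L → nd.kd ≠ 3 →
      ∀ P f, Mp F P f → ¬ M P f → Goal g F Xs := fun M ha h5 h6 => key0 M _ ha h5 h6 (hC0 hk5) hn'
  rcases h1 with ⟨-, ⟨h5, h6, h7⟩ | ⟨h5, hcm, ⟨h6, h7, h8, h9⟩ | ⟨-, h6, h7, h8, h9, h10⟩⟩⟩ | ⟨h5, h6, h7⟩
  · have hWl := (Gp.K.lk_val hW.toWF (Gp.K.val_ws he hW) le_rfl).1
    obtain ⟨h8, ⟨P, f, h9, h10⟩, h11⟩ := nor_node hF.toHy0 (W := dom e x.W) (fun h8 => h6 (by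
      by_contra h9
      obtain ⟨i, hi⟩ : ∃ i, lk x.W.tab i ≠ 0 := by
        by_contra h10
        exact h9 (eq_of_lk (N := x.W.tab) (Nat.lt_two_pow_self.trans_le (Nat.pow_le_pow_right (by norm_num) (by omega)))
          (Nat.two_pow_pos _) fun i _ => by rw [lk_zero]; exact not_not.1 fun h11 => h10 ⟨i, h11⟩)
      obtain ⟨h10, -, h11, -⟩ := hWl i hi
      rw [h8, Subgroup.mem_bot, hK.e_eq_one he h10] at h11
      exact hi (by rw [h11]; exact hWl.zero hK he (hm_id _)))) hn'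
    refine key (norP F (dom e x.W)) ⟨hF.sat, h8, hW, hz, fun _ => h11, fun h1 => by omega, fun h1 => by omega, hc', hwC,
      fun _ _ h => h.elim, fun _ => cls_false, fun h1 => by omega, fun h1 => by omega⟩
      (fun s hs => ?_) (by omega) P f h9 h10
    obtain ⟨k, h12, -, h13⟩ := hL s (hxL ▸ hs)
    have h14 := (Gp.K.lk_val (hK.wf_mkP s) ((hK.wf_mkP s).val A e k _ he (hm_of_mp h12) h13) le_rfl).1
    have h15 : ∀ p ∈ x.W.gs.ls, e p.1 ∈ dom e (g.mkP s) ∧ k (e p.1) ∈ dom e x.W := fun p hp => by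
      obtain ⟨-, -, h16, h17⟩ := h14 p.1 fun h16 => h7 s hs p hp (by rw [h16]; exact hWl.zero hK he (hm_id _))
      exact ⟨h16, h17 ▸ (hWl _ (h7 s hs p hp)).2.2.1⟩
    exact ⟨k, h12, h11 _ _ h12 (dom_le fun p hp => (h15 p hp).1) (mem_of_gens (X := gS e x.W.gs)
      (fun _ ⟨p, hp, h16⟩ => h16 ▸ (h15 p hp).1) h12 fun _ ⟨p, hp, h16⟩ => h16 ▸ (h15 p hp).2), h13⟩
  · have hb := hK.by_lt nd.a1 0
    obtain ⟨h10, P, f, h11, h12⟩ := foc_node hp ⟨hF.sat, hF.core, hF.pf (hpf.resolve_right fun h0 => by omega)⟩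
      (W := dom e x.W)
      (fun h10 => h7 ((hm hb).2 (h10 ▸ Subgroup.mem_top _))) (hK.cms_spec he hS hW hf hn hcm)
    have h13 : ∀ u, u ∉ dom e x.W → (e (g.by' nd.a1 0))⁻¹ * u ∈ dom e x.W := fun u hu => by
      obtain ⟨j, hj, rfl⟩ := he.surj u
      refine (hK.lk_cos he hW hb hj).1 fun h13 => ?_
      have h14 : lk (Nat.lor (g.msk x.W) (g.cos x.W (g.by' nd.a1 0))) j = 0 :=
        lk_lor_eq_zero.2 ⟨by rw [hK.lk_msk _ hj, if_neg fun h14 => hu ((hm hj).1 h14)], h13⟩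
      rw [h8, hK.lk_O hj] at h14
      exact one_ne_zero h14
    refine key (focP (dom e x.W)) ⟨hF.sat, h10, hW, hz, fun h1 => by omega, fun _ => ⟨fun u v hu hv => ?_, hn',
      fun _ _ _ h14 => h14⟩, fun h1 => by omega, hc', hwC,
      fun _ _ h => h.elim, fun _ => cls_false, fun h1 => by omega, fun h1 => by omega⟩ (fun s hs => ?_) (by omega) P f h11 h12
    · have h14 := Subgroup.mul_mem _ (Subgroup.inv_mem _ (h13 u hu)) (h13 v hv)
      rwa [mul_inv_rev, inv_inv, mul_assoc, mul_inv_cancel_left] at h14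
    · obtain ⟨k, h14, -, h15⟩ := hL s (hxL ▸ hs)
      refine ⟨k, h14, focP_of_gens hn' h14 (X := gS e (g.mkP s).gs) rfl ?_, h15⟩
      rintro _ ⟨p, hp, rfl⟩
      obtain ⟨h16, h17⟩ := (hK.wf_mkP s).gs p hp
      rw [(h15 p hp).2, ← hK.e_i he h16, ← he.mul _ (hK.i_lt _ h16) _ h17]
      exact (hm (he.lt _ (hK.i_lt _ h16) _ h17)).1 (h9 s hs p hp)
  · have h11 : x.W = g.cmS nd.W := by rw [hxW, iF_pos (beq_iff.2 (hkd ▸ h6))]
    obtain ⟨h12, ⟨f, h13⟩, h14⟩ := cen_node hp ⟨hF.sat, hF.core, hF.pf (hpf.resolve_right fun h0 => by omega)⟩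
      (W := dom e x.W) (X := gS e x.W.gs) rfl (by
      rintro _ ⟨p, hp, rfl⟩
      obtain ⟨u, v, hu, hv, h12⟩ := (cmS_spec hK nd.W).2 p (h11 ▸ hp)
      exact ⟨e u, e v, by rw [h12, hK.e_cm he hu hv]⟩) (hK.cms_spec he hS hW hf hn hcm) (z := e x.z)
      (fun h12 => h7 ((hm hz).2 h12)) (by rw [← hK.e_q he hz, h8, hK.e_zero he]) fun u => by
        obtain ⟨j, hj, rfl⟩ := he.surj u
        rw [← he.mul _ hj _ hz, ← he.mul _ hz _ hj, ← hK.c_eq _ hz _ hj, ← h9]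
        rfl
    have ha : AbOK g x ⟨F, cenP (dom e x.W) (e x.z), dom e x.W, e x.z, Goal g F Xs, fun _ => False⟩ :=
      ⟨hF.sat, h12, hW, hz, fun h1 => by omega, fun h1 => by omega, fun _ => h14, hc', hwC,
      fun _ _ h => h.elim, fun _ => cls_false, fun h1 => by omega, fun h1 => by omega⟩
    refine top_spec hK ha ((hcu _ _ _ _ ha).2 dT List.mem_cons_self) hf ht h2 ⟨he, fun s hs => ?_, rfl, hzz, hC0 hk5⟩ h13
    obtain ⟨k, h15, -, h16⟩ := hL s (hxL ▸ hs)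
    refine ⟨k, h15, fun h17 => ?_, h16⟩
    have hv := (hK.wf_mkP s).val A e k _ he (hm_of_mp h15) h16
    have h18 := (h10 s hs).resolve_left (not_not.2 (hK.full_of_mem fun b hb =>
      (hK.mem_val he (hK.wf_mkP s) hv hb).2 (h17 ▸ Subgroup.mem_top _)))
    obtain ⟨h19, h20⟩ := hK.tab_val he (hK.wf_mkP s) hv hz (h17 ▸ Subgroup.mem_top _)
    rw [h20, ← hK.e_i he hz, ← he.mul _ (hK.i_lt _ hz) _ h19]
    exact (hm (he.lt _ (hK.i_lt _ hz) _ h19)).1 h18
  · have h8 : x.kd = 0 := not_not.1 h5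
    have h9 := lbeq_eq h7
    by_cases h10 : ∀ P f, Mp F P f → ME F e (g.ty x.L) P f
    · refine ⟨e, he, nd.a1, h6, h9 ▸ ⟨fun L hL' => ?_, fun M hM h11 P f h12 => h10 P f h12 M hM h11⟩⟩
      obtain ⟨s, hs, rfl⟩ := List.mem_map.1 hL'
      obtain ⟨k, h11, -, h12⟩ := hL s (hxL ▸ hs)
      exact ⟨k, h11, fun p hp => (h12 p hp).2⟩
    · simp only [not_forall] at h10
      obtain ⟨P, f, h11, h12⟩ := h10
      refine key (ME F e (g.ty x.L)) (ha0 _ (closed_ME F e _) (Or.inl h8)) (fun s hs => ?_) (by omega) P f h11 h12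
      obtain ⟨k, h13, -, h14⟩ := hL s (hxL ▸ hs)
      exact ⟨k, h13, fun M _ h15 => h15 _ (List.mem_map.2 ⟨s, hs, rfl⟩) k h13 fun p hp => (h14 p hp).2, h14⟩

end Cfsg.Agent.FS.NB
end

-- part: FS/N/B/Main
section
/-!
# The checker of part B for S5288 (port of FS/B to cells of 16 bits): the claims on a group
-/

set_option autoImplicit false

namespace Cfsg.Agent.FS.NB

open Cfsg Cfsg.FusionSystem Cfsg.Agent.H752 Cfsg.Agent.FS.Th Cfsg.Agent.FS.Pc Cfsg.Agent.FS.Sw Cfsg.Agent.FS.B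
open Asm (En TyL)

theorem nodes_spec {A : Type} [Group A] {g : Gp} (hK : g.K) {pf : Bool} {F : FusionSystem (⊤ : Subgroup A)} (hF : Hy pf F)
    {Xs : List (List ℕ)} {AL : List Ds} (hA : Alive g F AL) {dT : Ds} : ∀ (l : List Nd) (cuts : List (List ℕ)),
      (∀ L ∈ cuts, NC g F Xs L) → g.nodes pf Xs AL dT l cuts = true →
        ∀ L ∈ l.foldl (fun cs nd => nd.L :: cs) cuts, NC g F Xs L := by
  intro l
  induction l with
  | nil => exact fun _ h _ => h
  | cons nd l ih =>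
    intro cuts h0 h
    have h' : an (g.node pf Xs AL dT (fun _ _ _ => false) cuts nd) (g.nodes pf Xs AL dT l (nd.L :: cuts)) = true := h
    rw [an_iff] at h'
    have h1 := node_spec (cu := fun _ _ _ => false) hK hF hA h0 (fun _ _ _ _ _ => ⟨fun _ _ _ _ h => absurd h Bool.false_ne_true,
      fun _ _ _ _ _ _ h => absurd h Bool.false_ne_true⟩) h'.1
    exact ih _ (fun L hL => (List.mem_cons.1 hL).elim (fun h2 => h2 ▸ h1) (h0 L)) h'.2

namespace Gh

variable (c : Gh)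

noncomputable def g : Gp := gp c.n c.R c.I

/-- the list of candidates is complete -/
def Base : Prop := c.g.ok = true ∧
  ∀ (A : Type) [Group A] (F : FusionSystem (⊤ : Subgroup A)), c.g.K → F.IsSaturated 2 → Alive c.g F c.AL

/-- the claims of the finished nodes -/
def NCs (cuts : List (List ℕ)) : Prop :=
  ∀ (A : Type) [Group A] (F : FusionSystem (⊤ : Subgroup A)), c.g.K → Hy c.pf F → ∀ L ∈ cuts, NC c.g F c.Xs L

/-- the lists of the finished nodes -/
noncomputable def aft (l : List Nd) (cuts : List (List ℕ)) : List (List ℕ) := l.foldl (fun cs nd => nd.L :: cs) cuts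

variable {c}

theorem base {DL : List Ds} {C pool : ℕ} {ps : Ct} (h : c.alv DL C pool ps = true) : c.Base := by
  unfold alv at h
  rw [Fa.alvK_eq, mkG_eq, an_iff] at h
  exact ⟨h.1, fun A _ F hK hF => alv_spec hK hF h.2⟩

theorem nil : c.NCs [] := fun _ _ _ _ _ _ h => absurd h List.not_mem_nil

theorem step (hb : c.Base) {l : List Nd} {cuts : List (List ℕ)} (h0 : c.NCs cuts) (h : c.nodes l cuts = true) :
    c.NCs (aft l cuts) := fun A _ F hK hF => by
  unfold nodes at h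
  rw [Fa.nodesK_eq, mkG_eq] at h
  exact nodes_spec hK hF (hb.2 A F hK hF.sat) l cuts (h0 A F hK hF) h

theorem goal {cuts : List (List ℕ)} (h : c.NCs cuts) (h0 : List.beq (nth [1] cuts 0) [] = true) {A : Type} [Group A]
    (hK : c.g.K) {F : FusionSystem (⊤ : Subgroup A)} (hF : Hy c.pf F) {e : ℕ → A} (he : En c.g.m c.g.N e) :
    Goal c.g F c.Xs := by
  have h1 := lbeq_eq h0
  rcases nth_or [1] cuts 0 with h2 | h2
  · exact h A F hK hF _ (h1 ▸ h2) e he fun _ h3 => absurd h3 List.not_mem_nil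
  · rw [h1] at h2
    exact absurd h2 (List.cons_ne_nil _ _).symm

/-- the last node has no known maps and there are no types -/
noncomputable def fin0 (c : Gh) (cuts : List (List ℕ)) : Bool :=
  an (List.beq (nth [1] cuts 0) []) (Nat.beq c.Xs.length 0)

theorem cl0 (hb : c.Base) {cuts : List (List ℕ)} (h : c.NCs cuts) (h0 : c.fin0 cuts = true) : ClF c.n c.R c.pf [] := by
  intro A _ y F hy hF0 hpf
  have hF : Hy c.pf F := ⟨hF0.toHy0, hpf⟩
  obtain ⟨hK, he⟩ := gp_K hb.1 hy.card hy.pc hy.span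
  unfold fin0 at h0
  rw [an_iff, beq_iff] at h0
  obtain ⟨_, -, t, ht, -⟩ := goal h h0.1 hK hF he
  omega

theorem cl1 {DL : List Ds} {C pool : ℕ} {ps : Ct} {nd : Nd} (h : c.one DL C pool ps nd = true) :
    ClF c.n c.R c.pf [] := by
  intro A _ y F hy hF0 hpf
  have hF : Hy c.pf F := ⟨hF0.toHy0, hpf⟩
  unfold one at h
  rw [Fa.alvK_eq, Fa.nodeK_eq, mkG_eq, an_iff, an_iff, an_iff] at h
  obtain ⟨h1, h2, h3, h4⟩ := h
  obtain ⟨hK, he⟩ := gp_K h1 hy.card hy.pc hy.span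
  obtain ⟨_, -, t, ht, -⟩ := node_spec (cu := fun _ _ _ => false) hK hF (alv_spec hK hF.sat h2) (fun _ h => absurd h List.not_mem_nil)
    (fun _ _ _ _ _ => ⟨fun _ _ _ _ h => absurd h Bool.false_ne_true,
      fun _ _ _ _ _ _ h => absurd h Bool.false_ne_true⟩) h4 _ he (by
        rw [lbeq_eq h3]
        exact fun _ h => absurd h List.not_mem_nil)
  exact absurd ht (Nat.not_lt_zero t)

end Gh

/-- claims for a list of groups -/
def Cls (pf : Bool) (l : List (ℕ × ℕ)) : Prop := ∀ p ∈ l, ClF p.1 p.2 pf []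

theorem Cls.nil {pf : Bool} : Cls pf [] := fun _ h => absurd h List.not_mem_nil

theorem Cls.cons {pf : Bool} {n R : ℕ} {l : List (ℕ × ℕ)} (h : ClF n R pf []) (h' : Cls pf l) : Cls pf ((n, R) :: l) :=
  fun p hp => (List.mem_cons.1 hp).elim (fun h1 => h1 ▸ h) (h' p)

theorem Cls.app {pf : Bool} {l l' : List (ℕ × ℕ)} (h : Cls pf l) (h' : Cls pf l') : Cls pf (l ++ l') :=
  fun p hp => (List.mem_append.1 hp).elim (h p) (h' p)

end Cfsg.Agent.FS.NB
end
end

-- part: FS/N/B/Cf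
section
set_option linter.all false

/-!
# The checker of part B for S5288: lists of groups without systems
-/

set_option autoImplicit false

namespace Cfsg.Agent.FS.NB

/-- no group of the list carries a system -/
def Clf (n : ℕ) (l : List ℕ) : Prop := ∀ R ∈ l, ClF n R false []

variable {n R : ℕ} {l l' : List ℕ}

theorem Clf.nil : Clf n [] := fun _ h => absurd h List.not_mem_nil

theorem Clf.cons (h : ClF n R false []) (h2 : Clf n l) : Clf n (R :: l) := List.forall_mem_cons.2 ⟨h, h2⟩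

theorem Clf.app (h : Clf n l) (h2 : Clf n l') : Clf n (l ++ l') := List.forall_mem_append.2 ⟨h, h2⟩

end Cfsg.Agent.FS.NB
end

-- part: FS/N/B/Is
section
prune_inst 0x10000100140000000000000020001c22b2000000000b0000204000000dc0080100400620b010030001c000a4403cc028131000090200000020008200411801a0040120c2803cac0031000040c800000000000000000000000000000000000000000000000
set_option linter.all false
open scoped Cfsg.Agent.FastGrp

-- part: FS/N/B/FinA
section
/-!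
# The checker of part B for S5288: the verdicts on the types, basic lemmas (helper48)
-/

set_option autoImplicit false

namespace Cfsg.Agent.FS.NB

open Cfsg Cfsg.FusionSystem Cfsg.Agent.H752 Cfsg.Agent.FS.Th Cfsg.Agent.FS.Pc Cfsg.Agent.FS.Sw Cfsg.Agent.FS.B
open Asm (En TyL)

namespace Fn

/-! ### Booleans and cells -/

theorem anyP_ex {l : PL} {p : ℕ → ℕ → Bool} (h : anyP l p = true) : ∃ q ∈ l.ls, p q.1 q.2 = true := by
  induction l with
  | nil => exact absurd h Bool.false_ne_true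
  | cons a b l ih =>
    rcases orr_iff.1 (show orr (p a b) (anyP l p) = true from h) with h1 | h1
    · exact ⟨(a, b), List.mem_cons_self, h1⟩
    · obtain ⟨q, hq, h2⟩ := ih h1
      exact ⟨q, List.mem_cons_of_mem _ hq, h2⟩

theorem anyL_ex {α : Type} {L : List α} {p : α → Bool} (h : anyL L p = true) : ∃ a ∈ L, p a = true := by
  induction L with
  | nil => exact absurd h Bool.false_ne_true
  | cons a L ih =>
    rcases orr_iff.1 (show orr (p a) (anyL L p) = true from h) with h1 | h1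
    · exact ⟨a, List.mem_cons_self, h1⟩
    · obtain ⟨q, hq, h2⟩ := ih h1
      exact ⟨q, List.mem_cons_of_mem _ hq, h2⟩

theorem anyN_ex {n : ℕ} {p : ℕ → Bool} (h : anyN n p = true) : ∃ i, i < n ∧ p i = true := by
  induction n with
  | zero => exact absurd h Bool.false_ne_true
  | succ n ih =>
    rcases orr_iff.1 (show orr (p n) (anyN n p) = true from h) with h1 | h1
    · exact ⟨n, Nat.lt_succ_self n, h1⟩
    · obtain ⟨q, hq, h2⟩ := ih h1
      exact ⟨q, Nat.lt_succ_of_lt hq, h2⟩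

theorem nth_of_mem {α : Type} (d : α) {L : List α} {a : α} (h : a ∈ L) : ∃ i, i < L.length ∧ nth d L i = a := by
  induction L with
  | nil => exact absurd h List.not_mem_nil
  | cons b L ih =>
    rcases List.mem_cons.1 h with rfl | h1
    · exact ⟨0, Nat.succ_pos _, rfl⟩
    · obtain ⟨i, hi, h2⟩ := ih h1
      exact ⟨i + 1, Nat.succ_lt_succ hi, h2⟩

theorem iF_same {a b : Bool} (h : iF a b (nt b) = true) : a = true ↔ b = true := by
  cases a <;> cases b <;> simp_all [iF, nt]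

theorem lk_succ (X s : ℕ) : lk X (s + 1) = lk (X / 65536) s := by
  rw [lk_eq, lk_eq]
  unfold Pc.get
  rw [Nat.mul_succ, Nat.add_comm, Nat.shiftRight_add, Nat.shiftRight_eq_div_pow X 16]

theorem lk_low (X : ℕ) : lk X 0 = X % 65536 := by rw [lk_eq]; rfl

theorem lk_full : ∀ N X : ℕ, X < 2 ^ (16 * N) → (∀ s, s < N → lk X s ≤ 1) →
    X * 65535 < 2 ^ (16 * N) ∧ ∀ s, s < N → lk (X * 65535) s = lk X s * 65535
  | 0, X, h, _ => by
    have h1 : X = 0 := by simpa using h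
    rw [h1]
    exact ⟨Nat.one_pos, fun s hs => absurd hs (Nat.not_lt_zero s)⟩
  | N + 1, X, h, h0 => by
    rw [Nat.mul_succ 16 N, Nat.pow_add] at h ⊢
    obtain ⟨h1, h2⟩ := lk_full N (X / 65536) ((Nat.div_lt_iff_lt_mul (by norm_num)).2 h)
      fun s hs => lk_succ X s ▸ h0 _ (Nat.succ_lt_succ hs)
    have h3 := h0 0 (Nat.succ_pos N)
    rw [lk_low] at h3
    have h4 : X * 65535 / 65536 = X / 65536 * 65535 := by omega
    refine ⟨(Nat.div_lt_iff_lt_mul (by norm_num)).1 (h4.trans_lt h1), fun s hs => ?_⟩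
    cases s with
    | zero =>
      rw [lk_low, lk_low]
      omega
    | succ s => rw [lk_succ, lk_succ, h4, h2 s (Nat.lt_of_succ_lt_succ hs)]

theorem sm_eq {N X : ℕ} (V : ℕ) (h : X < 2 ^ (16 * N)) (h0 : ∀ s, s < N → lk X s ≤ 1) :
    Gp.sm V X = (∑ s ∈ Finset.range N, lk X s * lk V s) % 65535 := by
  obtain ⟨h1, h2⟩ := lk_full N X h h0
  unfold Gp.sm
  refine (InvAux.mod_sum N _ (Nat.and_lt_two_pow V h1)).trans ?_
  refine congrArg (· % 65535) (Finset.sum_congr rfl fun s hs => ?_)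
  have h3 := Finset.mem_range.1 hs
  rw [show V &&& X * 65535 = Nat.land V (X * 65535) from rfl, lk_land, h2 s h3]
  rcases Nat.le_one_iff_eq_zero_or_eq_one.1 (h0 s h3) with h4 | h4
  · rw [h4, Nat.zero_mul, Nat.zero_mul, Nat.and_zero]
  · rw [h4, Nat.one_mul, Nat.one_mul, show 65535 = 2 ^ 16 - 1 from rfl, Nat.and_two_pow_sub_one_eq_mod]
    exact Nat.mod_eq_of_lt (lk_lt V s)

theorem parT_spec : ∀ n, parT n < 2 ^ (16 * 2 ^ n) ∧
    ∀ a, a < 2 ^ n → lk (parT n) a = if Pc.par n a = true then 1 else 0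
  | 0 => ⟨Nat.two_pow_pos _, fun a _ => lk_zero a⟩
  | n + 1 => by
    obtain ⟨h1, h2⟩ := parT_spec n
    have h0 : parT (n + 1) = parT n + (Nat.xor (ones 16 n) (parT n)) <<< (16 * 2 ^ n) := by
      rw [← shl_eq 16 n]
      rfl
    have ho : ones 16 n < 2 ^ (16 * 2 ^ n) := by
      have := mul_ones_lt (v := 1) (w := 16) (by norm_num) n
      rwa [Nat.one_mul] at this
    rw [h0]
    refine ⟨?_, fun a ha => ?_⟩
    · rw [Nat.pow_succ 2, Nat.mul_two, Nat.mul_add]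
      exact cat_lt h1 (Nat.xor_lt_two_pow ho h1)
    by_cases h3 : a < 2 ^ n
    · rw [lk_eq, get_cat_lo _ h1 h3, ← lk_eq, h2 a h3, par_succ, Nat.testBit_lt_two_pow h3, Bool.false_xor]
    · obtain ⟨b, rfl⟩ := Nat.exists_eq_add_of_le (not_lt.1 h3)
      have h4 : b < 2 ^ n := by rw [Nat.pow_succ] at ha; omega
      have h5 : Pc.par n (2 ^ n + b) = Pc.par n b := par_congr n fun i hi => Nat.testBit_two_pow_add_gt hi b
      have h6 : lk (ones 16 n) b = 1 := by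
        have := get_mul_ones (v := 1) (w := 16) (by norm_num) n h4
        rwa [Nat.one_mul, ← lk_eq] at this
      rw [lk_eq, get_cat_hi _ h1, ← lk_eq, par_succ, h5, Nat.testBit_two_pow_add_eq, Nat.testBit_lt_two_pow h4, lk_xor, h6,
        h2 b h4]
      cases Pc.par n b <;> rfl

theorem lk_parT {n c : ℕ} (hc : c < 2 ^ n) : lk (parT n) c = if Pc.par n c = true then 1 else 0 :=
  (parT_spec n).2 c hc

/-! ### groups -/

variable {A : Type} [Group A]

/-- a subgroup of index at most two -/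
def Ix (K : Subgroup A) : Prop := ∀ u v, u * v ∈ K ↔ (u ∈ K ↔ v ∈ K)

theorem ix_of {K : Subgroup A} {r : A} (h : ∀ u, u ∉ K → r⁻¹ * u ∈ K) : Ix K := fun u v => by
  by_cases hu : u ∈ K
  · rw [K.mul_mem_cancel_left hu]
    exact ⟨fun h1 => iff_of_true hu h1, fun h1 => h1.1 hu⟩
  · by_cases hv : v ∈ K
    · rw [K.mul_mem_cancel_right hv]
      exact ⟨fun h1 => absurd h1 hu, fun h1 => h1.2 hv⟩
    · have h1 := K.mul_mem (K.inv_mem (h u⁻¹ fun h2 => hu (K.inv_mem_iff.1 h2))) (h v hv)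
      rw [mul_inv_rev, inv_inv, inv_inv, mul_assoc, mul_inv_cancel_left] at h1
      exact iff_of_true h1 (iff_of_false hu hv)

theorem Ix.div {K : Subgroup A} (h : Ix K) (u v : A) : u⁻¹ * v ∈ K ↔ (u ∈ K ↔ v ∈ K) := by rw [h, K.inv_mem_iff]

theorem Ix.sq {K : Subgroup A} (h : Ix K) (u : A) : u * u ∈ K := (h u u).2 Iff.rfl

theorem Ix.cj {K : Subgroup A} (h : Ix K) (s : A) (x : A) (hx : x ∈ K) : s * x * s⁻¹ ∈ K := by
  rw [h, h, K.inv_mem_iff]
  tauto

theorem Ix.cm {K : Subgroup A} (h : Ix K) (x y : A) : x * y * x⁻¹ * y⁻¹ ∈ K := by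
  rw [h, h, h, K.inv_mem_iff, K.inv_mem_iff]
  tauto

/-- a subgroup of index two is the kernel of a parity -/
theorem Ix.mu {K : Subgroup A} (h : Ix K) (y : ℕ → A) (n : ℕ) :
    ∃ mu, mu < 2 ^ n ∧ ∀ a, el y n a ∈ K ↔ ¬ Pc.par n (a &&& mu) = true := by
  classical
  refine ⟨Nat.ofBits fun i : Fin n => decide (y i ∉ K), Nat.ofBits_lt_two_pow _, fun a => ?_⟩
  have h1 : ∀ k, k ≤ n → (el y k a ∈ K ↔ ¬ Pc.par k (a &&& Nat.ofBits fun i : Fin n => decide (y i ∉ K)) = true) := by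
    intro k
    induction k with
    | zero => exact fun _ => iff_of_true K.one_mem Bool.false_ne_true
    | succ k ih =>
      intro hk
      rw [el_succ, h, ih (by omega), Pc.par, Nat.testBit_and, Nat.testBit_ofBits_lt _ _ hk]
      generalize Pc.par k _ = b
      by_cases h2 : y k ∈ K <;> cases a.testBit k <;> cases b <;> simp [h2]
  exact h1 n le_rfl

theorem comm_closure {X Y : Set A} (h : ∀ a ∈ X, ∀ b ∈ Y, a * b = b * a) :
    ∀ x ∈ Subgroup.closure X, ∀ y ∈ Subgroup.closure Y, x * y = y * x := fun x hx y hy => by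
  have h1 : ∀ b ∈ Y, x * b = b * x := fun b hb => Subgroup.mem_centralizer_singleton_iff.1
    ((Subgroup.closure_le _).2 (fun a ha => Subgroup.mem_centralizer_singleton_iff.2 (h a ha b hb)) hx)
  exact (Subgroup.mem_centralizer_singleton_iff.1
    ((Subgroup.closure_le _).2 (fun b hb => Subgroup.mem_centralizer_singleton_iff.2 (h1 b hb).symm) hy)).symm

/-- `s` fixes or swaps `T` and `R` -/
def Sw (T R : Subgroup A) (s : A) : Prop := ((∀ x ∈ T, s * x * s⁻¹ ∈ T) ∧ ∀ x ∈ R, s * x * s⁻¹ ∈ R) ∨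
  ((∀ x ∈ T, s * x * s⁻¹ ∈ R) ∧ ∀ x ∈ R, s * x * s⁻¹ ∈ T)

theorem Sw.mul {T R : Subgroup A} {s t : A} (hs : Sw T R s) (ht : Sw T R t) : Sw T R (s * t) := by
  have h : ∀ x, s * t * x * (s * t)⁻¹ = s * (t * x * t⁻¹) * s⁻¹ := fun x => by group
  unfold Sw
  simp only [h]
  rcases hs with hs | hs <;> rcases ht with ht | ht
  · exact Or.inl ⟨fun x hx => hs.1 _ (ht.1 x hx), fun x hx => hs.2 _ (ht.2 x hx)⟩
  · exact Or.inr ⟨fun x hx => hs.2 _ (ht.1 x hx), fun x hx => hs.1 _ (ht.2 x hx)⟩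
  · exact Or.inr ⟨fun x hx => hs.1 _ (ht.1 x hx), fun x hx => hs.2 _ (ht.2 x hx)⟩
  · exact Or.inl ⟨fun x hx => hs.2 _ (ht.1 x hx), fun x hx => hs.1 _ (ht.2 x hx)⟩

theorem sw_closure [Finite A] {T R : Subgroup A} {X : Set A} (h : ∀ s ∈ X, Sw T R s) :
    ∀ s ∈ Subgroup.closure X, Sw T R s := fun s hs => by
  have h1 : Sw T R 1 := Or.inl ⟨fun x hx => by simpa using hx, fun x hx => by simpa using hx⟩
  induction hs using Subgroup.closure_induction with
  | mem s hs => exact h s hs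
  | one => exact h1
  | mul s t _ _ a b => exact a.mul b
  | inv s _ a =>
    have h2 : ∀ k, Sw T R (s ^ k) := fun k => by
      induction k with
      | zero => rwa [pow_zero]
      | succ k ih => exact pow_succ s k ▸ ih.mul a
    obtain ⟨k, hk⟩ := (Submonoid.mem_powers_iff _ _).1 (mem_powers_iff_mem_zpowers.2
      ((Subgroup.zpowers s).inv_mem (Subgroup.mem_zpowers s)))
    exact hk ▸ h2 k

theorem imgT_spec {mul : ℕ → ℕ → ℕ} {N : ℕ} {e : ℕ → A} (h : En mul N e) {o : ℕ} (ho : o < N) (he : e o = 1) {w : ℕ → ℕ}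
    {n : ℕ} (hw : ∀ i, i < n → w i < N) (a : ℕ) : ∀ k, k ≤ n →
      Asm.imgT mul o w k a < N ∧ Real.el (fun i => e (w i)) k a = e (Asm.imgT mul o w k a) := by
  intro k
  induction k with
  | zero => exact fun _ => ⟨ho, he.symm⟩
  | succ k ih =>
    intro hk
    obtain ⟨h5, h6⟩ := ih (by omega)
    have h7 : Asm.imgT mul o w (k + 1) a =
      bif Real.tb a k then mul (Asm.imgT mul o w k a) (w k) else Asm.imgT mul o w k a := rfl
    rw [h7, Real.el_succ, h6]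
    cases Real.tb a k
    · exact ⟨h5, rfl⟩
    · exact ⟨h.lt _ h5 _ (hw k hk), (h.mul _ h5 _ (hw k hk)).symm⟩

theorem chkT_lt {D : Real.PcD} {mul : ℕ → ℕ → ℕ} {o : ℕ} {w : ℕ → ℕ} (hc : Asm.chkT D mul o w = true) :
    ∀ i, i < D.n → w i < D.N := by
  unfold Asm.chkT at hc
  simp only [Bool.and_eq_true] at hc
  exact fun i hi => Real.blt_lt (Real.allB_spec hc.1.1.1.2 hi)

/-- the second half of `Mode` for the kernel of the parity -/
theorem mode_iff {D : Real.PcD} {x : ℕ → A} (hx : Real.Gen D ⊤ x) {lam : ℕ} {K : Subgroup A} (hK : Ix K)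
    (h : ∀ a, a < D.N → (Real.el x D.n a ∈ K ↔ ¬ Pc.par D.n (a &&& lam) = true)) (F : N.Sys A) :
    N.FocLe F K ↔ ∀ P f, Mp F P f → ∀ a b, a < D.N → b < D.N → Real.el x D.n a ∈ P →
      f (Real.el x D.n a) = Real.el x D.n b → Pc.par D.n (a &&& lam) = Pc.par D.n (b &&& lam) := by
  refine ⟨fun h1 P f hf a b ha hb h2 h3 => ?_, fun h1 P f hf y hy => ?_⟩
  · have h4 := h1 P f hf _ h2
    rw [h3, hK.div, h a ha, h b hb, not_iff_not] at h4
    exact Bool.eq_iff_iff.2 h4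
  · obtain ⟨a, ha, rfl⟩ := (hx.mem y).1 (Subgroup.mem_top y)
    obtain ⟨b, hb, h2⟩ := (hx.mem (f (Real.el x D.n a))).1 (Subgroup.mem_top _)
    rw [← h2, hK.div, h a ha, h b hb, h1 P f hf a b ha hb hy h2.symm]

end Fn

end Cfsg.Agent.FS.NB
end

-- part: FS/N/B/Fin
section
/-!
# The checker of part B for S5288: the verdicts on the types (helper48)

`Gh.clR` : the claim on a group from the finished nodes, the models of the entries and the check `finR`.
-/

set_option autoImplicit false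

namespace Cfsg.Agent.FS.NB

open Cfsg Cfsg.FusionSystem Cfsg.Agent.H752 Cfsg.Agent.FS.Th Cfsg.Agent.FS.Pc Cfsg.Agent.FS.Sw Cfsg.Agent.FS.B
open Asm (En TyL)

namespace Fn

variable {A : Type} [Group A] {g : Gp} {e : ℕ → A} {F : N.Sys A}

theorem ty_gen {L : List ℕ} (h : TyL F e (g.ty L)) {M : Subgroup A → (A → A) → Prop} (hM : Closed F M)
    (h1 : ∀ s ∈ L, ∀ f, Mp F (dom e (g.mkP s)) f → Gens e f (dom e (g.mkP s)) (g.mkP s).gs → M (dom e (g.mkP s)) f) :
    ∀ P f, Mp F P f → M P f := by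
  refine h.gen M hM fun L' hL' f h2 h3 => ?_
  obtain ⟨s, hs, rfl⟩ := List.mem_map.1 hL'
  exact h1 s hs f h2 fun p hp => ⟨gS_mem hp, h3 p hp⟩

theorem e_div (hK : g.K) (he : En g.m g.N e) {a b : ℕ} (ha : a < g.N) (hb : b < g.N) :
    e (g.m (g.i a) b) = (e a)⁻¹ * e b := by rw [he.mul _ (hK.i_lt a ha) b hb, hK.e_i he ha]

theorem ty_foc (hK : g.K) (he : En g.m g.N e) {L : List ℕ} (h : TyL F e (g.ty L)) {M : Subgroup A} (hM : N.FocLe F M) :
    ∀ s ∈ L, ∀ p ∈ (g.mkP s).gs.ls, e (g.m (g.i p.1) p.2) ∈ M := fun s hs p hp => by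
  obtain ⟨f, h1, h2⟩ := h.has _ (List.mem_map.2 ⟨s, hs, rfl⟩)
  rw [e_div hK he ((hK.wf_mkP s).gs p hp).1 ((hK.wf_mkP s).gs p hp).2, ← h2 p hp]
  exact hM _ f h1 _ (Subgroup.subset_closure ⟨p, hp, rfl⟩)

theorem ad_ws (hK : g.K) {s : PM} (hs : WS g s) {a : ℕ} (ha : a < g.N) {U : Subgroup A} (h1 : dom e s ≤ U) (h2 : e a ∈ U) :
    WS g (g.ad s a a) ∧ dom e (g.ad s a a) ≤ U := by
  obtain ⟨h3, h4 | h4⟩ := hK.ad_spec hs.toWF ha ha
  · rw [h4]
    exact ⟨hs, h1⟩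
  · refine ⟨⟨h3, fun p hp => ?_⟩, dom_le fun p hp => ?_⟩ <;> rw [h4] at hp <;> rcases List.mem_cons.1 hp with rfl | hp
    exacts [rfl, hs.dg p hp, h2, h1 (gS_mem hp)]

theorem jn_spec (hK : g.K) {T R : PM} (hT : WS g T) (hR : WS g R) :
    WS g (g.jn T R) ∧ dom e (g.jn T R) ≤ dom e T ⊔ dom e R := by
  have h : ∀ p ∈ R.gs.ls, p.1 < g.N ∧ e p.1 ∈ dom e T ⊔ dom e R := fun p hp =>
    ⟨(hR.gs p hp).1, Subgroup.mem_sup_right (gS_mem hp)⟩
  unfold Gp.jn
  generalize R.gs = l at h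
  induction l with
  | nil => exact ⟨hT, le_sup_left⟩
  | cons a b l ih =>
    obtain ⟨h1, h2⟩ := ih fun p hp => h p (List.mem_cons_of_mem _ hp)
    exact ad_ws hK h1 (h (a, b) List.mem_cons_self).1 h2 (h (a, b) List.mem_cons_self).2

theorem foc_spec (hK : g.K) {M : Subgroup A} {L : List ℕ}
    (h : ∀ s ∈ L, ∀ p ∈ (g.mkP s).gs.ls, e (g.m (g.i p.1) p.2) ∈ M) : WS g (g.foc L) ∧ dom e (g.foc L) ≤ M := by
  induction L with
  | nil => exact ⟨hK.ws_s0, dom_le fun _ hp => absurd hp List.not_mem_nil⟩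
  | cons s L ih =>
    have h1 := ih fun s hs => h s (List.mem_cons_of_mem _ hs)
    have h2 : ∀ p ∈ (g.mkP s).gs.ls, g.m (g.i p.1) p.2 < g.N ∧ e (g.m (g.i p.1) p.2) ∈ M := fun p hp =>
      ⟨hK.m_lt _ (hK.i_lt _ ((hK.wf_mkP s).gs p hp).1) _ ((hK.wf_mkP s).gs p hp).2, h s List.mem_cons_self p hp⟩
    have h3 : g.foc (s :: L) =
      PL.rec (g.foc L) (fun a b _ K => frc (g.m (g.i a) b) fun c => g.ad K c c) (g.mkP s).gs := rfl
    rw [h3]
    generalize (g.mkP s).gs = l at h2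
    induction l with
    | nil => exact h1
    | cons a b l ih' =>
      obtain ⟨h4, h5⟩ := ih' fun p hp => h2 p (List.mem_cons_of_mem _ hp)
      have h6 := ad_ws hK h4 (h2 (a, b) List.mem_cons_self).1 h5 (h2 (a, b) List.mem_cons_self).2
      show WS g (frc _ _) ∧ dom e (frc _ _) ≤ M
      rw [frc_eq]
      exact h6

theorem ne_bot (hK : g.K) (he : En g.m g.N e) {W : PM} (hW : WS g W) (h : W.tab ≠ 0) : dom e W ≠ ⊥ := fun h8 => by
  have hWl := (Gp.K.lk_val hW.toWF (Gp.K.val_ws he hW) le_rfl).1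
  obtain ⟨i, hi⟩ : ∃ i, lk W.tab i ≠ 0 := by
    by_contra h10
    exact h (eq_of_lk (N := W.tab) (Nat.lt_two_pow_self.trans_le (Nat.pow_le_pow_right (by norm_num) (by omega)))
      (Nat.two_pow_pos _) fun i _ => by rw [lk_zero]; exact not_not.1 fun h11 => h10 ⟨i, h11⟩)
  obtain ⟨h10, -, h11, -⟩ := hWl i hi
  rw [h8, Subgroup.mem_bot, hK.e_eq_one he h10] at h11
  exact hi (by rw [h11]; exact hWl.zero hK he (hm_id _))

theorem cjI_spec (hK : g.K) (he : En g.m g.N e) {T R : PM} (hT : WS g T) (hR : WS g R) {s : ℕ} (hs : s < g.N)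
    (h : g.cjI s T R = true) : ∀ x ∈ dom e T, e s * x * (e s)⁻¹ ∈ dom e R := by
  refine wd_conj _ ?_
  rintro _ ⟨p, hp, rfl⟩
  rw [← hK.e_cj he hs (hT.gs p hp).1]
  exact (hK.mem_ws he hR (hK.cj_lt hs (hT.gs p hp).1)).1 (allP_iff.1 h p hp)

theorem pair_spec (hK : g.K) (he : En g.m g.N e) {S T R : PM} (hS : WS g S) (hf : g.full S = true) (hT : WS g T)
    (hR : WS g R) (h : g.pairOK S T R = true) : N.Pair (dom e T) (dom e R) := by
  have := (hK.pgroup he).1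
  unfold Gp.pairOK at h
  simp only [an_iff, nz_iff, beq_iff, allP_iff, orr_iff] at h
  obtain ⟨h1, h2, h3, h4, h5⟩ := h
  refine ⟨ne_bot hK he hT h1, ne_bot hK he hR h2, le_bot_iff.1 fun x hx => ?_, comm_closure ?_, fun s => ?_⟩
  · obtain ⟨a, ha, rfl⟩ := he.surj x
    have h6 := congrArg (fun X => lk X a) h3
    simp only [lk_land, hK.lk_msk _ ha, lk_one, if_pos ((hK.mem_ws he hT ha).2 hx.1),
      if_pos ((hK.mem_ws he hR ha).2 hx.2)] at h6
    refine Subgroup.mem_bot.2 ((hK.e_eq_one he ha).2 (by_contra fun h7 => ?_))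
    rw [if_neg h7] at h6
    exact absurd h6 (by decide)
  · rintro _ ⟨p, hp, rfl⟩ _ ⟨q, hq, rfl⟩
    rw [← he.mul _ (hT.gs p hp).1 _ (hR.gs q hq).1, ← he.mul _ (hR.gs q hq).1 _ (hT.gs p hp).1, h4 p hp q hq]
  · refine sw_closure (X := gS e S.gs) ?_ s (by
      rw [← dom, hK.full_top he hS.toWF (Gp.K.val_ws he hS) hf]
      exact Subgroup.mem_top s)
    rintro _ ⟨p, hp, rfl⟩
    have h6 := (hS.gs p hp).1
    exact (h5 p hp).imp (fun k => ⟨cjI_spec hK he hT hT h6 k.1, cjI_spec hK he hR hR h6 k.2⟩)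
      fun k => ⟨cjI_spec hK he hT hR h6 k.1, cjI_spec hK he hR hT h6 k.2⟩

theorem decL_spec (hK : g.K) {T R U : PM} : ∀ (L : List ℕ) (ss : ℕ), g.decL T R U L ss = true →
    ∀ s ∈ L, ∃ r, r < g.N ∧ ∀ p ∈ (g.mkP s).el.ls, g.dec0 T R U p.1 (g.cj0 r p.2) = true := by
  intro L
  induction L with
  | nil => exact fun _ _ s hs => absurd hs List.not_mem_nil
  | cons s L ih =>
    intro ss h s' hs'
    have h' : an (allP (g.mkP s).el fun a b => frc (g.cj0 (g.by' ss 0) b) (g.dec0 T R U a))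
      (g.decL T R U L (Nat.shiftRight ss 16)) = true := h
    rw [an_iff, allP_iff] at h'
    rcases List.mem_cons.1 hs' with rfl | hs'
    · exact ⟨_, hK.by_lt ss 0, fun p hp => by have h1 := h'.1 p hp; rwa [frc_eq] at h1⟩
    · exact ih _ h'.2 s' hs'

/-- a decomposable type -/
theorem vdD_false (hK : g.K) (he : En g.m g.N e) {S : PM} (hS : WS g S) (hf : g.full S = true) (hF : N.Hy2 F)
    {L : List ℕ} (hL : TyL F e (g.ty L)) {v : Vd} (h : g.vdD S L v = true) : False := by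
  obtain ⟨_, hA⟩ := hK.pgroup he
  unfold Gp.vdD at h
  rw [an_iff] at h
  have hT := hK.ws_mkS v.T
  have hR := hK.ws_mkS v.R
  have hp := pair_spec hK he hS hf hT hR h.1
  obtain ⟨hU, hle⟩ := jn_spec (e := e) hK hT hR
  refine hF.nd (N.D.dec_of hA hF.toHy0 hp fun P f hf' => N.D.decQ.decP
    (ty_gen hL (N.D.closed_decQ F hp) (fun s hs k h1 h2 => ?_) P f hf'))
  obtain ⟨r, hr, h3⟩ := decL_spec hK L _ h.2 s hs
  have hv := (hK.wf_mkP s).val A e k _ he (hm_of_mp h1) h2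
  refine ⟨(e r)⁻¹, fun x hx => ?_⟩
  obtain ⟨a, ha, rfl⟩ := he.surj x
  obtain ⟨b, hb⟩ := hv.cov a ha hx
  have hb' : b < g.N := ((hK.wf_mkP s).el _ hb).2
  have hc := hK.cj0_lt hr hb'
  have h4 := h3 _ hb
  unfold Gp.dec0 at h4
  rw [an_iff, an_iff] at h4
  rw [inv_inv, (hv.el _ hb).2.1, ← hK.e_cj0 he hr hb', ← hK.mem_ws he hT ha, ← hK.mem_ws he hR ha, ← hK.mem_ws he hT hc,
    ← hK.mem_ws he hR hc, ← e_div hK he ha hc]
  exact ⟨hle ((hK.mem_ws he hU (hK.m_lt _ (hK.i_lt a ha) _ hc)).1 h4.1), iF_same h4.2.1, iF_same h4.2.2⟩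

theorem lk_pa (hK : g.K) {a : ℕ} (ha : a < g.N) (mu : ℕ) :
    lk (parT g.n) (Nat.land a mu) = if Pc.par g.n (a &&& mu) = true then 1 else 0 :=
  lk_parT (Nat.and_le_left.trans_lt (hK.hN ▸ ha))

/-- the kernel of the parity -/
theorem ker_spec (hK : g.K) (he : En g.m g.N e) {S K : PM} (hW : WS g K) {L : List ℕ} {D : Real.PcD} {lam w r : ℕ}
    (hr : r < g.N) (h : g.ker (parT g.n) S K L D lam w r = true) :
    Ix (dom e K) ∧ dom e K ≠ ⊤ ∧ (∀ F : N.Sys A, TyL F e (g.ty L) → N.FocLe F (dom e K)) ∧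
      (D.N = g.N → Asm.chkT D g.m 0 (lk w) = true → ∀ a, a < D.N →
        (Real.el (fun i => e (lk w i)) D.n a ∈ dom e K ↔ ¬ Pc.par D.n (a &&& lam) = true)) := by
  unfold Gp.ker at h
  simp only [an_iff, nt_iff, beq_iff, allL_iff, allP_iff, allN_iff] at h
  obtain ⟨h1, h2, -, -, h3, h4⟩ := h
  have hm : ∀ {b : ℕ}, b < g.N → (mem K b = true ↔ e b ∈ dom e K) := fun hb => hK.mem_ws he hW hb
  have hI : Ix (dom e K) := ix_of (r := e r) fun u hu => by
    obtain ⟨j, hj, rfl⟩ := he.surj u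
    refine (hK.lk_cos he hW hr hj).1 fun h13 => ?_
    have h14 : lk (Nat.lor (g.msk K) (g.cos K r)) j = 0 :=
      lk_lor_eq_zero.2 ⟨by rw [hK.lk_msk _ hj, if_neg fun h14 => hu ((hm hj).1 h14)], h13⟩
    rw [h2, hK.lk_O hj] at h14
    exact one_ne_zero h14
  refine ⟨hI, fun h5 => h1 ((hm hr).2 (h5 ▸ Subgroup.mem_top _)), fun F hL => ty_gen hL
    (closed_focP F _ fun x _ y _ => hI.cm x y) fun s hs k h5 h6 =>
      focP_of_gens hI.cj h5 (X := gS e (g.mkP s).gs) rfl ?_, fun h5 h6 a ha => ?_⟩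
  · rintro _ ⟨p, hp, rfl⟩
    obtain ⟨h7, h8⟩ := (hK.wf_mkP s).gs p hp
    rw [(h6 p hp).2, ← e_div hK he h7 h8]
    exact (hm (hK.m_lt _ (hK.i_lt _ h7) _ h8)).1 (h3 s hs p hp)
  · have h7 : D.n = g.n := Nat.pow_right_injective le_rfl (show 2 ^ D.n = 2 ^ g.n from h5.trans hK.hN)
    obtain ⟨h8, h9⟩ := imgT_spec he hK.N_pos (hK.e_zero he) (fun i hi => h5 ▸ chkT_lt h6 i hi) a D.n le_rfl
    have h10 := h4 a (h5 ▸ ha)
    rw [lk_pa hK (h5 ▸ ha), ← h7] at h10
    rw [h9, ← hm h8]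
    generalize mem K _ = b at h10 ⊢
    generalize Pc.par D.n _ = c at h10 ⊢
    cases b <;> cases c <;> simp_all [iF]

/-- the types which are excluded by an invariant -/
theorem exc_false (hK : g.K) (he : En g.m g.N e) {S K : PM} (hS : WS g S) (hf : g.full S = true) (hW : WS g K)
    (hI : Ix (dom e K)) {e' : ℕ → A} (he' : En g.m g.N e') {L : List ℕ} (hL : TyL F e' (g.ty L))
    (hF : N.FocLe F (dom e K)) {pr : ℕ}
    (h : g.exc (parT g.n) (g.fvt S pr) (Gp.sm (g.fvt S pr) (g.msk K)) L = true) : False := by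
  classical
  obtain ⟨mu, h1, h2⟩ := hI.mu (fun i => e' (2 ^ i)) g.n
  have h3 : ∀ a, a < g.N → lk (parT g.n) (Nat.land a mu) = if e' a ∈ dom e K then 0 else 1 := fun a ha => by
    rw [lk_pa hK ha, (hK.pc A e' he').2 a ha]
    by_cases h4 : Pc.par g.n (a &&& mu) = true
    · rw [if_pos h4, if_neg fun h5 => (h2 a).1 h5 h4]
    · rw [if_neg h4, if_pos ((h2 a).2 h4)]
  have h4 : ∀ a, a < g.N → e' a ∈ dom e K → ¬ nz (lk (parT g.n) (Nat.land a mu)) = true := fun a ha h5 h6 =>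
    nz_iff.1 h6 (by rw [h3 a ha, if_pos h5])
  have hp : ∀ {k : ℕ}, k < g.n → Nat.shiftLeft 1 k < g.N := fun hk => by
    rw [one_shl, hK.hN]
    exact Nat.pow_lt_pow_right (by norm_num) hk
  rcases orr_iff.1 (allN_iff.1 h mu (hK.hN ▸ h1)) with h5 | h5
  · obtain ⟨s, hs, h6⟩ := anyL_ex h5
    obtain ⟨p, hp', h7⟩ := anyP_ex h6
    obtain ⟨h8, h9⟩ := (hK.wf_mkP s).gs p hp'
    exact h4 _ (hK.m_lt _ (hK.i_lt _ h8) _ h9) (ty_foc hK he' hL hF s hs p hp') h7
  rcases orr_iff.1 h5 with h5 | h5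
  · obtain ⟨k, hk, h6⟩ := anyN_ex h5
    rcases orr_iff.1 h6 with h6 | h6
    · exact h4 _ (hK.q_lt (hp hk)) (hK.e_q he' (hp hk) ▸ hI.sq _) h6
    · obtain ⟨j, hj, h7⟩ := anyN_ex h6
      exact h4 _ (hK.cm_lt (hp hk) (hp (hj.trans hk))) (hK.e_cm he' (hp hk) (hp (hj.trans hk)) ▸ hI.cm _ _) h7
  · have h6 : ∀ a, a < g.N → Nat.xor 1 (lk (parT g.n) (Nat.land a mu)) = if e' a ∈ dom e K then 1 else 0 :=
      fun a ha => by
        rw [h3 a ha]
        split_ifs <;> rfl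
    have h7 : ∀ a, a < g.N → Nat.xor 1 (lk (parT g.n) (Nat.land a mu)) ≤ 1 := fun a ha => by
      rw [h6 a ha]
      split_ifs <;> omega
    have h8 := fun a ha => (h7 a ha).trans_lt (show 1 < 65536 by norm_num)
    refine ne_iff.1 h5 ?_
    rw [sm_eq _ (vec_lt _ h8) fun s hs => by rw [lk_vec _ h8 hs]; exact h7 s hs,
      sm_eq _ (hK.msk_lt K) fun s hs => by rw [hK.lk_msk K hs]; split_ifs <;> omega]
    obtain ⟨θ, hθ⟩ := he.exists_aut he'
    have hT := hK.full_top he hS.toWF (Gp.K.val_ws he hS) hf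
    have h9 : ∀ Q : Subgroup A, Hm Q θ := fun Q => ⟨fun x _ y _ => map_mul θ x y, fun x _ y _ h => θ.injective h⟩
    have h10 := hK.fvt_inv he hS (h9 _) (fun x _ => hT ▸ Subgroup.mem_top _) pr
    refine congrArg (· % 65535) (InvAux.sum_inv he (h9 ⊤) (fun _ _ => Subgroup.mem_top _)
      (fun s _ h11 => absurd (Subgroup.mem_top _) h11) (fun s _ h11 => absurd (Subgroup.mem_top _) h11)
      fun s hs t ht _ h11 => ?_)
    rw [lk_vec _ h8 hs, h6 s hs, hK.lk_msk K ht, h10 s hs t ht (hT ▸ Subgroup.mem_top _) h11, ← hθ s hs, h11]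
    simp only [hK.mem_ws he hW ht]

theorem vds_spec (hK : g.K) {pf : Bool} {S : PM} (hS : WS g S) {Xs : List (List ℕ)}
    {E : List (N.Ent × ℕ)} (hE : ∀ q ∈ E, N.Models2 q.1 q.2 ∧ q.1.D.Ok) {vs : List Vd}
    (hG : ∀ F : N.Sys A, Hy pf F → Goal g F Xs) (h : g.vds pf S Xs E vs = true) (hF : N.Hy2 F)
    (hpf : pf = true → N.hyp F = ⊤) : ∃ p ∈ E.map Prod.fst, N.Hit p F := by
  unfold Gp.vds at h
  rw [an_iff, frc_eq, allN_iff] at h
  obtain ⟨hf, h⟩ := h
  have hv : ∀ (F' : N.Sys A) (e' : ℕ → A) (t : ℕ), N.Hy2 F' → En g.m g.N e' → t < Xs.length →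
      TyL F' e' (g.ty (nth [] Xs t)) → ¬ nz (nth vd0 vs t).T = true ∧ g.vdE pf (parT g.n) S Xs E vs (nth [] Xs t)
        (nth vd0 vs t) (nth en0 E (nth vd0 vs t).j) = true := fun F' e' t h1 h2 h3 h4 =>
    (iF_iff.1 (h t h3)).resolve_left fun h5 => vdD_false hK h2 hS hf h1 h4 h5.2
  obtain ⟨e, he, t, ht, hT⟩ := hG F ⟨hF.toHy0, hpf⟩
  obtain ⟨_, hA⟩ := hK.pgroup he
  have h0 := (hv F e t hF he ht hT).2
  generalize nth vd0 vs t = v at h0
  generalize hp : nth en0 E v.j = p at h0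
  unfold Gp.vdE at h0
  simp only [an_iff, blt_iff, beq_iff, iF_iff, nt_iff, frc_eq, allN_iff, orr_iff] at h0
  obtain ⟨h1, h2, h3, h4, h5⟩ := h0
  have hpE : p ∈ E := hp ▸ nth_mem en0 h1
  have hx := Asm.gen_of_table (hE p hpE).2 (h2 ▸ he) h3
  have key : N.Mode p.1.D (fun i => e (lk v.w i)) p.1.lam F → (∀ F' : N.Sys A, N.Hy2 F' →
      N.Mode p.1.D (fun i => e (lk v.w i)) p.1.lam F' → Hy pf F' ∧ ∀ e' t', En g.m g.N e' → t' < Xs.length →
        TyL F' e' (g.ty (nth [] Xs t')) → anyL v.ts (Nat.beq t') = true) → ∃ p ∈ E.map Prod.fst, N.Hit p F := by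
    refine fun h6 h7 => ⟨p.1, List.mem_map.2 ⟨p, hpE, rfl⟩, N.boxTw.2 p.1 p.2 (hE p hpE).1 A _ hx
      (fun F' i => ∃ e', En g.m g.N e' ∧ TyL F' e' (g.ty (nth [] Xs (nth 0 v.ts i)))) (fun F' h8 h9 => ?_)
      (fun _ _ i ⟨_, h8, h9⟩ ⟨_, h10, h11⟩ => TyL.tw (fun L hL q hq => ?_) h8 h10 h9 h11) F hF h6⟩
    · obtain ⟨e', he', t', ht', hT'⟩ := hG F' (h7 F' h8 h9).1
      obtain ⟨a, ha, h10⟩ := anyL_ex ((h7 F' h8 h9).2 e' t' he' ht' hT')
      obtain ⟨i, hi, h11⟩ := nth_of_mem 0 ha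
      exact ⟨⟨i, h4 ▸ hi⟩, e', he', by rw [show nth 0 v.ts i = t' from h11.trans (beq_iff.1 h10).symm]; exact hT'⟩
    · obtain ⟨s, -, rfl⟩ := List.mem_map.1 hL
      exact (hK.wf_mkP s).gs q hq
  rcases h5 with ⟨h5, h6, h7, h8⟩ | ⟨h5, h6, h7⟩
  · obtain ⟨k1, -, k3, k4⟩ := ker_spec hK he (hK.ws_mkS _) (hK.by_lt _ _) h7
    have h9 := mode_iff hx k1 (k4 h2 h3)
    refine key ⟨fun h10 => absurd h10 (nz_iff.1 h5), fun _ => (h9 F).1 (k3 F hT)⟩
      fun F' h10 h11 => ⟨⟨h10.toHy0, fun h12 => absurd h12 h6⟩, fun e' t' he' ht' hT' => ?_⟩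
    rcases h8 t' ht' with h12 | h12 | h12
    · exact h12
    · exact absurd h12 (hv F' e' t' h10 he' ht' hT').1
    · exact (exc_false hK he hS hf (hK.ws_mkS _) k1 he' hT' ((h9 F').2 (h11.2 (nz_iff.1 h5))) h12).elim
  · have h8 : p.1.lam = 0 := not_not.1 fun h8 => h5 (nz_iff.2 h8)
    refine key ⟨fun _ => h6.elim hpf fun h9 => by_contra fun h10 => ?_, fun h9 => absurd h8 h9⟩
      fun F' h10 h11 => ⟨⟨h10.toHy0, fun _ => h11.1 h8⟩, fun e' t' he' ht' hT' => ?_⟩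
    · obtain ⟨M, h11, h12⟩ := (N.D.boxD3 A hA F hF).1 h10
      obtain ⟨h13, h14⟩ := foc_spec hK (ty_foc hK he hT h12)
      rw [hK.full_top he h13.toWF (Gp.K.val_ws he h13) h9, top_le_iff] at h14
      rw [h14, Subgroup.index_top] at h11
      exact absurd h11 (by decide)
    · rcases h7 t' ht' with h12 | h12 | h12
      · exact h12
      · exact absurd h12 (hv F' e' t' h10 he' ht' hT').1
      · have h13 := (hv F' e' t' h10 he' ht' hT').2
        unfold Gp.vdE at h13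
        rw [iF_pos h12] at h13
        simp only [an_iff] at h13
        obtain ⟨-, k2, k3, -⟩ := ker_spec hK he' (hK.ws_mkS _) (hK.by_lt _ _) h13.2.2.2.2.2.1
        exact absurd (top_le_iff.1 ((h11.1 h8).ge.trans ((hyperfocal_le_focal' F' 2).trans
          (focal_le_of_focP F' _ (k3 F' hT'))))) k2

end Fn

/-- **The claim on a group.** -/
theorem Gh.clR {c : Gh} (hb : c.Base) {cuts : List (List ℕ)} (h : c.NCs cuts) {E : List (N.Ent × ℕ)}
    (hE : ∀ q ∈ E, N.Models2 q.1 q.2 ∧ q.1.D.Ok) {vs : List Vd} (h0 : c.finR cuts E vs = true) :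
    ClF c.n c.R c.pf (E.map Prod.fst) := by
  intro A _ y F hy hF hpf
  obtain ⟨hK, he⟩ := gp_K hb.1 hy.card hy.pc hy.span
  unfold Gh.finR at h0
  rw [an_iff, mkG_eq] at h0
  exact Fn.vds_spec hK (hK.ws_mkS _) hE (fun F' hF' => Gh.goal h h0.1 hK hF' he) h0.2 hF hpf

end Cfsg.Agent.FS.NB
end

-- part: FS/N/B/Nd
section
/-!
# The certificate checker of part B for S5288: no subgroup of index two carries a system (definitions)
-/

set_option autoImplicit false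

namespace Cfsg.Agent.FS.NB

open Cfsg Cfsg.FusionSystem Cfsg.Agent.FS.Pc Cfsg.Agent.FS.Sw

/-- the mask of the numbers `a < 2 ^ n` with even parity of `a &&& mu` -/
noncomputable def kmu (mu n : ℕ) : ℕ :=
  Nat.rec 1 (fun i X => frc X fun X => Nat.add X (Nat.shiftLeft
    (iF (nz (Nat.land (Nat.shiftRight mu i) 1)) (Nat.xor (ones 16 i) X) X) (Nat.shiftLeft 16 i))) n

noncomputable def smN (n : ℕ) (φ : ℕ → ℕ) : ℕ := Nat.rec 0 (fun i r => Nat.add (φ i) r) n

namespace Gp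

variable (g : Gp)

/-- the mask of the centralizer -/
def cen (a : ℕ) : ℕ := g.zm (g.tw a a)

/-- the number of commuting pairs in the mask -/
noncomputable def prs (X : ℕ) : ℕ :=
  smN g.N fun a => iF (nz (lk X a)) (Nat.mod (Nat.land (frc a g.cen) X) 65535) 0

/-- the invariants of the subgroup with the mask `X` are not in the list -/
noncomputable def notI (I : List (ℕ × ℕ × ℕ × ℕ)) (Z2 Z4 X : ℕ) : Bool :=
  frc (Nat.land Z2 X) fun Y => frc (Nat.mod Y 65535) fun c1 => frc (Nat.mod (Nat.land Z4 X) 65535) fun c2 =>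
    allL I fun p => orr (ne p.1 c1) (orr (ne p.2.1 c2) (orr (ne p.2.2.2 (g.prs Y)) (ne p.2.2.1 (g.prs X))))

/-- the mask of the `mu` with odd parity of `mu &&& r` -/
noncomputable def odm (r : ℕ) : ℕ := Nat.xor g.O (kmu r g.n)

/-- zero at the homomorphisms to the group of order two -/
noncomputable def nhM : ℕ :=
  foN g.n fun k => Nat.lor (frr (g.q (Nat.shiftLeft 1 k)) g.odm)
    (foN k fun j => frr (g.cm (Nat.shiftLeft 1 k) (Nat.shiftLeft 1 j)) g.odm)

noncomputable def cln (I : List (ℕ × ℕ × ℕ × ℕ)) : Bool :=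
  frc (g.zm g.sq) fun Z2 => frc (g.zm (vec g.N fun a => g.q (g.q a))) fun Z4 => frr (Nat.lor g.nhM 1) fun H =>
    allN g.N fun mu => orr (nz (lk H mu)) (frc (kmu mu g.n) (g.notI I Z2 Z4))

end Gp

/-- the whole check -/
noncomputable def Gh.cln (c : Gh) (I : List (ℕ × ℕ × ℕ × ℕ)) : Bool := mkG c.n c.R c.I fun g => an g.ok (g.cln I)

end Cfsg.Agent.FS.NB
end

-- part: FS/N/B/Ni
section
/-!
# The checker of part B for S5288: the subgroups of index two and the glue of a level (helper61)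
-/

set_option autoImplicit false
set_option linter.unusedSectionVars false

namespace Cfsg.Agent.FS.NB

open Cfsg Cfsg.FusionSystem Cfsg.Agent.H752 Cfsg.Agent.FS.Th Cfsg.Agent.FS.Pc Cfsg.Agent.FS.Sw Cfsg.Agent.FS.B
open Asm (En TyL)

namespace Ni

open Fn

theorem smN_eq (n : ℕ) (φ : ℕ → ℕ) : smN n φ = ∑ a ∈ Finset.range n, φ a := by
  induction n with
  | zero => rfl
  | succ n ih => rw [Finset.sum_range_succ, ← ih]; exact Nat.add_comm (φ n) (smN n φ)

theorem kmu_spec (mu : ℕ) : ∀ n, kmu mu n < 2 ^ (16 * 2 ^ n) ∧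
    ∀ a, a < 2 ^ n → lk (kmu mu n) a = if Pc.par n (a &&& mu) = true then 0 else 1
  | 0 => ⟨Nat.one_lt_two_pow (by decide), fun a ha => by rw [Nat.lt_one_iff.1 ha]; exact lk_one 0⟩
  | n + 1 => by
    obtain ⟨h1, h2⟩ := kmu_spec mu n
    have h0 : kmu mu (n + 1) = kmu mu n + (iF (nz (Nat.land (Nat.shiftRight mu n) 1)) (Nat.xor (ones 16 n) (kmu mu n))
        (kmu mu n)) <<< (16 * 2 ^ n) := by
      rw [← shl_eq 16 n]
      exact frc_eq (kmu mu n) fun X => Nat.add X (Nat.shiftLeft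
        (iF (nz (Nat.land (Nat.shiftRight mu n) 1)) (Nat.xor (ones 16 n) X) X) (Nat.shiftLeft 16 n))
    have hb : nz (Nat.land (Nat.shiftRight mu n) 1) = mu.testBit n := by
      rw [Bool.eq_iff_iff, nz_iff, nland, nshr, Nat.and_one_is_mod, Nat.testBit_eq_decide_div_mod_eq, decide_eq_true_eq,
        Nat.shiftRight_eq_div_pow]
      omega
    have ho : ones 16 n < 2 ^ (16 * 2 ^ n) := by
      have := mul_ones_lt (v := 1) (w := 16) (by norm_num) n
      rwa [Nat.one_mul] at this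
    rw [h0, hb]
    refine ⟨?_, fun a ha => ?_⟩
    · rw [Nat.pow_succ 2, Nat.mul_two, Nat.mul_add]
      refine cat_lt h1 ?_
      cases mu.testBit n
      · exact h1
      · exact Nat.xor_lt_two_pow ho h1
    by_cases h3 : a < 2 ^ n
    · rw [lk_eq, get_cat_lo _ h1 h3, ← lk_eq, h2 a h3, par_succ, Nat.testBit_and, Nat.testBit_lt_two_pow h3, Bool.false_and,
        Bool.false_xor]
    · obtain ⟨b, rfl⟩ := Nat.exists_eq_add_of_le (not_lt.1 h3)
      have h4 : b < 2 ^ n := by rw [Nat.pow_succ] at ha; omega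
      have h5 : Pc.par n ((2 ^ n + b) &&& mu) = Pc.par n (b &&& mu) := par_congr n fun i hi => by
        rw [Nat.testBit_and, Nat.testBit_and, Nat.testBit_two_pow_add_gt hi]
      have h6 : lk (ones 16 n) b = 1 := by
        have := get_mul_ones (v := 1) (w := 16) (by norm_num) n h4
        rwa [Nat.one_mul, ← lk_eq] at this
      rw [lk_eq, get_cat_hi _ h1, ← lk_eq, par_succ, h5, Nat.testBit_and, Nat.testBit_two_pow_add_eq,
        Nat.testBit_lt_two_pow h4]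
      cases mu.testBit n
      · rw [iF_false, h2 b h4]
        cases Pc.par n (b &&& mu) <;> rfl
      · rw [iF_true, lk_xor, h6, h2 b h4]
        cases Pc.par n (b &&& mu) <;> rfl

variable {A : Type} [Group A] {g : Gp} {e : ℕ → A}

open Classical in
/-- `X` is the mask of the property `p` -/
structure Msk (g : Gp) (e : ℕ → A) (X : ℕ) (p : A → Prop) : Prop where
  lt : X < 2 ^ (16 * g.N)
  lk : ∀ a, a < g.N → lk X a = if p (e a) then 1 else 0

theorem Msk.land {X Y : ℕ} {p q : A → Prop} (h : Msk g e X p) (k : Msk g e Y q) :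
    Msk g e (Nat.land X Y) fun x => p x ∧ q x :=
  ⟨Nat.and_lt_two_pow X k.lt, fun a ha => by
    rw [lk_land, h.lk a ha, k.lk a ha]
    by_cases h1 : p (e a) <;> by_cases h2 : q (e a) <;> simp [h1, h2]⟩

theorem msk_zm (hK : g.K) {V : ℕ} {p : A → Prop} (h : ∀ a, a < g.N → (lk V a = 0 ↔ p (e a))) : Msk g e (g.zm V) p :=
  ⟨hK.zm_lt V, fun a ha => by
    rw [hK.lk_zm V ha]
    by_cases h1 : p (e a)
    · rw [if_pos h1, if_pos ((h a ha).2 h1)]
    · rw [if_neg h1, if_neg fun h2 => h1 ((h a ha).1 h2)]⟩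

theorem sum_en [Fintype A] (he : En g.m g.N e) (φ : A → ℕ) : ∑ a ∈ Finset.range g.N, φ (e a) = ∑ x, φ x := by
  rw [Finset.sum_range]
  exact he.bij.sum_comp φ

open Classical in
theorem card_sum {α : Type} [Fintype α] (p : α → Prop) : Nat.card {x // p x} = ∑ x, if p x then 1 else 0 := by
  rw [Nat.card_eq_fintype_card, Fintype.card_subtype, Finset.card_filter]

theorem Msk.cnt (hK : g.K) (he : En g.m g.N e) {X : ℕ} {p : A → Prop} (h : Msk g e X p) :
    Nat.mod X 65535 = Nat.card {x // p x} := by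
  classical
  have := (hK.pgroup he).1
  have := Fintype.ofFinite A
  have h1 : Nat.card {x // p x} ≤ g.N := he.card ▸ Finite.card_subtype_le p
  have h2 := hK.N_le9
  rw [nmod, InvAux.mod_sum _ _ h.lt, Finset.sum_congr rfl fun a ha => h.lk a (Finset.mem_range.1 ha),
    sum_en he fun x => if p x then 1 else 0, ← card_sum]
  exact Nat.mod_eq_of_lt (by omega)

theorem Msk.prs (hK : g.K) (he : En g.m g.N e) {X : ℕ} {p : A → Prop} (h : Msk g e X p) :
    g.prs X = Nat.card {q : A × A // p q.1 ∧ p q.2 ∧ q.1 * q.2 = q.2 * q.1} := by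
  classical
  have := (hK.pgroup he).1
  have := Fintype.ofFinite A
  have h1 : ∀ a ∈ Finset.range g.N, iF (nz (NB.lk X a)) (Nat.mod (Nat.land (frc a g.cen) X) 65535) 0 =
      ∑ y, if p (e a) ∧ p y ∧ e a * y = y * e a then 1 else 0 := fun a ha => by
    replace ha := Finset.mem_range.1 ha
    rw [h.lk a ha]
    by_cases h2 : p (e a)
    · have h3 : Msk g e (g.cen a) fun y => y * e a = e a * y := msk_zm hK fun s hs => hK.tw_zero he ha ha hs
      rw [if_pos h2, iF_pos (show nz 1 = true from rfl), frc_eq, (h3.land h).cnt hK he, card_sum]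
      refine Finset.sum_congr rfl fun y _ => ?_
      congr 1
      exact propext ⟨fun k => ⟨h2, k.2, k.1.symm⟩, fun k => ⟨k.2.2.symm, k.2.1⟩⟩
    · rw [if_neg h2, iF_neg (by decide)]
      exact (Finset.sum_eq_zero fun y _ => if_neg fun k => h2 k.1).symm
  unfold Gp.prs
  rw [smN_eq, Finset.sum_congr rfl h1, sum_en he fun x => ∑ y, if p x ∧ p y ∧ x * y = y * x then 1 else 0, card_sum,
    Fintype.sum_prod_type]
  refine Finset.sum_congr rfl fun x _ => Finset.sum_congr rfl fun y _ => ?_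
  congr 1

/-- the invariants of a subgroup, counted in the group -/
noncomputable def iv (M : Subgroup A) : ℕ × ℕ × ℕ × ℕ :=
  (Nat.card {x : A // x * x = 1 ∧ x ∈ M}, Nat.card {x : A // x * x * (x * x) = 1 ∧ x ∈ M},
    Nat.card {q : A × A // q.1 ∈ M ∧ q.2 ∈ M ∧ q.1 * q.2 = q.2 * q.1},
    Nat.card {q : A × A // (q.1 * q.1 = 1 ∧ q.1 ∈ M) ∧ (q.2 * q.2 = 1 ∧ q.2 ∈ M) ∧ q.1 * q.2 = q.2 * q.1})

theorem inv4_sub (M : Subgroup A) : N.inv4 M = iv M := by
  refine Prod.ext (Nat.card_congr ?_) (Prod.ext (Nat.card_congr ?_) (Prod.ext (Nat.card_congr ?_) (Nat.card_congr ?_)))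
  · exact ⟨fun x => ⟨x.1, congrArg Subtype.val x.2, x.1.2⟩, fun x => ⟨⟨x.1, x.2.2⟩, Subtype.ext x.2.1⟩,
      fun _ => rfl, fun _ => rfl⟩
  · exact ⟨fun x => ⟨x.1, congrArg Subtype.val x.2, x.1.2⟩, fun x => ⟨⟨x.1, x.2.2⟩, Subtype.ext x.2.1⟩,
      fun _ => rfl, fun _ => rfl⟩
  · exact ⟨fun x => ⟨(x.1.1, x.1.2), x.1.1.2, x.1.2.2, congrArg Subtype.val x.2⟩,
      fun x => ⟨(⟨x.1.1, x.2.1⟩, ⟨x.1.2, x.2.2.1⟩), Subtype.ext x.2.2.2⟩, fun _ => rfl, fun _ => rfl⟩
  · exact ⟨fun x => ⟨(x.1.1, x.1.2), ⟨congrArg Subtype.val x.2.1, x.1.1.2⟩, ⟨congrArg Subtype.val x.2.2.1, x.1.2.2⟩,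
        congrArg Subtype.val x.2.2.2⟩,
      fun x => ⟨(⟨x.1.1, x.2.1.2⟩, ⟨x.1.2, x.2.2.1.2⟩), Subtype.ext x.2.1.1, Subtype.ext x.2.2.1.1, Subtype.ext x.2.2.2⟩,
      fun _ => rfl, fun _ => rfl⟩

theorem inv4_top : N.inv4 A = iv (⊤ : Subgroup A) := by
  unfold N.inv4 iv
  simp only [Subgroup.mem_top, and_true, true_and]

theorem notI_iv (hK : g.K) (he : En g.m g.N e) (I : List (ℕ × ℕ × ℕ × ℕ)) {M : Subgroup A} {X : ℕ}
    (h : Msk g e X (· ∈ M)) :
    g.notI I (g.zm g.sq) (g.zm (vec g.N fun a => g.q (g.q a))) X = true ↔ iv M ∉ I := by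
  have h2 : Msk g e (g.zm g.sq) fun x => x * x = 1 := msk_zm hK fun a ha => by
    rw [← hK.e_q he ha, hK.e_eq_one he (hK.q_lt ha)]
    rfl
  have h4 : Msk g e (g.zm (vec g.N fun a => g.q (g.q a))) fun x => x * x * (x * x) = 1 := msk_zm hK fun a ha => by
    rw [← hK.e_q he ha, ← hK.e_q he (hK.q_lt ha), hK.e_eq_one he (hK.q_lt (hK.q_lt ha)),
      NB.lk_vec _ (fun b hb => (hK.q_lt (hK.q_lt hb)).trans_le hK.N_le) ha]
  unfold Gp.notI
  simp only [frc_eq, allL_iff, orr_iff, ne_iff]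
  rw [(h2.land h).cnt hK he, (h4.land h).cnt hK he, (h2.land h).prs hK he, h.prs hK he]
  refine ⟨fun k hp => ?_, fun k p hp => by_contra fun h5 => k ?_⟩
  · rcases k _ hp with k | k | k | k <;> exact k rfl
  · simp only [not_or, not_not] at h5
    rwa [show iv M = p from (Prod.ext h5.1 (Prod.ext h5.2.1 (Prod.ext h5.2.2.2 h5.2.2.1))).symm]

end Ni

open Ni Fn

open Classical in
theorem notI_iff {A : Type} [Group A] {g : Gp} {e : ℕ → A} (hK : g.K) (he : En g.m g.N e) (I : List (ℕ × ℕ × ℕ × ℕ))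
    {M : Subgroup A} {X : ℕ} (h1 : X < 2 ^ (16 * g.N)) (h2 : ∀ a, a < g.N → lk X a = if e a ∈ M then 1 else 0) :
    g.notI I (g.zm g.sq) (g.zm (vec g.N fun a => g.q (g.q a))) X = true ↔ N.inv4 M ∉ I := by
  rw [inv4_sub]
  exact notI_iv hK he I ⟨h1, h2⟩

theorem Gp.cln_spec {A : Type} [Group A] {g : Gp} {e : ℕ → A} (hK : g.K) (he : En g.m g.N e) {I : List (ℕ × ℕ × ℕ × ℕ)}
    (h : g.cln I = true) {M : Subgroup A} (hM : M.index = 2) : N.inv4 M ∉ I := by
  classical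
  have hI : Ix M := fun u v => Subgroup.mul_mem_iff_of_index_two hM
  obtain ⟨mu, h1, h2⟩ := hI.mu (fun i => e (2 ^ i)) g.n
  replace h2 : ∀ a, a < g.N → (e a ∈ M ↔ ¬ Pc.par g.n (a &&& mu) = true) := fun a ha => by
    rw [(hK.pc A e he).2 a ha, h2]
  have h4 : ∀ a, a < g.N → e a ∈ M → lk (g.odm a) mu = 0 := fun a ha h5 => by
    refine lk_xor_eq_zero.2 ?_
    rw [hK.lk_O (hK.hN ▸ h1), (kmu_spec a g.n).2 mu h1, Nat.and_comm, if_neg ((h2 a ha).1 h5)]
  have hp : ∀ {k : ℕ}, k < g.n → Nat.shiftLeft 1 k < g.N := fun hk => by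
    rw [one_shl, hK.hN]
    exact Nat.pow_lt_pow_right (by norm_num) hk
  unfold Gp.cln at h
  simp only [frc_eq, frr_eq, allN_iff, orr_iff, nz_iff] at h
  rcases h mu (hK.hN ▸ h1) with h5 | h5
  · refine absurd (lk_lor_eq_zero.2 ⟨lk_foN_eq_zero.2 fun k hk => lk_lor_eq_zero.2
      ⟨h4 _ (hK.q_lt (hp hk)) (hK.e_q he (hp hk) ▸ hI.sq _), lk_foN_eq_zero.2 fun j hj =>
        h4 _ (hK.cm_lt (hp hk) (hp (hj.trans hk))) (hK.e_cm he (hp hk) (hp (hj.trans hk)) ▸ hI.cm _ _)⟩, ?_⟩) h5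
    rw [lk_eq]
    refine get_eq_zero_of_lt (m := 1) (by norm_num) (Nat.pos_of_ne_zero fun h7 => ?_)
    have h6 : M = ⊤ := top_le_iff.1 fun x _ => by
      obtain ⟨a, ha, rfl⟩ := he.surj x
      rw [h2 a ha, h7, Nat.and_zero, par_zero]
      exact Bool.false_ne_true
    rw [h6, Subgroup.index_top] at hM
    exact absurd hM (by decide)
  · obtain ⟨k1, k2⟩ := kmu_spec mu g.n
    refine (notI_iff hK he I (hK.hN ▸ k1) fun a ha => ?_).1 h5
    rw [k2 a (hK.hN ▸ ha)]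
    by_cases h6 : e a ∈ M
    · rw [if_pos h6, if_neg ((h2 a ha).1 h6)]
    · rw [if_neg h6, if_pos (not_not.1 fun h7 => h6 ((h2 a ha).2 h7))]

/-- **no subgroup of index two carries a system** -/
theorem Gh.clN {c : Gh} {I : List (ℕ × ℕ × ℕ × ℕ)} (h : c.cln I = true) : N.ClN c.n c.R I [] := by
  intro hI A _ y F hy hF hne
  unfold Gh.cln at h
  rw [mkG_eq, an_iff] at h
  obtain ⟨hK, he⟩ := gp_K h.1 hy.card hy.pc hy.span
  obtain ⟨_, hA⟩ := hK.pgroup he
  obtain ⟨h1, h2⟩ := N.D.boxD3 A hA F hF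
  obtain ⟨M, hM, h3⟩ := h1 hne
  obtain ⟨F₀, h4⟩ := h2 M hM h3
  refine absurd (hI M ?_ F₀ h4) (Gp.cln_spec hK he h.2 hM)
  have h5 := M.card_mul_index
  rw [hM, hy.card] at h5
  rcases hn : c.n with _ | m
  · rw [hn] at h5
    omega
  · rw [hn, Nat.pow_succ] at h5
    exact Nat.eq_of_mul_eq_mul_right (by norm_num) h5

/-- the invariants of the group are in the list -/
def InI (n R : ℕ) (I : List (ℕ × ℕ × ℕ × ℕ)) : Prop :=
  ∀ (A : Type) [Group A] (y : ℕ → A), N.Pc16 n R y → N.inv4 A ∈ I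

noncomputable def Gh.isI (c : Gh) (I : List (ℕ × ℕ × ℕ × ℕ)) : Bool :=
  mkG c.n c.R c.I fun g => an g.ok (nt (g.notI I (g.zm g.sq) (g.zm (vec g.N fun a => g.q (g.q a))) g.O))

theorem Gh.inI {c : Gh} {I : List (ℕ × ℕ × ℕ × ℕ)} (h : c.isI I = true) : InI c.n c.R I := by
  intro A _ y hy
  unfold Gh.isI at h
  rw [mkG_eq, an_iff, nt_iff] at h
  obtain ⟨hK, he⟩ := gp_K h.1 hy.card hy.pc hy.span
  rw [inv4_top]
  exact not_not.1 fun h1 => h.2 ((notI_iv hK he I (M := ⊤) ⟨hK.O_lt, fun a ha => by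
    rw [hK.lk_O ha, if_pos (Subgroup.mem_top _)]⟩).2 h1)

/-- both modes -/
def Cm (n R : ℕ) (I : List (ℕ × ℕ × ℕ × ℕ)) (L : List N.Ent) : Prop := N.ClP n R L ∧ N.ClN n R I L

section glue

variable {n R : ℕ} {I I2 : List (ℕ × ℕ × ℕ × ℕ)} {L E : List N.Ent} {l l' : List ℕ}

theorem Cm.of_f (h : ClF n R false L) : Cm n R I L :=
  ⟨fun A _ y F hy hF _ => h A y F hy hF fun k => absurd k Bool.false_ne_true,
    fun _ A _ y F hy hF _ => h A y F hy hF fun k => absurd k Bool.false_ne_true⟩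

theorem Cm.of_p (h : ClF n R true L) (h2 : N.ClN n R I []) : Cm n R I L :=
  ⟨fun A _ y F hy hF k => h A y F hy hF fun _ => k, fun hI A _ y F hy hF k =>
    let ⟨_, hp, _⟩ := h2 hI A y F hy hF k
    absurd hp List.not_mem_nil⟩

theorem Cm.mono (h : Cm n R I E) (hE : ∀ p ∈ E, p ∈ L) : Cm n R I L :=
  ⟨fun A _ y F hy hF k => (h.1 A y F hy hF k).imp fun p hp => ⟨hE p hp.1, hp.2⟩,
    fun hI A _ y F hy hF k => (h.2 hI A y F hy hF k).imp fun p hp => ⟨hE p hp.1, hp.2⟩⟩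

theorem Cm.hit (h : Cm n R I L) (hI : N.LevI (n - 1) I) {A : Type} [Group A] {y : ℕ → A} (hy : N.Pc16 n R y) {F : N.Sys A}
    (hF : N.Hy2 F) : ∃ p ∈ L, N.Hit p F := by
  by_cases k : N.hyp F = ⊤
  · exact h.1 A y F hy hF k
  · exact h.2 hI A y F hy hF k

/-- groups without systems -/
def Cms (n : ℕ) (I : List (ℕ × ℕ × ℕ × ℕ)) (l : List ℕ) : Prop := ∀ R ∈ l, Cm n R I []

theorem Cms.nil : Cms n I [] := fun _ h => absurd h List.not_mem_nil

theorem Cms.cons (h : Cm n R I []) (h2 : Cms n I l) : Cms n I (R :: l) := List.forall_mem_cons.2 ⟨h, h2⟩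

theorem Cms.app (h : Cms n I l) (h2 : Cms n I l') : Cms n I (l ++ l') := List.forall_mem_append.2 ⟨h, h2⟩

/-- groups with systems -/
def Crs (n : ℕ) (I I2 : List (ℕ × ℕ × ℕ × ℕ)) (L : List N.Ent) (l : List ℕ) : Prop := ∀ R ∈ l, Cm n R I L ∧ InI n R I2

theorem Crs.nil : Crs n I I2 L [] := fun _ h => absurd h List.not_mem_nil

theorem Crs.cons (h : Cm n R I E) (hE : ∀ p ∈ E, p ∈ L) (hi : InI n R I2) (h2 : Crs n I I2 L l) : Crs n I I2 L (R :: l) :=
  List.forall_mem_cons.2 ⟨⟨h.mono hE, hi⟩, h2⟩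

theorem Crs.app (h : Crs n I I2 L l) (h2 : Crs n I I2 L l') : Crs n I I2 L (l ++ l') := List.forall_mem_append.2 ⟨h, h2⟩

end glue

/-- `gl` is the list `l` with some members of `rs` put in -/
noncomputable def cvr (rs : List ℕ) (gl : List ℕ) : List ℕ → Bool :=
  List.rec (fun _ => true) (fun a _ ih l => List.rec (an (anyL rs (Nat.beq a)) (ih []))
    (fun b l' _ => iF (Nat.beq a b) (ih l') (an (anyL rs (Nat.beq a)) (ih l))) l) gl

theorem cvr_spec {rs gl l : List ℕ} (h : cvr rs gl l = true) : ∀ R ∈ gl, R ∈ l ∨ R ∈ rs := by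
  have h0 : ∀ {a : ℕ}, anyL rs (Nat.beq a) = true → a ∈ rs := fun k =>
    let ⟨_, hb, k2⟩ := anyL_ex k
    beq_iff.1 k2 ▸ hb
  induction gl generalizing l with
  | nil => exact fun _ k => absurd k List.not_mem_nil
  | cons a gl ih =>
    cases l with
    | nil =>
      have h1 := an_iff.1 (show an (anyL rs (Nat.beq a)) (cvr rs gl []) = true from h)
      exact List.forall_mem_cons.2 ⟨.inr (h0 h1.1), ih h1.2⟩
    | cons b l =>
      rcases iF_iff.1 (show iF (Nat.beq a b) (cvr rs gl l) (an (anyL rs (Nat.beq a)) (cvr rs gl (b :: l))) = true from h) with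
        h1 | h1
      · exact List.forall_mem_cons.2 ⟨.inl (beq_iff.1 h1.1 ▸ List.mem_cons_self),
          fun R hR => (ih h1.2 R hR).imp_left (List.mem_cons_of_mem _)⟩
      · exact List.forall_mem_cons.2 ⟨.inr (h0 (an_iff.1 h1.2).1), ih (an_iff.1 h1.2).2⟩

end Cfsg.Agent.FS.NB
end

-- part: FS/N/B/Is
section
/-!
# The checker of part B for S5288: the invariants of the groups with systems and the glue of a level
-/

set_option autoImplicit false

namespace Cfsg.Agent.FS.NB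

open Cfsg Cfsg.FusionSystem

def I3 : List (ℕ × ℕ × ℕ × ℕ) :=
  [(6, 8, 40, 28)]

def I4 : List (ℕ × ℕ × ℕ × ℕ) :=
  [(6, 12, 112, 28), (10, 12, 112, 52), (12, 16, 160, 112)]

def I5 : List (ℕ × ℕ × ℕ × ℕ) :=
  [(8, 24, 448, 40), (10, 20, 352, 52), (16, 24, 352, 136), (18, 20, 352, 100), (20, 24, 448, 208)]

def I6 : List (ℕ × ℕ × ℕ × ℕ) :=
  [(18, 36, 1216, 100), (20, 24, 1024, 208), (20, 48, 1408, 208), (28, 40, 1024, 256), (28, 48, 1024, 352), (28, 64, 1024, 448), (28, 64, 1216, 496), (34, 36, 1216, 196), (36, 40, 1408, 400)]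

def I7 : List (ℕ × ℕ × ℕ × ℕ) :=
  [(12, 32, 5632, 64), (28, 64, 2944, 256), (34, 68, 4480, 196), (36, 40, 3328, 400), (36, 80, 2176, 544), (36, 80, 4096, 400), (36, 112, 2176, 544), (36, 112, 2176, 640), (44, 80, 2560, 688), (44, 112, 2560, 928), (52, 72, 3328, 496), (66, 68, 4480, 388), (68, 72, 4864, 784)]

def I8 : List (ℕ × ℕ × ℕ × ℕ) :=
  [(24, 64, 11776, 256), (36, 80, 8704, 400), (36, 80, 11776, 400), (36, 112, 8704, 496), (52, 112, 8704, 496), (52, 176, 6400, 1072), (60, 144, 5632, 1072), (66, 132, 17152, 388), (68, 72, 11776, 784), (68, 144, 13312, 784), (68, 176, 6400, 1456), (72, 224, 8704, 1792), (72, 224, 8704, 2272), (84, 112, 8704, 1264), (88, 224, 10240, 3712), (100, 136, 11776, 976), (112, 256, 14848, 7936), (130, 132, 17152, 772), (132, 136, 17920, 1552)]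

def I9 : List (ℕ × ℕ × ℕ × ℕ) :=
  [(20, 48, 77824, 112), (52, 112, 24064, 496), (52, 240, 17920, 1072), (68, 144, 28672, 784), (68, 144, 34816, 784), (68, 304, 14848, 1456), (72, 352, 22528, 1792), (88, 224, 16384, 1408), (88, 288, 17920, 2176), (100, 208, 28672, 976), (116, 304, 17920, 3184), (120, 224, 22528, 2944), (120, 288, 22528, 3712), (120, 352, 22528, 4864), (120, 512, 36352, 8128), (128, 448, 22528, 8512), (130, 260, 67072, 772), (132, 136, 44032, 1552), (132, 272, 47104, 1552), (144, 320, 34816, 6688), (144, 448, 28672, 9088), (144, 448, 34816, 7840), (196, 264, 44032, 1936), (216, 512, 64000, 21952), (258, 260, 67072, 1540), (260, 264, 68608, 3088)]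

theorem Clf.cms {n : ℕ} {I : List (ℕ × ℕ × ℕ × ℕ)} {l : List ℕ} (h : Clf n l) : Cms n I l :=
  fun R hR => Cm.of_f (h R hR)

/-- **a level**: `l` in the order of `gl`, the other groups in `xs` and `rs` -/
theorem lev_of2 {n : ℕ} {gl l xs rs : List ℕ} {I I2 : List (ℕ × ℕ × ℕ × ℕ)} {L : List N.Ent}
    (hl : ∀ (A : Type) [Group A] [Finite A], Nat.card A = 2 ^ n → ∀ F : N.Sys A, N.Hy2 F →
      ∃ R ∈ gl, ∃ y : ℕ → A, N.Pc16 n R y)
    (hI : N.LevI (n - 1) I) (h1 : Clf n l) (h3 : Cms n I xs) (h2 : Crs n I I2 L rs) (hc : cvr (xs ++ rs) gl l = true) :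
    N.Lev n L ∧ N.LevI n I2 := by
  have key : ∀ (A : Type) [Group A] [Finite A], Nat.card A = 2 ^ n → ∀ F : N.Sys A, N.Hy2 F →
      ∃ R ∈ rs, ∃ y : ℕ → A, N.Pc16 n R y := fun A _ _ hA F hF => by
    obtain ⟨R, hR, y, hy⟩ := hl A hA F hF
    rcases cvr_spec hc R hR with k | k
    · obtain ⟨_, hp, -⟩ := (h1.cms R k).hit hI hy hF
      exact absurd hp List.not_mem_nil
    · rcases List.mem_append.1 k with k | k
      · obtain ⟨_, hp, -⟩ := (h3 R k).hit hI hy hF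
        exact absurd hp List.not_mem_nil
      · exact ⟨R, k, y, hy⟩
  refine ⟨fun A _ _ hA F hF => ?_, fun A _ _ hA F hF => ?_⟩ <;> obtain ⟨R, hR, y, hy⟩ := key A hA F hF
  · exact (h2 R hR).1.hit hI hy hF
  · exact (h2 R hR).2 A y hy

end Cfsg.Agent.FS.NB
end

private theorem dce_505f5b8b5ed8 : _root_.True := by
  try have : _root_.True := by simp only [_root_.Cfsg.Agent.FS.Pc.par.eq_1]
  try have : _root_.True := by simp only [_root_.Cfsg.Agent.FS.Pc.par.eq_2]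
  exact _root_.True.intro
end
end
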